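import Mathlib
import Cfsg.Statements.S0007
import Cfsg.Agent.GT.Conj
import Cfsg.Agent.Loc.CardProd

set_option autoImplicit false
open Cfsg

namespace Cfsg.Agent.S0007

open scoped Pointwise

/-- Subgroups of coprime index: the intersection has index equal to the product of the indices, and every element is a product of an element of the first subgroup and an element of the second. -/
theorem result {G : Type*} [Group G] [Finite G] (H K : Subgroup G)
    (h : H.index.Coprime K.index) :
    (H ⊓ K).index = H.index * K.index ∧ ∀ g : G, ∃ x ∈ H, ∃ y ∈ K, g = x * y := by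
  have h1 : (H ⊓ K).index = H.index * K.index :=
    le_antisymm Subgroup.index_inf_le (Nat.le_of_dvd
      (Nat.pos_of_ne_zero (H ⊓ K).index_ne_zero_of_finite)
      (h.mul_dvd_of_dvd_of_dvd (Subgroup.index_dvd_of_le inf_le_left)
        (Subgroup.index_dvd_of_le inf_le_right)))
  refine ⟨h1, fun g => ?_⟩
  have h2 := Loc.card_set_mul_mul_card_inf H K
  have h3 : Nat.card ((H : Set G) * (K : Set G) : Set G) = Nat.card G := by
    have a1 := (H ⊓ K).card_mul_index
    have a2 := H.card_mul_index
    have a3 := K.card_mul_index
    have hpos : 0 < Nat.card G := Nat.card_pos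
    rw [h1] at a1
    apply Nat.eq_of_mul_eq_mul_right hpos
    calc Nat.card ((H : Set G) * (K : Set G) : Set G) * Nat.card G
        = (Nat.card ((H : Set G) * (K : Set G) : Set G) * Nat.card ↥(H ⊓ K)) *
            (H.index * K.index) := by rw [mul_assoc, a1]
      _ = (Nat.card H * H.index) * (Nat.card K * K.index) := by rw [h2]; ring
      _ = Nat.card G * Nat.card G := by rw [a2, a3]
  have h4 : ((H : Set G) * (K : Set G) : Set G) = Set.univ :=
    (Set.eq_univ_iff_ncard _).mpr h3
  obtain ⟨x, hx, y, hy, hxy⟩ := Set.mem_mul.mp (h4 ▸ Set.mem_univ g)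
  exact ⟨x, hx, y, hy, hxy.symm⟩

end Cfsg.Agent.S0007
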