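import Cfsg.Statements.S5743
import Cfsg.Agent.Chev.SimCoef
import Cfsg.Agent.Chev.Fold

set_option autoImplicit false
open Cfsg

namespace Cfsg.Agent.S5743

open Cfsg.Lie Cfsg.Lie.ChevalleyDatum Cfsg.Agent.Chev

set_option backward.isDefEq.respectTransparency false

section

variable {K : Type*} [Field K]

/-- The invariant of diagonal automorphisms modulo inner ones. -/
def inv3 : (chevE6.Nd → Kˣ) →* Kˣ where
  toFun e := e (e6n 0) * e (e6n 2) ^ 2 * e (e6n 4) * e (e6n 5) ^ 2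
  map_one' := by simp
  map_mul' a b := by simp only [Pi.mul_apply, mul_pow]; ac_rfl

theorem inv3_torus (c : chevE6.Nd → Kˣ) :
    inv3 (fun j => ∏ i, c i ^ chevE6.cartan i (chevE6.sr j)) =
      (c (e6n 2) * (c (e6n 3))⁻¹ * c (e6n 5)) ^ 3 := by
  have hc : ∀ i j : Fin 6, chevE6.cartan i (chevE6.simple j) =
      !![2, 0, -1, 0, 0, 0; 0, 2, 0, -1, 0, 0; -1, 0, 2, -1, 0, 0; 0, -1, -1, 2, -1, 0;
        0, 0, 0, -1, 2, -1; 0, 0, 0, 0, -1, 2] i j := by decide +kernel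
  have h : ∀ j : Fin 6, ∏ i, c i ^ chevE6.cartan i (chevE6.sr (e6n j)) =
      ∏ i : Fin 6, c (e6n i) ^ chevE6.cartan i (chevE6.simple j) := fun j => rfl
  simp only [inv3, MonoidHom.coe_mk, OneHom.coe_mk, h, hc, Fin.prod_univ_six]
  apply Additive.ofMul.injective
  simp [ofMul_mul, ofMul_pow, ofMul_inv]
  module

theorem twE6_glMap {F : Type*} [Field F] (ι : F →+* K) (f : RingAut K) (hf : ∀ t, f (ι t) = ι t) :
    (twE6 (1 : RingAut F)).G1.map (Matrix.GeneralLinearGroup.map ι) ≤ (twE6 f).G1 ∧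
      ∀ j, Matrix.GeneralLinearGroup.map ι ((twE6 (1 : RingAut F)).y j 1) = (twE6 f).y j 1 := by
  have h0 : ∀ (k : ℕ) t, (f ^ k) (ι t) = ι t := fun k t => Cl.Aut.pow_apply_of_fixed (hf t) k
  have h1 : ∀ j t, Matrix.GeneralLinearGroup.map ι ((twE6 (1 : RingAut F)).y j t) = (twE6 f).y j (ι t) :=
    fun j t => by
      rw [Twist.y, map_cprod]
      refine cprod_congr fun k _ => ?_
      rw [glMap_X, twE6_f, twE6_f, h0, one_pow]; rfl
  have h2 : ∀ j t, Matrix.GeneralLinearGroup.map ι ((twE6 (1 : RingAut F)).ym j t) = (twE6 f).ym j (ι t) :=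
    fun j t => by
      rw [Twist.ym, map_cprod]
      refine cprod_congr fun k _ => ?_
      rw [glMap_X, twE6_f, twE6_f, h0, one_pow]; rfl
  refine ⟨Subgroup.map_le_iff_le_comap.2 ((Subgroup.closure_le _).2 ?_), fun j => by rw [h1, map_one]⟩
  rintro _ ⟨j, t, -, rfl | rfl⟩
  · change _ ∈ (twE6 f).G1
    rw [h1]; exact (twE6 f).y_mem_G1 j (h0 _ t)
  · change _ ∈ (twE6 f).G1
    rw [h2]; exact (twE6 f).ym_mem_G1 j (h0 _ t)

theorem key (f : RingAut K) (hf : ∀ t, f t = t ^ 2) (h3 : ∀ u : Kˣ, u ^ 3 = 1) {g : GL chevE6.Idx K}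
    (hg : g ∈ chevE6.group K) (e : chevE6.Nd → Kˣ)
    (h : ∀ j, Matrix.GeneralLinearGroup.map (f : K →+* K)
      (g * chevE6.diagGL K e * (twE6 f).y j 1 * (g * chevE6.diagGL K e)⁻¹) =
      g * chevE6.diagGL K e * (twE6 f).y j 1 * (g * chevE6.diagGL K e)⁻¹) : inv3 e = 1 := by
  set Φ := Matrix.GeneralLinearGroup.map (n := chevE6.Idx) (f : K →+* K) with hΦ
  have h1 : Φ (chevE6.diagGL K e) = chevE6.diagGL K e * chevE6.diagGL K e := by
    rw [hΦ, glMap_diagGL, ← map_mul]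
    congr 1
    funext i
    exact Units.ext ((hf _).trans (sq _))
  have h2 : ∀ j, Φ ((twE6 f).y j 1) = (twE6 f).y j 1 := fun j => by
    rw [Twist.y, map_cprod]
    refine cprod_congr fun k _ => ?_
    rw [hΦ, glMap_X, map_one, map_one]
  have h4 : (chevE6.diagGL K e)⁻¹ * (g⁻¹ * Φ g) * (chevE6.diagGL K e)⁻¹⁻¹ ∈ chevE6.group K :=
    (Subgroup.mem_normalizer_iff.1 (inv_mem (chevE6.charG_mem_normalizer K (chevE6.isRootCharacter_chr e))) _).1
      (mul_mem (inv_mem hg) (glMap_mem_group chevE6 _ hg))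
  obtain ⟨c, hc⟩ := exists_torus_of_commute h4 (chevE6.isRootCharacter_chr e) fun i => by
    obtain ⟨j, k, hk, rfl⟩ := (twE6 f).cover i
    refine ⟨(twE6 f).y j 1, by simpa [Twist.node] using (twE6 f).simC_y hk 1, ?_⟩
    have h5 := h j
    rw [map_mul, map_mul, map_inv, map_mul, h1, h2] at h5
    change _ * chevE6.diagGL K e * _ = _ * (_ * chevE6.diagGL K e)
    generalize chevE6.diagGL K e = d at h5 ⊢
    generalize (twE6 f).y j 1 = v at h5 ⊢
    generalize Φ g = g' at h5 ⊢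
    calc _ = (g * d)⁻¹ * (g' * (d * d) * v * (g' * (d * d))⁻¹) * (g' * (d * d)) := by group
      _ = _ := by rw [h5]; group
  have h5 : (fun j => ∏ i, c i ^ chevE6.cartan i (chevE6.sr j)) * e = 1 := funext fun j => by
    have := hc j
    rwa [chr_sr] at this
  have h6 := congrArg inv3 h5
  rwa [map_mul, inv3_torus, h3, one_mul, map_one] at h6

end

/-- The simple group ²E₆(2) (the twisted group of type E₆ over the field with 4 elements) contains at least three pairwise non-conjugate subgroups isomorphic to the Chevalley group F₄(2). -/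
theorem result {K : Type*} [Field K] [Fintype K] (hK : Fintype.card K = 4) :
    ∃ H : Fin 3 → Subgroup (Cfsg.Lie.twistedE6 K 2),
      (∀ i, Nonempty ((H i) ≃* Cfsg.Lie.chevF4.group (ZMod 2))) ∧
      (∀ i j, i ≠ j → ∀ g : (Cfsg.Lie.twistedE6 K 2), (H i).map (MulAut.conj g).toMonoidHom ≠ H j) := by
  obtain ⟨f, hf⟩ := tw_exists_frob (K := K) (q := 2) (n := 2) Nat.prime_two.isPrimePow (by norm_num) hK
  rw [← twE6_G1 (q := 2) hK hf]
  have h2 : CharP K 2 := by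
    refine CharTwo.of_one_ne_zero_of_two_eq_zero one_ne_zero ?_
    have := FiniteField.cast_card_eq_zero K
    rw [hK] at this
    exact pow_eq_zero_iff two_ne_zero |>.1 (by rw [← this]; norm_num)
  have h3 : ∀ u : Kˣ, u ^ 3 = 1 := fun u => by
    classical
    have := pow_card_eq_one (x := u)
    rwa [Fintype.card_units, hK] at this
  let ι : ZMod 2 →+* K := ZMod.castHom dvd_rfl K
  have hι : ∀ t, f (ι t) = ι t := fun t => by
    have : (f : K →+* K).comp ι = ι := Subsingleton.elim _ _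
    exact RingHom.congr_fun this t
  obtain ⟨hle, hy⟩ := twE6_glMap ι f hι
  obtain ⟨φ, hφ, hr⟩ := exists_fix_graphE6 (K := ZMod 2) (τ := (twE6 (1 : RingAut (ZMod 2))).α)
    (fun i t => Subtype.ext ((twE6 (1 : RingAut (ZMod 2))).α_pos i t))
    (fun i t => Subtype.ext ((twE6 (1 : RingAut (ZMod 2))).α_neg i t))
  have hr' : ∀ g : chevE6.group (ZMod 2), g.1 ∈ (twE6 (1 : RingAut (ZMod 2))).G1 ↔ g ∈ φ.range := fun g => by
    rw [← hr, ← SymAut.mem_Fix_iff, twE6_one_Fix]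
  let ψ : chevF4.group (ZMod 2) →* (twE6 f).G1 :=
    ((Matrix.GeneralLinearGroup.map ι).comp ((chevE6.group (ZMod 2)).subtype.comp φ)).codRestrict _
      fun g => hle ⟨_, (hr' _).2 ⟨g, rfl⟩, rfl⟩
  have hψ : Function.Injective ψ := fun a b h =>
    hφ (Subtype.ext (Cl.Aut.glMap_injective ι (congrArg Subtype.val h)))
  have hψy : ∀ j, ∃ a, (ψ a : GL chevE6.Idx K) = (twE6 f).y j 1 := fun j => by
    have h4 := (twE6 (1 : RingAut (ZMod 2))).y_mem_G1 j (t := 1) (map_one _)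
    obtain ⟨a, ha⟩ := (hr' ⟨_, Twist.G1_le_group _ h4⟩).1 h4
    exact ⟨a, (congrArg (fun g : chevE6.group (ZMod 2) => Matrix.GeneralLinearGroup.map ι g.1) ha).trans (hy j)⟩
  have hfix : ∀ a, Matrix.GeneralLinearGroup.map (f : K →+* K) (ψ a : GL chevE6.Idx K) = ψ a := fun a =>
    Units.ext (Matrix.ext fun r s => hι _)
  obtain ⟨ω, hω0, hω⟩ := tw_exists_sq_ne_one (K := K) hK.ge
  lift ω to Kˣ using hω0.isUnit
  have hω2 : f (ω ^ 2 : Kˣ) = ω := by
    rw [hf, ← Units.val_pow_eq_pow_val, ← pow_mul, show 2 * 2 = 3 + 1 from rfl, pow_succ, h3, one_mul]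
  let c : (twE6 f).C := ⟨show Fin 6 → Kˣ from ![ω, 1, 1, 1, 1, ω ^ 2], (twE6_mem_C f).2
    ⟨(Units.val_pow_eq_pow_val ω 2).trans (hf _).symm, (map_one f).symm, (map_one f).symm, (map_one f).symm, (map_one f).symm, hω2.symm⟩⟩
  have hc : inv3 c.1 = ω ^ 2 := by
    change ω * 1 ^ 2 * 1 * (ω ^ 2) ^ 2 = _
    rw [one_pow, mul_one, mul_one, ← pow_mul, ← pow_succ', show 2 * 2 + 1 = 3 + 2 from rfl, pow_add, h3, one_mul]
  have hd : ∀ (e : (twE6 f).C) (x : (twE6 f).G1), (Twist.dfAut e 1 x : GL chevE6.Idx K) =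
      chevE6.diagGL K e * x * (chevE6.diagGL K e)⁻¹ := fun e x => rfl
  refine ⟨fun i => ((Twist.dfAut (c ^ i.1) 1).toMonoidHom.comp ψ).range, fun i =>
    ⟨(MonoidHom.ofInjective ((Twist.dfAut (c ^ i.1) 1).injective.comp hψ)).symm⟩, fun i j hij g e => ?_⟩
  have h4 := key f hf h3 (g := (chevE6.diagGL K (c ^ j.1).1)⁻¹ * g * (chevE6.diagGL K (c ^ j.1).1)⁻¹⁻¹)
    ((Subgroup.mem_normalizer_iff.1 (inv_mem (chevE6.charG_mem_normalizer K
      (chevE6.isRootCharacter_chr _))) _).1 (Twist.G1_le_group _ g.2)) ((c ^ j.1).1⁻¹ * (c ^ i.1).1) fun k => by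
      obtain ⟨a, ha⟩ := hψy k
      obtain ⟨b, hb⟩ := e.le ⟨_, ⟨a, rfl⟩, rfl⟩
      have h5 : chevE6.diagGL K (c ^ j.1).1 * ψ b * (chevE6.diagGL K (c ^ j.1).1)⁻¹ =
          g * (chevE6.diagGL K (c ^ i.1).1 * ψ a * (chevE6.diagGL K (c ^ i.1).1)⁻¹) * (g : GL chevE6.Idx K)⁻¹ :=
        congrArg Subtype.val hb
      have h6 : (chevE6.diagGL K (c ^ j.1).1)⁻¹ * g * (chevE6.diagGL K (c ^ j.1).1)⁻¹⁻¹ *
          chevE6.diagGL K ((c ^ j.1).1⁻¹ * (c ^ i.1).1) * (twE6 f).y k 1 *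
          ((chevE6.diagGL K (c ^ j.1).1)⁻¹ * g * (chevE6.diagGL K (c ^ j.1).1)⁻¹⁻¹ *
          chevE6.diagGL K ((c ^ j.1).1⁻¹ * (c ^ i.1).1))⁻¹ = ψ b := by
        rw [← ha, map_mul, map_inv, ← inv_mul_cancel_left (chevE6.diagGL K (c ^ j.1).1) (ψ b),
          ← inv_mul_cancel_right (chevE6.diagGL K (c ^ j.1).1 * ψ b) (chevE6.diagGL K (c ^ j.1).1), h5]
        group
      rw [h6, hfix]
  rw [map_mul, map_inv, inv_mul_eq_one, Subgroup.coe_pow, Subgroup.coe_pow, map_pow, map_pow, hc] at h4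
  have h5 : orderOf (ω ^ 2) = 3 := by
    have : Fact (Nat.Prime 3) := ⟨Nat.prime_three⟩
    exact orderOf_eq_prime (h3 _) fun h => hω (congrArg Units.val h)
  rw [pow_eq_pow_iff_modEq, h5] at h4
  exact hij (Fin.ext (Nat.ModEq.eq_of_lt_of_lt h4 j.2 i.2).symm)

end Cfsg.Agent.S5743
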