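import Cfsg.Statements.S2182
import Cfsg.Agent.Chev.C2Tw
import Cfsg.Agent.Chev.TwE6

set_option autoImplicit false
open Cfsg

namespace Cfsg.Agent.S2182

open Cfsg.Lie Cfsg.Lie.ChevalleyDatum Cfsg.Agent.Chev

set_option backward.isDefEq.respectTransparency false

/-- Moves reaching all roots. -/
def c1 : List (ℕ × ℕ) :=
  [(0, 71), (1, 70), (2, 69), (1, 65), (3, 65), (0, 63), (3, 63), (3, 60), (2, 51), (2, 44), (1, 47), (1, 39),
  (4, 39), (0, 46), (0, 32), (2, 32), (0, 43), (1, 43), (3, 43), (0, 40), (1, 40), (3, 40), (2, 24), (3, 27),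
  (3, 50), (2, 42), (3, 42), (2, 58), (3, 48), (2, 37), (3, 37), (2, 41), (1, 20), (3, 20), (2, 61), (1, 29),
  (3, 29), (2, 57), (2, 49), (1, 34), (3, 34), (2, 38), (3, 18), (1, 62), (0, 28), (3, 28), (2, 14), (1, 52),
  (0, 31), (3, 31), (2, 33), (2, 6), (2, 64), (3, 21), (2, 13), (2, 54), (3, 23), (2, 30), (1, 2), (3, 67),
  (2, 10), (3, 55), (2, 22), (0, 1), (1, 9), (1, 19), (2, 7), (2, 17), (3, 4), (3, 16)]

/-- Moves reaching all roots of type `A₅`. -/
def c2 : List (ℕ × ℕ) :=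
  [(2, 60), (1, 44), (0, 39), (3, 39), (1, 32), (0, 43), (2, 43), (0, 40), (2, 40), (2, 27), (1, 42), (2, 42),
  (1, 58), (1, 37), (2, 37), (1, 41), (0, 29), (2, 29), (1, 57), (0, 34), (2, 34), (1, 38), (2, 28), (1, 14),
  (2, 31), (1, 33), (1, 13), (1, 30)]

/-- Moves reaching all roots of type `A₃`. -/
def c3 : List (ℕ × ℕ) :=
  [(1, 44), (0, 39), (2, 39), (1, 32), (0, 43), (0, 40), (1, 42), (1, 37), (0, 29), (0, 34)]

/-- Conjugating moves. -/
def mv : List (List ℕ × List ℕ) := [([1], [46]), ([], [60]), ([], [39]), ([3], []), ([2, 4], []), ([0, 5], [39]),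
  ([3], []), ([1], []), ([2, 4], [])]

/-- Representatives with the ranks of `g - 1`. -/
def reps : List (List ℕ × ℕ) := [([71], 22), ([71, 60], 32), ([71, 60, 44], 38)]

theorem chk0 : chevE6.formChk = true := by decide +kernel

theorem chk3 : ∀ p ∈ reps, chevE6.rankChk p.1 p.2 = true := by decide +kernel

theorem chk4 : ∀ p ∈ reps, p.2 ≠ 0 ∧ chevE6.collect 100 (p.1 ++ p.1) = [] := by decide +kernel

theorem aux {K : Type*} [Field K] [Fintype K] [CharP K 2] {q : ℕ} (hq : 2 ≤ q) (hK : Fintype.card K = q ^ 2)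
    {f : RingAut K} (hf : ∀ t, f t = t ^ q) :
    (ConjClasses.mk '' {g : ↥(twE6 f).G1 | orderOf g = 2}).ncard = 3 := by
  have h0 : ∀ w ∈ [[], [1], [3], [2, 4], [0, 5]], chevE6.nW K w ∈ (twE6 f).G1 := by
    have h := (twE6 f).nW_mem_G1
    rw [twE6_lw] at h
    simp only [List.mem_cons, List.not_mem_nil, or_false, forall_eq_or_imp, forall_eq]
    exact ⟨one_mem _, h 0, h 1, h 2, h 3⟩
  have h1 : ∀ I : List ℕ, chevE6.suppL I 42 = true → chevE6.suppL I 37 = true → ∀ W,
      chevE6.InvS K ((twE6 f).G1 ⊓ chevE6.LJ K (chevE6.nset I)) W → chevE6.eN K 39 ∈ W →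
        ∀ u ∈ [39, 43, 40, 44], chevE6.eN K u ∈ W := fun I h1 h2 W =>
    poly_move (w := [42, 37]) (m := 2) (by decide +kernel) hq hq hK.ge fun c => by
      have h3 := (twE6 f).y_mem_G1 2 (twE6_f_sq hK hf c)
      rw [(twE6_y f c).2.2.1, hf] at h3
      simp only [wordq, mul_one]
      exact ⟨h3, mul_mem (X_mem_LJ' h1 _) (X_mem_LJ' h2 _)⟩
  have h2 : ∀ (ws : List (List ℕ)) (I : List ℕ), (∀ w ∈ ws, w ∈ [[], [1], [3], [2, 4], [0, 5]] ∧ w ⊆ I) →
      ∀ w ∈ ws, chevE6.nW K w ∈ (twE6 f).G1 ∧ w ⊆ I := fun ws I h w hw => ⟨h0 w (h w hw).1, (h w hw).2⟩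
  have h3 := (twE6 f).step chk0 (I := [0, 1, 2, 3, 4, 5]) (θ := e6r 71) (by decide +kernel)
    (by rw [twE6_toSym]; decide +kernel) (ws := [[1], [3], [2, 4], [0, 5]]) (c := c1) (by decide +kernel)
    (h2 _ _ (by decide)) (h1 _ (by decide +kernel) (by decide +kernel))
    (P := (· ∈ [[], [71], [71, 60], [71, 60, 44], [71, 60, 44, 39]])) (by decide) (I' := [0, 2, 3, 4, 5])
    (by decide +kernel) <| (twE6 f).step chk0 (θ := e6r 60) (by decide +kernel)
    (by rw [twE6_toSym]; decide +kernel) (ws := [[3], [2, 4], [0, 5]]) (c := c2) (by decide +kernel)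
    (h2 _ _ (by decide)) (h1 _ (by decide +kernel) (by decide +kernel)) (by decide) (I' := [2, 3, 4])
    (by decide +kernel) <| (twE6 f).step chk0 (θ := e6r 44) (by decide +kernel)
    (by rw [twE6_toSym]; decide +kernel) (ws := [[3], [2, 4]]) (c := c3) (by decide +kernel)
    (h2 _ _ (by decide)) (h1 _ (by decide +kernel) (by decide +kernel)) (by decide) (I' := [3])
    (by decide +kernel) <| (twE6 f).step chk0 (θ := e6r 39) (by decide +kernel)
    (by rw [twE6_toSym]; decide +kernel) (ws := [[3]]) (s := 39) (us := []) (c := [(0, 39)]) (by decide +kernel)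
    (h2 _ _ (by decide)) (by simp) (by decide) (I' := []) (by decide +kernel) (step_nil (by decide))
  have h4 : ∀ l : List ℕ, (∀ r ∈ l, ∀ i : chevE6.Nd, chevE6.cartan (e6Sym.π i) r = chevE6.cartan i r) →
      chevE6.word K l ∈ (twE6 f).G1 := fun l => (twE6 f).word_mem_G1
  refine classes_ncard (reps := reps.map Prod.fst) (by decide) (fun l hl => h4 l (by revert l; decide +kernel))
    (orderOf_of_rank chk3 chk4) (fun z hz hz2 hz1 => ?_) fun a ha b hb g _ => sep_of_rank chk3 (by decide) a ha b hb g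
  obtain ⟨l, hl, g, hg, e⟩ := h3 z ⟨hz, by
    rw [show chevE6.nset [0, 1, 2, 3, 4, 5] = Set.univ from Set.eq_univ_of_forall (by
      simp only [nset, Set.mem_ofPred_eq]; decide), LJ_univ]
    exact (twE6 f).G1_le_group hz⟩ hz2
  by_cases h5 : l = [71, 60, 44, 39]
  · obtain ⟨g', hg', e'⟩ := run_spec (K := (twE6 f).G1) 100 (c := mv) (fun m hm =>
      ⟨h0 _ (by revert m; decide), h4 _ (by revert m; decide +kernel)⟩) l
    refine ⟨[71, 60, 44], by decide, g' * g, mul_mem hg' hg.1, ?_⟩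
    rw [← word_collect 100, show chevE6.collect 100 [71, 60, 44] = chevE6.run 100 mv l by subst h5; decide +kernel,
      ← e', ← e]
    group
  · refine ⟨l, ?_, g, hg.1, e⟩
    have h6 : l ≠ [] := by rintro rfl; exact hz1 (by simpa [word_nil] using e)
    simpa [reps, h5, h6] using hl

/-- The twisted group ²E₆(q), q even, realised inside the Chevalley group of type E₆ over the field K with q² elements, has exactly three conjugacy classes of elements of order 2. -/
theorem result {K : Type*} [Field K] [Fintype K] [CharP K 2] (q : ℕ) (hK : Fintype.card K = q ^ 2) :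
    (ConjClasses.mk '' {g : ↥(Cfsg.Lie.twistedE6 K q) | orderOf g = 2}).ncard = 3 := by
  have hq : IsPrimePow q := (isPrimePow_pow_iff two_ne_zero).1 (hK ▸ Fintype.isPrimePow_card_of_field)
  obtain ⟨f, hf⟩ := tw_exists_frob hq two_ne_zero hK
  rw [← twE6_G1 hK hf]
  exact aux hq.two_le hK hf

end Cfsg.Agent.S2182
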