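import Mathlib
import Cfsg.Statements.S5433
import Cfsg.Agent.Spor.ESLarge

set_option autoImplicit false
open Cfsg

namespace Cfsg.Agent.S5433

open Cfsg.Agent.Spor Subgroup

/-- Let Q be a large extraspecial 2-subgroup of the finite group G (extraspecial; centralizer equal to its centre; normal in the centralizer of its centre; normalizing no non-trivial subgroup of odd order), and L a normal subgroup of G containing Q. Then G is the product of L and the normalizer of Q. -/
theorem result {G : Type*} [Group G] [Finite G] (Q : Subgroup G) (hQ : Cfsg.IsLargeExtraspecial Q) (L : Subgroup G) [L.Normal] (hQL : Q ≤ L) : L ⊔ Subgroup.normalizer (Q : Set G) = ⊤ := by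
  obtain ⟨z, h⟩ := exists_ES2 hQ.1
  have hl := IsLargeExtraspecial_lg hQ h
  obtain ⟨T, hT⟩ := (h.isPGroup.comap_subtype (K := L)).exists_le_sylow
  have key : ∀ c ∈ (T : Subgroup L).map L.subtype, (∀ t ∈ (T : Subgroup L).map L.subtype, c * t = t * c) →
      c = 1 ∨ c = z := by
    intro c _ hc
    have h1 : ∀ q ∈ Q, c * q = q * c := fun q hq => hc q ⟨⟨q, hQL hq⟩, hT hq, rfl⟩
    exact h.center c (hl.centralizer_le (mem_centralizer_iff.2 fun q hq => (h1 q hq).symm)) h1
  have hzT : z ∈ (T : Subgroup L).map L.subtype := ⟨⟨z, hQL h.z_mem⟩, hT h.z_mem, rfl⟩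
  have hzc : ∀ t ∈ (T : Subgroup L).map L.subtype, z * t = t * z := by
    haveI : Nontrivial (T : Subgroup L) := ⟨⟨⟨⟨z, hQL h.z_mem⟩, hT h.z_mem⟩, 1, fun e =>
      h.z_ne (congrArg (fun t : (T : Subgroup L) => ((t : L) : G)) e)⟩⟩
    haveI := T.isPGroup'.center_nontrivial
    obtain ⟨c, hc⟩ := exists_ne (1 : Subgroup.center (T : Subgroup L))
    have h1 : ∀ t ∈ (T : Subgroup L).map L.subtype, (((c : (T : Subgroup L)) : L) : G) * t = t * c := by
      rintro _ ⟨t, ht, rfl⟩
      exact (congrArg (fun t : (T : Subgroup L) => ((t : L) : G)) (mem_center_iff.1 c.2 ⟨t, ht⟩)).symm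
    rcases key _ ⟨_, (c : (T : Subgroup L)).2, rfl⟩ h1 with e | e
    · exact absurd (Subtype.ext (Subtype.ext (Subtype.ext e))) hc
    · rw [← e]; exact h1
  rw [eq_top_iff, ← Sylow.normalizer_sup_eq_top T, sup_comm]
  refine sup_le_sup_left (fun n hn => hl.mem_normalizer ?_) _
  have h1 := (mem_normalizer_iff.1 hn z).1 hzT
  rcases key _ h1 (fun t ht => by
    have h2 := hzc _ ((mem_normalizer_iff''.1 hn t).1 ht)
    calc n * z * n⁻¹ * t = n * (z * (n⁻¹ * t * n)) * n⁻¹ := by group
      _ = _ := by rw [h2]; group) with e | e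
  · exact absurd (by simpa using e) h.z_ne
  · exact (mul_inv_eq_iff_eq_mul.1 e).symm

end Cfsg.Agent.S5433
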