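import Mathlib
import Cfsg.Statements.S0821
import Cfsg.Agent.Cl.AutOOut
import Cfsg.Agent.Cl.AutPSp
import Cfsg.Agent.Cl.SpSylow

set_option autoImplicit false
open Cfsg

namespace Cfsg.Agent.S0821

open Cfsg.Agent.Cl Cfsg.Agent.Cl.Aut Module QuadraticMap

section Polar

variable {F V : Type*} [Field F] [AddCommGroup V] [Module F V] {τ : F →+* F} {ε : F}
  {P : PS V τ ε} {G : Subgroup (V ≃ₗ[F] V)} {p : ℕ} [Fact p.Prime] [CharP F p]

theorem tv_of_sylow [Finite F] [FiniteDimensional F V] (hG : P.Good G) (h3 : P.Dim3)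
    (h0 : ∃ e, P.Sing e ∧ e ≠ 0) (hne : ∃ a, a ≠ ε * τ a) (S : Sylow p G) {z : G}
    (hz : IsUnip p z) (hc : ∀ s ∈ S, Commute s z) : ∃ e c, e ≠ 0 ∧ P.IsE z e 0 c := by
  have := finite_linGroup G
  obtain ⟨e₀, h1, h2⟩ := h0
  obtain ⟨g, hg⟩ := exists_conj_mem_sylow (PS.isPGroup_Qgrp (G := G) p h1) S
  have h4 := (hG.isom g).map_N h1
  obtain ⟨y, d, -, -, h5, h6⟩ := hG.inQ_of_commute h3 h4 (by simpa using h2) hz fun v hv =>
    hc v (by
      simpa [mul_assoc] using hg (g⁻¹ * v * g⁻¹⁻¹) (by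
        change P.InQ _ _
        simpa using hv.conj (hG.isom g⁻¹)))
  obtain ⟨b, rfl⟩ : ∃ b : F, y = b • g.1 e₀ := by
    by_contra! hc
    obtain ⟨w, h7, h8⟩ := PS.exists_perp_one (P := P) hc
    obtain ⟨a, ha⟩ := hne
    have := h6 (a • w) (by simp [h7])
    rw [P.symm] at this
    exact ha (by simpa [h8] using this.symm)
  exact ⟨g.1 e₀, _, by simpa using h2, (PS.IsE.shift b).1 (by rwa [zero_add])⟩

omit [Fact p.Prime] [CharP F p] in
theorem par_of_mul {u v : V ≃ₗ[F] V} {e z t : V} {c d k : F} (h1 : P.IsE u e 0 c)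
    (h2 : P.IsE v z 0 d) (h3 : P.IsE (u * v) t 0 k) (hc : Commute u v) (he : e ≠ 0)
    (hu : u ≠ 1) (hv : v ≠ 1) : ∃ a : F, z = a • e := by
  have key : ∀ {u v : V ≃ₗ[F] V} {e z : V} {c d : F}, P.IsE u e 0 c → P.IsE v z 0 d →
      P.IsE (u * v) t 0 k → u ≠ 1 → (∀ a : F, e ≠ a • z) → ∃ a : F, e = a • t := by
    intro u v e z c d h1 h2 h3 hu h
    obtain ⟨x, h4, h5⟩ := PS.exists_perp_one (P := P) h
    have h6 := h3 x
    rw [LinearEquiv.mul_apply, h2.apply_fix h4 (by simp), h1] at h6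
    have hc : τ c ≠ 0 := by
      rw [map_ne_zero]
      rintro rfl
      exact hu (h1.unique (PS.IsE.one e))
    simp only [smul_zero, add_zero, map_zero, mul_zero, zero_add, sub_right_inj, h5, mul_one] at h6
    exact ⟨(τ c)⁻¹ * _, by rw [mul_smul, ← h6, smul_smul, inv_mul_cancel₀ hc, one_smul]⟩
  by_contra! h
  obtain ⟨a, ha⟩ := key h1 h2 h3 hu fun a ha => by
    obtain ⟨b, hb⟩ := par_symm he ⟨a, ha⟩
    exact h b hb
  obtain ⟨b, hb⟩ := key h2 h1 (hc.eq ▸ h3) hv h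
  obtain ⟨c, hc⟩ := par_symm he ⟨a, ha⟩
  exact h (b * c) (by rw [hb, hc, smul_smul])

theorem commute_of_par (hG : P.Good G) {u v g : G} {e : V} {a c d : F} (h1 : P.IsE u e 0 c)
    (h2 : P.IsE v (a • e) 0 d) (hu : u ≠ 1) (hg : IsUnip p g) (hc : Commute g u) :
    Commute g v := by
  have h3 := h1.conj (hG.isom g)
  rw [← Subgroup.coe_mul, hc.eq, Subgroup.coe_mul, mul_inv_cancel_right, map_zero] at h3
  obtain ⟨b, hb⟩ := h1.par_zero h3 fun h => hu (Subtype.ext h)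
  have h4 := h2.conj (hG.isom g)
  rw [map_smul, (IsUnip.coe_iff.2 hg).apply_eq_of_smul hb, map_zero] at h4
  exact mul_inv_eq_iff_eq_mul.1 (Subtype.ext (h4.unique h2))

theorem false_of_pc [Finite F] [FiniteDimensional F V] (hG : P.Good G) (h3 : P.Dim3)
    (h0 : ∃ e, P.Sing e ∧ e ≠ 0) (hne : ∃ a, a ≠ ε * τ a) {W T : Type*} [AddCommGroup W]
    [Module F W] [FiniteDimensional F W] [Group T] {Q : QuadraticForm F W}
    (hQ : (polarBilin Q).Nondegenerate) (hn : 5 ≤ finrank F W) {H : Subgroup (W ≃ₗ[F] W)}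
    (hH : H = OM Q) (A : PC H T) (B : PC G T) {a b c d : W} (ha : Q a = 0) (hb : Q b = 0)
    (hc : Q c = 0) (hab : polar Q a b = 0) (hac : polar Q a c = 0) (hbc : polar Q b c = 0)
    (had : polar Q a d = 0) (hbd : polar Q b d = 0) (hcd : polar Q c d = 1) (ha0 : a ≠ 0)
    (h1 : ∀ t : F, b ≠ t • a) (h2 : ∀ t : F, c ≠ t • a) : False := by
  subst hH
  have : Fact (ringChar F).Prime := ⟨CharP.char_is_prime F _⟩
  have := finite_linGroup G
  have key : ∀ v, Q v = 0 → polar Q a v = 0 → ∃ e k, e ≠ 0 ∧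
      P.IsE (A.lift (ringChar F) B (oE Q a v)) e 0 k := fun v hv hav => by
    obtain ⟨S, hS⟩ := exists_sylow_commute_of_siegel (p := ringChar F) hQ hn (x := oE Q a v)
      (eich_mem_siegelSet ha hv hav)
    obtain ⟨S', -, h4⟩ := A.exists_sylow B S
    have hu := isUnip_oE (Q := Q) (ringChar F) a v
    exact tv_of_sylow hG h3 h0 hne S' (A.unip_lift B hu) (A.lift_center B h4 hu hS)
  have hne1 : ∀ v, polar Q a v = 0 → (∀ t : F, v ≠ t • a) → oE Q a v ≠ 1 := fun v hav hv h => by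
    obtain ⟨t, ht⟩ := exists_smul_of_eich_eq_one hQ ha ha0 hav (congrArg OM.toOG h)
    exact hv t ht
  have hu := isUnip_oE (Q := Q) (ringChar F)
  obtain ⟨e, k, he, h4⟩ := key b hb hab
  obtain ⟨z, l, -, h5⟩ := key c hc hac
  obtain ⟨t, n, -, h6⟩ := key (b + c) (by simp [oexp, hb, hc, hbc]) (by simp [hab, hac])
  have h7 := oE_commute ha hab hac
  have h8 := fun h => hne1 b hab h1 (A.lift_eq_one B (hu a b) h)
  have h9 := fun h => hne1 c hac h2 (A.lift_eq_one B (hu a c) h)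
  rw [show oE Q a (b + c) = oE Q a b * oE Q a c from (oE_mul ha hab hac).symm,
    A.lift_mul_of_commute B (hu _ _) (hu _ _) h7] at h6
  obtain ⟨r, rfl⟩ := par_of_mul h4 h5 h6
    (((A.lift_commute_iff B (hu _ _) (hu _ _)).2 h7).map G.subtype) he
    (fun h => h8 (Subtype.ext h)) fun h => h9 (Subtype.ext h)
  have h10 : Commute (oE Q b d) (oE Q a b) := by
    rw [Commute, SemiconjBy, ← mul_inv_eq_iff_eq_mul, conj_oE, coe_oE, eich_app_self,
      eich_app_of_polar hab had]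
  have h11 := (A.lift_commute_iff B (hu _ _) (hu _ _)).1 (commute_of_par hG h4 h5 h8
    (A.unip_lift B (hu b d)) ((A.lift_commute_iff B (hu _ _) (hu _ _)).2 h10))
  rw [Commute, SemiconjBy, ← mul_inv_eq_iff_eq_mul, conj_oE, coe_oE, eich_app_of_polar hab had,
    eich_app_of_polar_left hb hbd (by rw [polar_comm, hbc]), hcd, one_smul] at h11
  have h12 := oE_mul (v := c - b) (w := b) ha (by simp [hab, hac]) hab
  rw [h11, sub_add_cancel, mul_eq_left] at h12
  exact hne1 b hab h1 h12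

end Polar

/-- PSp_2m(q) ≇ PΩ_(2m+1)(q) for q odd and m ≥ 3 (they have the same order). -/
theorem result {F : Type*} [Field F] [Fintype F] (hodd : Odd (Fintype.card F)) (m : ℕ) (hm : 3 ≤ m) : IsEmpty (Cfsg.PSp m F ≃* Cfsg.POmega F (Cfsg.quadFormOdd m F)) := by
  refine ⟨fun α => ?_⟩
  have h2 := sp_two_ne_zero_of_odd (F := F) (by rwa [Nat.card_eq_fintype_card])
  have hP := quad_odd_nondeg (m := m) h2
  obtain ⟨i, j, k, hij, hik, hjk⟩ : ∃ i j k : Fin m, j ≠ i ∧ k ≠ i ∧ k ≠ j :=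
    ⟨⟨0, by omega⟩, ⟨1, by omega⟩, ⟨2, by omega⟩, by simp, by simp, by simp⟩
  refine false_of_pc good_sp (spPS_dim3 (m := m) (by omega)) (spPS_exists (by omega))
    ⟨1, fun h => h2 (by linear_combination h - map_one (RingHom.id F))⟩ hP (by simp; omega)
    (linG_omGL hP (by simp; omega)) (pcOmega hP (by simp; omega)) ((pcSp F (by omega)).comp α)
    (a := Pi.single (.inr (.inl i)) 1) (b := Pi.single (.inr (.inl j)) 1)
    (c := Pi.single (.inr (.inl k)) 1) (d := Pi.single (.inr (.inr k)) 1)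
    ?_ ?_ ?_ ?_ ?_ ?_ ?_ ?_ ?_ (by simp) (fun t h => ?_) fun t h => ?_
  iterate 3 simp [quad_odd_apply]
  iterate 3 simp [o_polar_odd]
  iterate 3 simp [o_polar_odd, Pi.single_apply, hik, hjk]
  · simpa [hij] using congrFun h (.inr (.inl j))
  · simpa [hik] using congrFun h (.inr (.inl k))

end Cfsg.Agent.S0821
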