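import Mathlib
-- Template for statement S0998 (row 998; see /opt/grader/pristine/manifest.json for weights).
-- Copy to Cfsg/Agent/S0998.lean and replace the sorry. The statement below is byte-identical to the frozen
-- statement Cfsg.CfsgFrozen.S0998 (Cfsg/Statements/S0998.lean; the theorem Cfsg.simple_of_card_p_r_qb);
-- the grader kernel-checks Cfsg.Agent.S0998.result against that frozen type. Keep the theorem IN THIS FILE
-- (a `result` declared elsewhere and merely imported here is not credited); helpers may live anywhere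
-- under Cfsg/Agent/.
import Cfsg.Statements.S0998
import Cfsg.Agent.Blk.OneBT
import Cfsg.Agent.S0494
import Cfsg.Agent.Cl.LinearIso

set_option autoImplicit false
set_option linter.style.haveILetI false
set_option linter.unusedVariables false
open Cfsg

namespace Cfsg.Agent.S0998

theorem dvd_three {d k : ℕ} (hd : ¬ 2 ∣ d) (h : d ∣ 3 * 2 ^ k) : d = 1 ∨ d = 3 :=
  (Nat.dvd_prime Nat.prime_three).1
    (((Nat.Prime.coprime_iff_not_dvd Nat.prime_two).2 hd).symm.pow_right k |>.dvd_of_dvd_mul_right h)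

theorem four_dvd {G : Type*} [Group G] [Finite G] [IsSimpleGroup G] (hG : ¬ IsCyclic G)
    (h : 2 ∣ Nat.card G) : 2 ^ 2 ∣ Nat.card G := by
  by_contra h4
  obtain ⟨P⟩ : Nonempty (Sylow 2 G) := inferInstance
  have hP := Cfsg.Agent.Blk.One.card_sylow_of_not_sq P h h4
  have hc : IsCyclic P := isCyclic_of_prime_card hP
  have h2 := hc.isComplement' ((Nat.minFac_eq_two_iff _).2 h)
  have h3 := h2.card_mul
  rcases (MonoidHom.normal_ker (MonoidHom.transferSylow P (hc.normalizer_le_centralizer
    ((Nat.minFac_eq_two_iff _).2 h)))).eq_bot_or_eq_top with h5 | h5 <;> rw [h5] at h3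
  · rw [Subgroup.card_bot, one_mul, hP] at h3
    exact hG (isCyclic_of_prime_card h3.symm)
  · rw [Subgroup.card_top, hP] at h3
    have := Nat.card_pos (α := G)
    omega

theorem aux {G : Type*} [Group G] [Finite G] [IsSimpleGroup G] (hG : ¬ IsCyclic G) (p q r b : ℕ) (hp : p.Prime) (hq : q.Prime) (hr : r.Prime) (hpq : p ≠ q) (hpr : r < p) (hqr : q ≠ r) (hG' : Nat.card G = p * r * q ^ b) : (∃ (F : Type) (_ : Field F) (_ : Fintype F), Fintype.card F = 5 ∧ Nonempty (G ≃* Matrix.ProjectiveSpecialLinearGroup (Fin 2) F)) ∨ (∃ (F : Type) (_ : Field F) (_ : Fintype F), Fintype.card F = 7 ∧ Nonempty (G ≃* Matrix.ProjectiveSpecialLinearGroup (Fin 2) F)) := by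
  open Cfsg.Agent.Blk.One in
  haveI := Fintype.ofFinite G
  haveI := Fact.mk hp
  have hr2 := hr.two_le
  obtain ⟨a, ha⟩ := hp.odd_of_ne_two (by omega)
  have key : ∀ s : ℕ, s.Prime → s ∣ Nat.card G → s = p ∨ s = r ∨ s = q := fun s hs h => by
    rw [hG', hs.dvd_mul, hs.dvd_mul, Nat.prime_dvd_prime_iff_eq hs hp,
      Nat.prime_dvd_prime_iff_eq hs hr, or_assoc] at h
    exact h.imp_right (.imp_right fun h =>
      (Nat.prime_dvd_prime_iff_eq hs hq).1 (hs.dvd_of_dvd_pow h))
  have hr' : r ≠ 2 := by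
    rintro rfl
    have h := four_dvd hG (hG' ▸ (dvd_mul_left 2 p).mul_right _)
    rw [hG', pow_two, mul_comm p, mul_assoc, Nat.mul_dvd_mul_iff_left two_pos,
      Nat.prime_two.dvd_mul] at h
    rcases h with h | h
    · omega
    · exact hqr ((Nat.prime_dvd_prime_iff_eq Nat.prime_two hq).1
        (Nat.prime_two.dvd_of_dvd_pow h)).symm
  obtain ⟨c, hc⟩ := hr.odd_of_ne_two hr'
  obtain ⟨-, S, n, hn, h⟩ := exists_br_of_card hG hq hpq (b := b) (g := r) (by rw [hG']; ring)
    (by omega)
  have h60 : Nat.card G = 60 → ∃ (F : Type) (_ : Field F) (_ : Fintype F), Fintype.card F = 5 ∧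
      Nonempty (G ≃* Matrix.ProjectiveSpecialLinearGroup (Fin 2) F) := fun h => by
    haveI : Fact (Nat.Prime 5) := ⟨by norm_num⟩
    obtain ⟨e⟩ := S0494.result h
    obtain ⟨e'⟩ := Cl.psl2_five_equiv_alt (F := ZMod 5) (by simp)
    exact ⟨ZMod 5, inferInstance, inferInstance, by simp, ⟨e.trans e'.symm⟩⟩
  have h6 : 6 ∣ Nat.card G := by
    subst ha
    rcases h.card_eq hn with h1 | h1
    · have h2 : Nat.card G = 2 * (a * (a + 1) * (2 * a + 1)) := by
        rw [Nat.add_sub_cancel] at h1
        linarith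
      rw [h2]
      refine Nat.mul_dvd_mul_left 2 (b := 3) ?_
      have : a % 3 = 0 ∨ a % 3 = 1 ∨ a % 3 = 2 := by omega
      rcases this with h | h | h
      · exact ((Nat.dvd_of_mod_eq_zero h).mul_right _).mul_right _
      · exact Dvd.dvd.mul_left (by omega) _
      · exact (Dvd.dvd.mul_left (by omega) _).mul_right _
    · rw [h1, Nat.add_sub_cancel, show (2 * a + 1) * (2 * a) * (2 * a + 1 - 2) =
        2 * ((2 * a + 1) * a * (2 * a + 1 - 2)) by ring]
      refine Nat.mul_dvd_mul_left 2 (b := 3) ?_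
      have : a % 3 = 0 ∨ a % 3 = 1 ∨ a % 3 = 2 := by omega
      rcases this with h | h | h
      · exact ((Nat.dvd_of_mod_eq_zero h).mul_left _).mul_right _
      · exact (Dvd.dvd.mul_right (by omega) _).mul_right _
      · exact Dvd.dvd.mul_left (by omega) _
  obtain rfl : q = 2 := by
    have := key 2 Nat.prime_two ((show 2 ∣ 6 by norm_num).trans h6)
    omega
  obtain rfl : r = 3 := by
    have := key 3 Nat.prime_three ((show 3 ∣ 6 by norm_num).trans h6)
    omega
  rcases h.card_eq hn with h1 | h1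
  · have h2 : 2 * (a * (a + 1)) = 3 * 2 ^ b := by
      refine Nat.eq_of_mul_eq_mul_left (show 0 < 2 * p by omega) ?_
      rw [hG', show p - 1 = 2 * a by omega, show p + 1 = 2 * (a + 1) by omega] at h1
      linarith
    have h3 : a = 2 ∨ a = 3 := by
      rcases Nat.even_or_odd' a with ⟨k, hk | hk⟩
      · have := dvd_three (d := a + 1) (by omega) (h2 ▸ (dvd_mul_left _ _).mul_left _)
        omega
      · have := dvd_three (d := a) (by omega) (h2 ▸ (dvd_mul_right _ _).mul_left _)
        omega
    rcases h3 with rfl | rfl <;> subst ha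
    · exact .inl (h60 (by omega))
    · rcases h.psl (MulEquiv.refl _) with ⟨F, _, _, h4, -, h5⟩ | ⟨m, F, _, _, -, h4, -⟩
      · exact .inr ⟨F, _, _, h4, h5⟩
      · have h5 : 3 ∣ 2 ^ m := by omega
        exact absurd (Nat.prime_three.dvd_of_dvd_pow h5) (by norm_num)
  · have h2 : (p - 1) * (p - 2) = 3 * 2 ^ b := by
      refine Nat.eq_of_mul_eq_mul_left hp.pos ?_
      rw [← mul_assoc, ← h1, hG', mul_assoc]
    have := dvd_three (d := p - 2) (by omega) (h2 ▸ dvd_mul_left _ _)
    obtain rfl : p = 5 := by omega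
    exact .inl (h60 h1)


/-- A non-cyclic finite simple group whose order has the form p * r * q^b for distinct primes p, q, r is isomorphic to the projective special linear group of dimension 2 over the field with 5 or with 7 elements. -/
theorem result {G : Type*} [Group G] [Finite G] [IsSimpleGroup G] (hG : ¬ IsCyclic G) (p q r b : ℕ) (hp : p.Prime) (hq : q.Prime) (hr : r.Prime) (hpq : p ≠ q) (hpr : p ≠ r) (hqr : q ≠ r) (hG' : Nat.card G = p * r * q ^ b) : (∃ (F : Type) (_ : Field F) (_ : Fintype F), Fintype.card F = 5 ∧ Nonempty (G ≃* Matrix.ProjectiveSpecialLinearGroup (Fin 2) F)) ∨ (∃ (F : Type) (_ : Field F) (_ : Fintype F), Fintype.card F = 7 ∧ Nonempty (G ≃* Matrix.ProjectiveSpecialLinearGroup (Fin 2) F)) := by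
  rcases lt_or_gt_of_ne hpr with h | h
  · exact aux hG r q p b hr hq hp hqr.symm h hpq.symm (by rw [hG', mul_comm p])
  · exact aux hG p q r b hp hq hr hpq h hqr hG'

end Cfsg.Agent.S0998
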