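import Mathlib
import Cfsg.Statements.S0806
import Cfsg.Agent.Cl.PSL2Class

set_option autoImplicit false
open Cfsg

set_option linter.unusedVariables false

namespace Cfsg.Agent.S0806

open Cfsg.Agent.Cl.L2 Matrix MulAction
open scoped MatrixGroups

/-- Minimal index (Galois): if q ∉ {2, 3, 5, 7, 9, 11} then every proper subgroup of PSL_2(q) has index ≥ q + 1, and some subgroup has index exactly q + 1. -/
theorem result {F : Type*} [Field F] [Fintype F] {q : ℕ} (hF : Fintype.card F = q) (hq : q ∉ ({2, 3, 5, 7, 9, 11} : Finset ℕ)) : (∀ H : Subgroup (Matrix.ProjectiveSpecialLinearGroup (Fin 2) F), H ≠ ⊤ → q + 1 ≤ H.index) ∧ ∃ H : Subgroup (Matrix.ProjectiveSpecialLinearGroup (Fin 2) F), H.index = q + 1 := by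
  have hq' : Nat.card F = q := by rw [Nat.card_eq_fintype_card, hF]
  refine ⟨fun H hH => ?_, _, hq' ▸ index_stabilizerS inf⟩
  obtain ⟨p, hp, _⟩ := exists_char (F := F)
  have := Fact.mk hp
  have hG := card_PSL_mul (F := F)
  have h2 := two_le_card (F := F)
  have hd : (q % 2 = 0 ∧ Nat.gcd 2 (q - 1) = 1) ∨ (q % 2 = 1 ∧ Nat.gcd 2 (q - 1) = 2) := by
    rw [← hq']
    by_cases h : (2 : F) = 0
    · exact Or.inl ⟨two_eq_zero_iff_even.1 h, gcd_of_two_eq_zero h⟩
    · exact Or.inr ⟨two_ne_zero_iff_odd.1 h, gcd_of_two_ne_zero h⟩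
  simp only [Finset.mem_insert, Finset.mem_singleton, not_or] at hq
  have h6 : q ≠ 6 := fun h => by
    obtain ⟨n, hn, e⟩ := exists_card_eq_prime_pow (F := F) p
    rw [hq', h] at e
    have h2 := (Nat.prime_dvd_prime_iff_eq Nat.prime_two hp).1
      (Nat.prime_two.dvd_of_dvd_pow (e ▸ (by norm_num : 2 ∣ 6)))
    have h3 := (Nat.prime_dvd_prime_iff_eq Nat.prime_three hp).1
      (Nat.prime_three.dvd_of_dvd_pow (e ▸ (by norm_num : 3 ∣ 6)))
    omega
  suffices h : Nat.card H * Nat.gcd 2 (q - 1) ≤ q * (q - 1) by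
    rw [← H.index_mul_card, hq', mul_assoc, mul_comm (q * _)] at hG
    exact Nat.le_of_mul_le_mul_right (hG.ge.trans (Nat.mul_le_mul_left _ h))
      (Nat.mul_pos (by omega) (by omega))
  have hlt : Nat.card H < Nat.card PSL(2, F) :=
    lt_of_le_of_ne H.card_le_card_group fun h => hH (Subgroup.eq_top_of_card_eq H h)
  have hdvd := H.card_subgroup_dvd_card
  rw [hq'] at hG h2
  have small : Nat.card H = 12 ∨ Nat.card H = 24 ∨ Nat.card H = 60 →
      Nat.card H * Nat.gcd 2 (q - 1) ≤ q * (q - 1) := fun h => by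
    by_cases h13 : 13 ≤ q
    · have : 13 * 12 ≤ q * (q - 1) := Nat.mul_le_mul h13 (by omega)
      rcases hd with ⟨-, e⟩ | ⟨-, e⟩ <;> rw [e] <;> omega
    · have : q = 4 ∨ q = 8 ∨ q = 10 ∨ q = 12 := by omega
      generalize Nat.card PSL(2, F) = N at *
      generalize Nat.card H = n at *
      have g3 : Nat.gcd 2 (4 - 1) = 1 := rfl
      have g7 : Nat.gcd 2 (8 - 1) = 1 := rfl
      have g9 : Nat.gcd 2 (10 - 1) = 1 := rfl
      have g11 : Nat.gcd 2 (12 - 1) = 1 := rfl
      rcases this with rfl | rfl | rfl | rfl <;> simp only [g3, g7, g9, g11] at hG ⊢ <;>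
        rcases h with rfl | rfl | rfl <;> omega
  rcases dickson_psl p H with ⟨x, h⟩ | ⟨g, -, ht, h⟩ | ⟨-, ⟨⟨e⟩⟩ | ⟨⟨e⟩⟩ | ⟨⟨e⟩⟩⟩ | ⟨-, ⟨e⟩⟩ |
    ⟨k, c, h⟩
  · rw [← hq', ← card_stabilizerS_mul x]
    exact Nat.mul_le_mul_right _ (Subgroup.card_le_of_le h)
  · have h1 := Nat.mul_le_mul_right (Nat.gcd 2 (Nat.card F - 1)) (Subgroup.card_le_of_le h)
    have h3 := card_torS_mul_or ht
    rw [card_ntorS ht, mul_assoc] at h1
    rw [hq'] at h1 h3
    have : 4 * (q - 1) ≤ q * (q - 1) := Nat.mul_le_mul_right _ (by omega)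
    omega
  · exact small (Or.inl (by rw [Nat.card_congr e.toEquiv, card_A4]))
  · exact small (Or.inr (Or.inl (by rw [Nat.card_congr e.toEquiv, card_S4])))
  · exact small (Or.inr (Or.inr (by rw [Nat.card_congr e.toEquiv, card_A5])))
  · exact small (Or.inr (Or.inr (by rw [Nat.card_congr e.toEquiv, card_A5])))
  · have h1 : Nat.card H ≤ Nat.card (subPGL k) := by
      rw [← card_map_emb, ← card_cj c (subPGL k)]
      exact Subgroup.card_le_of_le (h.elim (fun e => e.le.trans (cj_mono c (subPSL_le_subPGL k))) Eq.le)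
    have hk : k ≠ ⊤ := by
      rintro rfl
      refine hH (eq_top_of_psl_le ?_)
      rw [subPSL_top, subPGL_top, cj_of_normal, cj_top] at h
      exact h.elim Eq.ge fun e => e ▸ le_top
    obtain ⟨m, hm, e⟩ := card_subfield_pow k
    have hm2 : 2 ≤ m := by
      by_contra h'
      exact hk (subfield_eq_top_of_card (by rw [← e, show m = 1 by omega, pow_one]))
    have hr := two_le_card (F := k)
    rw [card_subPGL] at h1
    have h3 : Nat.card k ^ 2 ≤ q := by rw [← hq', ← e]; exact Nat.pow_le_pow_right (by omega) hm2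
    have h4 : Nat.gcd 2 (q - 1) ≤ 2 := Nat.gcd_le_left _ two_pos
    generalize Nat.card k = r at *
    calc Nat.card H * Nat.gcd 2 (q - 1) ≤ r * (r - 1) * (r + 1) * r :=
          Nat.mul_le_mul h1 (h4.trans hr)
      _ = r ^ 2 * (r ^ 2 - 1) := by
          rw [show r ^ 2 - 1 = (r + 1) * (r - 1) by rw [← Nat.sq_sub_sq, one_pow]]; ring
      _ ≤ q * (q - 1) := Nat.mul_le_mul h3 (by omega)

end Cfsg.Agent.S0806
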