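import Mathlib
import Cfsg.Statements.S2475
import Cfsg.Agent.Cl.PSL2Pairs

set_option autoImplicit false
open Cfsg

set_option linter.unusedVariables false

namespace Cfsg.Agent.S2475

open Cfsg.Agent.Cl.L2 Matrix MulAction
open scoped MatrixGroups

lemma exists_orderOf_of_dvd {G : Type*} [Group G] [Finite G] (g : G) {m : ℕ} (h : m ∣ orderOf g) :
    ∃ x : G, orderOf x = m := by
  obtain ⟨k, hk⟩ := h
  have h0 : orderOf g ≠ 0 := (orderOf_pos g).ne'
  have hk0 : k ≠ 0 := by rintro rfl; simp [hk] at h0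
  refine ⟨g ^ k, ?_⟩
  rw [orderOf_pow' _ hk0, hk, Nat.gcd_mul_left_left, Nat.mul_div_cancel _ (Nat.pos_of_ne_zero hk0)]

/-- The set of element orders of PSL(2,q): let F be a finite field of characteristic p with q ≥ 4 elements and d = gcd(2, q − 1). The orders of elements of PSL(2,F) are exactly the divisors of p, of (q − 1)/d and of (q + 1)/d. -/
theorem result {F : Type*} [Field F] [Fintype F] (p : ℕ) [Fact p.Prime] [CharP F p] (h4 : 4 ≤ Fintype.card F) :
    Set.range (orderOf : Matrix.ProjectiveSpecialLinearGroup (Fin 2) F → ℕ) =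
      {m : ℕ | m ∣ p ∨ m ∣ (Fintype.card F - 1) / Nat.gcd 2 (Fintype.card F - 1) ∨ m ∣ (Fintype.card F + 1) / Nat.gcd 2 (Fintype.card F - 1)} := by
  rw [← Nat.card_eq_fintype_card]
  have hd := gcd_pos (F := F)
  ext m
  constructor
  · rintro ⟨g, rfl⟩
    exact (orderOf_cases p g).imp id (Or.imp (fun h => Nat.dvd_div_of_mul_dvd (by rwa [mul_comm]))
      fun h => Nat.dvd_div_of_mul_dvd (by rwa [mul_comm]))
  · rintro (h | h | h)
    · obtain ⟨u, hu, hu1⟩ := exists_ne_one_mem_uniS (inf : P1 F)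
      exact exists_orderOf_of_dvd u (by rwa [orderOf_of_mem_uniS p hu hu1])
    · obtain ⟨g, -, -, hg⟩ := exists_fixS (F := F)
      exact exists_orderOf_of_dvd g (by rwa [Nat.div_eq_of_eq_mul_left hd hg.symm] at h)
    · obtain ⟨g, -, hg⟩ := exists_nofixS (F := F)
      exact exists_orderOf_of_dvd g (by rwa [Nat.div_eq_of_eq_mul_left hd hg.symm] at h)

end Cfsg.Agent.S2475
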