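import Mathlib
import Cfsg.Statements.S2476
import Cfsg.Agent.Cl.ClassOrdSmall

set_option autoImplicit false
open Cfsg

namespace Cfsg.Agent.S2476

/-- The set of element orders of PSL(3,q): let F be a finite field of characteristic p with q elements and d = gcd(3, q − 1). The orders of elements of PSL(3,F) are exactly the divisors of (q² + q + 1)/d, of (q² − 1)/d, of q − 1, of p(q − 1)/d, and, when p = 2, of 4. -/
theorem result {F : Type*} [Field F] [Fintype F] (p : ℕ) [Fact p.Prime] [CharP F p] :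
    Set.range (orderOf : Matrix.ProjectiveSpecialLinearGroup (Fin 3) F → ℕ) =
      {m : ℕ | m ∣ (Fintype.card F ^ 2 + Fintype.card F + 1) / Nat.gcd 3 (Fintype.card F - 1) ∨
        m ∣ (Fintype.card F ^ 2 - 1) / Nat.gcd 3 (Fintype.card F - 1) ∨ m ∣ Fintype.card F - 1 ∨
        m ∣ p * (Fintype.card F - 1) / Nat.gcd 3 (Fintype.card F - 1) ∨ (p = 2 ∧ m ∣ 4)} := by
  have hp : p.Prime := Fact.out
  have hG := Cl.Cls.range_orderOf_PSL_fin (F := F) (AlgebraicClosure F) p 3
  have hpa := Cl.Cls.char_dvd_card F p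
  have ha := Cl.Cls.two_le_natAbs_card F
  have hq : 1 ≤ Fintype.card F := Fintype.card_pos
  have h1 : ((Fintype.card F : ℤ) - 1).natAbs = Fintype.card F - 1 := by omega
  have h2 : Cl.specM (Fintype.card F) 3 = (Fintype.card F ^ 2 + Fintype.card F + 1) /
      Nat.gcd 3 (Fintype.card F - 1) := by
    rw [Cl.specM, Cl.Cls.gcd_specS, h1, Cl.specS, geom_sum_succ, geom_sum_two,
      ← Int.natAbs_natCast (_ + _ + 1)]
    congr 2
    push_cast
    ring
  have h3 := Cl.Cls.natAbs_pow_sub_one hq 2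
  have h4 : p * (Fintype.card F - 1) / Nat.gcd 3 (Fintype.card F - 1) =
      (Fintype.card F - 1) / Nat.gcd 3 (Fintype.card F - 1) * p := by
    rw [Nat.mul_div_assoc _ (Nat.gcd_dvd_right _ _), mul_comm]
  ext m
  rw [Set.mem_ofPred_eq, h4, ← h2, ← h3, ← h1]
  refine ⟨fun h => Cl.Cls.dvd_of_mem_ESpec_three
    (Cl.Cls.zpow_card_injective F (AlgebraicClosure F)) hp (hG.subset h), ?_⟩
  rintro (h | h | h | h | ⟨rfl, h⟩) <;>
    refine Cl.Cls.exists_orderOf_eq_of_dvd (hG.superset ?_) h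
  · exact Cl.Cls.specM_mem_ESpec hpa ha three_pos
  · exact Cl.Cls.sq_sub_one_div_mem_ESpec_three hpa ha
  · simpa using Cl.Cls.mul_mem_ESpec_of_dvd (K := AlgebraicClosure F) hpa dvd_rfl one_pos 0
  · exact Cl.Cls.mul_mem_ESpec_three hpa dvd_rfl
  · exact Cl.Cls.mem_ESpec_block (p := 2) three_pos rfl

end Cfsg.Agent.S2476
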