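import Mathlib
import Cfsg.Agent.Perm.PrimeDegree2
import Cfsg.Agent.Perm.PrimeIndex
import Cfsg.Statements.S0678

set_option autoImplicit false
open Cfsg

namespace Cfsg.Agent.S0678

open Cfsg.Agent.Perm MulAction

/-- A non-solvable transitive permutation group on 7 points that does not contain the alternating group is a simple group of order 168. -/
theorem result {α : Type*} [Fintype α] [DecidableEq α] (hα : Fintype.card α = 7) (G : Subgroup (Equiv.Perm α)) [MulAction.IsPretransitive G α] (hG : ¬ Group.IsSolvable G) (hA : ¬ alternatingGroup α ≤ G) : Nat.card G = 168 ∧ IsSimpleGroup G := by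
  haveI : Fact (Nat.Prime 7) := ⟨by norm_num⟩
  have hcard : Nat.card α = 7 := by rw [Nat.card_eq_fintype_card, hα]
  obtain ⟨a⟩ : Nonempty α := (Nat.card_pos_iff.1 (by rw [hcard]; norm_num)).1
  obtain ⟨P⟩ : Nonempty (Sylow 7 G) := inferInstance
  obtain ⟨τ, hτP, hτ, e, -, he⟩ := exists_coord_sylow hcard P a
  have hprim : IsPreprimitive G α := IsPreprimitive.of_prime_card (by rw [hcard]; norm_num)
  have hPc := card_sylow_of_prime_degree hcard P
  have hPn : ¬ (P : Subgroup G).Normal := by
    intro hn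
    refine hG (isSolvable_of_affine (e := e) fun g => affine_of_mem_normalizer' he ?_)
    rw [hτP, Subgroup.normalizer_eq_top]
    trivial
  obtain ⟨k, hk, hN, -⟩ := exists_card_normalizer he
  rw [hτP] at hN
  have hk1 : k ≠ 1 := by
    rintro rfl
    apply hPn
    rw [← eq_sylow_of_normal_prime_degree hcard ⊤ P le_top]
    · infer_instance
    · rw [top_inf_eq]
      exact (Subgroup.eq_of_le_of_card_ge Subgroup.le_normalizer (by rw [hN, hPc])).ge
  have h2 := prime_dvd_index_of_isPreprimitive G hprim hA (by omega) Nat.prime_two (by omega)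
  have h3 := prime_dvd_index_of_isPreprimitive G hprim hA (by omega) Nat.prime_three (by omega)
  have h6 : 6 ∣ G.index := Nat.Coprime.mul_dvd_of_dvd_of_dvd (by norm_num : Nat.Coprime 2 3) h2 h3
  have hGi := G.card_mul_index
  rw [Nat.card_perm, hcard] at hGi
  obtain ⟨i, hi⟩ := h6
  have hn := card_sylow_modEq_one 7 G
  rw [P.card_eq_index_normalizer] at hn
  have hNi := (Subgroup.normalizer ((P : Subgroup G) : Set G)).card_mul_index
  rw [hN] at hNi
  have hne1 : (Subgroup.normalizer ((P : Subgroup G) : Set G)).index ≠ 1 := by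
    intro h
    rw [Subgroup.index_eq_one, Subgroup.normalizer_eq_top_iff] at h
    exact hPn h
  have htwo : IsMultiplyPretransitive G α 2 :=
    (affine_or_two_pretransitive he).resolve_left fun h => hG (isSolvable_of_affine h)
  have h42 : 42 ∣ Nat.card G := by
    have := descFactorial_dvd_card htwo (by rw [hcard]; norm_num)
    rwa [hcard] at this
  set n := (Subgroup.normalizer ((P : Subgroup G) : Set G)).index with hndef
  have hdvd : k * n ∣ 120 := by
    refine ⟨i, ?_⟩
    rw [hi, ← hNi] at hGi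
    have : Nat.factorial 7 = 5040 := by decide
    nlinarith
  have h6kn : 6 ∣ k * n := by
    rw [← hNi, mul_assoc] at h42
    exact Nat.dvd_of_mul_dvd_mul_left (by norm_num : 0 < 7) h42
  have hkn : k = 3 ∧ n = 8 := by
    have hn120 : n ∣ 120 := Dvd.dvd.trans (Dvd.intro_left k rfl) hdvd
    have hk' : k ∈ Nat.divisors 6 := Nat.mem_divisors.2 ⟨hk, by norm_num⟩
    have hn' : n ∈ Nat.divisors 120 := Nat.mem_divisors.2 ⟨hn120, by norm_num⟩
    have key : ∀ k ∈ Nat.divisors 6, ∀ n ∈ Nat.divisors 120, k ≠ 1 → n ≠ 1 → n % 7 = 1 % 7 →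
        k * n ∣ 120 → 6 ∣ k * n → k * n ≠ 30 → k = 3 ∧ n = 8 := by decide +kernel
    refine key k hk' n hn' hk1 hne1 hn hdvd h6kn fun h30 => hG ?_
    have h210 : Nat.card G = 210 := by rw [← hNi, mul_assoc, h30]; rfl
    haveI : IsZGroup G := IsZGroup.of_squarefree (by rw [h210]; decide +kernel)
    infer_instance
  obtain ⟨rfl, hn8⟩ := hkn
  have hG168 : Nat.card G = 168 := by rw [← hNi, hn8]
  refine ⟨hG168, ?_⟩
  haveI : Nontrivial G := Finite.one_lt_card_iff_nontrivial.1 (by rw [hG168]; norm_num)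
  refine ⟨fun M hM => ?_⟩
  by_cases hMb : M = ⊥
  · exact Or.inl hMb
  right
  have hPM := sylow_le_of_normal_prime_degree hcard M hMb P
  have hle : (P : Subgroup G) ≤ M ⊓ Subgroup.normalizer ((P : Subgroup G) : Set G) :=
    le_inf hPM Subgroup.le_normalizer
  have c1 := Subgroup.card_dvd_of_le hle
  have c2 := Subgroup.card_dvd_of_le
    (inf_le_right : M ⊓ Subgroup.normalizer ((P : Subgroup G) : Set G) ≤ _)
  rw [hPc] at c1
  rw [hN] at c2
  obtain ⟨j, hj⟩ := c1
  rw [hj] at c2
  rcases (Nat.dvd_prime Nat.prime_three).1 (Nat.dvd_of_mul_dvd_mul_left (by norm_num) c2)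
    with rfl | rfl
  · exfalso
    apply hPn
    rw [← eq_sylow_of_normal_prime_degree hcard M P hPM
      (Subgroup.eq_of_le_of_card_ge hle (by rw [hj, hPc])).ge]
    exact hM
  · have h1 := Subgroup.eq_of_le_of_card_ge
      (inf_le_right : M ⊓ Subgroup.normalizer ((P : Subgroup G) : Set G) ≤ _) (by rw [hj, hN])
    rw [← Sylow.normalizer_sup_eq_top' P hPM, eq_comm, sup_eq_right]
    exact inf_eq_right.1 h1

end Cfsg.Agent.S0678
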