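import Cfsg.Statements.S5945
import Mathlib
import Cfsg.Agent.Sym.Index

set_option autoImplicit false
open Cfsg

namespace Cfsg.Agent.S5945

/-- The symmetric group S_6 has exactly 12 subgroups of index 6; each of them is isomorphic to S_5, and at least one of them is not the stabilizer of any point. -/
theorem result : Nat.card {H : Subgroup (Equiv.Perm (Fin 6)) // H.index = 6} = 12 ∧ (∀ H : Subgroup (Equiv.Perm (Fin 6)), H.index = 6 → Nonempty (H ≃* Equiv.Perm (Fin 5))) ∧ ∃ H : Subgroup (Equiv.Perm (Fin 6)), H.index = 6 ∧ ∀ a : Fin 6, H ≠ MulAction.stabilizer (Equiv.Perm (Fin 6)) a := by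
  have h6 : Fintype.card (Fin 6) = 6 := Fintype.card_fin 6
  obtain ⟨ψ, hψ, -⟩ := Sym.exists_outer_six h6
  have h1 : ∀ x : Fin 6, (MulAction.stabilizer (Equiv.Perm (Fin 6)) x).index = 6 := fun x => by
    rw [Sym.index_stabilizer_perm, h6]
  have h2 : ∀ x : Fin 6,
      ((MulAction.stabilizer (Equiv.Perm (Fin 6)) x).comap ψ.toMonoidHom).index = 6 := fun x => by
    rw [Subgroup.index_comap_of_surjective _ ψ.surjective, h1]
  refine ⟨?_, fun H hH => ?_, _, h2 0, Sym.comap_stabilizer_ne_stabilizer h6 hψ 0⟩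
  · let f : Fin 6 ⊕ Fin 6 → {H : Subgroup (Equiv.Perm (Fin 6)) // H.index = 6} :=
      Sum.elim (fun x => ⟨_, h1 x⟩) (fun x => ⟨_, h2 x⟩)
    have hf : Function.Bijective f := by
      constructor
      · rintro (x | x) (y | y) h <;> have h' := congrArg Subtype.val h
        · exact congrArg _ (Sym.stabilizer_perm_injective (by simp) h')
        · exact absurd h'.symm (Sym.comap_stabilizer_ne_stabilizer h6 hψ _ _)
        · exact absurd h' (Sym.comap_stabilizer_ne_stabilizer h6 hψ _ _)
        · exact congrArg _ (Sym.stabilizer_perm_injective (by simp)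
            (Subgroup.comap_injective ψ.surjective h'))
      · rintro ⟨H, hH⟩
        obtain ⟨y, rfl | rfl⟩ := Sym.index_eq_six_cases h6 hψ hH
        · exact ⟨Sum.inl y, rfl⟩
        · exact ⟨Sum.inr y, rfl⟩
    rw [← Nat.card_congr (Equiv.ofBijective f hf)]
    simp
  · obtain ⟨y, rfl | rfl⟩ := Sym.index_eq_six_cases h6 hψ hH
    · exact Sym.nonempty_stabilizer_mulEquiv y h6
    · obtain ⟨e⟩ := Sym.nonempty_stabilizer_mulEquiv (n := 5) y h6
      refine ⟨MulEquiv.trans ?_ e⟩
      exact (ψ.subgroupMap _).trans (MulEquiv.subgroupCongr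
        (Subgroup.map_comap_eq_self_of_surjective ψ.surjective _))

end Cfsg.Agent.S5945
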