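import Mathlib
import Cfsg.Statements.S2553
import Cfsg.Agent.Cl.LinearIso
import Cfsg.Agent.Cl.LinearIsoA8
import Cfsg.Agent.Cl.LinearMaxPar
import Cfsg.Agent.Sym.PrimeCycle
import Cfsg.Agent.Sym.Orbits
import Cfsg.Agent.Perm.Jordan
import Cfsg.Agent.Perm.PrimeDegree2
import Cfsg.Agent.Perm.CompLen
import Cfsg.Agent.Ch.Burnside
import Cfsg.Agent.GT.Fitting
import Cfsg.Agent.S0495
import Cfsg.Agent.S0678
import Cfsg.Agent.S5945

set_option autoImplicit false
open Cfsg

namespace Cfsg.Agent.S2553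

section Aux

open MulAction Equiv SubMulAction Matrix

/-- No nontrivial solvable normal subgroup. -/
def Hs (G : Type*) [Group G] : Prop := ∀ N : Subgroup G, N.Normal → Group.IsSolvable N → N = ⊥

/-- The conclusion. -/
def Concl (G : Type*) [Group G] : Prop :=
  (∃ n : ℕ, 5 ≤ n ∧ n ≤ 8 ∧ Nonempty (G ≃* alternatingGroup (Fin n))) ∨
    Nonempty (G ≃* Perm (Fin 5)) ∨ Nonempty (G ≃* Perm (Fin 6)) ∨ Nonempty (G ≃* GL (Fin 3) (ZMod 2))

variable {G X : Type*} [Group G] [Finite G]

omit [Finite G] in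
theorem Concl.of_equiv {G' : Type*} [Group G'] (h : Concl G') (e : G ≃* G') : Concl G := by
  rcases h with ⟨n, h1, h2, ⟨f⟩⟩ | ⟨⟨f⟩⟩ | ⟨⟨f⟩⟩ | ⟨⟨f⟩⟩
  exacts [Or.inl ⟨n, h1, h2, ⟨e.trans f⟩⟩, Or.inr (Or.inl ⟨e.trans f⟩),
    Or.inr (Or.inr (Or.inl ⟨e.trans f⟩)), Or.inr (Or.inr (Or.inr ⟨e.trans f⟩))]

omit [Finite G] in
theorem Hs.of_equiv {G' : Type*} [Group G'] (h : Hs G') (e : G ≃* G') : Hs G := fun N hN hs => by
  have := hN.map e.toMonoidHom e.surjective
  have h1 := h (N.map e.toMonoidHom) this (solvable_of_surjective (f := (e.subgroupMap N).toMonoidHom)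
    (e.subgroupMap N).surjective)
  rwa [Subgroup.map_eq_bot_iff_of_injective _ e.injective] at h1

omit [Finite G] in
theorem Hs.not_solvable (h : Hs G) [Nontrivial G] : ¬ Group.IsSolvable G := fun _ =>
  top_ne_bot (h ⊤ inferInstance inferInstance)

theorem concl_168 [IsSimpleGroup G] (h : Nat.card G = 168) : Concl G :=
  haveI : Fact (Nat.Prime 7) := ⟨by norm_num⟩
  Or.inr (Or.inr (Or.inr ⟨(S0495.result h (F := ZMod 7) (by simp)).some.trans
    (Cl.psl2_seven_equiv_gl3_two (by simp) (by simp)).some⟩))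

theorem six_perm (K : Subgroup (Perm (Fin 6))) (hK : ¬ Group.IsSolvable K) : Concl K := by
  by_cases hA : alternatingGroup (Fin 6) ≤ K
  · rcases Sym.eq_alternatingGroup_or_eq_top_of_le hA with rfl | rfl
    · exact Or.inl ⟨6, by omega, by omega, ⟨MulEquiv.refl _⟩⟩
    · exact Or.inr (Or.inr (Or.inl ⟨Subgroup.topEquiv⟩))
  have h1 := Sym.card_le_index_alternating (α := Fin 6) (by simp)
    (Subgroup.subgroupOf_eq_top.not.2 hA)
  have h2 := (K.subgroupOf (alternatingGroup (Fin 6))).index_mul_card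
  rw [nat_card_alternatingGroup] at h2
  have h3 : 60 ≤ Nat.card (K.subgroupOf (alternatingGroup (Fin 6))) := by
    by_contra h
    have := Perm.CompLen.isSolvable_of_card_lt_sixty (not_le.1 h)
    refine hK (solvable_of_ker_le_range
      (MonoidHom.codRestrict ((alternatingGroup (Fin 6)).subtype.comp (Subgroup.subtype _)) K
        (fun x : K.subgroupOf (alternatingGroup (Fin 6)) => x.2))
      (Perm.sign.comp K.subtype) fun g hg =>
        ⟨⟨⟨g, Perm.mem_alternatingGroup.2 (by exact hg)⟩, g.2⟩, rfl⟩)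
  simp only [Nat.card_eq_fintype_card (α := Fin 6), Fintype.card_fin, Nat.factorial] at h1 h2
  have h4 : (K.subgroupOf (alternatingGroup (Fin 6))).index = 6 := by nlinarith
  by_cases hB : K ≤ alternatingGroup (Fin 6)
  · exact Or.inl ⟨5, by omega, by omega, ⟨(Subgroup.subgroupOfEquivOfLe hB).symm.trans
      (Sym.nonempty_mulEquiv_of_index_eq_card (α := Fin 6) (n := 5) (by simp) (by omega) h4).some⟩⟩
  · rw [Sym.index_subgroupOf_alternatingGroup hB] at h4
    exact Or.inr (Or.inl (S5945.result.2.1 K h4))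

variable [MulAction G X] [FaithfulSMul G X] [Finite X]

omit [Finite G] in
theorem six (hX : Nat.card X ≤ 6) (hG : ¬ Group.IsSolvable G) : Concl G := by
  have := Fintype.ofFinite X
  obtain ⟨ι⟩ := Function.Embedding.nonempty_of_card_le (α := X) (β := Fin 6)
    (by simpa using hX)
  have hf : Function.Injective ((Perm.viaEmbeddingHom ι).comp (toPermHom G X)) :=
    (Perm.viaEmbeddingHom_injective ι).comp toPerm_injective
  let e := MonoidHom.ofInjective hf
  exact (six_perm _ fun _ => hG (solvable_of_surjective (f := e.symm.toMonoidHom)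
    e.symm.surjective)).of_equiv e

omit [Finite G] in
theorem faithful_of_small (h : Hs G) (s t : SubMulAction G X) (hs : Nat.card s ≤ 4)
    (hst : ∀ x, x ∈ s ∨ x ∈ t) : FaithfulSMul G t := by
  have := Sym.isSolvable_perm_of_card_le_four hs
  have h1 := h (toPermHom G t).ker inferInstance (solvable_of_solvable_injective
    (f := (toPermHom G s).comp (Subgroup.subtype _)) ((injective_iff_map_eq_one _).2 fun g hg =>
      Subtype.ext (FaithfulSMul.eq_of_smul_eq_smul (α := X) fun x => ?_)))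
  · exact ⟨fun e => (MonoidHom.ker_eq_bot_iff _).1 h1 (Perm.ext e)⟩
  rcases hst x with hx | hx
  · simpa using congrArg (fun f : Perm s => (f ⟨x, hx⟩ : X)) hg
  · simpa using congrArg (fun f : Perm t => (f ⟨x, hx⟩ : X)) (MonoidHom.mem_ker.1 g.2)

omit [Finite G] in
theorem reduce (h : Hs G) (hX : Nat.card X ≤ 8) (ht : ¬ IsPretransitive G X) :
    ∃ s : SubMulAction G X, Nat.card s < Nat.card X ∧ FaithfulSMul G s := by
  obtain ⟨s, h1, h2⟩ := Sym.exists_subMulAction_of_not_isPretransitive ht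
  have h3 := Sym.card_add_card_compl s
  by_cases h4 : Nat.card s ≤ 4
  · exact ⟨sᶜ, h2, faithful_of_small h s sᶜ h4 fun x => em _⟩
  · exact ⟨s, h1, faithful_of_small h sᶜ s (by omega) fun x => (em _).symm⟩

theorem seven_trans (hX : Nat.card X = 7) [IsPretransitive G X] (hG : ¬ Group.IsSolvable G) :
    (Nat.card G = 168 ∧ IsSimpleGroup G) ∨ Nonempty (G ≃* alternatingGroup (Fin 7)) ∨
      Nat.card G = 5040 := by
  classical
  have := Fintype.ofFinite X
  let e := MonoidHom.ofInjective (f := toPermHom G X) toPerm_injective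
  have : IsPretransitive (toPermHom G X).range X := ⟨fun x y => by
    obtain ⟨g, hg⟩ := exists_smul_eq G x y
    exact ⟨e g, hg⟩⟩
  by_cases hA : alternatingGroup X ≤ (toPermHom G X).range
  · rcases Sym.eq_alternatingGroup_or_eq_top_of_le hA with h | h
    · exact Or.inr (Or.inl ⟨(e.trans (MulEquiv.subgroupCongr h)).trans
        (Fintype.equivFinOfCardEq (by simpa using hX)).altCongrHom⟩)
    · exact Or.inr (Or.inr (by rw [Nat.card_congr e.toEquiv, h, Subgroup.card_top, Nat.card_perm, hX]; rfl))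
  · obtain ⟨h1, h2⟩ := S0678.result (by simpa using hX) (toPermHom G X).range
      (fun _ => hG (solvable_of_surjective (f := e.symm.toMonoidHom) e.symm.surjective)) hA
    exact Or.inl ⟨(Nat.card_congr e.toEquiv).trans h1, e.isSimpleGroup⟩

theorem seven (h : Hs G) [Nontrivial G] (hX : Nat.card X ≤ 7) (hG : Nat.card G ≠ 5040) :
    Concl G := by
  rcases hX.lt_or_eq with hX | hX
  · exact six (X := X) (by omega) h.not_solvable
  by_cases ht : IsPretransitive G X
  · rcases seven_trans hX h.not_solvable with ⟨h1, h2⟩ | h1 | h1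
    exacts [concl_168 h1, Or.inl ⟨7, by omega, by omega, h1⟩, absurd h1 hG]
  · obtain ⟨s, h1, h2⟩ := reduce h (by omega) ht
    exact six (X := s) (by omega) h.not_solvable

theorem zmod7 : ∀ u : ZMod 7, u = -u → u = 0 := by decide

theorem card_stab_solvable (K : Subgroup (Perm (Fin 8))) (hA : K ≤ alternatingGroup (Fin 8))
    (x : Fin 8) [IsPretransitive (stabilizer K x) (ofStabilizer K x)]
    [Group.IsSolvable (stabilizer K x)] :
    Nat.card (stabilizer K x) = 7 ∨ Nat.card (stabilizer K x) = 21 := by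
  have : Fact (Nat.Prime 7) := ⟨by norm_num⟩
  have hY : Nat.card (ofStabilizer K x) = 7 := by
    have := nat_card_ofStabilizer_add_one_eq K x
    simpa using this
  have : FaithfulSMul (stabilizer K x) (ofStabilizer K x) := ⟨fun e =>
    Sym.injective_toPermHom_ofStabilizer ((MonoidHom.ker_eq_bot_iff _).2 toPerm_injective) x
      (Perm.ext e)⟩
  obtain ⟨a⟩ : Nonempty (ofStabilizer K x) := (Nat.card_pos_iff.1 (by omega)).1
  obtain ⟨P⟩ : Nonempty (Sylow 7 (stabilizer K x)) := inferInstance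
  obtain ⟨τ, hτP, hτ, e, -, he⟩ := Perm.exists_coord_sylow hY P a
  have : Nontrivial (stabilizer K x) := ⟨τ, 1, fun h => by simp [h] at hτ⟩
  obtain ⟨q, hq, h1⟩ : ∃ q, q.Prime ∧ pCore q (stabilizer K x) ≠ ⊥ := by
    by_contra! h
    exact GT.fitting_ne_bot (GT.fitting_eq_bot_iff.2 h)
  have h2 := Perm.sylow_le_of_normal_prime_degree hY _ h1 P
  obtain rfl : q = 7 := by
    have := Fact.mk hq
    obtain ⟨k, hk⟩ := (GT.isPGroup_pCore (G := stabilizer K x) q).exists_card_eq
    have h3 := Subgroup.card_dvd_of_le h2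
    rw [Perm.card_sylow_of_prime_degree hY P, hk] at h3
    exact ((Nat.prime_dvd_prime_iff_eq Fact.out hq).1 (Nat.Prime.dvd_of_dvd_pow Fact.out h3)).symm
  have h3 : Subgroup.normalizer (Subgroup.zpowers τ : Set (stabilizer K x)) = ⊤ := by
    rw [hτP, le_antisymm h2 (GT.pCore_le_sylow P)]
    exact Subgroup.normalizer_eq_top _
  obtain ⟨k, hk, hN, -⟩ := Perm.exists_card_normalizer he
  have h4 : ¬ Even (Nat.card (Subgroup.normalizer (Subgroup.zpowers τ : Set (stabilizer K x)))) := by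
    intro hev
    obtain ⟨t, ht⟩ := Perm.exists_reflection (by norm_num) he hev
    have h5 : t ^ 2 = 1 := FaithfulSMul.eq_of_smul_eq_smul (α := ofStabilizer K x) fun y =>
      e.injective (by rw [pow_two, mul_smul, ht, ht, neg_neg, one_smul])
    have h6 := Perm.sign_of_pow_two_eq_one (σ := t.1.1) (congrArg (fun g => g.1.1) h5)
    have h7 : Function.fixedPoints t.1.1 = {x, (e.symm 0).1} := by
      ext y
      constructor
      · intro hy
        by_cases hx : y = x
        · exact Or.inl hx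
        · have h8 := ht ⟨y, hx⟩
          rw [show t • (⟨y, hx⟩ : ofStabilizer K x) = ⟨y, hx⟩ from Subtype.ext hy] at h8
          exact Or.inr (by rw [← zmod7 _ h8, e.symm_apply_apply]; rfl)
      · rintro (rfl | rfl)
        · exact t.2
        · exact congrArg Subtype.val (e.injective (by simpa using ht (e.symm 0)) :
            t • e.symm 0 = e.symm 0)
    rw [Perm.mem_alternatingGroup.1 (hA t.1.2), ← Nat.card_eq_fintype_card
      (α := Function.fixedPoints _), h7, Nat.card_coe_set_eq,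
      Set.ncard_pair (fun h => (e.symm 0).2 h.symm)] at h6
    exact absurd h6 (by decide)
  rw [hN] at h4
  rw [h3, Subgroup.card_top] at hN
  have h5 : k ∈ Nat.divisors 6 := Nat.mem_divisors.2 ⟨hk, by norm_num⟩
  have : ∀ k ∈ Nat.divisors 6, ¬ Even (7 * k) → 7 * k = 7 ∨ 7 * k = 21 := by decide
  exact hN ▸ this k h5 h4

theorem eight (K : Subgroup (Perm (Fin 8))) (hA : K ≤ alternatingGroup (Fin 8)) (h : Hs K)
    [Nontrivial K] [IsPretransitive K (Fin 8)] :
    Concl K ∨ (Nat.card K = 1344 ∧ IsSimpleGroup K) := by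
  have cyc : ∀ p : ℕ, p.Prime → 4 < p → p ∣ Nat.card K →
      ∃ g ∈ K, g.IsCycle ∧ g.support.card = p := fun p hp h4 hd => by
    have := Fact.mk hp
    obtain ⟨g, hg⟩ := exists_prime_orderOf_dvd_card' p hd
    rw [← Subgroup.orderOf_coe] at hg
    have hc := Perm.isCycle_of_prime_order' (hg ▸ hp) (by rw [hg]; simp; omega)
    exact ⟨g, g.2, hc, by rw [← hc.orderOf, hg]⟩
  by_cases h5 : 5 ∣ Nat.card K
  · obtain ⟨g, hg, hc, hs⟩ := cyc 5 (by norm_num) (by norm_num) h5
    have := Perm.alt_le_of_prime_cycle (Sym.isPreprimitive_of_isCycle hg hc (by norm_num [hs])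
      (by simp [hs])) (p := 5) (by norm_num) (by simp) hc hs hg
    exact Or.inl (Or.inl ⟨8, by omega, le_rfl, ⟨MulEquiv.subgroupCongr (le_antisymm hA this)⟩⟩)
  have hd := Subgroup.card_dvd_of_le hA
  rw [nat_card_alternatingGroup] at hd
  by_cases h7 : 7 ∣ Nat.card K
  swap
  · refine absurd (Ch.burnside_isSolvable_of_card_dvd (a := 6) (b := 2) Nat.prime_two
      Nat.prime_three (Nat.Coprime.dvd_of_dvd_mul_left (m := 35) ?_ (by simpa [Nat.factorial] using hd)))
      h.not_solvable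
    exact Nat.Coprime.mul_right (m := 5) (n := 7)
      ((Nat.Prime.coprime_iff_not_dvd (by norm_num)).2 h5).symm
      ((Nat.Prime.coprime_iff_not_dvd (by norm_num)).2 h7).symm
  obtain ⟨g, hg, hc, hs⟩ := cyc 7 (by norm_num) (by norm_num) h7
  have hp := Sym.isPreprimitive_of_isCycle hg hc (by norm_num [hs]) (by simp [hs])
  have h2 := Sym.isMultiplyPretransitive_of_isCycle hp hg hc (by norm_num [hs]) (c := 0)
    (by simp [hs])
  have ht : IsPretransitive (stabilizer K (0 : Fin 8)) (ofStabilizer K (0 : Fin 8)) :=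
    is_one_pretransitive_iff.1 (ofStabilizer.isMultiplyPretransitive.1 h2)
  have hN : ∀ N : Subgroup K, N.Normal → N ≠ ⊥ → 60 ≤ Nat.card N ∧
      8 * Nat.card (N.subgroupOf (stabilizer K (0 : Fin 8))) = Nat.card N := fun N hN h1 => by
    refine ⟨not_lt.1 fun e => h1 (h N hN (Perm.CompLen.isSolvable_of_card_lt_sixty e)), ?_⟩
    have : IsPretransitive N (Fin 8) := IsQuasiPreprimitive.isPretransitive_of_normal fun e =>
      h1 (eq_bot_iff.2 fun y hy => Subtype.ext (Perm.ext fun a =>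
        (e ▸ Set.mem_univ a : a ∈ fixedPoints N (Fin 8)) ⟨y, hy⟩))
    have h3 := Perm.card_mul_card_stabilizer (G := N) (0 : Fin 8)
    rw [← h3, Nat.card_eq_fintype_card (α := Fin 8), Fintype.card_fin]
    congr 1
    exact Nat.card_congr ⟨fun y => ⟨⟨y.1.1, y.2⟩, y.1.2⟩, fun y => ⟨⟨y.1.1, y.2⟩, y.1.2⟩,
      fun _ => rfl, fun _ => rfl⟩
  have h8 := Perm.card_mul_card_stabilizer (G := K) (0 : Fin 8)
  rw [Nat.card_eq_fintype_card (α := Fin 8), Fintype.card_fin] at h8
  by_cases hs : Group.IsSolvable (stabilizer K (0 : Fin 8))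
  · have h60 := (hN ⊤ inferInstance top_ne_bot).1
    rw [Subgroup.card_top] at h60
    have h21 := (card_stab_solvable K hA 0).resolve_left (by omega)
    have : IsSimpleGroup K := ⟨fun N hN' => or_iff_not_imp_left.2 fun h1 => by
      obtain ⟨h3, h4⟩ := hN N hN' h1
      have h9 := Subgroup.card_subgroup_dvd_card (N.subgroupOf (stabilizer K (0 : Fin 8)))
      rw [h21] at h9
      have : ∀ k ∈ Nat.divisors 21, 60 ≤ 8 * k → k = 21 := by decide
      have := this _ (Nat.mem_divisors.2 ⟨h9, by norm_num⟩) (by omega)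
      exact Subgroup.eq_top_of_card_eq _ (by omega)⟩
    exact Or.inl (concl_168 (by omega))
  have : FaithfulSMul (stabilizer K (0 : Fin 8)) (ofStabilizer K (0 : Fin 8)) := ⟨fun e =>
    Sym.injective_toPermHom_ofStabilizer ((MonoidHom.ker_eq_bot_iff _).2 toPerm_injective) _
      (Perm.ext e)⟩
  rcases seven_trans (X := ofStabilizer K (0 : Fin 8))
    (by simpa using nat_card_ofStabilizer_add_one_eq K (0 : Fin 8)) hs with ⟨h3, h4⟩ | ⟨⟨e⟩⟩ | h3
  · refine Or.inr ⟨by omega, ⟨fun N hN' => or_iff_not_imp_left.2 fun h1 => ?_⟩⟩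
    obtain ⟨h9, h10⟩ := hN N hN' h1
    rcases (hN'.subgroupOf (stabilizer K (0 : Fin 8))).eq_bot_or_eq_top with h11 | h11
    · rw [h11, Subgroup.card_bot] at h10; omega
    · rw [h11, Subgroup.card_top] at h10
      exact Subgroup.eq_top_of_card_eq _ (by omega)
  · rw [Nat.card_congr e.toEquiv, nat_card_alternatingGroup] at h8
    simp [Nat.factorial] at h8
    omega
  · omega

theorem not_1344 (H : Subgroup (GL (Fin 4) (ZMod 2))) (hH : Nat.card H = 1344)
    [IsSimpleGroup H] : False := by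
  have key : ∀ K : Subgroup H, K.index ≤ 7 → K = ⊤ := fun K hK => by
    by_contra hne
    have h1 := Sym.card_dvd_factorial_index K ((K.normalCore_normal.eq_bot_or_eq_top).resolve_right
      fun e => hne (top_le_iff.1 (e ▸ K.normalCore_le)))
    have := h1.trans (Nat.factorial_dvd_factorial hK)
    rw [hH] at this
    exact absurd this (by decide)
  obtain ⟨P⟩ : Nonempty (Sylow 2 H) := inferInstance
  let S : SubMulAction H (Fin 4 → ZMod 2) :=
    ⟨{v | v ≠ 0}, fun g v hv e => hv ((smul_eq_zero_iff_eq g).1 e)⟩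
  have hS : Nat.card S = 15 := by
    rw [show Nat.card S = Nat.card {v : Fin 4 → ZMod 2 // v ≠ 0} from rfl, Nat.card_eq_fintype_card]
    decide +kernel
  obtain ⟨v, hv⟩ := P.isPGroup'.nonempty_fixed_point_of_prime_not_dvd_card S (by rw [hS]; decide)
  have h1 : stabilizer H v = ⊤ := by
    have h2 : (P : Subgroup H) ≤ stabilizer H v := fun g hg => hv ⟨g, hg⟩
    have h3 : ¬ 2 ∣ (stabilizer H v).index := fun e =>
      P.not_dvd_index (e.trans (Subgroup.index_dvd_of_le h2))
    have h4 : (stabilizer H v).index ≤ 15 := by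
      rw [index_stabilizer, ← hS]; exact Set.ncard_le_card _
    have h5 := (stabilizer H v).index_dvd_card
    rw [hH] at h5
    have : ∀ k ∈ Nat.divisors 1344, k ≤ 15 → ¬ 2 ∣ k → k ≤ 7 := by decide +kernel
    exact key _ (this _ (Nat.mem_divisors.2 ⟨h5, by norm_num⟩) h4 h3)
  have h2 : ∀ g : H, (g.1 : Matrix (Fin 4) (Fin 4) (ZMod 2)) *ᵥ v.1 = v.1 := fun g =>
    congrArg Subtype.val (show g • v = v from (h1 ▸ Subgroup.mem_top g : g ∈ stabilizer H v))
  have h3 : ∀ φ : Fin 4 → ZMod 2, φ ⬝ᵥ v.1 = 0 → ∀ g : H,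
      φ ᵥ* (g.1 : Matrix (Fin 4) (Fin 4) (ZMod 2)) = φ := by
    intro φ hφ g
    rcases eq_or_ne φ 0 with rfl | h0
    · simp
    let ρ := (Cl.glInvTranspose (Fin 4) (ZMod 2)).toMonoidHom.comp H.subtype
    have hs : ∀ (g : H) (ψ : Fin 4 → ZMod 2),
        ρ g • ψ = ψ ᵥ* ((g⁻¹).1 : Matrix (Fin 4) (Fin 4) (ZMod 2)) := fun g ψ => by
      rw [← mulVec_transpose]; rfl
    have h4 : (stabilizer _ φ).comap ρ = ⊤ := key _ (by
      rw [Subgroup.index_comap]
      have h6 : (stabilizer (GL (Fin 4) (ZMod 2)) φ).relIndex ρ.range =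
        (stabilizer ρ.range φ).index := rfl
      rw [h6, index_stabilizer]
      have h5 : ∀ v : Fin 4 → ZMod 2, v ≠ 0 →
          (Finset.univ.filter fun ψ : Fin 4 → ZMod 2 => ψ ≠ 0 ∧ ψ ⬝ᵥ v = 0).card = 7 := by
        decide +kernel
      rw [← h5 v.1 v.2, ← Set.ncard_coe_finset]
      refine Set.ncard_le_ncard ?_
      rintro _ ⟨⟨_, g, rfl⟩, rfl⟩
      simp only [Finset.coe_filter, Finset.mem_univ, true_and, Set.mem_setOf_eq]
      exact ⟨fun e => h0 ((smul_eq_zero_iff_eq (ρ g)).1 e),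
        show ρ g • φ ⬝ᵥ v.1 = 0 by rw [hs, ← dotProduct_mulVec, h2, hφ]⟩)
    have := (h4 ▸ Subgroup.mem_top g⁻¹ : g⁻¹ ∈ (stabilizer _ φ).comap ρ)
    rwa [Subgroup.mem_comap, mem_stabilizer_iff, hs, inv_inv] at this
  have : Fact (Nat.Prime 7) := ⟨by norm_num⟩
  obtain ⟨g, hg⟩ := exists_prime_orderOf_dvd_card' (G := H) 7 (by rw [hH]; decide)
  have h4 : g ^ 2 = 1 := Subtype.ext (Units.ext (Matrix.ext_iff_vecMul.2 fun ψ => by
    have h5 := h3 (ψ ᵥ* (g.1 : Matrix (Fin 4) (Fin 4) (ZMod 2)) - ψ)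
      (by rw [sub_dotProduct, ← dotProduct_mulVec, h2, sub_self]) g
    rw [sub_vecMul, sub_eq_sub_iff_add_eq_add, vecMul_vecMul, ← two_smul (ZMod 2),
      show (2 : ZMod 2) = 0 from rfl, zero_smul, add_eq_zero_iff_eq_neg] at h5
    simp only [pow_two, Subgroup.coe_mul, Units.val_mul, h5, Subgroup.coe_one, Units.val_one,
      vecMul_one]
    ext i
    exact ZMod.neg_eq_self_mod_two _))
  have := orderOf_dvd_of_pow_eq_one h4
  rw [hg] at this
  exact absurd this (by decide)

end Aux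

/-- Let H be a nontrivial subgroup of GL(4,2) (a group isomorphic to the alternating group of degree 8) whose largest normal 2-subgroup and largest normal subgroup of odd order are both trivial. Then H is isomorphic to an alternating group of degree n for some 5 ≤ n ≤ 8, to the symmetric group of degree 5 or 6, or to GL(3,2). -/
theorem result (H : Subgroup (GL (Fin 4) (ZMod 2))) (hH : H ≠ ⊥) (hO : Cfsg.pPrimeCore 2 ↥H = ⊥) (hO2 : Cfsg.pCore 2 ↥H = ⊥) :
    (∃ n : ℕ, 5 ≤ n ∧ n ≤ 8 ∧ Nonempty (↥H ≃* alternatingGroup (Fin n))) ∨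
    Nonempty (↥H ≃* Equiv.Perm (Fin 5)) ∨ Nonempty (↥H ≃* Equiv.Perm (Fin 6)) ∨ Nonempty (↥H ≃* GL (Fin 3) (ZMod 2)) := by
  have hs : Hs H := fun N hN hs => by
    by_contra h
    have h1 := GT.inf_fitting_ne_bot h
    rw [GT.fitting_eq_pCore Nat.prime_two hO, hO2, inf_bot_eq] at h1
    exact h1 rfl
  obtain ⟨ψ⟩ := Cl.gl4_two_equiv_alt (F := ZMod 2) (by simp)
  have hi : Function.Injective ((alternatingGroup (Fin 8)).subtype.comp ψ.toMonoidHom) :=
    Subtype.val_injective.comp ψ.injective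
  let e := H.equivMapOfInjective _ hi
  have : Nontrivial H := (Subgroup.nontrivial_iff_ne_bot H).2 hH
  have := e.symm.toEquiv.nontrivial
  have hA : H.map ((alternatingGroup (Fin 8)).subtype.comp ψ.toMonoidHom) ≤ alternatingGroup (Fin 8) := by
    rintro _ ⟨g, -, rfl⟩
    exact (ψ g).2
  by_cases ht : MulAction.IsPretransitive
    (H.map ((alternatingGroup (Fin 8)).subtype.comp ψ.toMonoidHom)) (Fin 8)
  · rcases eight _ hA (hs.of_equiv e.symm) with h | ⟨h1, h2⟩
    · exact h.of_equiv e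
    · have := e.isSimpleGroup
      exact (not_1344 H ((Nat.card_congr e.toEquiv).trans h1)).elim
  · obtain ⟨s, h1, h2⟩ := reduce (hs.of_equiv e.symm) (by simp) ht
    refine (seven (X := s) (hs.of_equiv e.symm) (by simp at h1; omega) fun h => ?_).of_equiv e
    have h3 := Sym.index_mul_card_of_le_alternatingGroup hA
    rw [h] at h3
    simp only [Fintype.card_fin, Nat.factorial] at h3
    have h4 := Sym.card_le_index_alternating (α := Fin 8) (by simp)
      (H := Subgroup.subgroupOf _ _) (fun e => by rw [e, Subgroup.index_top] at h3; omega)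
    simp only [Fintype.card_fin] at h4
    omega

end Cfsg.Agent.S2553
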