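import Mathlib
import Cfsg.Statements.S3104
import Cfsg.Agent.Inv.SR4B
import Cfsg.Agent.S3103
import Cfsg.Agent.S2553
import Cfsg.Agent.S0205

set_option autoImplicit false
open Cfsg

namespace Cfsg.Agent.S3104

open Subgroup Cfsg.Agent.GT Cfsg.Agent.Inv Cfsg.Agent.Inv.SR4 Equiv

theorem odd_core {Q : Type*} [Group Q] [Finite Q] (hns : ¬ Group.IsSolvable Q)
    (σ : Q →* Perm (Fin 8)) (hσ : Function.Injective σ) (hs : ∀ g, Perm.sign (σ g) = 1) {p : ℕ}
    (hp : p.Prime) (h2 : p ≠ 2) (hN : pCore p Q ≠ ⊥) : Nat.card (pCore 3 Q) = 3 ∧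
      (Nonempty (Q ⧸ pCore 3 Q ≃* alternatingGroup (Fin 5)) ∨
        Nonempty (Q ⧸ pCore 3 Q ≃* Perm (Fin 5))) := by
  have := Fact.mk hp
  obtain ⟨k, hk⟩ := IsPGroup.iff_card.1 (isPGroup_pCore (G := Q) p)
  have k0 : k ≠ 0 := fun e => hN (by rwa [e, pow_zero, card_eq_one] at hk)
  have hd : p ^ k ∣ 40320 := by
    have := (card_subgroup_dvd_card (pCore p Q)).trans (card_dvd_of_injective σ hσ)
    rwa [hk, Nat.card_perm, Nat.card_fin] at this
  have hp8 : p ≤ 8 := (hp.dvd_factorial (n := 8)).1 ((dvd_pow_self p k0).trans hd)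
  have hk2 : k = 1 ∨ k = 2 ∧ p = 3 := by
    by_contra hn
    have h3 : p ^ 2 ∣ 40320 := (pow_dvd_pow p (by omega)).trans hd
    have h4 : p = 3 → p ^ 3 ∣ 40320 := fun e => (pow_dvd_pow p (by omega)).trans hd
    interval_cases p <;> simp_all (config := {decide := true})
  have hc : IsMulCommutative (pCore p Q) ∧ Group.IsSolvable (MulAut (pCore p Q)) := by
    by_cases hc : IsCyclic (pCore p Q)
    · exact ⟨inferInstance, Group.isSolvable_of_comm fun a b =>
        (IsCyclic.mulAutMulEquiv _).injective (by rw [map_mul, map_mul, mul_comm])⟩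
    rcases hk2 with rfl | ⟨rfl, rfl⟩
    · exact absurd (isCyclic_of_prime_card (by rw [hk, pow_one])) hc
    have h3 := IsElementaryAbelian.of_card_sq hk hc
    obtain ⟨e⟩ := PG.nonempty_mulAut_equiv_GL h3.1 (fun x => Subtype.ext (h3.2 x x.2)) hk
    exact ⟨h3.1, Perm.CompLen.isSolvable_of_card_lt_sixty (by
      rw [Nat.card_congr e.toEquiv, Matrix.card_GL_field]; simp [Fin.prod_univ_two])⟩
  obtain ⟨hc, ha⟩ := hc
  have h60 : 60 * p ^ k ≤ Nat.card (centralizer (pCore p Q : Set Q)) := by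
    have h3 := PG.relIndex_mul_card (le_centralizer (pCore p Q))
    rw [← h3, hk]
    refine Nat.mul_le_mul_right _ (not_lt.1 fun e => hns ?_)
    have := (isPGroup_pCore (G := Q) p).isNilpotent
    have : Group.IsSolvable (centralizer (pCore p Q : Set Q) ⧸ (pCore p Q).subgroupOf _) :=
      Perm.CompLen.isSolvable_of_card_lt_sixty e
    have : Group.IsSolvable (centralizer (pCore p Q : Set Q)) := Group.isSolvable_of_ker_le_range
      (inclusion (le_centralizer (pCore p Q))) (QuotientGroup.mk' ((pCore p Q).subgroupOf _))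
      fun g hg => ⟨⟨g, (QuotientGroup.eq_one_iff g).1 hg⟩, rfl⟩
    exact Group.isSolvable_of_ker_le_range (centralizer (pCore p Q : Set Q)).subtype
      (MulAut.conjNormal (H := pCore p Q)) fun g hg => ⟨⟨g, fun y hy => (Sec.comm_of_conj
        (congrArg Subtype.val (DFunLike.congr_fun hg ⟨y, hy⟩))).symm⟩, rfl⟩
  obtain ⟨⟨x, hx⟩, ox⟩ := exists_prime_orderOf_dvd_card' (G := pCore p Q) p (hk ▸ dvd_pow_self p k0)
  rw [orderOf_mk] at ox
  have ox' : orderOf (σ x) = p := by rw [orderOf_injective σ hσ, ox]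
  obtain ⟨n, hn⟩ := Perm.cycleType_prime_order (σ := σ x) (ox' ▸ hp)
  have h3 : Nat.card (centralizer (pCore p Q : Set Q)) ≤ Nat.card (centralizer {σ x}) :=
    Nat.card_le_card_of_injective (fun g => ⟨σ g, Sec.mem_cen.2 (by
      rw [← map_mul, ← map_mul, g.2 x hx])⟩) fun a b e => Subtype.ext (hσ (congrArg Subtype.val e))
  have h4 := Perm.sum_cycleType_le (σ x)
  have h5 := h60.trans h3
  rw [Perm.nat_card_centralizer] at h5
  rw [hn, ox'] at h4 h5
  simp only [Multiset.sum_replicate, smul_eq_mul, Fintype.card_fin, Multiset.prod_replicate,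
    Multiset.toFinset_replicate, Nat.succ_ne_zero, if_false, Finset.prod_singleton,
    Multiset.count_replicate_self] at h4 h5
  obtain ⟨rfl, rfl, rfl⟩ : p = 3 ∧ n = 0 ∧ k = 1 := by
    have := hp.two_le
    have : n ≤ 3 := by nlinarith
    rcases hk2 with rfl | ⟨rfl, rfl⟩
    · interval_cases p <;> interval_cases n <;> simp_all (config := {decide := true})
    · interval_cases n <;> simp_all (config := {decide := true})
  refine ⟨hk, ?_⟩
  have ez : zpowers x = pCore 3 Q :=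
    PG.eq_of_le_of_card_le (zpowers_le.2 hx) (by rw [hk, Nat.card_zpowers, ox, pow_one])
  let _ : MulAction Q (Fin 8) := MulAction.compHom _ σ
  have fx : ∀ y ∈ pCore 3 Q, ∀ i, σ x i = i → σ y i = i := fun y hy i hi => by
    obtain ⟨m, rfl⟩ := mem_zpowers_iff.1 (ez.ge hy)
    rw [map_zpow]; exact Perm.zpow_apply_eq_self_of_apply_eq_self hi m
  let s : SubMulAction Q (Fin 8) := ⟨{i | σ x i = i}, fun g i hi => by
    have := fx _ (Normal.conj_mem' inferInstance x hx g) i hi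
    simp only [map_mul, map_inv, Perm.mul_apply] at this
    exact Perm.inv_eq_iff_eq.1 this⟩
  have c3 : (σ x).support.card = 3 := by rw [← Perm.sum_cycleType, hn, ox']; rfl
  have := Fintype.ofFinite s
  have c5 : Fintype.card s = 5 := by
    have := Finset.card_compl (σ x).support
    rw [c3, Fintype.card_fin] at this
    exact (Fintype.card_of_subtype (σ x).supportᶜ fun i => by simp; rfl).trans this
  let ψ := (Fintype.equivFinOfCardEq c5).permCongrHom.toMonoidHom.comp (MulAction.toPermHom Q s)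
  have mk : ∀ g, g ∈ ψ.ker ↔ ∀ i, σ x i = i → σ g i = i := fun g => by
    rw [MonoidHom.mem_ker, MonoidHom.comp_apply, MulEquiv.coe_toMonoidHom, map_eq_one_iff _
      (MulEquiv.injective _), Perm.ext_iff]
    exact ⟨fun h i hi => congrArg Subtype.val (h ⟨i, hi⟩), fun h i => Subtype.ext (h i i.2)⟩
  have ek : pCore 3 Q = ψ.ker := le_antisymm (fun y hy => (mk y).2 (fx y hy))
    (le_pCore fun g => ⟨1, Subtype.ext (hσ (by
      have h6 : (σ g).support.card ≤ 3 := c3 ▸ Finset.card_le_card fun i hi => by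
        rw [Perm.mem_support] at hi ⊢
        exact fun e => hi ((mk g).1 g.2 i e)
      rw [pow_one, coe_pow, map_pow, coe_one, map_one]
      rcases h6.lt_or_eq with h7 | h7
      · rcases (Nat.lt_succ_iff.1 h7).lt_or_eq with h8 | h8
        · rw [Perm.card_support_le_one.1 (Nat.lt_succ_iff.1 h8), one_pow]
        · have := (Perm.card_support_eq_two.1 h8).sign_eq
          rw [hs] at this
          exact absurd this (by decide)
      · rw [← (card_support_eq_three_iff.1 h7).orderOf, pow_orderOf_eq_one]))⟩)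
  have e := (QuotientGroup.quotientMulEquivOfEq ek).trans (QuotientGroup.quotientKerEquivRange ψ)
  have h6 : 60 ≤ Nat.card ψ.range := not_lt.1 fun e => hns (by
    have := Perm.CompLen.isSolvable_of_card_lt_sixty e
    have := (isPGroup_pCore (G := Q) 3).isNilpotent
    exact Group.isSolvable_of_ker_le_range (pCore 3 Q).subtype ψ.rangeRestrict (by simp [ek]))
  have h7 := ψ.range.card_mul_index
  rw [Nat.card_perm, Nat.card_fin] at h7
  rcases Sym.eq_alternatingGroup_or_eq_top_of_le (Perm.alternatingGroup_le_of_index_le_two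
    (G := ψ.range) (by simp only [Nat.factorial] at h7; nlinarith)) with h | h
  · exact Or.inl ⟨e.trans (MulEquiv.subgroupCongr h)⟩
  · exact Or.inr ⟨(e.trans (MulEquiv.subgroupCongr h)).trans topEquiv⟩

/-- The elementary abelian group of order eight. -/
abbrev K := Multiplicative (ZMod 2) × Multiplicative (ZMod 2) × Multiplicative (ZMod 2)

/-- Products of three commuting involutions. -/
def pf (a b c : Perm (Fin 6)) (k : K) : Perm (Fin 6) :=
  (if k.1 = 1 then 1 else a) * (if k.2.1 = 1 then 1 else b) * (if k.2.2 = 1 then 1 else c)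

/-- Three transpositions. -/
def p1 : K →* Perm (Fin 6) := MonoidHom.mk' (pf (swap 0 1) (swap 2 3) (swap 4 5)) (by decide +kernel)

/-- Three triple transpositions. -/
def p2 : K →* Perm (Fin 6) := MonoidHom.mk' (pf (swap 0 1 * swap 2 3 * swap 4 5)
  (swap 0 2 * swap 1 3 * swap 4 5) (swap 0 3 * swap 1 2 * swap 4 5)) (by decide +kernel)

/-- Inverting an element of order five. -/
def I5 (σ : Perm (Fin 6)) : Prop := ∃ γ ∈ [c[4, 0, 2, 3, 1], c[2, 0, 4, 5, 1], c[0, 2, 4, 5, 3],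
  c[4, 0, 1, 2, 3], c[4, 0, 1, 3, 2]], γ ^ 5 = 1 ∧ γ ≠ 1 ∧ σ * γ * σ⁻¹ * γ = 1

/-- Centralising an element of order three. -/
def C3 (σ : Perm (Fin 6)) : Prop := ∃ ρ ∈ [c[2, 3, 4], c[0, 1, 4], c[0, 1, 2],
  c[0, 2, 4] * c[1, 3, 5], c[0, 1, 4] * c[2, 3, 5], c[0, 1, 4] * c[3, 2, 5]],
  ρ ^ 3 = 1 ∧ ρ ≠ 1 ∧ σ⁻¹ * (ρ * σ * ρ⁻¹) = 1

theorem d1 : ∀ k, k = 1 ∨ p1 k ≠ 1 ∧ (I5 (p1 k) ∨ C3 (p1 k)) := by
  unfold I5 C3; decide +kernel

theorem d2 : ∀ k, k = 1 ∨ p2 k ≠ 1 ∧ (I5 (p2 k) ∨ C3 (p2 k)) := by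
  unfold I5 C3; decide +kernel

theorem d3 : ∀ k, k = 1 ∨ I5 (p1 k) ∨ p1 k = swap 0 1 * swap 2 3 * swap 4 5 ∨
    ∃ g ∈ [1, c[0, 2, 4] * c[1, 3, 5], (c[0, 2, 4] * c[1, 3, 5])⁻¹], g * p1 k * g⁻¹ = swap 0 1 := by
  unfold I5; decide +kernel

theorem no_six {Y : Type*} [Group Y] [Finite Y] {V : Subgroup Y} [nm : V.Normal]
    (el : IsElementaryAbelian 2 V) (self : centralizer (V : Set Y) ≤ V)
    (sec : SectionalPRankLE 2 4 Y) (ι : Perm (Fin 6) →* Y ⧸ V) (hι : Function.Injective ι) :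
    False := by
  have nrm : ∀ g, g ∈ normalizer (V : Set Y) := fun g =>
    Sec.le_normalizer_of_normal' ⊤ V (mem_top g)
  have ne : ∀ {σ} {y : Y}, (y : Y ⧸ V) = ι σ → σ ≠ 1 → y ∉ V := fun e h hy =>
    h (hι (by rw [← e, map_one, (QuotientGroup.eq_one_iff _).2 hy]))
  have l5 : ∀ γ : Perm (Fin 6), γ ^ 5 = 1 → γ ≠ 1 → ∃ y : Y, y ^ 5 = 1 ∧ (y : Y ⧸ V) = ι γ ∧
      Nat.card V = 16 ∧ V ⊓ centralizer {y} = ⊥ := fun γ h5 h1 => by
    obtain ⟨y, hy, e⟩ := lift_pow el.isPGroup (p := 5) (by norm_num) (by norm_num) (q := ι γ)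
      (by rw [← map_pow, h5, map_one])
    exact ⟨y, hy, e, five el.isPGroup (card_le16 sec el.2) (nrm y) hy fun h =>
      ne e h1 (self fun v hv => Sec.mem_cen.1 (h hv))⟩
  obtain ⟨-, -, -, h16, -⟩ := l5 c[0, 1, 2, 3, 4] (by decide +kernel) (by decide +kernel)
  have md : Md V := ⟨nm, el, self, h16⟩
  have f4 : ∀ {σ} {y : Y}, (y : Y ⧸ V) = ι σ → y ∉ V → y * y ∈ V → I5 σ → ff V y = 4 :=
    fun {σ y} e h1 h2 ⟨γ, _, h5, h3, h4⟩ => by
    obtain ⟨z, hz, e', -, hf⟩ := l5 γ h5 h3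
    have := inv_le (x := y) (nrm z) hz hf (el.le_centralizer ((QuotientGroup.eq_one_iff _).1 (by
      simp only [QuotientGroup.mk_mul, QuotientGroup.mk_inv, e, e', ← map_mul, ← map_inv, h4, map_one])))
    refine (md.ff_cases h1 h2).resolve_right fun e => ?_
    rw [show Nat.card _ = 8 from e, h16] at this
    omega
  have cj : ∀ {σ} {y z : Y} (g : Perm (Fin 6)), (y : Y ⧸ V) = ι σ → (z : Y ⧸ V) = ι (g * σ * g⁻¹) →
      ff V z = ff V y := fun {σ y z} g e e' => by
    obtain ⟨w, hw⟩ := QuotientGroup.mk_surjective (ι g)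
    rw [ff, ff, ← card_cen_conj (nrm w) y, cen_congr (x := z) (y := w * y * w⁻¹) (el.le_centralizer (QuotientGroup.eq.1 (by
      simp only [QuotientGroup.mk_mul, QuotientGroup.mk_inv, e, e', hw, map_mul, map_inv])))]
  have pr : ∀ p : K →* Perm (Fin 6), (∀ k, k = 1 ∨ p k ≠ 1 ∧ (I5 (p k) ∨ C3 (p k))) →
      ∃ R, V ≤ R ∧ V.relIndex R = 8 ∧ (∀ x ∈ R, x * x ∈ V) ∧
      ∀ x, x ∈ R ↔ ∃ k, (x : Y ⧸ V) = ι (p k) := fun p hp => by
    refine ⟨(ι.comp p).range.comap (QuotientGroup.mk' V), fun v hv => ⟨1, by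
      simp [(QuotientGroup.eq_one_iff v).2 hv]⟩, ?_, ?_, fun x => exists_congr fun k => eq_comm⟩
    · nth_rewrite 1 [← QuotientGroup.ker_mk' V]
      rw [relIndex_ker, map_comap_eq_self_of_surjective (QuotientGroup.mk'_surjective V),
        ← Nat.card_congr (MonoidHom.ofInjective (f := ι.comp p) (hι.comp ((injective_iff_map_eq_one p).2
          fun k e => (hp k).resolve_right fun h => h.1 e))).toEquiv]
      simp
    · rintro x ⟨k, e⟩
      rw [← QuotientGroup.eq_one_iff, QuotientGroup.mk_mul, show (x : Y ⧸ V) = _ from e.symm,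
        ← map_mul, (by decide : ∀ k : K, k * k = 1) k, map_one]
  have main : ∀ p : K →* Perm (Fin 6), (∀ k, k = 1 ∨ p k ≠ 1 ∧ (I5 (p k) ∨ C3 (p k))) →
      ∀ (a b : K) (g : Perm (Fin 6)) (y : Y), (y : Y ⧸ V) = ι (p a) → ff V y = 8 →
      p b = g * p a * g⁻¹ → I5 (p (a * b)) → a * b ≠ 1 → False := fun p hp a b g y e f8 hb hi h1 => by
    obtain ⟨R, r1, r2, r3, r4⟩ := pr p hp
    obtain ⟨z, hz⟩ := QuotientGroup.mk_surjective (ι (p b))
    have e1 : ((y * z : Y) : Y ⧸ V) = ι (p (a * b)) := by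
      rw [QuotientGroup.mk_mul, e, hz, map_mul, map_mul]
    refine md.rank5 sec r1 r2 r3 ((r4 y).2 ⟨a, e⟩) ((r4 z).2 ⟨b, hz⟩) f8
      ((cj g e (hb ▸ hz)).trans f8) (f4 e1 (ne e1 ((hp _).resolve_left h1).1)
        (r3 _ ((r4 _).2 ⟨_, e1⟩)) hi) fun x hx hx' => ?_
    obtain ⟨k, e⟩ := (r4 x).1 hx
    rcases hp k with rfl | ⟨-, h | ⟨ρ, -, h3, h4, h5⟩⟩
    · exact absurd ((QuotientGroup.eq_one_iff x).1 (by simp [e])) hx'
    · exact Or.inl (f4 e hx' (r3 x hx) h)
    · obtain ⟨r, hr, e'⟩ := lift_pow el.isPGroup (p := 3) (by norm_num) (by norm_num) (q := ι ρ)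
        (by rw [← map_pow, h3, map_one])
      exact Or.inr ⟨r, hr, ne e' h4, (QuotientGroup.eq_one_iff _).1 (by
        simpa only [QuotientGroup.mk_mul, QuotientGroup.mk_inv, e, e', map_mul, map_inv, map_one]
          using congrArg ι h5)⟩
  obtain ⟨R, r1, r2, r3, r4⟩ := pr p1 d1
  obtain ⟨x, hx, hx', h4⟩ := md.exists_ne_four r1 r2
  have h8 := (md.ff_cases hx' (r3 x hx)).resolve_left h4
  obtain ⟨k, e⟩ := (r4 x).1 hx
  rcases d3 k with rfl | h | h | ⟨g, -, h⟩
  · exact hx' ((QuotientGroup.eq_one_iff x).1 (by simp [e]))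
  · exact h4 (f4 e hx' (r3 x hx) h)
  · exact main p2 d2 (.ofAdd 1, 1, 1) (1, .ofAdd 1, 1) (swap 1 2) x (by
      rw [e, h]; rfl) h8 (by decide +kernel) (by unfold I5; decide +kernel)
      (by decide)
  · obtain ⟨z, hz⟩ := QuotientGroup.mk_surjective (ι (g * p1 k * g⁻¹))
    exact main p1 d1 (.ofAdd 1, 1, 1) (1, .ofAdd 1, 1) (c[0, 2, 4] * c[1, 3, 5]) z (by
      rw [hz, h]; rfl) ((cj g e hz).trans h8) (by decide +kernel)
      (by unfold I5; decide +kernel) (by decide)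

/-- Let X be a finite nonsolvable 2-constrained group with no nontrivial normal subgroup of odd order such that O₂(X) has sectional 2-rank at most 4, and write Q for X/O₂(X). Then Q is isomorphic to the projective special linear group of dimension 3 over the field with 2 elements, to an alternating group of degree n with 5 ≤ n ≤ 8, to a symmetric group of degree n with 5 ≤ n ≤ 7, or else O₃(Q) has order 3 and Q/O₃(Q) is isomorphic to the alternating or the symmetric group of degree 5 (so Q is the direct product of a group of order 3 with the alternating group of degree 5, or an extension of that direct product by a group of order 2). If moreover X itself has sectional 2-rank at most 4, then Q is not isomorphic to the symmetric group of degree 6 or 7 nor to the alternating group of degree 8. -/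
theorem result {X : Type*} [Group X] [Finite X] (hns : ¬ Group.IsSolvable X) (hc : Cfsg.IsPConstrained 2 X) (hO : Cfsg.oddCore X = ⊥)
    (h4 : Cfsg.SectionalPRankLE 2 4 ↥(Cfsg.pCore 2 X)) :
    ((∃ (F : Type) (_ : Field F) (_ : Fintype F), Fintype.card F = 2 ∧
          Nonempty (X ⧸ Cfsg.pCore 2 X ≃* Matrix.ProjectiveSpecialLinearGroup (Fin 3) F)) ∨
        (∃ n : ℕ, 5 ≤ n ∧ n ≤ 8 ∧ Nonempty (X ⧸ Cfsg.pCore 2 X ≃* ↥(alternatingGroup (Fin n)))) ∨
        (∃ n : ℕ, 5 ≤ n ∧ n ≤ 7 ∧ Nonempty (X ⧸ Cfsg.pCore 2 X ≃* Equiv.Perm (Fin n))) ∨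
        (Nat.card ↥(Cfsg.pCore 3 (X ⧸ Cfsg.pCore 2 X)) = 3 ∧
          (Nonempty ((X ⧸ Cfsg.pCore 2 X) ⧸ Cfsg.pCore 3 (X ⧸ Cfsg.pCore 2 X) ≃* ↥(alternatingGroup (Fin 5))) ∨
            Nonempty ((X ⧸ Cfsg.pCore 2 X) ⧸ Cfsg.pCore 3 (X ⧸ Cfsg.pCore 2 X) ≃* Equiv.Perm (Fin 5))))) ∧
      (Cfsg.SectionalPRankLE 2 4 X →
        ¬ (Nonempty (X ⧸ Cfsg.pCore 2 X ≃* Equiv.Perm (Fin 6)) ∨ Nonempty (X ⧸ Cfsg.pCore 2 X ≃* Equiv.Perm (Fin 7)) ∨
            Nonempty (X ⧸ Cfsg.pCore 2 X ≃* ↥(alternatingGroup (Fin 8))))) := by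
  have hq : ¬ Group.IsSolvable (X ⧸ pCore 2 X) := fun _ => hns (by
    have := (isPGroup_pCore (G := X) 2).isNilpotent
    exact Group.isSolvable_of_ker_le_range (pCore 2 X).subtype (QuotientGroup.mk' (pCore 2 X)) (by simp))
  obtain ⟨f, hf⟩ := S3103.result hc hO h4
  refine ⟨?_, fun sec h => ?_⟩
  · by_cases h1 : pPrimeCore 2 (X ⧸ pCore 2 X) = ⊥
    · obtain ⟨ψ⟩ := Cl.gl4_two_equiv_alt (F := ZMod 2) (by simp)
      have e := MonoidHom.ofInjective (f := ψ.symm.toMonoidHom.comp f) (ψ.symm.injective.comp hf)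
      rcases S2553.result (ψ.symm.toMonoidHom.comp f).range (fun h => hq (by
          have : Subsingleton (X ⧸ pCore 2 X) := by
            rw [← Finite.card_le_one_iff_subsingleton, Nat.card_congr e.toEquiv, h, card_bot]
          infer_instance))
        (by rw [← GT.map_pPrimeCore_equiv e, h1, Subgroup.map_bot])
        (by rw [← GT.map_pCore_equiv e, pCore_quotient_pCore, Subgroup.map_bot])
        with ⟨n, a, b, ⟨c⟩⟩ | ⟨⟨c⟩⟩ | ⟨⟨c⟩⟩ | ⟨⟨c⟩⟩
      · exact Or.inr (Or.inl ⟨n, a, b, ⟨e.trans c⟩⟩)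
      · exact Or.inr (Or.inr (Or.inl ⟨5, by omega, by omega, ⟨e.trans c⟩⟩))
      · exact Or.inr (Or.inr (Or.inl ⟨6, by omega, by omega, ⟨e.trans c⟩⟩))
      · exact Or.inl ⟨ZMod 2, inferInstance, inferInstance, rfl,
          ⟨(e.trans c).trans (Cl.pslEquivGLOfCardTwo (by simp)).symm⟩⟩
    · have := S0205.result (G := pPrimeCore 2 (X ⧸ pCore 2 X))
        (Nat.coprime_two_right.1 (coprime_card_pPrimeCore 2))
      obtain ⟨N, p, h2, h3, hp, h5⟩ := exists_isMinNormal_elementary_le h1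
      have := h2.normal
      have h6 : pCore p (X ⧸ pCore 2 X) ≠ ⊥ := fun e => h2.ne_bot (eq_bot_iff.2
        (e ▸ le_pCore h5.isPGroup))
      exact Or.inr (Or.inr (Or.inr (odd_core hq ((alternatingGroup _).subtype.comp f)
        (Subtype.val_injective.comp hf) (fun g => (f g).2) hp
        (by rintro rfl; exact h6 pCore_quotient_pCore) h6)))
  · obtain ⟨ι, hι⟩ : ∃ ι : Perm (Fin 6) →* X ⧸ pCore 2 X, Function.Injective ι := by
      rcases h with ⟨⟨e⟩⟩ | ⟨⟨e⟩⟩ | ⟨⟨e⟩⟩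
      · exact ⟨e.symm.toMonoidHom, e.symm.injective⟩
      · exact ⟨e.symm.toMonoidHom.comp (Perm.viaEmbeddingHom (Fin.castLEEmb (by omega))),
          e.symm.injective.comp (Perm.viaEmbeddingHom_injective _)⟩
      · obtain ⟨φ, hφ⟩ := Sym.exists_injective_perm_alternating (α := Fin 8) (β := Fin 6) (by simp)
        exact ⟨e.symm.toMonoidHom.comp φ, e.symm.injective.comp hφ⟩
    obtain ⟨e⟩ := nonempty_quot (Y := X)
    exact no_six el_core (charP_quotient_of_le_frattini (hc.charP hO) _ le_rfl)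
      (FG.SR.quotient sec _) (e.toMonoidHom.comp ι) (e.injective.comp hι)

end Cfsg.Agent.S3104
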