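import Mathlib
import Cfsg.Statements.S3106
import Cfsg.Agent.Inv.SR4B
import Cfsg.Agent.Inv.TwoAut
import Cfsg.Agent.GT.PGroupCritical
import Cfsg.Agent.GT.ExtraspecialDim
import Cfsg.Agent.GT.PGroupGauss
import Cfsg.Agent.S1904

set_option autoImplicit false
open Cfsg

namespace Cfsg.Agent.S3106

open Subgroup Cfsg.Agent.GT Cfsg.Agent.Inv Cfsg.Agent.Inv.SR4 Cfsg.Agent.Inv.Sec
  Cfsg.Agent.GT.CopAct Equiv
open scoped commutatorElement

theorem fix_modEq {G : Type*} [Group G] [Finite G] {f : MulAut G} {p : ℕ} (hp : p.Prime)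
    (hf : f ^ p = 1) (S : Set G) (hS : ∀ x ∈ S, f x ∈ S) :
    S.ncard ≡ {x ∈ S | f x = x}.ncard [MOD p] := by
  classical
  have := Fact.mk hp
  have := Fintype.ofFinite S
  let g : Function.End S := fun x => ⟨f x, hS _ x.2⟩
  have h1 : ∀ (n : ℕ) (x : S), ((g ^ n) x : G) = (f ^ n) x := fun n => by
    induction n with
    | zero => exact fun _ => rfl
    | succ n ih => exact fun x => by rw [pow_succ, pow_succ]; exact ih (g x)
  have h2 := Perm.card_fixedPoints_modEq (f := g) (p := p) (n := 1) (funext fun x => Subtype.ext (by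
    rw [h1, pow_one, hf]; rfl))
  rw [← Nat.card_eq_fintype_card, ← Nat.card_eq_fintype_card] at h2
  rw [← Nat.card_coe_set_eq, ← Nat.card_coe_set_eq]
  convert h2 using 1
  exact Nat.card_congr ⟨fun x => ⟨⟨x.1, x.2.1⟩, Subtype.ext x.2.2⟩,
    fun x => ⟨x.1.1, x.1.2, congrArg Subtype.val x.2⟩, fun _ => rfl, fun _ => rfl⟩

theorem levels {Y β : Type*} [Group Y] [Finite Y] {V : Subgroup Y} (h : Md V) {γ r : Y}
    (h5 : γ ^ 5 = 1) (hf : V ⊓ centralizer {γ} = ⊥) (h3 : r ^ 3 = 1) (hr : r ∉ V) (Q : Y → β)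
    (hγ : ∀ v ∈ V, Q (γ * v * γ⁻¹) = Q v) (hr' : ∀ v ∈ V, Q (r * v * r⁻¹) = Q v) :
    ∃ u ∈ V, ∃ v ∈ V, ∀ w ∈ V, w ≠ 1 → Q w = Q u ∨ Q w = Q v := by
  by_contra hn
  push Not at hn
  obtain ⟨u, hu, hu1, -⟩ := hn 1 (one_mem _) 1 (one_mem _)
  obtain ⟨v, hv, hv1, e1, -⟩ := hn u hu u hu
  obtain ⟨w, hw, hw1, e2, e3⟩ := hn u hu v hv
  let S : Y → Set Y := fun a => {x | x ∈ V ∧ x ≠ 1 ∧ Q x = Q a}
  have inv : ∀ g : Y, (∀ v ∈ V, Q (g * v * g⁻¹) = Q v) → ∀ a, ∀ x ∈ S a, MulAut.conj g x ∈ S a :=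
    fun g hg a x hx => ⟨h.nm.conj_mem x hx.1 g, by simpa using hx.2.1, (hg x hx.1).trans hx.2.2⟩
  have a5 : ∀ a ∈ V, a ≠ 1 → (S a).ncard % 5 = 0 ∧ 0 < (S a).ncard ∧
      (S a).ncard % 3 = {x ∈ S a | MulAut.conj r x = x}.ncard % 3 := fun a ha ha1 => by
    refine ⟨?_, (Set.ncard_pos (Set.toFinite _)).2 ⟨a, ha, ha1, rfl⟩, fix_modEq (by norm_num)
      (by rw [← map_pow, h3, map_one]) _ (inv r hr' a)⟩
    have := fix_modEq (p := 5) (by norm_num) (by rw [← map_pow, h5, map_one]) _ (inv γ hγ a)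
    rwa [Set.eq_empty_of_forall_notMem (s := {x ∈ S a | MulAut.conj γ x = x}) fun x hx => hx.1.2.1
      (hf.le ⟨hx.1.1, mem_cen.2 (comm_of_conj hx.2).symm⟩), Set.ncard_empty] at this
  have sum : ∀ (T : Y → Set Y) (U : Subgroup Y), (∀ a, T a ⊆ S a ∩ U) →
      (T u).ncard + (T v).ncard + (T w).ncard + 1 ≤ Nat.card U := fun T U hT => by
    rw [← Set.ncard_union_eq (Set.disjoint_left.2 fun x a b =>
        e1 ((hT _ b).1.2.2.symm.trans (hT _ a).1.2.2)),
      ← Set.ncard_union_eq (Set.disjoint_left.2 fun x a b => a.elim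
        (fun a => e2 ((hT _ b).1.2.2.symm.trans (hT _ a).1.2.2))
        fun a => e3 ((hT _ b).1.2.2.symm.trans (hT _ a).1.2.2)),
      ← Set.ncard_insert_of_notMem (a := 1) (by
        rintro ((a | a) | a) <;> exact (hT _ a).1.2.1 rfl)]
    refine Set.ncard_le_ncard (t := (U : Set Y)) ?_
    rintro x (rfl | (a | a) | a)
    exacts [one_mem _, (hT _ a).2, (hT _ a).2, (hT _ a).2]
  have b1 := sum S V fun a x hx => ⟨hx, hx.1⟩
  have b2 := sum (fun a => {x ∈ S a | MulAut.conj r x = x}) (V ⊓ centralizer {r}) fun a x hx =>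
    ⟨hx.1, hx.1.1, mem_cen.2 (comm_of_conj hx.2).symm⟩
  have b3 := modEq (by norm_num) (h.nrm r) h3
  have b4 := card_lt (A := centralizer {r}) (B := V) fun e =>
    hr (h.self fun v hv => mem_cen.1 (e hv))
  have b5 := two_cases (h.el.isPGroup.to_le (inf_le_left (b := centralizer {r}))) (by
    rw [← h.card]; exact b4.le)
  have c1 := a5 u hu hu1
  have c2 := a5 v hv hv1
  have c3 := a5 w hw hw1
  rw [h.card] at b1 b3 b4
  unfold Nat.ModEq at b3
  obtain ⟨d1, d2, d3⟩ : (S u).ncard = 5 ∧ (S v).ncard = 5 ∧ (S w).ncard = 5 := by omega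
  rw [d1] at c1
  rw [d2] at c2
  rw [d3] at c3
  omega

theorem decomp {T : Type*} [Group T] [Finite T] (hs : IsExtraspecial 2 T) (h32 : Nat.card T = 32)
    (hr : PRankLE 2 2 T) : ∃ A B : Subgroup T, Nonempty (A ≃* QuaternionGroup 2) ∧
      Nonempty (B ≃* DihedralGroup 4) ∧ (∀ a ∈ A, ∀ b ∈ B, a * b = b * a) ∧ A ⊔ B = ⊤ ∧
      A ⊓ B = center T := by
  obtain ⟨z, h, hne, ez⟩ := hs.exists_esz_top
  have z2 : z * z = 1 := by rw [← pow_two, h.z_pow]
  obtain ⟨x, -, hx, x2⟩ := (h.exists_pow_eq_one hne).resolve_right (by rw [card_top, h32]; omega)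
  have x2' : x * x = 1 := by rw [← pow_two, x2]
  have zc : ∀ g, g * z = z * g := fun g => h.commute_z (mem_top g)
  obtain ⟨y, e, y2⟩ : ∃ y, ⁅x, y⁆ = z ∧ y * y = z := by
    obtain ⟨y, -, e⟩ := h.exists_commutator_eq (mem_top x) hx
    by_cases y2 : y * y = 1
    · refine ⟨x * y, ?_, ?_⟩
      · rw [h.commutator_mul_right (mem_top _) (mem_top _) (mem_top _), e]; simp
      · rw [← e, commutatorElement_def, inv_eq_of_mul_eq_one_right x2',
          inv_eq_of_mul_eq_one_right y2, mul_assoc (x * y)]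
    · exact ⟨y, e, Fz.eq_of_mem_zpowers_two z2 (pow_two y ▸ h.pow_mem y (mem_top y)) y2⟩
  have hA := h.split (mem_top x) (mem_top y) e
  have cA := h.card_split (mem_top x) (mem_top y) e
  have sA := h.split_sup (mem_top x) (mem_top y) e
  have nA := h.notMem_split e
  have c1 : ∀ a ∈ ⊤ ⊓ centralizer {x} ⊓ centralizer {y}, ∀ b ∈ zpowers y ⊔ zpowers x,
      a * b = b * a := fun a ha b hb => (mem_cen.1 (show b ∈ centralizer {a} from
    sup_le (zpowers_le.2 (mem_cen.2 (mem_cen.1 ha.2).symm))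
      (zpowers_le.2 (mem_cen.2 (mem_cen.1 ha.1.2).symm)) hb)).symm
  generalize ⊤ ⊓ centralizer {x} ⊓ centralizer {y} = A at *
  rw [card_top, h32] at cA
  rw [sup_assoc, sup_comm (zpowers x)] at sA
  have inv : x * y * x⁻¹ = y⁻¹ := by
    calc _ = ⁅x, y⁆ * (y * y) * y⁻¹ := by rw [commutatorElement_def]; group
      _ = _ := by rw [e, y2, z2, one_mul]
  have o4 : orderOf y = 4 := orderOf_eq_prime_pow (p := 2) (n := 1)
    (by rw [pow_one, pow_two, y2]; exact h.z_ne_one) (by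
      rw [show 2 ^ (1 + 1) = 4 from rfl, McW.pow_four', y2, z2])
  have mx : ∀ N : Subgroup T, x ∈ normalizer (N : Set T) → ∀ w ∈ N ⊔ zpowers x,
      w * x ∈ N ∨ w ∈ N := fun N hN w hw => by
    obtain ⟨n, hn, k, hk, rfl⟩ := (PG.mem_sup_of_le_normalizer (zpowers_le.2 hN)).1 hw
    by_cases k1 : k = 1
    · exact Or.inr (by simpa [k1] using hn)
    · exact Or.inl (by rwa [Fz.eq_of_mem_zpowers_two x2' hk k1, mul_assoc, x2', mul_one])
  refine ⟨A, zpowers y ⊔ zpowers x, ?_, Fz.nonempty_equiv_dihedral_of (mem_sup_left (mem_zpowers y))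
    (mem_sup_right (mem_zpowers x)) (fun hxy => h.not_commute_of_eq e ?_)
    (mx _ (PG.mem_normalizer_zpowers (inv ▸ inv_mem (mem_zpowers y)))) o4 inv x2', c1, sA,
    le_antisymm (fun w hw => mem_center_iff.2 fun g => mem_cen.1 (show g ∈ centralizer {w} from
      (sA.ge.trans (sup_le (fun a ha => mem_cen.2 (c1 a ha w hw.2))
        fun b hb => mem_cen.2 (c1 w hw.1 b hb).symm)) (mem_top g))) ?_⟩
  · refine S1904.q8 (z := ⟨z, hA.z_mem⟩) (fun e => h.z_ne_one (congrArg Subtype.val e))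
      (Subtype.ext z2) ?_ fun a ha => Subtype.ext ?_
    · have := (zpowers (⟨z, hA.z_mem⟩ : A)).card_mul_index
      rw [Nat.card_zpowers, orderOf_mk, h.orderOf_z] at this
      omega
    have ha' : a.1 ∉ zpowers z := fun ⟨k, hk⟩ => ha ⟨k, Subtype.ext hk⟩
    refine Fz.eq_of_mem_zpowers_two z2 (by
      rw [coe_mul, ← pow_two]; exact h.pow_mem _ (mem_top _)) fun a2 => ?_
    have e1 := (IsElementaryAbelian.zpowers h.z_pow).sup_zpowers x2
      (le_centralizer_iff.1 h.zpowers_le_centralizer (mem_top x))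
    have e2 := e1.sup_zpowers (x := a) (by rw [pow_two]; exact a2) fun w hw => mem_cen.1
      ((sup_le (zpowers_le.2 (mem_cen.2 (zc _).symm)) (zpowers_le.2 (mem_cen.2 (c1 a a.2 x
        (mem_sup_right (mem_zpowers x))).symm)) : _ ≤ centralizer {a.1}) hw)
    have e3 := PG.pRankLE_iff.1 hr _ e2
    have e4 := card_lt (A := zpowers z) (B := zpowers z ⊔ zpowers x) fun e =>
      hx (e (mem_sup_right (mem_zpowers x)))
    have e5 := card_lt (A := zpowers z ⊔ zpowers x) (B := zpowers z ⊔ zpowers x ⊔ zpowers a.1)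
      fun e => (mx _ (h.le_normalizer_of_zpowers_le le_rfl le_top (mem_top x)) a
        (e (mem_sup_right (mem_zpowers _)))).elim
          (fun e => nA ((mul_mem_cancel_left a.2).1 (hA.zpowers_le e))) ha'
    rw [inf_eq_right.2 le_sup_left] at e4 e5
    rw [h.card_zpowers] at e4
    have e6 := two_cases e1.isPGroup (by omega)
    omega
  · obtain ⟨k, rfl⟩ := hxy
    exact (Commute.refl y).zpow_left k
  · rw [ez]
    exact zpowers_le.2 ⟨hA.z_mem, y2 ▸ mem_sup_left (mul_mem (mem_zpowers y) (mem_zpowers y))⟩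

variable {X : Type*} [Group X] [Finite X]

theorem case_ab (sec : SectionalPRankLE 2 4 X) {P M : Subgroup X} [nP : P.Normal] [nM : M.Normal]
    (two : IsPGroup 2 P) (le : M ≤ P) (el : IsElementaryAbelian 2 M) {γ x : X} (h5 : γ ^ 5 = 1)
    (hγ : ¬ M ≤ centralizer {γ}) (hx : x ∉ P) (x2 : x * x ∈ P) (hi : x * γ * x⁻¹ * γ ∈ P) :
    P = M ∧ Nat.card M = 16 := by
  have nrm : ∀ {Y : Type _} [Group Y] (N : Subgroup Y) [N.Normal] (g : Y),
      g ∈ normalizer (N : Set Y) := fun N _ g => le_normalizer_of_normal' ⊤ N (mem_top g)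
  obtain ⟨h16, hf⟩ := five el.isPGroup (card_le16 sec el.2) (nrm M γ) h5 hγ
  refine ⟨?_, h16⟩
  by_contra hne
  have cen : M ≤ centralizer (P : Set X) := by
    have h1 := card_modEq_card_inf_centralizer (L := M) two fun g _ => nrm M g
    have h2 := (five (B := M ⊓ centralizer (P : Set X)) (el.isPGroup.to_le inf_le_left)
      (h16 ▸ card_le_of_le inf_le_left) (nrm _ γ) h5 fun e => by
        rw [h16, le_bot_iff.1 (hf ▸ le_inf inf_le_left e : M ⊓ centralizer (P : Set X) ≤ ⊥),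
          card_bot] at h1
        exact absurd h1 (by decide)).1
    exact inf_eq_left.1 (PG.eq_of_le_of_card_le inf_le_left (by rw [h2, h16]))
  have fpf : ∀ c ∈ P, c * γ = γ * c → c = 1 := fun c hc e => by
    by_contra c1
    obtain ⟨k, hk⟩ := IsPGroup.iff_card.1 (two.to_le (inf_le_left (b := centralizer {γ})))
    obtain ⟨⟨t, ht⟩, ot⟩ := exists_prime_orderOf_dvd_card' (G := ↥(P ⊓ centralizer {γ})) 2 (by
      rw [hk]
      refine dvd_pow_self 2 fun k0 => c1 ?_
      rw [k0, pow_zero, card_eq_one] at hk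
      exact hk.le ⟨hc, mem_cen.2 e⟩)
    rw [orderOf_mk] at ot
    have h1 := el.sup_zpowers (x := t) (ot ▸ pow_orderOf_eq_one t) (le_centralizer_iff.1 cen ht.1)
    have h2 := PG.eq_of_le_of_card_le (le_sup_left (a := M) (b := zpowers t))
      (h16 ▸ card_le16 sec h1.2)
    rw [mem_bot.1 (hf.le ⟨h2.ge (mem_sup_right (mem_zpowers t)), ht.2⟩), orderOf_one] at ot
    omega
  obtain ⟨p, hp, e⟩ := exists_eq_of_card_le (H := P) (D := ⊥) (T := P)
    (fun p => p * γ⁻¹ * p⁻¹ * γ) (fun p hp => by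
      simpa [mul_assoc] using mul_mem hp (nP.conj_mem' _ (inv_mem hp) γ))
    (fun a ha b hb e => fpf _ (mul_mem (inv_mem ha) hb) (by
      have := mem_cen.1 (fib_conj (mul_right_cancel e))
      exact ((Commute.inv_right_iff.1 this : Commute _ γ)))) (by simp) hi
  have e1 : p⁻¹ * x * γ * (p⁻¹ * x)⁻¹ * γ = 1 := by
    calc _ = p⁻¹ * (x * γ * x⁻¹ * γ) * γ⁻¹ * p * γ := by group
      _ = _ := by rw [← e]; group
  have hx' : p⁻¹ * x ∉ P := fun e => hx ((mul_mem_cancel_left (inv_mem hp)).1 e)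
  have x2' : p⁻¹ * x * (p⁻¹ * x) ∈ P := by
    simpa [mul_assoc] using mul_mem (mul_mem (inv_mem hp) (nP.conj_mem _ (inv_mem hp) x)) x2
  generalize p⁻¹ * x = x at *
  replace x2' : x * x = 1 := fpf _ x2' (by
    have e2 := eq_inv_of_mul_eq_one_left e1
    refine comm_of_conj ?_
    calc _ = x * (x * γ * x⁻¹) * x⁻¹ := by group
      _ = x * γ⁻¹ * x⁻¹ := by rw [e2]
      _ = (x * γ * x⁻¹)⁻¹ := by group
      _ = _ := by rw [e2, inv_inv])
  obtain ⟨V, hV, hV'⟩ := exists_isMinNormal_le (H := P.map (QuotientGroup.mk' M)) fun e =>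
    hne (le_antisymm (by simpa using (Subgroup.map_eq_bot_iff _).1 e) le)
  have := hV.normal
  have el' := hV.elementary_of_isPGroup Nat.prime_two ((two.map _).to_le hV')
  have mP : ∀ n : X, (n : X ⧸ M) ∈ V → n ∈ P := fun n hn => by
    simpa [le] using (comap_map_eq (QuotientGroup.mk' M) P).le (hV' hn)
  have h2 := (five el'.isPGroup (card_le16 (FG.SR.quotient sec M) el'.2) (nrm V (γ : X ⧸ M))
    (by rw [← QuotientGroup.mk_pow, h5]; rfl) fun e => hV.ne_bot (eq_bot_iff.2 fun v hv => by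
      obtain ⟨g, rfl⟩ := QuotientGroup.mk_surjective v
      obtain ⟨g', a, b⟩ := CN.exists_lift_commute M (y := γ) (g := g) (by
        rw [h16]; exact Nat.Coprime.coprime_dvd_left (orderOf_dvd_of_pow_eq_one h5) (by norm_num))
        (mem_cen.1 (e hv))
      rw [← b, fpf g' (mP _ (b ▸ hv)) a]; exact one_mem _)).1
  have h3 := card_le_sq el' (nrm V (x : X ⧸ M)) (by
    rw [← QuotientGroup.mk_mul, x2']; exact one_mem _)
  have h4 := inv_le (nrm M γ) h5 hf (x := x) (e1 ▸ one_mem _)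
  set N := (V ⊓ centralizer {(x : X ⧸ M)}).comap (QuotientGroup.mk' M) with hN
  have a1 : M.relIndex N = Nat.card ↥(V ⊓ centralizer {(x : X ⧸ M)}) := by
    nth_rewrite 1 [← QuotientGroup.ker_mk' M]
    rw [relIndex_ker, map_comap_eq_self_of_surjective (QuotientGroup.mk'_surjective M)]
  have a2 : M ≤ N := fun m hm => by
    rw [hN, mem_comap, QuotientGroup.mk'_apply, (QuotientGroup.eq_one_iff m).2 hm]; exact one_mem _
  have a3 : ∀ n ∈ N, n ∈ P ∧ n * n ∈ M ∧ x * n * x⁻¹ * n⁻¹ ∈ M := fun n hn =>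
    ⟨mP n hn.1, (QuotientGroup.eq_one_iff _).1 (by rw [← pow_two]; exact el'.2 _ hn.1),
      (QuotientGroup.eq_one_iff _).1 (by
        simp only [QuotientGroup.mk_mul, QuotientGroup.mk_inv]
        exact mul_inv_eq_one.2 (conj_of_comm (mem_cen.1 hn.2).symm))⟩
  have a4 : x ∈ normalizer (N : Set X) := Fz.cj_eq_iff.1 (Fz.cj_eq_of_le (Fz.cj_le_iff.2
    fun n hn => (mul_mem_cancel_right (inv_mem hn)).1 (a2 (a3 n hn).2.2)))
  have a5 := FG.SR.relIndex_le_two sec (N := M ⊓ centralizer {x}) (H := N ⊔ zpowers x) fun w hw => by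
    obtain ⟨n, hn, k, hk, rfl⟩ := (PG.mem_sup_of_le_normalizer (zpowers_le.2 a4)).1 hw
    obtain ⟨b1, b2, b3⟩ := a3 n hn
    have b4 := cen b3 n b1
    rw [pow_two]
    by_cases k1 : k = 1
    · rw [k1, mul_one]
      refine ⟨b2, mem_cen.2 (comm_of_conj ?_).symm⟩
      calc _ = x * n * x⁻¹ * n⁻¹ * (n * (x * n * x⁻¹ * n⁻¹)) * n := by group
        _ = _ := by rw [b4, ← mul_assoc, ← pow_two, el.2 _ b3, one_mul]
    · rw [Fz.eq_of_mem_zpowers_two x2' hk k1]
      have b5 : n * x * (n * x) ∈ M := by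
        have := mul_mem b3 b2
        rw [← mul_assoc, ← b4, inv_eq_of_mul_eq_one_right x2'] at this
        simpa [mul_assoc] using this
      refine ⟨b5, mem_cen.2 ?_⟩
      calc _ = n⁻¹ * (n * (n * x * (n * x))) * x := by group
        _ = _ := by rw [cen b5 n b1]; group
  have a6 := relIndex_mul_relIndex _ _ _ (inf_le_left (a := M) (b := centralizer {x}))
    (a2.trans (le_sup_left (b := zpowers x)))
  have a7 := relIndex_mul_relIndex _ _ _ a2 (le_sup_left (b := zpowers x))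
  have a8 := FG.SR.two_le_relIndex (N := N) (H := N ⊔ zpowers x) fun e =>
    hx' (a3 x (e (mem_sup_right (mem_zpowers x)))).1
  have a9 := PG.relIndex_mul_card (inf_le_left (a := M) (b := centralizer {x}))
  rw [h16] at h4 a9
  rw [h2, ← a1] at h3
  have b1 : 4 ≤ M.relIndex N := by nlinarith
  have b2 : Nat.card ↥(M ⊓ centralizer {x}) ≤ 4 := by nlinarith
  have b3 : 4 ≤ (M ⊓ centralizer {x}).relIndex M := by nlinarith
  have b4 := Nat.mul_le_mul b3 (Nat.mul_le_mul b1 a8)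
  rw [a7, a6] at b4
  omega

theorem mem_core (x : X) : (x : X ⧸ phi X) ∈ pCore 2 (X ⧸ phi X) ↔ x ∈ pCore 2 X :=
  SetLike.ext_iff.1 (comap_pCore_quotient (N := phi X)
    ((isPGroup_pCore 2).to_le (map_subtype_le _))) x

theorem case_sp {γ r : X} (md : Md (pCore 2 (X ⧸ phi X))) (h5 : γ ^ 5 = 1)
    (hf : pCore 2 (X ⧸ phi X) ⊓ centralizer {(γ : X ⧸ phi X)} = ⊥) (h3 : r ^ 3 = 1)
    (hr : r ∉ pCore 2 X) (hs : IsSpecial 2 (pCore 2 X))
    (cγ : γ ∈ centralizer (phi X : Set X)) (cr : r ∈ centralizer (phi X : Set X)) :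
    Nat.card (center (pCore 2 X)) = 2 ∧ Nat.card (pCore 2 X) = 32 ∧ PRankLE 2 2 (pCore 2 X) := by
  have eZ : phi X = pCore 2 X ⊓ centralizer (pCore 2 X : Set X) := by
    rw [phi, hs.2.1, PG.map_center_subtype']
  have s : McW.Sp (pCore 2 X) (phi X) := eZ ▸ McW.sp_of_special hs
  have mP : ∀ x : X, (x : X ⧸ phi X) ∈ pCore 2 (X ⧸ phi X) ↔ x ∈ pCore 2 X := mem_core
  have sq : ∀ x ∈ pCore 2 X, (x : X ⧸ phi X).out * (x : X ⧸ phi X).out = x * x := fun x hx => by
    obtain ⟨⟨z, hz⟩, e⟩ := QuotientGroup.mk_out_eq_mul (phi X) x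
    rw [e]; exact s.sq_mul_Z hx hz
  have inv : ∀ g ∈ centralizer (phi X : Set X), ∀ v ∈ pCore 2 (X ⧸ phi X),
      ((g : X ⧸ phi X) * v * (g : X ⧸ phi X)⁻¹).out * ((g : X ⧸ phi X) * v * (g : X ⧸ phi X)⁻¹).out =
        v.out * v.out := fun g hg v hv => by
    obtain ⟨x, rfl⟩ := QuotientGroup.mk_surjective v
    have hx := (mP x).1 hv
    rw [← QuotientGroup.mk_inv, ← QuotientGroup.mk_mul, ← QuotientGroup.mk_mul,
      sq _ (Normal.conj_mem inferInstance x hx g), sq x hx, ← conj_of_comm (hg _ (s.sq x hx)).symm]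
    group
  obtain ⟨u, hu, v, hv, h⟩ := levels md (by rw [← QuotientGroup.mk_pow, h5]; rfl) hf
    (r := r) (by rw [← QuotientGroup.mk_pow, h3]; rfl) (fun e => hr ((mP r).1 e))
    (fun y => y.out * y.out) (inv γ cγ) (inv r cr)
  have hu' := s.sq _ ((mP u.out).1 (by rwa [QuotientGroup.out_eq']))
  have hv' := s.sq _ ((mP v.out).1 (by rwa [QuotientGroup.out_eq']))
  generalize u.out * u.out = a at *
  generalize v.out * v.out = b at *
  replace h : ∀ x ∈ pCore 2 X, x ∉ phi X → x * x = a ∨ x * x = b := fun x hx hx' =>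
    sq x hx ▸ h x ((mP x).2 hx) fun e => hx' ((QuotientGroup.eq_one_iff x).1 e)
  have i16 : (phi X).relIndex (pCore 2 X) = 16 := by
    nth_rewrite 1 [← QuotientGroup.ker_mk' (phi X)]
    rw [relIndex_ker, map_core, md.card]
  have h1 := s.const_sq (K := zpowers (b * a)) hu' (by omega) fun x hx hx' => by
    rcases h x hx hx' with e | e <;> rw [e]
    · rw [s.el a hu']; exact one_mem _
    · exact mem_zpowers _
  have h2 : phi X ≤ zpowers (b * a) := s.der ▸ FG.SR.commutator_le_of_sq fun x hx => by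
    rw [pow_two]
    by_cases hx' : x ∈ phi X
    · rw [s.el x hx']; exact one_mem _
    rcases h x hx hx' with e | e <;> rw [e]
    exacts [h1, (mul_mem_cancel_right h1).1 (mem_zpowers _)]
  have c1 : Nat.card (center (pCore 2 X)) = Nat.card (phi X) := by
    rw [phi, hs.2.1, card_map_of_injective (subtype_injective _)]
  have c2 := PG.relIndex_mul_card s.le
  have c3 : Nat.card (center (pCore 2 X)) = 2 := by
    have a1 : Nat.card (phi X) ≤ 2 := (card_le_of_le h2).trans (by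
      rw [Nat.card_zpowers]
      exact orderOf_le_of_pow_eq_one two_pos (by rw [pow_two, s.el _ (mul_mem hv' hu')]))
    have : Nontrivial (pCore 2 X) := Finite.one_lt_card_iff_nontrivial.1 (by
      have : 0 < Nat.card (phi X) := Nat.card_pos
      nlinarith)
    have := Finite.one_lt_card_iff_nontrivial.2 (isPGroup_pCore (G := X) 2).center_nontrivial
    omega
  have c4 : Nat.card (pCore 2 X) = 32 := by rw [← c2, i16, ← c1, c3]
  refine ⟨c3, c4, ?_⟩
  rcases PG.extraspecial_two_rank ⟨hs, c3⟩ (n := 2) c4 with ⟨e, -⟩ | ⟨-, e, -⟩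
  swap
  · exact e
  have a1 := fix_modEq (f := MulAut.conjNormal (H := pCore 2 X) γ) (p := 5) (by norm_num)
    (by rw [← map_pow, h5, map_one]) {x | x ^ 2 = 1} fun x hx => by
      rw [Set.mem_ofPred_eq, ← map_pow, hx, map_one]
  have a2 : {x ∈ {x : pCore 2 X | x ^ 2 = 1} | MulAut.conjNormal γ x = x} = center (pCore 2 X) := by
    ext x
    have a3 : x ∈ center (pCore 2 X) ↔ x.1 ∈ phi X := by
      rw [← hs.2.1]; exact (mem_map_iff_mem (subtype_injective _)).symm
    refine ⟨fun hx => a3.2 ((QuotientGroup.eq_one_iff _).1 (hf.le ⟨(mP x).2 x.2, mem_cen.2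
      (congrArg _ (comm_of_conj (congrArg Subtype.val hx.2)).symm)⟩)), fun hx =>
      ⟨hs.pow_eq_one_of_mem_center hx, Subtype.ext (conj_of_comm (cγ _ (a3.1 hx)).symm)⟩⟩
  rw [a2, ← Nat.card_coe_set_eq, ← Nat.card_coe_set_eq] at a1
  erw [e, c3] at a1
  exact absurd a1 (by decide)

/-- Let X be a finite nonsolvable 2-constrained group with no nontrivial normal subgroup of odd order and of sectional 2-rank at most 4, and suppose X/O₂(X) contains a subgroup isomorphic to the alternating group of degree 5. Then O₂(X) is elementary abelian of order 16, or O₂(X) is a central product of a quaternion group of order 8 and a dihedral group of order 8 (it has order 32 and is generated by two elementwise-commuting subgroups, one quaternion of order 8 and one dihedral of order 8, meeting in the centre). -/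
theorem result {X : Type*} [Group X] [Finite X] (hns : ¬ Group.IsSolvable X) (hc : Cfsg.IsPConstrained 2 X) (hO : Cfsg.oddCore X = ⊥)
    (h4 : Cfsg.SectionalPRankLE 2 4 X)
    (hQ : ∃ A : Subgroup (X ⧸ Cfsg.pCore 2 X), Nonempty (↥A ≃* ↥(alternatingGroup (Fin 5)))) :
    (Cfsg.IsElementaryAbelian 2 (Cfsg.pCore 2 X) ∧ Nat.card ↥(Cfsg.pCore 2 X) = 16) ∨
      (Nat.card ↥(Cfsg.pCore 2 X) = 32 ∧ ∃ A B : Subgroup ↥(Cfsg.pCore 2 X),
        Nonempty (↥A ≃* QuaternionGroup 2) ∧ Nonempty (↥B ≃* DihedralGroup 4) ∧ (∀ a ∈ A, ∀ b ∈ B, a * b = b * a) ∧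
          A ⊔ B = ⊤ ∧ A ⊓ B = Subgroup.center ↥(Cfsg.pCore 2 X)) := by
  obtain ⟨A, ⟨eA⟩⟩ := hQ
  have self := hc.charP hO
  have two := isPGroup_pCore (G := X) 2
  let ι := A.subtype.comp eA.symm.toMonoidHom
  have hι : Function.Injective ι := Subtype.val_injective.comp eA.symm.injective
  have ne : ∀ {σ} {y : X}, (y : X ⧸ pCore 2 X) = ι σ → σ ≠ 1 → y ∉ pCore 2 X := fun e h hy =>
    h (hι (by rw [← e, map_one, (QuotientGroup.eq_one_iff _).2 hy]))
  obtain ⟨a, b, c, a5, a1, b3, b1, c2, c1, ca⟩ : ∃ a b c : alternatingGroup (Fin 5), a ^ 5 = 1 ∧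
      a ≠ 1 ∧ b ^ 3 = 1 ∧ b ≠ 1 ∧ c * c = 1 ∧ c ≠ 1 ∧ c * a * c⁻¹ * a = 1 :=
    ⟨⟨c[0, 1, 2, 3, 4], Perm.mem_alternatingGroup.2 (by decide +kernel)⟩,
      ⟨c[0, 1, 2], Perm.mem_alternatingGroup.2 (by decide +kernel)⟩,
      ⟨swap 1 4 * swap 2 3, Perm.mem_alternatingGroup.2 (by decide +kernel)⟩, by decide +kernel⟩
  obtain ⟨γ, h5, eγ⟩ := lift_pow two (p := 5) (by norm_num) (by norm_num) (q := ι a)
    (by rw [← map_pow, a5, map_one])
  obtain ⟨r, h3, er⟩ := lift_pow two (p := 3) (by norm_num) (by norm_num) (q := ι b)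
    (by rw [← map_pow, b3, map_one])
  obtain ⟨x, ex⟩ := QuotientGroup.mk_surjective (ι c)
  have odd : Odd (orderOf γ) := (by decide : Odd 5).of_dvd_nat (orderOf_dvd_of_pow_eq_one h5)
  by_cases h : ∀ H : Subgroup (pCore 2 X), H.Characteristic → IsMulCommutative H →
    ∀ y ∈ H, y * y = 1 → MulAut.conjNormal γ y = y
  swap
  · push Not at h
    obtain ⟨H, hH, hc, y, hy, y2, e⟩ := h
    have cm : ∀ a ∈ H.map (pCore 2 X).subtype, ∀ b ∈ H.map (pCore 2 X).subtype, a * b = b * a :=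
      PG.isMulCommutative_iff_forall.1 inferInstance
    let M : Subgroup X := ⟨⟨⟨{a | a ∈ H.map (pCore 2 X).subtype ∧ a ^ 2 = 1}, fun {a b} ha hb =>
      ⟨mul_mem ha.1 hb.1, by rw [Commute.mul_pow (cm a ha.1 b hb.1), ha.2, hb.2, mul_one]⟩⟩,
      one_mem _, one_pow 2⟩, fun ha => ⟨inv_mem ha.1, by rw [inv_pow, ha.2, inv_one]⟩⟩
    have : M.Normal := ⟨fun a ha g => ⟨Normal.conj_mem inferInstance a ha.1 g, by
      rw [conj_pow, ha.2]; simp⟩⟩
    have el : IsElementaryAbelian 2 M :=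
      ⟨PG.isMulCommutative_iff_forall.2 fun a ha b hb => cm a ha.1 b hb.1, fun a ha => ha.2⟩
    obtain ⟨e1, e2⟩ := case_ab (M := M) h4 two (fun a ha => map_subtype_le H ha.1) el h5
      (fun h => e (Subtype.ext (conj_of_comm (mem_cen.1 (h (show y.1 ∈ M from ⟨⟨y, hy, rfl⟩, by
        rw [pow_two]; exact congrArg Subtype.val y2⟩))).symm))) (ne ex c1)
      ((QuotientGroup.eq_one_iff _).1 (by rw [QuotientGroup.mk_mul, ex, ← map_mul, c2, map_one]))
      ((QuotientGroup.eq_one_iff _).1 (by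
        simpa only [QuotientGroup.mk_mul, QuotientGroup.mk_inv, ex, eγ, map_mul, map_inv, map_one]
          using congrArg ι ca))
    rw [e1]
    exact Or.inl ⟨el, e2⟩
  have self' := charP_quotient_of_le_frattini self (phi X) le_rfl
  have mP : ∀ x : X, (x : X ⧸ phi X) ∈ pCore 2 (X ⧸ phi X) ↔ x ∈ pCore 2 X := mem_core
  obtain ⟨h16, hf⟩ := five (el_core (Y := X)).isPGroup (card_le16 (FG.SR.quotient h4 _) el_core.2)
    (le_normalizer_of_normal' ⊤ _ (mem_top (γ : X ⧸ phi X)))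
    (by rw [← QuotientGroup.mk_pow, h5]; rfl) fun e =>
      ne eγ a1 ((mP γ).1 (self' fun v hv => mem_cen.1 (e hv)))
  let φ := (MulAut.conjNormal (H := pCore 2 X)).comp (zpowers γ).subtype
  have cop : (Nat.card (zpowers γ)).Coprime 2 := by
    rw [Nat.card_zpowers]; exact Nat.coprime_two_right.2 odd
  obtain ⟨hs, ez⟩ := PG.isSpecial_of_act_trivial_on_char_abelian two (φ := φ) cop
    (frattini_nongenerating (top_le_iff.1 ((actComm_top_sup_actFixed (φ := φ)
      (PG.coprime_card_of_isPGroup two cop) (Or.inl inferInstance)).ge.trans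
        (sup_le_sup_left (fun (y : pCore 2 X) (hy : y ∈ actFixed φ) =>
          (mem_map_iff_mem (subtype_injective _)).1
          ((QuotientGroup.eq_one_iff y.1).1 (hf.le ⟨(mP y).2 y.2, mem_cen.2 (congrArg _
            (comm_of_conj (congrArg Subtype.val (hy ⟨γ, mem_zpowers γ⟩))).symm)⟩))) _))))
    fun H hH hc y hy g => by
      obtain ⟨k, hk⟩ := two y
      have h1 := Fz.fix_of_comm (ψ := MulAut.conjNormal γ) (odd.of_dvd_nat (orderOf_map_dvd _ _))
        (PG.isMulCommutative_iff_forall.1 hc) (actInv_of_characteristic MulAut.conjNormal H γ)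
        (h H hH hc) y hy hk
      exact zpowers_le.2 (show γ ∈ (MulAction.stabilizer (MulAut (pCore 2 X)) y).comap
        MulAut.conjNormal from h1) g.2
  have cγ : γ ∈ centralizer (phi X : Set X) := by
    rintro _ ⟨y, hy, rfl⟩
    exact (comm_of_conj (congrArg Subtype.val (ez.le (hs.2.1.le hy) ⟨γ, mem_zpowers γ⟩))).symm
  have cP : pCore 2 X ≤ centralizer (phi X : Set X) := by
    rintro g hg _ ⟨y, hy, rfl⟩
    exact (congrArg Subtype.val (mem_center_iff.1 (hs.2.1.le hy) ⟨g, hg⟩)).symm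
  have cr : r ∈ centralizer (phi X : Set X) := by
    have := alternatingGroup.isSimpleGroup_five
    have h1 := (((inferInstance : (centralizer (phi X : Set X)).Normal).map _
      (QuotientGroup.mk'_surjective (pCore 2 X))).comap ι).eq_bot_or_eq_top.resolve_left fun e =>
        a1 (e.le ⟨γ, cγ, eγ⟩)
    obtain ⟨n, hn, e⟩ := h1.ge (mem_top b)
    exact (mul_mem_cancel_left (inv_mem hn)).1 (cP (QuotientGroup.eq.1 (e.trans er.symm)))
  obtain ⟨e1, e2, e3⟩ := case_sp ⟨inferInstance, el_core, self', h16⟩ h5 hf h3 (ne er b1) hs cγ cr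
  exact Or.inr ⟨e2, decomp ⟨hs, e1⟩ e2 e3⟩

end Cfsg.Agent.S3106
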