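import Mathlib
import Cfsg.Statements.S3105
import Cfsg.Agent.Inv.SR4G

set_option autoImplicit false
open Cfsg

namespace Cfsg.Agent.S3105

open Subgroup Cfsg.Agent.GT Cfsg.Agent.Inv Cfsg.Agent.Inv.SR4L

theorem sq3 : ∀ y : Fin 3 → Multiplicative (ZMod 2), y ^ 2 = 1 := by decide

/-- Let X be a finite nonsolvable 2-constrained group with no nontrivial normal subgroup of odd order and of sectional 2-rank at most 4, and suppose X/O₂(X) is isomorphic to the projective special linear group of dimension 3 over the field with 2 elements. Then O₂(X) is elementary abelian of order 8 or 16, or is isomorphic to the direct product of a cyclic group of order 4 and an elementary abelian group of order 8. -/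
theorem result {X : Type*} [Group X] [Finite X] (hns : ¬ Group.IsSolvable X) (hc : Cfsg.IsPConstrained 2 X) (hO : Cfsg.oddCore X = ⊥)
    (h4 : Cfsg.SectionalPRankLE 2 4 X) {F : Type*} [Field F] [Fintype F] (hF : Fintype.card F = 2)
    (hQ : Nonempty (X ⧸ Cfsg.pCore 2 X ≃* Matrix.ProjectiveSpecialLinearGroup (Fin 3) F)) :
    (Cfsg.IsElementaryAbelian 2 (Cfsg.pCore 2 X) ∧ (Nat.card ↥(Cfsg.pCore 2 X) = 8 ∨ Nat.card ↥(Cfsg.pCore 2 X) = 16)) ∨
      Nonempty (↥(Cfsg.pCore 2 X) ≃* Multiplicative (ZMod 4) × (Fin 3 → Multiplicative (ZMod 2))) := by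
  obtain ⟨e⟩ := hQ
  obtain ⟨w, h⟩ := exists_hy (isPGroup_pCore 2) h4 hF e
  obtain ⟨Z, κ, el⟩ := h.ex_el (hc.charP hO)
  obtain ⟨K, le, c8, x, e1, e2⟩ := el.dec
  have xQ : x ∈ pCore 2 X := e2.le (mem_sup_left (mem_zpowers x))
  obtain ⟨φ⟩ := Fus.nonempty_sup_equiv_prod (M := zpowers x) (L := K)
    (fun k hk y hy => el.cq y (zpowers_le.2 xQ hy) k (le hk)) e1
  rw [e2] at φ
  have := Fact.mk Nat.prime_two
  by_cases c : x * x = 1
  · refine Or.inl ⟨⟨⟨⟨fun a b => Subtype.ext (el.ab a.2 b.2)⟩⟩, fun q hq => ?_⟩, ?_⟩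
    · let H : Subgroup X :=
        { carrier := {v | v ∈ pCore 2 X ∧ v * v = 1}
          one_mem' := ⟨one_mem _, mul_one 1⟩
          mul_mem' := fun {a b} ha hb => ⟨mul_mem ha.1 hb.1, by
            rw [sq_of_comm (el.ab ha.1 hb.1), ha.2, hb.2, mul_one]⟩
          inv_mem' := fun {a} ha => ⟨inv_mem ha.1, by rw [← mul_inv_rev, ha.2, inv_one]⟩ }
      have l : zpowers x ⊔ K ≤ H :=
        sup_le (zpowers_le.2 ⟨xQ, c⟩) fun k hk => ⟨h.R_le (le hk), el.sq k (le hk)⟩
      rw [pow_two]; exact (l (e2.ge hq)).2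
    rw [Nat.card_congr φ.toEquiv, Nat.card_prod, c8]
    by_cases x1 : x = 1
    · simp [x1]
    · simp [card_zp2 c x1]
  obtain ⟨ψ⟩ := Fus.nonempty_zpowers_equiv (x := x) (n := 4) (orderOf_eq_prime_pow (p := 2) (n := 1)
    (by rwa [pow_one, pow_two]) (by rw [← el.x4 xQ]; simp [pow_succ, mul_assoc]))
  obtain ⟨χ⟩ := PG.nonempty_mulEquiv_of_elementary (p := 2) (G := K)
    (H := Fin 3 → Multiplicative (ZMod 2))
    ⟨⟨fun a b => Subtype.ext (comm_sq el.sq (le a.2) (le b.2))⟩⟩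
    (fun k => Subtype.ext (by rw [pow_two]; exact el.sq k (le k.2))) ⟨⟨mul_comm⟩⟩
    sq3
    (by simp [c8])
  exact Or.inr ⟨φ.trans (ψ.prodCongr χ)⟩

end Cfsg.Agent.S3105
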