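import Cfsg.Statements.S2034
import Cfsg.Agent.Spor.MX.MathieuGen

set_option autoImplicit false
open Cfsg

namespace Cfsg.Agent.S2034

open Cfsg.Agent.Spor Cfsg.Agent.Spor.MX

/-- The Schur multiplier of the Mathieu group M₁₁ (the stabiliser of a dodecad and one of its points in the automorphism group of the length-24 binary code) is trivial; here the Schur multiplier is described through stem extensions, as in the definitions: surjective homomorphisms onto the group from a finite group, whose kernel is central in that finite group and contained in that finite group's commutator subgroup. -/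
theorem result : Cfsg.HasCyclicSchurMultiplier ↥Cfsg.Spor.M11 1 := by
  obtain ⟨g, ht, hg⟩ := m11_gen
  exact cyclic_top (cyclic_of_bounds hg.2.2 [(2, 4, 0), (3, 2, 0)] [5, 11] (by decide +kernel)
    (forall_mem_cons' (hg.not_dvd 2 1 ((m11_l8 hg.2.1).of_dvd (by decide)) (by decide +kernel))
      (forall_mem_cons' (hg.not_dvd 3 1 ((m11_l9 hg.2.1).of_dvd (by decide)) (by decide +kernel))
      forall_mem_nil'))
    (one_dvd _))

end Cfsg.Agent.S2034
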