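import Mathlib
import Cfsg.Statements.S3710
import Cfsg.Agent.Phan.Four3

set_option autoImplicit false
open Cfsg

namespace Cfsg.Agent.S3710

section

open Matrix Cfsg.Agent.Phan Cfsg.Agent.Cl

variable {F : Type*} [Field F] {σ : F →+* F} {G : Type*} [Group G]

theorem signs (a b : Fin 4 → Bool) (ha : xor (xor (a 0) (a 1)) (xor (a 2) (a 3)) = false)
    (hb : xor (xor (b 0) (b 1)) (xor (b 2) (b 3)) = false) (h1 : ¬ ∀ i, a i = a 0)
    (h2 : ¬ ∀ i, b i = b 0) (h3 : ¬ ∀ i, xor (a i) (b i) = xor (a 0) (b 0)) :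
    ∃ π : Equiv.Perm (Fin 4), (∀ i, a (π i) = ![true, true, false, false] i) ∧
      ∀ i, b (π i) = ![false, true, true, false] i := by
  revert a b
  decide +kernel

theorem exists_signs (h2 : (2 : F) ≠ 0) {q : ℕ} {z : SU 4 F q} (hz : z ^ 2 = 1) {d : Fin 4 → F}
    (hd : mat z = diagonal d) : ∃ a : Fin 4 → Bool, (∀ i, d i = bif a i then -1 else 1) ∧
      xor (xor (a 0) (a 1)) (xor (a 2) (a 3)) = false := by
  have e : ∀ i, ∃ a : Bool, d i = bif a then -1 else 1 := fun i => by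
    have := congrFun (congrFun (congrArg mat hz) i) i
    rw [mat_pow, hd, diagonal_pow, mat_one] at this
    rcases mul_self_eq_one_iff.1 (show d i * d i = 1 by simpa [pow_two] using this) with h | h
    exacts [⟨false, h⟩, ⟨true, h⟩]
  choose a ha using e
  refine ⟨a, ha, ?_⟩
  have := su_det z
  rw [hd, det_diagonal, Fin.prod_univ_four, ha, ha, ha, ha] at this
  have h : (-1 : F) ≠ 1 := fun e => h2 (by linear_combination -e)
  generalize a 0 = x at this
  generalize a 1 = y at this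
  generalize a 2 = z at this
  generalize a 3 = w at this
  cases x <;> cases y <;> cases z <;> cases w <;> simp [h] at this ⊢

theorem four_three (hq : UField σ 3) {A B C V V' : Subgroup G} {ρ ρ' : SU 3 F 3 →* G}
    (h : StdU hq ρ A B V) (h' : StdU hq ρ' B C V') (e : ρ'.comp (upU hq) = ρ.comp (loU hq))
    (hc : ∀ x ∈ A, ∀ y ∈ C, x * y = y * x) (g : SU 4 F 3 →* G) (hg : g.range = V ⊔ V') :
    Four hq ρ ρ' := by
  have h2 : (2 : F) ≠ 0 := by
    obtain ⟨p, k, hp, _, hk, h3⟩ := hq.exists_prime_pow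
    obtain rfl : p = 3 := (Nat.prime_dvd_prime_iff_eq hp Nat.prime_three).1
      (h3 ▸ dvd_pow_self p (by omega))
    exact (CharP.cast_eq_zero_iff F 3 2).not.2 (by decide)
  obtain ⟨μ, hμ, hμ'⟩ := hq.invol.exists_norm_one_ne
  have hμ2 : μ * μ = -1 := by
    rw [hq.pow] at hμ hμ'
    have : (μ * μ - 1) * (μ * μ + 1) = 0 := by linear_combination hμ
    rcases mul_eq_zero.1 this with h | h
    · exact absurd (by linear_combination μ * h) hμ'
    · linear_combination h
  have hσ : σ μ = -μ := by linear_combination (-μ) * hμ + σ μ * hμ2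
  set i := dg2 hq μ hμ with hi
  have c1 : i * w2 hq = mU hq * w2 hq * i := su_ext (by
    simp only [mat_mul, hi, mat_dg2, mat_w2, mat_mU, hσ]; simp)
  have c1' : i * w2 hq * i⁻¹ * (w2 hq)⁻¹ = mU hq := by rw [c1]; group
  have c2 : i ^ 2 = mU hq := su_ext (by
    rw [mat_pow, pow_two, hi, mat_dg2, mat_mU, hσ]
    ext a b; fin_cases a <;> fin_cases b <;> simp [hμ2])
  have c3 : w2 hq ^ 2 = mU hq := su_ext (by
    rw [mat_pow, pow_two, mat_w2, mat_mU]
    ext a b; fin_cases a <;> fin_cases b <;> simp)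
  have rV : ∀ x, ρ x ∈ g.range := fun x => hg ▸ Subgroup.mem_sup_left (h.rV ▸ ⟨x, rfl⟩)
  have rV' : ∀ x, ρ' x ∈ g.range := fun x => hg ▸ Subgroup.mem_sup_right (h'.rV ▸ ⟨x, rfl⟩)
  -- non-commuting pairs
  have nc : ∀ x y : SU 3 F 3, (∀ c : F, mat x * mat y ≠ c • (mat y * mat x)) →
      ¬ Commute (ρ x) (ρ y) := fun x y hxy hc' => by
    obtain ⟨c, hc⟩ := h.exists_smul (g := x * y) (g' := y * x) (by simpa using hc'.eq)
    exact hxy c hc
  have n1 : ¬ Commute (ρ (upU hq (mU hq))) (ρ (loU hq (w2 hq))) := nc _ _ fun c hc => by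
    have e1 := congrFun (congrFun hc 0) 0
    have e2 := congrFun (congrFun hc 1) 2
    simp [mat_upU, mat_loU, mat_mU, mat_w2] at e1 e2
    exact h2 (by linear_combination e1 - e2)
  have n2 : ¬ Commute (ρ (loU hq (mU hq))) (ρ (upU hq (w2 hq))) := nc _ _ fun c hc => by
    have e1 := congrFun (congrFun hc 2) 2
    have e2 := congrFun (congrFun hc 0) 1
    simp [mat_upU, mat_loU, mat_mU, mat_w2] at e1 e2
    exact h2 (by linear_combination e2 + e1)
  have n3 : ¬ Commute (ρ (upU hq (mU hq) * loU hq (mU hq))) (ρ (upU hq (w2 hq))) :=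
    nc _ _ fun c hc => by
      have e1 := congrFun (congrFun hc 2) 2
      have e2 := congrFun (congrFun hc 0) 1
      simp [mat_mul, mat_upU, mat_loU, mat_mU, mat_w2] at e1 e2
      exact h2 (by linear_combination e1 - e2)
  obtain ⟨xA, hxA⟩ := rV (upU hq i)
  obtain ⟨yA, hyA⟩ := rV (upU hq (w2 hq))
  obtain ⟨xB, hxB⟩ := rV (loU hq i)
  obtain ⟨yB, hyB⟩ := rV (loU hq (w2 hq))
  have gA : g (xA * yA * xA⁻¹ * yA⁻¹) = ρ (upU hq (mU hq)) := by
    simp only [← c1', map_mul, map_inv, hxA, hyA]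
  have gB : g (xB * yB * xB⁻¹ * yB⁻¹) = ρ (loU hq (mU hq)) := by
    simp only [← c1', map_mul, map_inv, hxB, hyB]
  have hk := ker_le_center hq le_rfl (g := g) (x := xA * yA * xA⁻¹ * yA⁻¹) (by
    rw [gA]; intro e; exact n1 (by rw [e]; exact Commute.one_left _))
  have sA := sq_commutator hk (x := xA) (y := yA)
    (by rw [gA, map_pow, hxA, ← map_pow, ← map_pow, c2])
    (by rw [gA, map_pow, hyA, ← map_pow, ← map_pow, c3])
  have gB2 : g (xB * yB * xB⁻¹ * yB⁻¹) = g (xB ^ 2) := by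
    rw [gB, map_pow, hxB, ← map_pow, ← map_pow, c2]
  have sB := sq_commutator hk (x := xB) (y := yB) gB2
    (by rw [gB, map_pow, hyB, ← map_pow, ← map_pow, c3])
  obtain ⟨zA, hzA⟩ : ∃ z, z = xA * yA * xA⁻¹ * yA⁻¹ := ⟨_, rfl⟩
  obtain ⟨zB, hzB⟩ : ∃ z, z = xB * yB * xB⁻¹ * yB⁻¹ := ⟨_, rfl⟩
  rw [← hzA] at gA sA
  rw [← hzB] at gB gB2 sB
  have cAB : Commute zA zB := by
    obtain ⟨c, hc, -, e1⟩ := exists_central hk (x := zA * xB) (y := xB * zA) (by
      rw [map_mul, map_mul, gA, hxB, ← map_mul, ← map_mul]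
      exact congrArg ρ (su_ext (by simp [mat_mul, mat_upU, mat_loU, mat_mU, hi, mat_dg2])))
    have e2 := conj_pow_central hc e1 2
    rw [sA, one_mul, mul_one, right_eq_mul] at e2
    have e3 : xB * zA = c⁻¹ * (zA * xB) := by rw [e1]; group
    have e4 := conj_pow_central (inv_mem hc) e3 2
    rw [inv_pow, e2, inv_one, one_mul] at e4
    obtain ⟨d, hd, -, e5⟩ := exists_central hk gB2
    rw [e5]
    exact (show Commute zA d from Subgroup.mem_center_iff.1 hd zA).mul_right e4.symm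
  obtain ⟨U, hU, hd⟩ := exists_unitary_diag hq ![zA, zB]
    (by
      simp only [Fin.forall_fin_two]
      exact ⟨⟨Commute.refl _, cAB⟩, cAB.symm, Commute.refl _⟩)
    (by
      simp only [Fin.forall_fin_two]
      exact ⟨(pow_mul zA 2 2).trans (by rw [sA, one_pow]),
        (pow_mul zB 2 2).trans (by rw [sB, one_pow])⟩)
  obtain ⟨d, hd1⟩ := hd 0
  obtain ⟨d', hd2⟩ := hd 1
  set c := cjU hq U hU
  change mat (c zA) = _ at hd1
  change mat (c zB) = _ at hd2
  obtain ⟨a, ha, ha'⟩ := exists_signs h2 (by rw [← map_pow, sA, map_one]) hd1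
  obtain ⟨b, hb, hb'⟩ := exists_signs h2 (by rw [← map_pow, sB, map_one]) hd2
  have cen : ∀ (z : SU 4 F 3) (s : Fin 4 → F), mat (c z) = diagonal s → (∀ i, s i = s 0) →
      ∀ y, Commute (g z) (ρ y) := fun z s hs hs' y => by
    have : z ∈ Subgroup.center _ := (mulEquiv_mem_center_iff c z).1
      ((hq.mem_center_SU_iff (by omega)).2 ⟨s 0, hs.trans (by
        rw [funext hs', smul_one_eq_diagonal])⟩)
    obtain ⟨y', hy'⟩ := rV y
    rw [← hy']
    exact (show Commute z y' from (Subgroup.mem_center_iff.1 this y').symm).map g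
  obtain ⟨π, hπ1, hπ2⟩ := signs a b ha' hb'
    (fun hh => n1 (gA ▸ cen zA d hd1 (fun i => by rw [ha, ha, hh]) _))
    (fun hh => n2 (gB ▸ cen zB d' hd2 (fun i => by rw [hb, hb, hh]) _))
    (fun hh => n3 (by
      rw [map_mul, ← gA, ← gB, ← map_mul]
      refine cen _ (fun i => d i * d' i)
        (by rw [map_mul, mat_mul, hd1, hd2, diagonal_mul_diagonal]) (fun i => ?_) _
      have := hh i
      rw [ha, hb, ha, hb]
      revert this
      cases a i <;> cases b i <;> cases a 0 <;> cases b 0 <;> simp))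
  let θ := c.trans (rxU hq π)
  have tA : θ zA = embU hq (iv 0 (by omega)) (mU hq) := su_ext (by
    rw [mat_embU, ← eq_embM (iv (N := 4) 0 (by omega)).injective (g := diagonal ![-1, -1, 1, 1])
      (fun a b => by fin_cases a <;> fin_cases b <;> simp [mat_mU, iv]) fun k hk l => by
        fin_cases k
        · exact absurd rfl (hk 0)
        · exact absurd rfl (hk 1)
        all_goals fin_cases l <;> simp]
    ext k l
    change mat (c zA) (π k) (π l) = _
    rw [hd1]
    fin_cases k <;> fin_cases l <;> simp [ha, hπ1])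
  have tB : θ zB = embU hq (iv 1 (by omega)) (mU hq) := su_ext (by
    rw [mat_embU, ← eq_embM (iv (N := 4) 1 (by omega)).injective (g := diagonal ![1, -1, -1, 1])
      (fun a b => by fin_cases a <;> fin_cases b <;> simp [mat_mU, iv] <;> rfl) fun k hk l => by
        fin_cases k
        · fin_cases l <;> simp
        · exact absurd rfl (hk 0)
        · exact absurd rfl (hk 1)
        · fin_cases l <;> simp]
    ext k l
    change mat (c zB) (π k) (π l) = _
    rw [hd2]
    fin_cases k <;> fin_cases l <;> simp [hb, hπ2])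
  let f := g.comp θ.symm.toMonoidHom
  have hf : ∀ x, f (θ x) = g x := fun x => congrArg g (θ.symm_apply_apply x)
  have hkf : ∀ c, f c = 1 → c ∈ Subgroup.center _ := fun c hc =>
    (mulEquiv_mem_center_iff θ.symm c).1 (hk _ hc)
  have rf : ∀ x ∈ g.range, x ∈ f.range := by
    rintro _ ⟨x, rfl⟩; exact ⟨_, hf x⟩
  obtain ⟨k1, k2⟩ := range_eq_blocks (j := iv 0 (by omega)) (j' := iv 2 (by omega)) (g := f)
    (φ := ρ.comp (upU hq)) (ψ := ρ'.comp (loU hq)) hq h2 hkf (by decide) (by decide) h.inj_up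
    h'.inj_lo (by rintro _ ⟨s, rfl⟩; exact rf _ (rV _)) (by rintro _ ⟨s, rfl⟩; exact rf _ (rV' _))
    (fun s t => hc _ (h.up_mem s) _ (h'.lo_mem t)) (x := θ xA) (y := θ yA)
    ⟨i, by rw [hf, hxA]; rfl⟩ ⟨w2 hq, by rw [hf, hyA]; rfl⟩
    (by rw [← tA, hzA]; simp only [map_mul, map_inv])
    (fun s => by rw [← tA, hf, gA]; exact ((commute_mU hq s).map _).map ρ)
  let r : SU 3 F 3 := mkU hq !![0, 0, 1; 1, 0, 0; 0, 1, 0] (by simp [det_fin_three]) (by
    ext a b; fin_cases a <;> fin_cases b <;> simp [mul_apply, Fin.sum_univ_three])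
  have hr : ∀ s, loU hq s = r * upU hq s * r⁻¹ := fun s => eq_mul_inv_of_mul_eq (su_ext (by
    simp [mat_mul, mat_upU, mat_loU, r, mat_mkU]))
  obtain ⟨k3, -⟩ := range_eq_blocks (j := iv 1 (by omega)) (j' := ⟨![0, 3], by decide⟩) (g := f)
    (φ := ρ.comp (loU hq)) (ψ := (MulAut.conj (ρ r)).toMonoidHom.comp (ρ'.comp (loU hq))) hq h2 hkf
    (by decide) (by decide) h.inj_lo ((MulAut.conj (ρ r)).injective.comp h'.inj_lo)
    (by rintro _ ⟨s, rfl⟩; exact rf _ (rV _))
    (by rintro _ ⟨s, rfl⟩; exact rf _ (mul_mem (mul_mem (rV _) (rV' _)) (inv_mem (rV _))))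
    (fun s t => by
      have := Commute.map (hc _ (h.up_mem s) _ (h'.lo_mem t)) (MulAut.conj (ρ r))
      rw [MonoidHom.comp_apply, hr, map_mul, map_mul, map_inv]
      exact this)
    (x := θ xB) (y := θ yB) ⟨i, by rw [hf, hxB]; rfl⟩ ⟨w2 hq, by rw [hf, hyB]; rfl⟩
    (by rw [← tB, hzB]; simp only [map_mul, map_inv])
    (fun s => by rw [← tB, hf, gB]; exact ((commute_mU hq s).map _).map ρ)
  exact four_of_ranges hq hkf (k1.symm.trans h.rA) (k3.symm.trans h.rB) (k2.symm.trans h'.rB) h h' e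

end

/-- Recognition of unitary groups over the field with 9 elements from a weak Phan system. Let F be a field with 9 elements and n ≥ 4. Let G be a group with subgroups U_0, …, U_{n−1}, each isomorphic to SU(2, 9), and, for consecutive indices, subgroups V_{i,i+1} in which U_i and U_{i+1} form a standard pair (via an isomorphism from SU(3, 9) or PSU(3, 9) carrying the block-diagonal subgroups, or their images, onto U_i and U_{i+1}); suppose U_i and U_j commute elementwise whenever the indices differ by at least 2, that G is generated by the U_i and the V_{i,i+1}, and moreover that for each i the subgroup generated by V_{i,i+1} and V_{i+1,i+2} is a homomorphic image of SU(4, 9). Then G is a homomorphic image of SU(n+1, 9). (G is not assumed finite.) -/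
theorem result {G : Type*} [Group G] (n : ℕ) (hn : 4 ≤ n)
    (F : Type*) [Field F] [Fintype F] (hF : Fintype.card F = 9)
    (U : Fin n → Subgroup G) (e : ∀ i, ↥(Cfsg.SU 2 F 3) ≃* ↥(U i))
    (V : Fin n → Fin n → Subgroup G)
    (h1 : ∀ i j : Fin n, (i : ℕ) + 2 ≤ j → ∀ x ∈ U i, ∀ y ∈ U j, x * y = y * x)
    (h2 : ∀ i j : Fin n, (i : ℕ) + 1 = j → Cfsg.IsStandardUnitaryPair (V i j) (U i) (U j) F 3)
    (hgen : (⨆ i, U i) ⊔ (⨆ (i : Fin n) (j : Fin n) (_ : (i : ℕ) + 1 = j), V i j) = ⊤)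
    (h4 : ∀ i j k : Fin n, (i : ℕ) + 1 = j → (j : ℕ) + 1 = k →
      ∃ g : ↥(Cfsg.SU 4 F 3) →* ↥(V i j ⊔ V j k), Function.Surjective g) :
    ∃ f : ↥(Cfsg.SU (n + 1) F 3) →* G, Function.Surjective f := by
  obtain ⟨σ, hσ⟩ := Cl.exists_uField (q := 3) hF
  refine Phan.weak_phan hσ (by omega) U V h1 h2 hgen
    (Or.inr ⟨le_rfl, fun i j k hij hjk ρ ρ' a b c => ?_⟩)
  obtain ⟨g, hg⟩ := h4 i j k hij hjk
  exact four_three hσ a b c (h1 i k (by omega)) ((Subgroup.subtype _).comp g) (by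
    rw [MonoidHom.range_comp, MonoidHom.range_eq_top.2 hg, ← MonoidHom.range_eq_map,
      Subgroup.range_subtype])

end Cfsg.Agent.S3710
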