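import Mathlib
import Cfsg.Statements.S1220
import Cfsg.Agent.Inv.BenderCons
-- import your own Cfsg.Agent.* helpers here

set_option autoImplicit false
open Cfsg

namespace Cfsg.Agent.S1220

open Cfsg.Agent.Inv.SE Cfsg.Agent.Inv.Bnd Cfsg.Agent.Perm.RankOne

/-- Let H be a strongly embedded subgroup of the finite group G. Then either G acts doubly transitively on the cosets of H (H permutes transitively the cosets gH with g ∉ H), or every Sylow 2-subgroup of G is cyclic or generalized quaternion and G = O(G)H. -/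
theorem result {G : Type*} [Group G] [Finite G] (H : Subgroup G) (hH : Cfsg.IsStronglyEmbedded H) : (∀ g₁ g₂ : G, g₁ ∉ H → g₂ ∉ H → ∃ h ∈ H, g₂⁻¹ * (h * g₁) ∈ H) ∨ ((∀ S : Sylow 2 G, IsCyclic S ∨ ∃ m : ℕ, 1 ≤ m ∧ Nonempty ((S : Subgroup G) ≃* QuaternionGroup (2 ^ m))) ∧ Cfsg.oddCore G ⊔ H = ⊤) := by

  have h := Inv.SE.isStronglyEmbedded_iff.1 hH
  by_cases h2 : TwoRank G
  · obtain ⟨R, hR⟩ := exists_split h h2
    exact Or.inl fun g₁ g₂ h₁ h₂ => (hR.trans g₁ g₂ h₁ h₂).imp fun u hu => ⟨hR.le hu.1, hu.2⟩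
  · refine Or.inr ⟨fun S => ?_, oddCore_sup_eq_top h2 h⟩
    refine (cyclic_or_quaternion_of_uniqOrd' S.isPGroup'
      (uniqOrd_of_not_twoRank h2 S.isPGroup')).imp id ?_
    rintro ⟨n, e⟩
    exact ⟨n + 1, by omega, e⟩

end Cfsg.Agent.S1220
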