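import Cfsg.Statements.S2222
import Cfsg.Agent.Sym.SylowTwo
import Cfsg.Agent.FG.Pronormal

set_option autoImplicit false
open Cfsg

namespace Cfsg.Agent.S2222

open Subgroup Cfsg.Agent.FG.PN in
theorem isPronormal_of_isCoatom {G : Type*} [Group G] [Finite G] {H : Subgroup G}
    (h : IsCoatom H) : IsPronormal H := by
  intro g
  by_cases hle : H.map (MulAut.conj g).toMonoidHom ≤ H
  · exact ProAt.of_mem_normalizer (mem_normalizer_fintype fun x hx => hle ⟨x, hx, rfl⟩)
  · exact ⟨g, (h.2 _ (left_lt_sup.2 hle)).symm ▸ mem_top g, rfl⟩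

theorem exists_sylow_le {G : Type*} [Group G] [Finite G] {p : ℕ} [Fact p.Prime] {H : Subgroup G}
    (h : ¬ p ∣ H.index) : ∃ P : Sylow p G, (P : Subgroup G) ≤ H := by
  obtain ⟨Q⟩ : Nonempty (Sylow p H) := inferInstance
  refine ⟨(Q.isPGroup'.map H.subtype).toSylow ?_, Subgroup.map_subtype_le _⟩
  rw [Subgroup.index_map_subtype]
  exact fun hd => ((Fact.out : p.Prime).dvd_mul.1 hd).elim Q.not_dvd_index h

/-- In the alternating group of degree n ≥ 5 every subgroup H of odd index is pronormal: for every element g, the subgroups H and gHg⁻¹ are conjugate by an element of the subgroup they generate. -/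
theorem result (n : ℕ) (hn : 5 ≤ n)
    (H : Subgroup (alternatingGroup (Fin n))) (hH : Odd H.index) : Cfsg.IsPronormal H := by
  obtain ⟨P, hP⟩ := exists_sylow_le (p := 2) (H := H) (by
    rwa [← even_iff_two_dvd, Nat.not_even_iff_odd])
  rcases hn.eq_or_lt with rfl | h6
  · have h1 := H.index_mul_card
    have h2 := Subgroup.card_dvd_of_le hP
    have h3 : Nat.card (alternatingGroup (Fin 5)) = 60 := by
      rw [nat_card_alternatingGroup]; simp [Nat.factorial]
    have h4 : Nat.card (P : Subgroup (alternatingGroup (Fin 5))) = 4 := by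
      rw [P.card_eq_multiplicity, h3, show 60 = 2 ^ 2 * 15 from rfl,
        Nat.factorization_mul (by simp) (by simp), Nat.Prime.factorization_pow Nat.prime_two]
      simp [Nat.factorization_eq_zero_of_not_dvd]
    rw [h3] at h1
    rw [h4] at h2
    obtain ⟨c, hc⟩ := h2
    have h5 : H.index ∣ 15 := ⟨c, by rw [hc] at h1; linarith⟩
    have h6 := Nat.le_of_dvd (by norm_num) h5
    generalize hi : H.index = i at *
    interval_cases i <;> try omega
    · rw [Subgroup.index_eq_one.1 hi]
      exact fun g => ⟨g, Subgroup.mem_sup_left (Subgroup.mem_top g), rfl⟩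
    · exact isPronormal_of_isCoatom (GT.PG.isCoatom_of_index_prime Nat.prime_three hi)
    · exact isPronormal_of_isCoatom (GT.PG.isCoatom_of_index_prime Nat.prime_five hi)
    · rw [← Subgroup.eq_of_le_of_card_ge hP (by omega)]
      exact FG.PN.isPronormal_sylow P
  · refine FG.PN.isPronormal_of_normalizer hP (FG.PN.isPronormal_sylow P) fun g hg => ?_
    rw [Sym.normalizer_sylow_two_alternating (by simp; omega)] at hg
    exact FG.PN.ProAt.of_mem_normalizer (Subgroup.le_normalizer (hP hg))

end Cfsg.Agent.S2222
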