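import Mathlib
import Cfsg.Statements.S5217
import Cfsg.Agent.Fus.BicNC
import Cfsg.Agent.Fus.BicEx2
import Cfsg.Agent.Fus.ToTop

set_option autoImplicit false
set_option linter.unusedVariables false
open Cfsg

namespace Cfsg.Agent.S5217

open Cfsg.FusionSystem Cfsg.Agent.Fus

/-- Let S be a finite bicyclic 2-group (S = ⟨x⟩⟨y⟩) that is not metacyclic. Then S supports a saturated fusion system other than its inner fusion system if and only if the commutator subgroup of S is cyclic. -/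
theorem result {Ω : Type*} [Group Ω] {S : Subgroup Ω} [Finite S] (hS : IsPGroup 2 S) (hb : ∃ x y : ↥S, ∀ g : ↥S, ∃ i j : ℤ, g = x ^ i * y ^ j) (hm : ¬ Cfsg.IsMetacyclic ↥S) : (∃ F : Cfsg.FusionSystem S, F.IsSaturated 2 ∧ ¬ ∀ P : Subgroup Ω, F.Hom P = (Cfsg.innerFusionSystem S).Hom P) ↔ IsCyclic ↥(commutator ↥S) := by
  have : Fact (Nat.Prime 2) := ⟨Nat.prime_two⟩
  obtain ⟨x, y, hb⟩ := hb
  constructor
  · rintro ⟨F, hF, hne⟩
    obtain ⟨M, hM⟩ := FG.BC.exists_nm hS hb hm
    obtain ⟨E, hE⟩ := F.exists_toTop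
    exact Bic.isCyclic_commutator_of_ne_inner hM (hE.isSaturated hF hS) fun e =>
      hne fun P => by rw [hE.symm.eq_inner e]
  · intro hc
    obtain ⟨E, hE, hne⟩ := Bic.exists_ne_inner hS hb hm hc
    obtain ⟨F, hF⟩ := E.exists_isIsoVia (θ := Subtype.val) (η := toSub S) (S' := S)
      (fun _ _ _ _ => rfl) (by rw [img_val, ← MonoidHom.range_eq_map, Subgroup.range_subtype])
      fun x _ => toSub_apply x.2
    exact ⟨F, hF.isSaturated hE (hS.to_subgroup ⊤), fun h => hne (hF.symm.eq_inner (ext_hom h))⟩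

end Cfsg.Agent.S5217
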