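import Mathlib
import Cfsg.Statements.S2140
import Cfsg.Agent.Cl.MinIdxSL

set_option autoImplicit false
open Cfsg

namespace Cfsg.Agent.S2140

/-- Minimal index of a proper subgroup of the linear groups: for n ≥ 3 and a field F with q elements, (n, q) ≠ (4, 2), every proper subgroup of PSL_n(F) has index at least (q^n − 1)/(q − 1), and some subgroup has exactly that index (the stabiliser of a point of the projective space). -/
theorem result {F : Type*} [Field F] [Fintype F] {q : ℕ} (hF : Fintype.card F = q) (n : ℕ) (hn : 3 ≤ n) (hexc : ¬ (n = 4 ∧ q = 2)) : (∀ H : Subgroup (Matrix.ProjectiveSpecialLinearGroup (Fin n) F), H ≠ ⊤ → (q ^ n - 1) / (q - 1) ≤ H.index) ∧ (∃ H : Subgroup (Matrix.ProjectiveSpecialLinearGroup (Fin n) F), H.index = (q ^ n - 1) / (q - 1)) := by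
  have hq : Nat.card F = q := by rw [Nat.card_eq_fintype_card, hF]
  have h2 : 1 < q := hq ▸ Finite.one_lt_card
  have h3 : 3 ≤ Fintype.card (Fin n) := by simpa using hn
  have : Nonempty (Fin n) := ⟨⟨0, by omega⟩⟩
  obtain ⟨x, hx⟩ := exists_ne (0 : Fin n → F)
  refine Cl.MI.quot_min_index _ (fun H _ hH => Nat.div_le_of_le_mul ?_) (Cl.MI.pst F _ x)
    (fun g hg => ?_) ?_
  · simpa [hF, mul_comm] using Cl.MI.sl_index h3 (by simpa [hF] using hexc) hH
  · obtain ⟨r, -, hr⟩ := Matrix.SpecialLinearGroup.mem_center_iff.1 hg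
    exact Cl.MI.mem_pst_of_eq hx (a := r) (by rw [Cl.MI.sl_smul, ← hr]; ext; simp)
  · have h1 := Cl.MI.index_pst (F := F) (G := Matrix.SpecialLinearGroup (Fin n) F) hx
    have h4 : Cl.MI.corb F (⊤ : Subgroup (Matrix.SpecialLinearGroup (Fin n) F)) x = {0}ᶜ := by
      ext y
      constructor
      · rintro ⟨g, -, a, ha, rfl⟩
        exact smul_ne_zero ha ((smul_ne_zero_iff_ne g).2 hx)
      · intro hy
        obtain ⟨g, hg⟩ := Cl.MI.exists_smul_eq' h3 hx hy
        exact ⟨g, trivial, 1, one_ne_zero, by rw [one_smul, hg]⟩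
    rw [h4, Set.ncard_compl, Set.ncard_singleton, Nat.card_fun, hq, Nat.card_eq_fintype_card,
      Fintype.card_fin] at h1
    rw [← h1, Nat.mul_div_cancel _ (by omega)]

end Cfsg.Agent.S2140
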