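import Cfsg.Statements.S3238
import Cfsg.Agent.No6.List
import Cfsg.Agent.No6.Main
import Cfsg.Agent.S2754
import Cfsg.Agent.S1169
import Cfsg.Agent.S1170
import Cfsg.Agent.S0482
import Cfsg.Agent.Wal.Main
import Cfsg.Agent.Gold.Ident
import Cfsg.Agent.Inv.BenderSimple
-- import your own Cfsg.Agent.* helpers here

set_option autoImplicit false
open Cfsg

namespace Cfsg.Agent.S3238

open Subgroup Cfsg.Agent.No6
open scoped commutatorElement

theorem aux {G : Type*} [Group G] [Finite G] [IsSimpleGroup G] (hG : ¬ IsMulCommutative G)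
    (h6 : N6 G) : Concl G := by
  by_cases h4 : Involves (Equiv.Perm (Fin 4)) G
  swap
  · exact h6.of_gold ((S2754.result hG).1 h4)
  rcases exists_sc h6 (three_of_involves h4) with ⟨S, B, hB, hsc, hc⟩ | h2
  · by_cases hA : IsMulCommutative B
    · rcases S1169.result S B hB hA hsc with h | ⟨H, hH⟩
      · rcases Wal.walter hG (Wal.abSyl_of_sylow h) with
          ⟨F, _, _, -, ⟨e⟩⟩ | ⟨F, _, _, -, ⟨e⟩⟩ | hJ
        · exact h6.l2 e
        · exact h6.l2 e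
        · exact (Gold.isReeType_or_isoJ1 hJ).elim (fun h => (h6.not_ree h).elim)
            fun h => (h6.not_j1 h).elim
      · rcases Inv.BS2.bender_simple hG hH with ⟨F, _, _, n, -, -, ⟨e⟩⟩ | h |
          ⟨F, _, _, n, hn, hF, ⟨e⟩⟩
        · exact h6.l2 e
        · exact Or.inr (Or.inr (Or.inr h))
        · exact h6.u3' hn hF e
    · have h1 : ⁅(⊤ : Subgroup B), ⊤⁆ ≤ center B := commutator_le.2 fun a _ b _ =>
        mem_center_iff.2 fun c => Subtype.ext (hc a a.2 b b.2 c c.2).symm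
      rcases S1170.result S B hsc hA h1 with ⟨F, _, _, -, ⟨e⟩⟩ | ⟨F, _, _, q, hF, he, hq, ⟨e⟩⟩ |
        h | ⟨F, _, _, _, ⟨e⟩⟩ | ⟨F, _, _, _, -, ⟨e⟩⟩ | ⟨⟨e⟩⟩
      · exact h6.l2 e
      · exact h6.u3 hF he hq e
      · exact Or.inr (Or.inr (Or.inr (Loc.S3F.simple_three_prime hG (S2220.not_suz h))))
      · exact h6.l3 e
      · exact (h6.not_six e six_sp4).elim
      · exact (h6.not_six e six_a7).elim
  · rcases S0482.result hG h2 with ⟨F, _, _, -, -, ⟨e⟩⟩ | ⟨F, _, _, h, ⟨e⟩⟩ |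
      ⟨F, _, _, q, h, ho, ⟨e⟩⟩ | ⟨F, _, _, h, ⟨e⟩⟩ | ⟨⟨e⟩⟩ | h
    · exact h6.l2 e
    · exact (h6.not_six e (six_l3_odd (two_ne_zero_of_odd h))).elim
    · exact (h6.not_six e (six_u3_odd h ho)).elim
    · exact h6.u3 (q := 4) h (by decide) le_rfl e
    · exact (h6.not_six e six_a7).elim
    · exact (h6.not_m11 h).elim



/-- A finite non-abelian simple group containing no element of order 6 is isomorphic to PSL₂(q) with q ≢ 1, 11 (mod 12), to PSL₃(2ⁿ) with n ≥ 2 and n ≢ 0 (mod 6), to PSU₃(2ⁿ) with n ≥ 2 and n ≢ 3 (mod 6), or to a Suzuki group Sz(2^(2n+1)), n ≥ 1. -/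
theorem result {G : Type*} [Group G] [Finite G] [IsSimpleGroup G]
    (hG : ¬ IsMulCommutative G) (h6 : ∀ g : G, orderOf g ≠ 6) :
    (∃ (F : Type) (_ : Field F) (_ : Fintype F), Fintype.card F % 12 ≠ 1 ∧ Fintype.card F % 12 ≠ 11 ∧
        Nonempty (G ≃* Matrix.ProjectiveSpecialLinearGroup (Fin 2) F)) ∨
      (∃ (F : Type) (_ : Field F) (_ : Fintype F) (n : ℕ), 2 ≤ n ∧ n % 6 ≠ 0 ∧ Fintype.card F = 2 ^ n ∧
        Nonempty (G ≃* Matrix.ProjectiveSpecialLinearGroup (Fin 3) F)) ∨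
      (∃ (F : Type) (_ : Field F) (_ : Fintype F) (n : ℕ), 2 ≤ n ∧ n % 6 ≠ 3 ∧ Fintype.card F = (2 ^ n) ^ 2 ∧
        Nonempty (G ≃* Cfsg.PSU 3 F (2 ^ n))) ∨
      Cfsg.Lie.IsoSuzuki G := by
  exact aux hG h6

end Cfsg.Agent.S3238
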