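import Mathlib
import Cfsg.Statements.S0588

set_option autoImplicit false
open Cfsg

namespace Cfsg.Agent.S0588

/-- If a subgroup H of a finite group G contains the centralizer of every non-identity element of H, then the order of H is coprime to its index. -/
theorem result {G : Type*} [Group G] [Finite G] (H : Subgroup G) (h : ∀ x ∈ H, x ≠ 1 → Subgroup.centralizer ({x} : Set G) ≤ H) : (Nat.card H).Coprime H.index := by
  refine Nat.coprime_of_dvd fun p hp hpH hpi => ?_
  have := Fact.mk hp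
  obtain ⟨P⟩ : Nonempty (Sylow p H) := inferInstance
  have hPG : IsPGroup p ((P : Subgroup H).map H.subtype) := P.2.map _
  obtain ⟨Q, hQ⟩ := hPG.exists_le_sylow
  have hP1 : (P : Subgroup H) ≠ ⊥ := P.ne_bot_of_dvd_card hpH
  obtain ⟨⟨x, hx⟩, hx1⟩ := Subgroup.ne_bot_iff_exists_ne_one.mp hP1
  have hx1' : (x : G) ≠ 1 := fun e => hx1 (Subtype.ext (Subtype.ext e))
  have hxQ : (x : G) ∈ Q := hQ ⟨x, hx, rfl⟩
  have hnt : Nontrivial (Q : Subgroup G) := ⟨⟨⟨x, hxQ⟩, 1, fun e => hx1' (congrArg Subtype.val e)⟩⟩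
  have := Q.2.center_nontrivial
  obtain ⟨⟨z, hz⟩, hz1⟩ := exists_ne (1 : Subgroup.center (Q : Subgroup G))
  have hz1' : (z : G) ≠ 1 := fun e => hz1 (Subtype.ext (Subtype.ext e))
  have hzc : ∀ y ∈ (Q : Subgroup G), y * z = z * y := fun y hy =>
    congrArg Subtype.val (Subgroup.mem_center_iff.mp hz ⟨y, hy⟩)
  have hzH : (z : G) ∈ H :=
    h x x.2 hx1' (Subgroup.mem_centralizer_singleton_iff.mpr (hzc x hxQ).symm)
  have hQH : (Q : Subgroup G) ≤ H := fun y hy =>
    h z hzH hz1' (Subgroup.mem_centralizer_singleton_iff.mpr (hzc y hy))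
  exact Q.not_dvd_index (hpi.trans (Subgroup.index_dvd_of_le hQH))

end Cfsg.Agent.S0588
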