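import Cfsg.Statements.S0742
import Cfsg.Agent.Perm.ZassField

set_option autoImplicit false
open Cfsg

namespace Cfsg.Agent.S0742

open Cfsg.Agent.Perm.Zass in

/-- A finite Zassenhaus group of degree `n + 1` with two-point stabilisers of even order `d` satisfying `2d ≤ n - 1` has `n = p^f` for an odd prime `p` and is isomorphic to `PSL(2, p^f)`. -/
theorem result {G Ω : Type*} [Group G] [Finite G] [MulAction G Ω] [Fintype Ω] (hZ : Cfsg.IsZassenhausGroup G Ω) {a b : Ω} (hab : a ≠ b) (heven : Even (Nat.card ↥(MulAction.stabilizer G a ⊓ MulAction.stabilizer G b))) (hd : 2 * Nat.card ↥(MulAction.stabilizer G a ⊓ MulAction.stabilizer G b) ≤ Fintype.card Ω - 2) : ∃ (p f : ℕ) (K : Type) (_ : Field K) (_ : Fintype K), p.Prime ∧ p ≠ 2 ∧ Fintype.card K = p ^ f ∧ Fintype.card Ω = p ^ f + 1 ∧ Nonempty (G ≃* Matrix.ProjectiveSpecialLinearGroup (Fin 2) K) := by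
  have hT := hZ.isZT
  obtain ⟨H, hH⟩ := hT.exists_isKer a
  obtain ⟨t, ht, hta, htb⟩ := hT.exists_swap hab
  have h1 := hH.card_add_one hT
  have h2 := hT.card_le_of_even hab heven
  have h3 := hZ.one_lt_card_stab2 hab
  rw [← Nat.card_eq_fintype_card] at hd ⊢
  obtain ⟨F, _, _, hF, h⟩ := hH.exists_iso hT hab (by omega) ht hta htb fun x hx =>
    hT.inverts_of_even hab heven hd hta htb hx
  obtain ⟨h4, -⟩ | ⟨h4, h5, h6⟩ := h
  · omega
  obtain ⟨p, hp⟩ := CharP.exists F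
  obtain ⟨f, hpp, hf⟩ := FiniteField.card F p
  refine ⟨p, f, F, inferInstance, inferInstance, hpp, ?_, hf, by rw [← hf, hF, h1], h6⟩
  rintro rfl
  rw [← hF, hf] at h5
  exact Nat.not_even_iff_odd.mpr h5 (Nat.even_pow.mpr ⟨even_two, f.ne_zero⟩)

end Cfsg.Agent.S0742
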