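import Mathlib
import Cfsg.Statements.S2480
import Cfsg.Agent.Cl.ClassNumC

set_option autoImplicit false
open Cfsg

namespace Cfsg.Agent.S2480

/-- The number of conjugacy classes of PSL(n,q): for F a finite field with q elements, n ≥ 2 and d = gcd(n, q − 1), the number k of conjugacy classes of PSL(n,F) satisfies q^(n−1) ≤ d·k ≤ q^(n−1) + 5q^(n−2). -/
theorem result {F : Type*} [Field F] [Fintype F] (n : ℕ) (hn : 2 ≤ n) :
    Fintype.card F ^ (n - 1) ≤ Nat.gcd n (Fintype.card F - 1) * Nat.card (ConjClasses (Matrix.ProjectiveSpecialLinearGroup (Fin n) F)) ∧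
      Nat.gcd n (Fintype.card F - 1) * Nat.card (ConjClasses (Matrix.ProjectiveSpecialLinearGroup (Fin n) F)) ≤ Fintype.card F ^ (n - 1) + 5 * Fintype.card F ^ (n - 2) := by
  classical
  have : NeZero n := ⟨by omega⟩
  have h := Cl.Cls.card_conjClasses_quotient_mul (Subgroup.center (Matrix.SpecialLinearGroup (Fin n) F))
    le_rfl fun _ => True
  have h0 := Cl.card_center_sl (ι := Fin n) (F := F)
  rw [Fintype.card_fin, Nat.card_eq_fintype_card (α := F)] at h0
  rw [h0, mul_comm, ← Finset.add_sum_erase _ _ (Finset.mem_univ 1)] at h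
  simp only [true_and, OneMemClass.coe_one, one_mul, IsConj.refl] at h
  change _ * Cl.Cls.ccl _ = Cl.Cls.ccl _ + _ at h
  rw [Cl.Cls.ccl_true, Cl.Cls.ccl_true] at h
  have h1 := Cl.Cls.eCount_GL' F (AlgebraicClosure F)
  have h2 := Cl.Cls.eDet_GL F (AlgebraicClosure F)
  have h3 := Cl.Cls.card_conjClasses_SL_le F (AlgebraicClosure F) n
  refine ⟨(Cl.Cls.pow_lt_card_conjClasses_SL F hn).le.trans (h.ge.trans' (Nat.le_add_right _ _)),
    h.le.trans ?_⟩
  have h4 : ∀ b, (∀ e c, 2 ≤ e → e ≤ n → 2 * Cl.Cls.sJ (K := AlgebraicClosure F) (Fintype.card F)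
      (Fintype.card F - 1) (n / e) c ≤ b) → 2 * ∑ z ∈ (Finset.univ : Finset (Subgroup.center
        (Matrix.SpecialLinearGroup (Fin n) F))).erase 1, Cl.Cls.ccl (fun g => IsConj (z.1 * g) g) ≤
      (n.gcd (Fintype.card F - 1) - 1) * b := fun b hb => by
    rw [Finset.mul_sum, ← h0, Nat.card_eq_fintype_card, ← Finset.card_univ,
      ← Finset.card_erase_of_mem (Finset.mem_univ 1)]
    refine Finset.sum_le_card_nsmul _ _ _ fun z hz => ?_
    obtain ⟨c, h5, h6⟩ := Matrix.SpecialLinearGroup.mem_center_iff.1 z.2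
    rw [Fintype.card_fin, ← orderOf_dvd_iff_pow_eq_one] at h5
    have h7 := Nat.pos_of_dvd_of_pos h5 (by omega)
    obtain ⟨c', h8⟩ := Cl.Cls.ccl_fixed_SL_le (AlgebraicClosure F) (z := z.1)
      (by rw [← h6, Matrix.scalar_apply, Matrix.smul_one_eq_diagonal]) (IsPrimitiveRoot.orderOf c) h7
    refine (Nat.mul_le_mul_left _ h8).trans (hb _ _ ?_ (Nat.le_of_dvd (by omega) h5))
    by_contra h9
    obtain rfl : c = 1 := orderOf_eq_one_iff.1 (by omega)
    exact (Finset.mem_erase.1 hz).1 (Subtype.ext (Subtype.ext (h6.symm.trans (map_one _))))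
  obtain ⟨g1, g2⟩ := Cl.Cls.gcd_sub_one_le h1.m_pos (show 0 < n by omega)
  simp only [Cl.Cls.ccl] at h4
  obtain rfl | hn := hn.eq_or_lt
  · have h5 := h4 2 fun e c h5 h6 => by
      rw [h6.antisymm h5]
      exact Nat.mul_le_mul_left 2 (h1.sJ_one_le c)
    have h6 := h1.sJ_two_le h2 1
    norm_num at *
    omega
  have h5 := h4 (5 * (Fintype.card F - 1 + 1) ^ (n / 2 - 1)) fun e c h5 h6 =>
    (h1.two_mul_sJ_le h2 (Nat.div_pos h6 (by omega)) c).trans (Nat.mul_le_mul_left _
      (Nat.pow_le_pow_right (Nat.succ_pos _) (Nat.sub_le_sub_right (Nat.div_le_div_left h5 two_pos) _)))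
  have h6 := h1.sJ_le_linear h2 hn 1
  have h7 : (n.gcd (Fintype.card F - 1) - 1) * (5 * (Fintype.card F - 1 + 1) ^ (n / 2 - 1)) ≤
      4 * (Fintype.card F - 1 + 1) ^ (n - 2) := by
    generalize n.gcd (Fintype.card F - 1) - 1 = x at *
    generalize Fintype.card F - 1 = m at *
    obtain h7 | h7 := le_or_gt 5 n
    · refine le_trans ?_ (Nat.mul_le_mul_left _ (Nat.pow_le_pow_right m.succ_pos
        (show n / 2 - 1 + 2 ≤ n - 2 by omega)))
      rw [pow_add, ← mul_assoc, mul_comm _ (_ ^ 2), ← mul_assoc]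
      exact Nat.mul_le_mul_right _ (by nlinarith)
    · rw [show n - 2 = n / 2 - 1 + 1 by omega, pow_succ', ← mul_assoc, ← mul_assoc]
      exact Nat.mul_le_mul_right _ (by omega)
  rw [Nat.sub_add_cancel Fintype.card_pos] at h5 h6 h7
  omega

end Cfsg.Agent.S2480
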