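import Cfsg.Statements.S4198
import Cfsg.Agent.Sym.Order
import Cfsg.Agent.Sym.Basic

set_option autoImplicit false
open Cfsg

namespace Cfsg.Agent.S4198
open Subgroup Equiv Equiv.Perm

/-- The possible cycle types in degree `n`. -/
def T (n : ℕ) : Set (Multiset ℕ) := {m | m.sum ≤ n ∧ ∀ a ∈ m, 2 ≤ a}

/-- The cycle type of a conjugacy class. -/
def ty {n : ℕ} : ConjClasses (Perm (Fin n)) → Multiset ℕ :=
  Quotient.lift cycleType fun _ _ h => isConj_iff_cycleType_eq.1 h

theorem ty_injective {n : ℕ} : Function.Injective (ty (n := n)) := by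
  rintro ⟨a⟩ ⟨b⟩ h
  exact Quotient.sound (isConj_iff_cycleType_eq.2 h)

theorem range_ty (n : ℕ) : Set.range (ty (n := n)) = T n := by
  ext m
  constructor
  · rintro ⟨⟨a⟩, rfl⟩
    exact ⟨a.sum_cycleType_le.trans_eq (Fintype.card_fin n), fun _ h => two_le_of_mem_cycleType h⟩
  · intro h
    obtain ⟨g, rfl⟩ := (exists_with_cycleType_iff (Fin n)).2 ⟨by simpa using h.1, h.2⟩
    exact ⟨ConjClasses.mk g, rfl⟩

theorem finite_T (n : ℕ) : (T n).Finite := range_ty n ▸ Set.finite_range _

theorem card_conjClasses (n : ℕ) : Nat.card (ConjClasses (Perm (Fin n))) = (T n).ncard := by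
  rw [← range_ty, Set.ncard_range_of_injective ty_injective]

theorem ncard_five : (T 5).ncard ≤ 2 ^ (5 - 2) := by
  have h : (Sym.partsLe 5 5 5).length ≤ 2 ^ (5 - 2) := by decide
  have h2 := fun P h => Sym.forall_multiset_of_partsLe (n := 5) (P := P) h
  generalize Sym.partsLe 5 5 5 = L at h h2
  have : T 5 ⊆ (L.map Multiset.ofList).toFinset := fun m hm =>
    h2 (fun m => m ∈ (L.map Multiset.ofList).toFinset)
      (fun l hl => List.mem_toFinset.2 (List.mem_map_of_mem hl)) m hm.1 hm.2
  refine (Set.ncard_le_ncard this).trans ?_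
  rw [Set.ncard_coe_finset]
  exact (List.toFinset_card_le _).trans (by rwa [List.length_map])

/-- The smallest part. -/
noncomputable def mn (m : Multiset ℕ) : ℕ := sInf {a | a ∈ m}

theorem mn_mem {m : Multiset ℕ} (h : m ≠ 0) : mn m ∈ m :=
  Nat.sInf_mem (s := {a | a ∈ m}) (Multiset.exists_mem_of_ne_zero h)

theorem mn_le {m : Multiset ℕ} {a : ℕ} (h : a ∈ m) : mn m ≤ a := Nat.sInf_le h

theorem sum_erase {m : Multiset ℕ} {a : ℕ} (h : a ∈ m) : a + (m.erase a).sum = m.sum := by
  rw [← Multiset.sum_cons, Multiset.cons_erase h]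

theorem ncard_succ_le (n : ℕ) : (T (n + 1)).ncard ≤ 2 * (T n).ncard := by
  let ψ : Multiset ℕ → Multiset ℕ := fun m =>
    if m.sum = n then (mn m + 1) ::ₘ m.erase (mn m) else 2 ::ₘ m
  have : T (n + 1) ⊆ T n ∪ ψ '' T n := fun m hm => by
    by_cases h : m.sum ≤ n
    · exact Or.inl ⟨h, hm.2⟩
    have h0 : m ≠ 0 := fun h0 => h (by simp [h0])
    have h1 := mn_mem h0
    have h2 := sum_erase h1
    have h3 := hm.1
    have h4 := hm.2 _ h1
    right
    by_cases h5 : mn m = 2
    · refine ⟨m.erase 2, ⟨by rw [h5] at h2; omega,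
        fun a ha => hm.2 a (Multiset.mem_of_mem_erase ha)⟩, ?_⟩
      rw [h5] at h1 h2
      simp only [ψ]
      rw [if_neg (by omega), Multiset.cons_erase h1]
    · refine ⟨(mn m - 1) ::ₘ m.erase (mn m), ⟨by rw [Multiset.sum_cons]; omega, fun a ha => ?_⟩, ?_⟩
      · rcases Multiset.mem_cons.1 ha with rfl | ha
        · omega
        · exact hm.2 a (Multiset.mem_of_mem_erase ha)
      · have h6 : mn ((mn m - 1) ::ₘ m.erase (mn m)) = mn m - 1 := by
          refine le_antisymm (mn_le (Multiset.mem_cons_self _ _)) ?_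
          rcases Multiset.mem_cons.1 (mn_mem (Multiset.cons_ne_zero (a := mn m - 1)
            (m := m.erase (mn m)))) with h | h
          · exact h.ge
          · exact (Nat.sub_le _ _).trans (mn_le (Multiset.mem_of_mem_erase h))
        simp only [ψ]
        rw [if_pos (by rw [Multiset.sum_cons]; omega), h6, Multiset.erase_cons_head,
          Nat.sub_add_cancel (by omega), Multiset.cons_erase h1]
  refine (Set.ncard_le_ncard this ((finite_T n).union ((finite_T n).image _))).trans
    ((Set.ncard_union_le _ _).trans ?_)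
  have := Set.ncard_image_le (f := ψ) (finite_T n)
  omega

theorem card_alt_lt {n : ℕ} (hn : 5 ≤ n) :
    Nat.card (ConjClasses (alternatingGroup (Fin n))) < (T n).ncard := by
  classical
  choose r hr using ConjClasses.mk_surjective (α := alternatingGroup (Fin n))
  let t : ConjClasses (alternatingGroup (Fin n)) → Multiset ℕ := fun c => (r c).1.cycleType
  let s : Multiset ℕ → ConjClasses (alternatingGroup (Fin n)) := Function.invFun t
  have hs : ∀ c, t (s (t c)) = t c := fun c => Function.invFun_eq ⟨c, rfl⟩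
  let Φ : ConjClasses (alternatingGroup (Fin n)) → Multiset ℕ := fun c =>
    if c = s (t c) then t c else (mn (t c) - 1) ::ₘ (t c).erase (mn (t c))
  have heven : ∀ c, Even ((t c).sum + (t c).card) := fun c =>
    Sym.mem_alternatingGroup_iff_even.1 (r c).2
  have hsplit : ∀ c, c ≠ s (t c) → (∀ a ∈ t c, Odd a) ∧ n ≤ (t c).sum + 1 := fun c hc => by
    by_contra h
    refine hc ?_
    rw [← hr c, ← hr (s (t (ConjClasses.mk (r c)))), hr c, ← hr c, ConjClasses.mk_eq_mk_iff_isConj,
      hr c]
    refine Sym.isConj_alternatingGroup_of_not_le (isConj_iff_cycleType_eq.2 (hs c).symm) fun h1 => ?_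
    have := centralizer_le_alternating_iff.1 h1
    exact h ⟨this.1, by simpa using this.2.1⟩
  have hmn : ∀ c, c ≠ s (t c) → mn (t c) ∈ t c ∧ 3 ≤ mn (t c) ∧ Odd (mn (t c)) := fun c hc => by
    have h1 := hsplit c hc
    have h2 : mn (t c) ∈ t c := mn_mem fun h => by have := h1.2; rw [h] at this; simp at this; omega
    have h3 := two_le_of_mem_cycleType h2
    obtain ⟨k, hk⟩ := h1.1 _ h2
    exact ⟨h2, by omega, k, hk⟩
  have hodd : ∀ c, c ≠ s (t c) → ¬ Even ((Φ c).sum + (Φ c).card) := fun c hc => by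
    obtain ⟨h1, h2, -⟩ := hmn c hc
    have h3 := sum_erase h1
    have h4 := Multiset.card_erase_add_one h1
    have h5 := heven c
    simp only [Φ, if_neg hc, Multiset.sum_cons, Multiset.card_cons]
    grind
  have hinj : Function.Injective Φ := fun c d h => by
    by_cases hc : c = s (t c) <;> by_cases hd : d = s (t d)
    · simp only [Φ, if_pos hc, if_pos hd] at h
      rw [hc, hd, h]
    · exact absurd (by rw [← h]; simp only [Φ, if_pos hc]; exact heven c) (hodd d hd)
    · exact absurd (by rw [h]; simp only [Φ, if_pos hd]; exact heven d) (hodd c hc)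
    obtain ⟨c1, c2, c3⟩ := hmn c hc
    obtain ⟨d1, d2, d3⟩ := hmn d hd
    simp only [Φ, if_neg hc, if_neg hd] at h
    have h1 : mn (t c) = mn (t d) := by
      rcases Multiset.mem_cons.1 (h ▸ Multiset.mem_cons_self (mn (t c) - 1) _) with h2 | h2
      · omega
      · have := (hsplit d hd).1 _ (Multiset.mem_of_mem_erase h2)
        grind
    have h2 : t c = t d := by
      rw [← Multiset.cons_erase c1, ← Multiset.cons_erase d1]
      rw [h1] at h ⊢
      rw [(Multiset.cons_inj_right _).1 h]
    have key : ∀ c, c ≠ s (t c) → ∃ g ∉ alternatingGroup (Fin n),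
        g * (r (s (t c))).1 * g⁻¹ = (r c).1 := fun c hc => by
      obtain ⟨g, hg⟩ := isConj_iff.1 (isConj_iff_cycleType_eq.2 (hs c))
      refine ⟨g, fun h => hc ?_, hg⟩
      rw [← hr (s (t c))]
      conv_lhs => rw [← hr c]
      exact (ConjClasses.mk_eq_mk_iff_isConj.2 (isConj_iff.2 ⟨⟨g, h⟩, Subtype.ext hg⟩)).symm
    obtain ⟨g, hg, hg'⟩ := key c hc
    obtain ⟨k, hk, hk'⟩ := key d hd
    rw [← hr c, ← hr d, ConjClasses.mk_eq_mk_iff_isConj]
    refine isConj_iff.2 ⟨⟨k * g⁻¹, ?_⟩, Subtype.ext ?_⟩
    · simp [Sym.sign_eq_neg_one_of_not_mem hg, Sym.sign_eq_neg_one_of_not_mem hk]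
    · simp only [Subgroup.coe_mul, InvMemClass.coe_inv]
      rw [← hg', ← hk', h2]; group
  rw [← Set.ncard_range_of_injective hinj]
  refine Set.ncard_lt_ncard ⟨?_, fun h => ?_⟩ (finite_T n)
  · rintro _ ⟨c, rfl⟩
    have h1 : t c ∈ T n := ⟨by simpa using (r c).1.sum_cycleType_le,
      fun _ h => two_le_of_mem_cycleType h⟩
    by_cases hc : c = s (t c)
    · simpa only [Φ, if_pos hc] using h1
    obtain ⟨c1, c2, c3⟩ := hmn c hc
    have h3 := sum_erase c1
    have h4 := h1.1
    simp only [Φ, if_neg hc]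
    refine ⟨by rw [Multiset.sum_cons]; omega, fun a ha => ?_⟩
    rcases Multiset.mem_cons.1 ha with rfl | ha
    · omega
    · exact h1.2 a (Multiset.mem_of_mem_erase ha)
  · obtain ⟨c, hc'⟩ := h (show ({2} : Multiset ℕ) ∈ T n from ⟨by simp; omega, by simp⟩)
    by_cases hc : c = s (t c)
    · have := heven c
      simp only [Φ, if_pos hc] at hc'
      rw [hc'] at this
      exact absurd this (by decide)
    · obtain ⟨c1, c2, c3⟩ := hmn c hc
      have h3 := sum_erase c1
      have h4 := (hsplit c hc).2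
      have h5 := congrArg Multiset.sum hc'
      simp only [Φ, if_neg hc, Multiset.sum_cons, Multiset.sum_singleton] at h5
      omega


/-- For n ≥ 5 the alternating group of degree n has strictly fewer conjugacy classes than the symmetric group of degree n, and the symmetric group of degree n (whose classes correspond to the partitions of n) has at most 2^(n−2) conjugacy classes. -/
theorem result (n : ℕ) (hn : 5 ≤ n) : Nat.card (ConjClasses (alternatingGroup (Fin n))) < Nat.card (ConjClasses (Equiv.Perm (Fin n))) ∧ Nat.card (ConjClasses (Equiv.Perm (Fin n))) ≤ 2 ^ (n - 2) := by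
  rw [card_conjClasses]
  refine ⟨card_alt_lt hn, ?_⟩
  induction n, hn using Nat.le_induction with
  | base => exact ncard_five
  | succ n hn ih =>
    refine (ncard_succ_le n).trans ?_
    rw [show n + 1 - 2 = n - 2 + 1 by omega, pow_succ']
    exact Nat.mul_le_mul_left 2 ih

end Cfsg.Agent.S4198
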