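import Mathlib
-- Template for statement S4504 (row 4504; see /opt/grader/pristine/manifest.json for weights).
-- Copy to Cfsg/Agent/S4504.lean and replace the sorry. The statement below is byte-identical to the frozen
-- statement Cfsg.CfsgFrozen.S4504 (Cfsg/Statements/S4504.lean; the theorem Cfsg.chr_prime_to_first_power_faithful_degree_half_p_minus_one_is_psl);
-- the grader kernel-checks Cfsg.Agent.S4504.result against that frozen type. Keep the theorem IN THIS FILE
-- (a `result` declared elsewhere and merely imported here is not credited); helpers may live anywhere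
-- under Cfsg/Agent/.
import Cfsg.Statements.S4504
import Cfsg.Agent.Blk.OneTuan

set_option autoImplicit false
set_option linter.style.haveILetI false
set_option linter.unusedVariables false
open Cfsg

namespace Cfsg.Agent.S4504


/-- Let G be a finite group whose order is divisible by the prime p exactly once and which has no normal subgroup of order p. If G has a faithful character of degree exactly (p − 1)/2, then G modulo its centre is isomorphic to PSL(2, p). -/
theorem result {G : Type*} [Group G] [Finite G] (p : ℕ) (hp : p.Prime) (hdiv : p ∣ Nat.card G) (hsq : ¬ p ^ 2 ∣ Nat.card G) (hnn : ∀ H : Subgroup G, H.Normal → Nat.card H ≠ p) (χ : G → ℂ) (hχ : Cfsg.IsCharacter G χ) (hfaith : ∀ g : G, χ g = χ 1 → g = 1) (hdeg : 2 * Cfsg.charDegree χ + 1 = p) : Nonempty ((G ⧸ Subgroup.center G) ≃* Matrix.ProjectiveSpecialLinearGroup (Fin 2) (ZMod p)) := by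
  open Cfsg.Agent.Blk.One in
  haveI := Fact.mk hp
  haveI := Fintype.ofFinite G
  obtain ⟨S, hS⟩ := exists_setup_of_not_normal hdiv hsq hnn
  exact S.psl_of_half hS hχ (hχ.charKer_eq_bot_iff.2 hfaith) hdeg

end Cfsg.Agent.S4504
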