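import Cfsg.Statements.S3702
import Cfsg.Agent.Ch.SpcPermH6
import Cfsg.Agent.Ch.SpcH6T
import Cfsg.Agent.GT.Cores

set_option autoImplicit false
open Cfsg

namespace Cfsg.Agent.S3702

open Cfsg.Agent.Ch.Spc

theorem card_cent {G : Type*} [Group G] {φ : SD V3 EH6 →* G} (hφ : Function.Injective φ) {u : V3}
    (hu : Subgroup.centralizer ({φ ⟨u, 1⟩} : Set G) ≤ φ.range) :
    Nat.card (Subgroup.centralizer ({φ ⟨u, 1⟩} : Set G)) =
      Fintype.card V3 * (Finset.univ.filter fun e : EH6 => e • u = u).card := by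
  rw [← Fintype.card_subtype, ← Fintype.card_prod, ← Nat.card_eq_fintype_card]
  symm
  refine Nat.card_eq_of_bijective (fun p => ⟨φ ⟨p.1, p.2.1⟩, ?_⟩) ⟨?_, ?_⟩
  · rw [Subgroup.mem_centralizer_singleton_iff, ← map_mul, ← map_mul]
    congr 1
    refine SD.ext ?_ (by simp)
    simp only [SD.mul_v, p.2.2, one_smul, add_comm]
  · rintro ⟨v, e, he⟩ ⟨w, f, hf⟩ h
    have := hφ (congrArg Subtype.val h)
    simp only [SD.mk.injEq] at this
    simp [this.1, this.2]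
  · rintro ⟨g, hg⟩
    obtain ⟨x, rfl⟩ := hu hg
    refine ⟨(x.v, ⟨x.e, ?_⟩), rfl⟩
    rw [Subgroup.mem_centralizer_singleton_iff, ← map_mul, ← map_mul] at hg
    have := congrArg SD.v (hφ hg)
    simp only [SD.mul_v, one_smul] at this
    rw [add_comm u] at this
    exact add_left_cancel this

theorem card_cent_conj {G : Type*} [Group G] (a g : G) :
    Nat.card (Subgroup.centralizer ({g * a * g⁻¹} : Set G)) =
      Nat.card (Subgroup.centralizer ({a} : Set G)) := by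
  symm
  refine Nat.card_congr ((MulAut.conj g).toEquiv.subtypeEquiv fun x => ?_)
  simp only [Subgroup.mem_centralizer_singleton_iff, MulEquiv.toEquiv_eq_coe, EquivLike.coe_coe,
    MulAut.conj_apply]
  rw [← mul_left_inj g⁻¹, ← mul_right_inj g]
  constructor <;> intro h <;> convert h using 1 <;> group

theorem core_eq {G : Type*} [Group G] [Finite G] {φ : SD V3 EH6 →* G}
    (hφ : Function.Injective φ) :
    (Cfsg.pCore 3 ↥φ.range).map φ.range.subtype = (φ.comp SD.inl).range := by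
  refine le_antisymm ?_ ?_
  · have key : ∀ m, (⟨φ m, m, rfl⟩ : φ.range) ∈ Cfsg.pCore 3 ↥φ.range → m.e ^ 3 = 1 := by
      intro m hm
      obtain ⟨k, hk⟩ := GT.isPGroup_pCore 3 ⟨_, hm⟩
      have h1 : φ (m ^ 3 ^ k) = φ 1 := by
        rw [map_pow, map_one]; exact congrArg (fun x => x.1.1) hk
      have h2 := congrArg SD.proj (hφ h1)
      rw [map_pow, map_one] at h2
      have h3 : ∀ e : EH6, e ^ (4 * 3) = 1 := by decide +kernel
      refine orderOf_dvd_iff_pow_eq_one.1 (Nat.Coprime.dvd_of_dvd_mul_left ?_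
        (orderOf_dvd_of_pow_eq_one (h3 m.e)))
      exact Nat.Coprime.of_dvd_left (orderOf_dvd_of_pow_eq_one h2)
        (Nat.Coprime.pow_left _ (by norm_num))
    rintro _ ⟨⟨_, m, rfl⟩, hm, rfl⟩
    have h4 : ∀ e : EH6, e ^ 3 = 1 → (∀ x, (e * (x * e * x⁻¹)) ^ 3 = 1) → e = 1 := by
      decide +kernel
    refine mem_range_inl.2 ⟨m.v, congrArg φ (SD.ext rfl (h4 _ (key m hm) fun x => ?_).symm)⟩
    have hn : (Cfsg.pCore 3 ↥φ.range).Normal := by
      have : (Cfsg.pCore 3 ↥φ.range).Characteristic := GT.pCore_characteristic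
      infer_instance
    have h5 := key (m * (⟨0, x⟩ * m * (⟨0, x⟩ : SD V3 EH6)⁻¹)) (by
      convert Subgroup.mul_mem _ hm (hn.conj_mem _ hm ⟨φ ⟨0, x⟩, _, rfl⟩) using 1
      ext
      simp only [map_mul, map_inv, Subgroup.coe_mul, Subgroup.coe_inv])
    simpa only [SD.mul_e, SD.inv_e] using h5
  · intro t ht
    have hle : (φ.comp SD.inl).range ≤ φ.range := by rintro _ ⟨v, rfl⟩; exact ⟨_, rfl⟩
    refine ⟨⟨t, hle ht⟩, (le_sSup (s := {N : Subgroup φ.range | N.Normal ∧ IsPGroup 3 N})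
      (a := (φ.comp SD.inl).range.subgroupOf φ.range) ⟨⟨?_⟩, ?_⟩) ht, rfl⟩
    · rintro ⟨s, hs'⟩ hs ⟨_, m, rfl⟩
      obtain ⟨v, rfl⟩ := mem_range_inl.1 hs
      exact mem_range_inl.2 ⟨m.e • v, by rw [← SD.conj_inl, map_mul, map_mul, map_inv]; rfl⟩
    · refine IsPGroup.of_card (n := 3) ?_
      rw [Nat.card_congr (Subgroup.subgroupOfEquivOfLe hle).toEquiv, card_range_inl hφ]
      decide

/-- Let K ≤ Sym(9) be generated by (1 2 3), (1 4 7)(2 5 8)(3 6 9), (1 2)(4 5) and (1 4)(2 5)(3 6)(7 8) (the normalizer in Alt(9) of the elementary abelian group generated by (1 2 3), (4 5 6), (7 8 9)). Let G be a finite group with a subgroup H ≅ K and J = O₃(H). If C_G(j) ≤ H for every j ≠ 1 in J and J is strongly closed in H with respect to G (a G-conjugate of an element of J lying in H lies in J), then G = H. -/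
theorem result {G : Type*} [Group G] [Finite G] (H : Subgroup G)
    (hH : Nonempty (↥H ≃* ↥(Subgroup.closure ({Equiv.swap (0 : Fin 9) 1 * Equiv.swap 1 2,
        Equiv.swap (0 : Fin 9) 3 * Equiv.swap 3 6 * (Equiv.swap (1 : Fin 9) 4 * Equiv.swap 4 7) * (Equiv.swap (2 : Fin 9) 5 * Equiv.swap 5 8),
        Equiv.swap (0 : Fin 9) 1 * Equiv.swap 3 4, Equiv.swap (0 : Fin 9) 3 * Equiv.swap 1 4 * Equiv.swap 2 5 * Equiv.swap 6 7} : Set (Equiv.Perm (Fin 9))))))
    (J : Subgroup G) (hJ : J = (Cfsg.pCore 3 ↥H).map H.subtype)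
    (hC : ∀ j ∈ J, j ≠ 1 → Subgroup.centralizer ({j} : Set G) ≤ H) (hsc : Cfsg.IsStronglyClosed J H) : H = ⊤ := by
  obtain ⟨e⟩ := hH
  obtain ⟨φ, hφ, rfl⟩ := exists_hom_of_range permH6 permH6_injective permH6_range e
  rw [core_eq hφ] at hJ
  subst hJ
  refine H6_top (Emb.of_closed hφ hsc.2 hC fun g hg => ?_)
  have hne : ∀ v : V3, v ≠ 0 → φ ⟨v, 1⟩ ≠ 1 := fun v hv h =>
    hv (congrArg SD.v (hφ (h.trans (map_one φ).symm)))
  have hC' : ∀ v : V3, v ≠ 0 → Subgroup.centralizer ({φ ⟨v, 1⟩} : Set G) ≤ φ.range := fun v hv =>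
    hC _ (mem_range_inl.2 ⟨v, rfl⟩) (hne v hv)
  have h0 : ((1, 0, 0) : V3) ≠ 0 := by decide
  obtain ⟨w, hw⟩ := mem_range_inl.1
    ((Subgroup.mem_normalizer_iff.1 hg _).1 (mem_range_inl.2 ⟨(1, 0, 0), rfl⟩))
  have hw0 : w ≠ 0 := by
    rintro rfl
    refine hne _ h0 ?_
    rw [show (⟨0, 1⟩ : SD V3 EH6) = 1 from rfl, map_one] at hw
    simpa using hw.symm
  have h1 := card_cent_conj (φ ⟨(1, 0, 0), 1⟩) g
  rw [← hw, card_cent hφ (hC' _ hw0), card_cent hφ (hC' _ h0)] at h1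
  have h2 : ∀ w : V3, Fintype.card V3 * (Finset.univ.filter fun e : EH6 => e • w = w).card =
      Fintype.card V3 * (Finset.univ.filter fun e : EH6 => e • ((1, 0, 0) : V3) = (1, 0, 0)).card →
      ∃ e : EH6, w = e • ((1, 0, 0) : V3) := by decide +kernel
  obtain ⟨x, rfl⟩ := h2 w h1
  have h3 : (φ ⟨0, x⟩)⁻¹ * g ∈ φ.range := by
    refine hC' _ h0 (Subgroup.mem_centralizer_singleton_iff.2 ?_)
    have h4 := SD.conj_inl (⟨0, x⟩ : SD V3 EH6) (1, 0, 0)
    rw [← h4, map_mul, map_mul, map_inv] at hw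
    calc _ = (φ ⟨0, x⟩)⁻¹ * (g * φ ⟨(1, 0, 0), 1⟩ * g⁻¹) * g := by group
      _ = _ := by rw [← hw]; group
  exact (φ.range.mul_mem_cancel_left (φ.range.inv_mem ⟨_, rfl⟩)).1 h3

end Cfsg.Agent.S3702
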