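import Mathlib
import Cfsg.Statements.S0801
import Cfsg.Agent.Cl.PSL2Lift

set_option autoImplicit false
open Cfsg

set_option linter.unusedVariables false

namespace Cfsg.Agent.S0801

open Cfsg.Agent.Cl.L2 Matrix MulAction
open scoped MatrixGroups

lemma tau_low_aff {F : Type*} [Field F] (b : F) : tau (low 1 * aff 1 b) = (2 + b) ^ 2 := by
  rw [low, aff, ← pm_mul (low_det 1) (aff_det one_ne_zero b), tau_pm_eq_iff
    (by rw [det_mul]; exact mul_ne_zero (low_det 1) (aff_det one_ne_zero b))]
  simp [trace_fin_two, det_fin_two]; ring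

lemma card_le_sixty {F : Type*} [Field F] (h3 : (3 : F) = 0) {l : F} (hl : l ^ 2 = -1) :
    ∃ K : Subgroup PGL(2, F), Finite K ∧ Nat.card K ≤ 60 ∧ low 1 ∈ K ∧ aff 1 l ∈ K := by
  have d2 : (!![1 - l, -1; -l, l] : M2 F).det = 1 := by
    rw [det_fin_two_of]; linear_combination -hl
  have d3 : (!![-1 - l, 1; -l, l] : M2 F).det = 1 := by
    rw [det_fin_two_of]; linear_combination -hl
  have e1 := low_det (1 : F)
  have e2 := d2 ▸ one_ne_zero (α := F)
  have e3 := d3 ▸ one_ne_zero (α := F)
  have sw : ∀ {x y : PGL(2, F)}, (x * y) ^ 2 = 1 → (y * x) ^ 2 = 1 := fun {x y} h => by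
    have : (y * x) ^ 2 = x⁻¹ * (x * y) ^ 2 * x := by simp only [sq]; group
    rw [this, h]; simp
  have c1 : pm (!![1, 0; 1, 1] : M2 F) ^ 3 = 1 := pow_three_of_tau ((tau_pm_eq_iff e1).2
    (by simp [trace_fin_two, det_fin_two]; linear_combination h3))
  have c2 := pow_three_of_tau ((tau_pm_eq_iff e2).2 (by simp [d2, trace_fin_two]))
  have c3 := pow_three_of_tau ((tau_pm_eq_iff e3).2 (by simp [d3, trace_fin_two]))
  have s1 := pm_mul_sq e1 e2 (by simp [trace_fin_two])
  have s2 := pm_mul_sq e1 e3 (by simp [trace_fin_two])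
  have s3 := pm_mul_sq e2 e3 (by simp [trace_fin_two]; linear_combination 2 * hl - h3)
  have s1' := sw s1
  have s2' := sw s2
  have s3' := sw s3
  obtain ⟨h1, h2⟩ := Sym.card_closure_carmichael
    ![pm (!![1, 0; 1, 1] : M2 F), pm !![1 - l, -1; -l, l], pm !![-1 - l, 1; -l, l]] Finset.univ
    (by intro i _; fin_cases i <;> assumption)
    (by intro i _ j _ h; fin_cases i <;> fin_cases j <;> first | exact absurd rfl h | assumption)
  refine ⟨_, h1, by simp [Nat.factorial] at h2 ⊢; omega,
    Subgroup.subset_closure ⟨0, by simp, rfl⟩, ?_⟩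
  have : aff 1 l = pm !![-1 - l, 1; -l, l] * (pm !![1 - l, -1; -l, l])⁻¹ := by
    rw [eq_mul_inv_iff_mul_eq, aff, ← pm_mul (aff_det one_ne_zero l) e2]
    congr 1
    ext i j
    fin_cases i <;> fin_cases j <;> simp [mul_apply, Fin.sum_univ_two]
    · linear_combination -hl + h3
    · linear_combination hl - h3
  rw [this]
  exact mul_mem (Subgroup.subset_closure ⟨2, by simp, rfl⟩)
    (inv_mem (Subgroup.subset_closure ⟨1, by simp, rfl⟩))

lemma card_eq_nine {F : Type*} [Field F] [Fintype F] [CharP F 3] {l : F} (hl : l ^ 2 = -1)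
    (hgen : Subfield.closure ({l} : Set F) = ⊤) : Fintype.card F = 9 := by
  have := Fact.mk Nat.prime_three
  have h1 : ∀ x : F, x ^ 9 = x := fun x => by
    have : Subfield.closure ({l} : Set F) ≤ (iterateFrobenius F 3 2).eqLocusField (RingHom.id F) := by
      rw [Subfield.closure_le, Set.singleton_subset_iff]
      change l ^ 3 ^ 2 = l
      linear_combination (l ^ 7 - l ^ 5 + l ^ 3 - l) * hl
    exact this (hgen ▸ Subfield.mem_top x)
  have h2 : Fintype.card F - 1 ∣ 8 := (FiniteField.forall_pow_eq_one_iff F 8).1 fun x =>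
    Units.ext (mul_right_cancel₀ x.ne_zero (by
      rw [Units.val_pow_eq_pow_val, ← pow_succ, h1, Units.val_one, one_mul]))
  obtain ⟨n, hn, e⟩ := exists_card_eq_prime_pow (F := F) 3
  rw [Nat.card_eq_fintype_card] at e
  have h3 : 3 ∣ Fintype.card F := e ▸ dvd_pow_self 3 (by omega)
  have h4 : Fintype.card F ≠ 3 := fun h => by
    have := isSquare_neg_one_iff (F := F)
    rw [Nat.card_eq_fintype_card, h] at this
    exact absurd (this.1 ⟨l, by rw [← hl, sq]⟩) (by norm_num)
  have h5 := Nat.le_of_dvd (by norm_num) h2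
  have h6 : 1 < Fintype.card F := Fintype.one_lt_card
  have : Fintype.card F = 6 ∨ Fintype.card F = 9 := by omega
  exact this.resolve_left fun h => by rw [h] at h2; norm_num at h2

/-- Let F be a finite field of odd characteristic and λ ≠ 0 an element generating F as a field. Then the lower and upper unitriangular matrices with off-diagonal entries 1 and λ generate SL_2(F), unless |F| = 9 and λ² = −1, in which case they generate a subgroup of order 120. -/
theorem result {F : Type*} [Field F] [Fintype F] (h2 : (2 : F) ≠ 0) (lam : F) (hlam : lam ≠ 0) (hgen : Subfield.closure ({lam} : Set F) = ⊤) : (Subgroup.closure {g : Matrix.SpecialLinearGroup (Fin 2) F | (g : Matrix (Fin 2) (Fin 2) F) = !![1, 0; 1, 1] ∨ (g : Matrix (Fin 2) (Fin 2) F) = !![1, lam; 0, 1]} = ⊤ ∧ ¬ (Fintype.card F = 9 ∧ lam ^ 2 = -1)) ∨ (Fintype.card F = 9 ∧ lam ^ 2 = -1 ∧ Nat.card ↥(Subgroup.closure {g : Matrix.SpecialLinearGroup (Fin 2) F | (g : Matrix (Fin 2) (Fin 2) F) = !![1, 0; 1, 1] ∨ (g : Matrix (Fin 2) (Fin 2) F) = !![1,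 lam; 0, 1]}) = 120) := by
  set H := Subgroup.closure {g : SL(2, F) | (g : M2 F) = !![1, 0; 1, 1] ∨
    (g : M2 F) = !![1, lam; 0, 1]} with hH
  obtain ⟨p, hp, _⟩ := exists_char (F := F)
  have := Fact.mk hp
  have hu : low 1 ∈ (H.map prj).map emb :=
    ⟨_, ⟨⟨!![1, 0; 1, 1], by simp [det_fin_two]⟩, Subgroup.subset_closure (Or.inl rfl), rfl⟩,
      emb_prj _⟩
  have hv : aff 1 lam ∈ (H.map prj).map emb :=
    ⟨_, ⟨⟨!![1, lam; 0, 1], by simp [det_fin_two]⟩, Subgroup.subset_closure (Or.inr rfl), rfl⟩,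
      emb_prj _⟩
  have hv' : aff 1 (-lam) ∈ (H.map prj).map emb := by
    simpa [aff_inv one_ne_zero] using inv_mem hv
  have exc : Fintype.card F = 9 → lam ^ 2 = -1 → H ≠ ⊤ := by
    intro h9 hl htop
    have hc : Nat.card F = 9 := by rw [Nat.card_eq_fintype_card, h9]
    have := Fact.mk Nat.prime_three
    have : CharP F 3 := charP_of_card (n := 2) hc
    obtain ⟨K, _, hK, h1, h3⟩ := card_le_sixty (CharP.cast_eq_zero F 3) hl
    have h4 : H ≤ (K.comap emb).comap prj := by
      rw [hH, Subgroup.closure_le]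
      rintro g (hg | hg) <;> change emb (prj g) ∈ K <;> rw [emb_prj, hg] <;> assumption
    rw [htop, ← Subgroup.map_le_iff_le_comap, Subgroup.map_top_of_surjective _ prj_surjective,
      ← Subgroup.map_le_iff_le_comap, map_emb_top] at h4
    have h5 := Subgroup.card_le_of_le h4
    have h6 := card_PSL_mul (F := F)
    rw [card_psl] at h5
    rw [hc] at h6
    norm_num at h6
    omega
  have main : H = ⊤ ∨ (Fintype.card F = 9 ∧ lam ^ 2 = -1 ∧ Nat.card H = 120) := by
    rcases dickson_irregular p _ hv (by rw [Ne, aff_eq_one_iff one_ne_zero]; simp [hlam])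
      (mem_uni_inf.2 ⟨lam, rfl⟩) hu (by rw [low_smul_inf one_ne_zero]; exact pt_ne_inf _) with
      ⟨rfl, -⟩ | ⟨rfl, ⟨e⟩⟩ | ⟨k, c, -, h1, h3⟩
    · exact absurd (CharP.cast_eq_zero F 2) h2
    · right
      have h3 : (3 : F) = 0 := CharP.cast_eq_zero F 3
      have hc : Nat.card (H.map prj) = 60 := by
        rw [← Subgroup.card_map_of_injective emb_injective, Nat.card_congr e.toEquiv, card_A5]
      have hq : Nat.card F ≠ 3 := fun h => by
        have h5 := Subgroup.card_le_card_group (H.map prj)
        have h6 := card_PSL_mul (F := F)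
        rw [h] at h6; norm_num at h6; omega
      have hne : ∀ b : F, b = lam ∨ b = -lam → b ≠ 1 ∧ b ≠ -1 := by
        have : lam ∉ (⊥ : Subfield F) := fun h => hq (by
          rw [← card_top_subfield, ← hgen, le_antisymm
            ((Subfield.closure_le).2 (Set.singleton_subset_iff.2 h)) bot_le, card_bot_subfield 3])
        rintro b (rfl | rfl) <;> constructor <;> intro h <;> apply this
        · rw [h]; exact one_mem _
        · rw [h]; exact neg_mem (one_mem _)
        · rw [neg_eq_iff_eq_neg.1 h]; exact neg_mem (one_mem _)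
        · rw [neg_inj.1 h]; exact one_mem _
      have key : ∀ b : F, b = lam ∨ b = -lam → aff 1 b ∈ (H.map prj).map emb →
          (b - 1) ^ 4 + 1 = 0 := by
        intro b hb hb'
        have hb0 : b ≠ 0 := by rcases hb with rfl | rfl <;> simpa
        have ht := tau_low_aff b
        have h1 : low 1 * aff 1 b ≠ 1 := ne_one_of_tau (by
          rw [ht]; intro h
          exact mul_ne_zero hb0 (sub_ne_zero.2 (hne b hb).2) (by linear_combination h - b * h3))
        have hpow : ∀ n : ℕ, e ⟨_, mul_mem hu hb'⟩ ^ n = 1 → (low 1 * aff 1 b) ^ n = 1 :=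
          fun n hn => congrArg Subtype.val (e.injective (by rw [map_pow, hn, map_one]) :
            (⟨_, mul_mem hu hb'⟩ : (H.map prj).map emb) ^ n = 1)
        rcases A5_pow (e ⟨_, mul_mem hu hb'⟩) with h | h | h
        · have := tau_of_mul_self h1 ((sq _).symm.trans (hpow 2 h))
          rw [ht, pow_eq_zero_iff two_ne_zero] at this
          exact absurd (by linear_combination this - h3) (hne b hb).1
        · have := (pow_three_eq_one_iff h1).1 (hpow 3 h)
          rw [ht] at this
          exact absurd (by linear_combination this - (b + 1) * h3)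
            (mul_ne_zero hb0 (sub_ne_zero.2 (hne b hb).2))
        · have := (pow_five_eq_one_iff h1).1 (hpow 5 h)
          rw [ht] at this
          linear_combination this - (4 * b ^ 3 + 5 * b ^ 2 + 8 * b + 1) * h3
      have hl : lam ^ 2 = -1 := by
        have h4 := key lam (Or.inl rfl) hv
        have h5 := key (-lam) (Or.inr rfl) hv'
        exact mul_left_cancel₀ hlam (by linear_combination h4 - h5 + 3 * (lam ^ 3 + lam) * h3)
      refine ⟨card_eq_nine hl hgen, hl, ?_⟩
      have hneg : -1 ∈ H := by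
        obtain ⟨_, ⟨A, hA, rfl⟩, hA'⟩ := (e.symm a5a).2
        have : orderOf (prj A) = 2 := by
          rw [← orderOf_emb, hA', Subgroup.orderOf_coe, e.symm.orderOf_eq, orderOf_a5a]
        rw [← sl_mul_self_eq_neg_one (trace_eq_zero_of_orderOf this)]
        exact mul_mem hA hA
      rw [← comap_map_prj hneg, card_comap_prj, hc, gcd_of_two_ne_zero h2]
    · left
      have key : ∀ g ∈ (H.map prj).map emb, tau g ∈ k := fun g hg => by
        rw [← tau_conj' c g]; exact tau_mem_of_mem_subPGL (mem_cj.1 (h3 hg))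
      have h4 := sub_mem (key _ (mul_mem hu hv)) (key _ (mul_mem hu hv'))
      rw [tau_low_aff, tau_low_aff] at h4
      have h5 : lam ∈ k := by
        have h8 : (8 : F) ≠ 0 := by
          rw [show (8 : F) = 2 ^ 3 by norm_num]; exact pow_ne_zero _ h2
        have := mul_mem (inv_mem (ofNat_mem k 8)) h4
        rwa [show (2 + lam) ^ 2 - (2 + -lam) ^ 2 = 8 * lam by ring, inv_mul_cancel_left₀ h8] at this
      obtain rfl : k = ⊤ := top_le_iff.1
        (hgen ▸ (Subfield.closure_le).2 (Set.singleton_subset_iff.2 h5))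
      rw [subPSL_top, cj_of_normal] at h1
      exact eq_top_of_map_prj p (eq_top_of_psl_le h1)
  rcases main with h | h
  · exact Or.inl ⟨h, fun h' => exc h'.1 h'.2 h⟩
  · exact Or.inr h

end Cfsg.Agent.S0801
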