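import Mathlib
import Cfsg.Statements.S3627
import Cfsg.Agent.Spor.J1.Main
import Cfsg.Agent.Inv.PrimeSylow
import Cfsg.Agent.Perm.SpecBig
import Cfsg.Agent.Perm.PrimeGraph
import Cfsg.Agent.Perm.CompLen
-- import your own Cfsg.Agent.* helpers here

set_option autoImplicit false
open Cfsg

namespace Cfsg.Agent.S3627

open Subgroup Cfsg.Agent.Spor Cfsg.Agent.Spor.NM Cfsg.Agent.Spor.NM.F11x7 Cfsg.Spor Cfsg.Agent.Spor.MJ1
  Cfsg.Agent.Inv.PS Cfsg.Agent.Perm

theorem exists_fifteen : ∃ x : J1, orderOf x = 15 := by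
  have hl : M.Lets (two cX cY) 2 := (Model.par_two (L := ⊤) ⟨cX_spec.1, trivial⟩ ⟨cY_spec.1, trivial⟩).lets 2
  have h := hl.in_evN (w := [0, 0, 1, 1, 0, 1, 0, 1, 1]) (by decide +kernel)
  rw [gen_def] at h
  obtain ⟨a, b⟩ := Model.ordOK_sound (p := 5) (Model.powN_sound h.1 3).1 (by decide +kernel)
  obtain ⟨c, -⟩ := Model.ordOK_sound (p := 3) (Model.powN_sound h.1 5).1 (by decide +kernel)
  rw [(Model.powN_sound h.1 _).2] at a b c
  refine ⟨⟨_, h.2⟩, ?_⟩
  rw [← orderOf_coe]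
  refine orderOf_eq_of_pow_and_pow_div_prime (by norm_num) (by rw [← b, ← pow_mul]) fun p hp hd => ?_
  rcases (Nat.Prime.dvd_mul hp (m := 3) (n := 5)).mp hd with h | h
  · rw [(Nat.prime_dvd_prime_iff_eq hp Nat.prime_three).mp h]; exact c
  · rw [(Nat.prime_dvd_prime_iff_eq hp Nat.prime_five).mp h]; exact a

theorem exists_conj_mem {z : J1} (h : 2 ∣ orderOf z) : ∃ u : J1, u⁻¹ * z * u ∈ centralizer {g 3} := by
  obtain ⟨k, hk⟩ := PG.exists_pow_orderOf z h
  obtain ⟨u, hu⟩ := conj_t (z := z ^ k) (fun e => by rw [e, orderOf_one] at hk; omega)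
    (hk ▸ pow_orderOf_eq_one _)
  refine ⟨u, mem_centralizer_singleton_iff.mpr ?_⟩
  rw [show g 3 = u⁻¹ * z ^ k * u by rw [← hu]; group]
  group

theorem orderOf_conj' (u z : J1) : orderOf (u⁻¹ * z * u) = orderOf z := by
  simpa using (MulAut.conj u⁻¹).orderOf_eq z

theorem dvd_of_even {z : J1} (h : 2 ∣ orderOf z) : orderOf z ∣ 120 := by
  obtain ⟨u, hu⟩ := exists_conj_mem h
  rw [← orderOf_conj' u, ← card_centralizer]
  exact orderOf_dvd_natCard _ hu

theorem not_four_dvd (z : J1) : ¬ 4 ∣ orderOf z := fun h => by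
  obtain ⟨k, hk⟩ := PG.exists_pow_orderOf z h
  obtain ⟨u, hu⟩ := exists_conj_mem (z := z ^ k) (by rw [hk]; norm_num)
  obtain ⟨e⟩ := centralizer_iso
  rw [← orderOf_conj' u] at hk
  have h1 : orderOf (e ⟨_, hu⟩) = 4 := by rw [e.orderOf_eq, ← orderOf_coe, hk]
  have h2 : ∀ a : Multiplicative (ZMod 2), a ^ 2 = 1 := by decide
  have h3 : ∀ a : alternatingGroup (Fin 5), a ^ 4 = 1 → a ^ 2 = 1 := by
    have : ∀ a : Equiv.Perm (Fin 5), Equiv.Perm.sign a = 1 → a ^ 4 = 1 → a ^ 2 = 1 := by decide +kernel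
    exact fun a ha => Subtype.ext (this a a.2 (congrArg Subtype.val ha))
  have h4 : e ⟨_, hu⟩ ^ 2 = 1 := Prod.ext (h2 _) (h3 _ (congrArg Prod.snd (h1 ▸ pow_orderOf_eq_one _)))
  have := Nat.le_of_dvd two_pos (h1 ▸ orderOf_dvd_of_pow_eq_one h4)
  omega

theorem exists_six : ∃ x : J1, orderOf x = 6 := by
  obtain ⟨y, hy⟩ := exists_prime_orderOf_dvd_card' (hp := ⟨Nat.prime_three⟩) (G := centralizer {g 3}) 3
    (by rw [card_centralizer]; norm_num)
  exact PG.exists_orderOf_of_commute (m := 3) (n := 2) (mem_centralizer_singleton_iff.mp y.2)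
    (by rw [orderOf_coe, hy]) (by rw [orderOf_t]) (by norm_num)

theorem dvd_cent {G : Type*} [Group G] (z : G) (k : ℕ) : orderOf z ∣ Nat.card (centralizer {z ^ k}) :=
  orderOf_dvd_natCard _ (mem_centralizer_singleton_iff.mpr (Commute.self_pow z k))

theorem card_cent {x : J1} (hx : orderOf x = 19) : Nat.card (centralizer {x}) = 19 := by
  have : Fact (Nat.Prime 19) := ⟨by norm_num⟩
  have : Fact (Nat.Prime 3) := ⟨Nat.prime_three⟩
  have hG : ¬ (Nat.card J1).Prime := by rw [card_J1]; norm_num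
  have h19 : ¬ 19 ^ 2 ∣ Nat.card J1 := by rw [card_J1]; norm_num
  have h3 : ¬ 3 ^ 2 ∣ Nat.card J1 := by rw [card_J1]; norm_num
  obtain ⟨n, e, v, hn, hv, hN, h1, h2, -, h4, -⟩ := prime_data hG h19 hx
  have hex : ∀ p, p.Prime → p ≠ 19 → p ∣ v → ∃ y : J1, orderOf y = p ∧ x * y = y * x := fun p hp h hd => by
    have := Fact.mk hp
    obtain ⟨y, hy⟩ := exists_prime_orderOf_dvd_card' (G := centralizer {x}) p (hv ▸ hd.mul_right _)
    exact ⟨y, by rw [orderOf_coe, hy], (mem_centralizer_singleton_iff.mp y.2).symm⟩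
  have hodd : ¬ 2 ∣ v := fun h => by
    obtain ⟨y, hy, hc⟩ := hex 2 Nat.prime_two (by norm_num) h
    obtain ⟨z, hz⟩ := PG.exists_orderOf_of_commute hc hx.symm.dvd hy.symm.dvd (by norm_num)
    have := dvd_of_even (z := z) (by rw [hz]; norm_num)
    rw [hz] at this
    omega
  rw [card_J1] at h1
  have key : ∀ n ∈ Nat.divisors 9240, n % 19 = 1 → ∀ e ∈ Nat.divisors 18, e ∣ 9240 / n →
      ¬ 2 ∣ 9240 / n / e → 9240 / n / e = 1 ∨ (n = 20 ∧ 7 ∣ 9240 / n / e) ∨ (e = 2 ∧ 9240 / n / e = 3) := by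
    decide +kernel
  have h5 : n * (e * v) = 9240 := by linarith [mul_assoc e v 19, mul_assoc n (e * v) 19]
  have hn0 : 0 < n := by omega
  have he0 : 0 < e := Nat.pos_of_dvd_of_pos h4 (by norm_num)
  have h6 : 9240 / n = e * v := by rw [← h5, Nat.mul_div_cancel_left _ hn0]
  have := key n (Nat.mem_divisors.mpr ⟨⟨_, h5.symm⟩, by norm_num⟩) h2 e (Nat.mem_divisors.mpr ⟨h4, by norm_num⟩)
  rw [h6, Nat.mul_div_cancel_left _ he0] at this
  rcases this (dvd_mul_right _ _) hodd with rfl | ⟨rfl, h⟩ | ⟨rfl, rfl⟩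
  · rw [hv]
  · obtain ⟨y, hy, hc⟩ := hex 7 (by norm_num) (by norm_num) h
    have a := fx_sylow_modEq h19 hx hc (by rw [hy]; norm_num)
    have b := fx_sylow_lt (p := 19) (g := y) (by omega) (fun e => by rw [e, orderOf_one] at hy; omega)
    have c := fx_modEq (Sylow 19 J1) (p := 7) (by norm_num) (g := y) (k := 1)
      (orderOf_dvd_iff_pow_eq_one.mp hy.dvd)
    rw [hn] at b c
    unfold Nat.ModEq at a c
    omega
  · exfalso
    obtain ⟨y, hy, hc⟩ := hex 3 Nat.prime_three (by norm_num) dvd_rfl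
    have hall : ∀ y : J1, orderOf y = 3 →
        Nat.card (Sylow 3 J1) * (2 * Nat.card (centralizer {y})) = 175560 := fun y hy => by
      obtain ⟨n', e', v', a1, a2, -, a3, -, -, a4, a5⟩ := prime_data hG h3 hy
      obtain rfl : e' = 2 := le_antisymm (Nat.le_of_dvd two_pos a4) a5
      rw [a1, a2, a3, card_J1]
    have hall' : ∀ z : J1, 3 ∣ orderOf z → orderOf z ∣ Nat.card (centralizer {y}) := fun z hz => by
      obtain ⟨k, hk⟩ := PG.exists_pow_orderOf z hz
      have := Nat.eq_of_mul_eq_mul_left Nat.card_pos ((hall y hy).trans (hall _ hk).symm)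
      rw [Nat.eq_of_mul_eq_mul_left two_pos this]
      exact dvd_cent z k
    obtain ⟨a, ha⟩ := exists_six
    obtain ⟨b, hb⟩ := exists_fifteen
    have ha' := hall' a (by rw [ha]; norm_num)
    have hb' := hall' b (by rw [hb]; norm_num)
    have hxy : x ∈ centralizer {y} := mem_centralizer_singleton_iff.mpr hc
    have hx' := orderOf_dvd_natCard _ hxy
    rw [ha] at ha'
    rw [hb] at hb'
    rw [hx] at hx'
    have hr := relIndex_normalizer_modEq h19 hx hxy
    have hd := ((normalizer (zpowers x : Set J1)).subgroupOf (centralizer {y})).index_mul_card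
    rw [← inf_subgroupOf_right, Nat.card_congr (subgroupOfEquivOfLe inf_le_right).toEquiv,
      inf_subgroupOf_right] at hd
    have hd1 := card_dvd_of_le (inf_le_left (a := normalizer (zpowers x : Set J1)) (b := centralizer {y}))
    have hd2 := orderOf_dvd_natCard (normalizer (zpowers x : Set J1) ⊓ centralizer {y}) (x := y)
      ⟨centralizer_le_normalizer _ (by rw [centralizer_zpowers]; exact mem_centralizer_singleton_iff.mpr hc.symm),
        mem_centralizer_singleton_iff.mpr rfl⟩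
    rw [hN] at hd1
    rw [hy] at hd2
    have hs := card_sylow_modEq_one 3 J1
    have h7 := hall y hy
    obtain ⟨_, -, -, rfl, -, -, -, -, h9, -⟩ := prime_data hG h3 hy
    have key2 : ∀ k ∈ Nat.divisors 154, 154 / k % 3 = 1 → k ≠ 154 →
        ∀ d ∈ Nat.divisors 114, 3 ∣ d → d ∣ 570 * k → 570 * k / d % 19 ≠ 1 := by decide +kernel
    obtain ⟨k, hk⟩ : 570 ∣ Nat.card (centralizer {y}) := Nat.lcm_dvd (Nat.lcm_dvd ha' hb') hx'
    rw [hk] at h7 hd
    have h8 : k * Nat.card (Sylow 3 J1) = 154 := by linarith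
    refine key2 _ (Nat.mem_divisors.mpr ⟨⟨_, h8.symm⟩, by norm_num⟩) ?_ (by rintro rfl; omega) _
      (Nat.mem_divisors.mpr ⟨hd1, by norm_num⟩) hd2 (hd ▸ dvd_mul_left _ _) ?_
    · rw [← h8, Nat.mul_div_cancel_left _ (Nat.pos_of_ne_zero (by rintro rfl; omega))]; exact hs
    · rw [← hd, Nat.mul_div_cancel _ Nat.card_pos]; exact hr

theorem ord_cases (z : J1) : orderOf z ∣ 19 ∨ orderOf z ∣ 2310 := by
  by_cases h : 19 ∣ orderOf z
  · obtain ⟨k, hk⟩ := PG.exists_pow_orderOf z h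
    exact Or.inl (card_cent hk ▸ dvd_cent z k)
  · have key : ∀ d ∈ Nat.divisors 9240, ¬ 4 ∣ d → d ∣ 2310 := by decide +kernel
    have h1 : orderOf z ∣ 9240 * 19 := (_root_.orderOf_dvd_natCard z).trans card_J1.dvd
    exact Or.inr (key _ (Nat.mem_divisors.mpr ⟨Nat.Coprime.dvd_of_dvd_mul_right
      ((Nat.Prime.coprime_iff_not_dvd (by norm_num)).mpr h).symm h1, by norm_num⟩) (not_four_dvd z))

/-- Let J be the first Janko group. Then there are finite groups of arbitrarily large order with exactly the same set of element orders as J × J × J × J. -/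
theorem result (N : ℕ) : ∃ (H : Type) (_ : Group H) (_ : Fintype H), N < Fintype.card H ∧
      Set.range (orderOf : H → ℕ) = Set.range (orderOf : ↥Cfsg.Spor.J1 × ↥Cfsg.Spor.J1 × ↥Cfsg.Spor.J1 × ↥Cfsg.Spor.J1 → ℕ) := by
  have : Finite J1 := Nat.finite_of_card_ne_zero (by rw [card_J1]; norm_num)
  have hex : ∀ p, p.Prime → p ∣ 175560 → ∃ x : J1, orderOf x = p := fun p hp hd =>
    have := Fact.mk hp
    exists_prime_orderOf_dvd_card' p (card_J1 ▸ hd)
  obtain ⟨x7, h7⟩ := hex 7 (by norm_num) (by norm_num)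
  obtain ⟨x11, h11⟩ := hex 11 (by norm_num) (by norm_num)
  obtain ⟨x19, h19⟩ := hex 19 (by norm_num) (by norm_num)
  obtain ⟨x15, h15⟩ := exists_fifteen
  have hD : ∀ d : DihedralGroup 19, orderOf d ∣ 19 ∨ orderOf d = 2 := by
    rintro (i | i)
    · exact Or.inl (orderOf_dvd_of_pow_eq_one (by revert i; decide))
    · exact Or.inr (DihedralGroup.orderOf_sr i)
  let K : Subgroup (J1 × J1 × J1 × DihedralGroup 19) := prod ⊥ (prod ⊥ (prod ⊥ ⊤))
  have : K.Normal := by unfold K; infer_instance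
  obtain ⟨H, _, _, h1, h2⟩ := spec_unbounded_of_solvable K (fun h => by
      have : ((1, 1, 1, DihedralGroup.sr 0) : J1 × J1 × J1 × DihedralGroup 19) ∈ K := by simp [K, mem_prod]
      rw [h, mem_bot] at this
      exact absurd (congrArg (fun x => x.2.2.2) this) (by decide)) (by
      have : Group.IsSolvable (DihedralGroup 19) := Perm.CompLen.isSolvable_of_card_lt_sixty (by
        rw [DihedralGroup.nat_card]; norm_num)
      refine Group.isSolvable_of_isSolvable_injective (f := (MonoidHom.snd _ _).comp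
        ((MonoidHom.snd _ _).comp ((MonoidHom.snd _ _).comp K.subtype))) ?_
      rw [injective_iff_map_eq_one]
      rintro ⟨⟨a, b, c, d⟩, ha, hb, hc, hd⟩ h
      exact Subtype.ext (Prod.ext ha (Prod.ext hb (Prod.ext hc h)))) N
  refine ⟨H, inferInstance, inferInstance, h1, h2.trans ?_⟩
  have l : ∀ a b c d : ℕ, a ∣ a.lcm (b.lcm (c.lcm d)) ∧ b ∣ a.lcm (b.lcm (c.lcm d)) ∧
      c ∣ a.lcm (b.lcm (c.lcm d)) ∧ d ∣ a.lcm (b.lcm (c.lcm d)) := fun a b c d =>
    by simpa only [Nat.lcm_dvd_iff] using dvd_refl (a.lcm (b.lcm (c.lcm d)))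
  refine Cl.spec_eq_of_dvd ?_ ?_
  · rintro ⟨a, b, c, d⟩
    obtain ⟨z, hz⟩ : ∃ z : J1, orderOf d ∣ orderOf z :=
      (hD d).elim (fun h => ⟨x19, h.trans h19.symm.dvd⟩) fun h => ⟨g 3, by rw [h, orderOf_t]⟩
    refine ⟨(a, b, c, z), ?_⟩
    simp only [Prod.orderOf, Nat.lcm_dvd_iff]
    exact ⟨(l ..).1, (l ..).2.1, (l ..).2.2.1, hz.trans (l ..).2.2.2⟩
  · rintro ⟨a, b, c, d⟩
    simp only [Prod.exists, Prod.orderOf, Nat.lcm_dvd_iff]
    have hr : orderOf (DihedralGroup.r 1 : DihedralGroup 19) = 19 := DihedralGroup.orderOf_r_one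
    rcases ord_cases a with ha | ha
    · exact ⟨b, c, d, _, (ha.trans hr.symm.dvd).trans (l ..).2.2.2, (l ..).1, (l ..).2.1, (l ..).2.2.1⟩
    rcases ord_cases b with hb | hb
    · exact ⟨a, c, d, _, (l ..).1, (hb.trans hr.symm.dvd).trans (l ..).2.2.2, (l ..).2.1, (l ..).2.2.1⟩
    rcases ord_cases c with hc | hc
    · exact ⟨a, b, d, _, (l ..).1, (l ..).2.1, (hc.trans hr.symm.dvd).trans (l ..).2.2.2, (l ..).2.2.1⟩
    rcases ord_cases d with hd | hd
    · exact ⟨a, b, c, _, (l ..).1, (l ..).2.1, (l ..).2.2.1, (hd.trans hr.symm.dvd).trans (l ..).2.2.2⟩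
    refine ⟨x15, x7, x11, DihedralGroup.sr 0, ?_⟩
    rw [h15, h7, h11, DihedralGroup.orderOf_sr]
    exact ⟨ha, hb, hc, hd⟩

end Cfsg.Agent.S3627
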