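import Mathlib
import Cfsg.Statements.S4345
import Cfsg.Agent.FG.SylowCount
import Cfsg.Agent.GT.MinNormal
import Cfsg.Agent.GT.PGroupChain
import Cfsg.Agent.GT.PGroupElemAb

set_option autoImplicit false
open Cfsg

namespace Cfsg.Agent.S4345


/-- Let G be a finite solvable group and p, ℓ primes. Then the largest power of ℓ dividing the number of Sylow p-subgroups of G is congruent to 1 modulo p. -/
theorem result {G : Type*} [Group G] [Finite G]
    (hG : Group.IsSolvable G) (p ℓ : ℕ) [Fact p.Prime] (hℓ : ℓ.Prime) :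
    ℓ ^ (Nat.card (Sylow p G)).factorization ℓ ≡ 1 [MOD p] := by
  refine GT.solvable_induction
    (P := fun G _ _ _ => ℓ ^ (Nat.card (Sylow p G)).factorization ℓ ≡ 1 [MOD p]) ?_ ?_ G
  · intro G _ _ _ _
    have : Unique (Sylow p G) := ⟨⟨default⟩, fun P => Sylow.ext (Subsingleton.elim _ _)⟩
    simp [Nat.ModEq]
  · intro G _ _ _ N _ q hq _ hN ih
    have := Fact.mk hq
    obtain ⟨P⟩ : Nonempty (Sylow p G) := inferInstance
    have h1 := FG.H96.card_sylow_of_le P (le_sup_left : (P : Subgroup G) ≤ (P : Subgroup G) ⊔ N)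
    rw [FG.H96.relIndex_eq_of_mul (L := N) le_sup_right (by
      intro m hm
      rw [sup_comm] at hm
      obtain ⟨a, ha, b, hb, rfl⟩ := Subgroup.mem_sup_of_normal_left.1 hm
      exact ⟨a, ha, by simpa using Subgroup.le_normalizer hb⟩)] at h1
    have h2 := card_sylow_modEq_one p ↥((P : Subgroup G) ⊔ N)
    obtain ⟨k, hk⟩ := GT.PG.relIndex_eq_pow_of_isPGroup hN.isPGroup
      (Subgroup.normalizer ((P : Subgroup G) : Set G))
    rw [h1, hk] at h2
    rw [FG.H96.card_sylow_eq_quotient_mul N P, hk,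
      Nat.factorization_mul Nat.card_pos.ne' (pow_ne_zero _ hq.ne_zero), Finsupp.add_apply, pow_add,
      hq.factorization_pow]
    refine (ih.mul (?_ : _ ≡ 1 [MOD p])).trans (by rw [mul_one])
    by_cases e : q = ℓ
    · subst e; simpa using h2
    · rw [Finsupp.single_eq_of_ne (Ne.symm e), pow_zero]

end Cfsg.Agent.S4345
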