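import Mathlib
import Cfsg.Statements.S5726
import Cfsg.Agent.Perm.Basic
-- import your own Cfsg.Agent.* helpers here

set_option autoImplicit false
open Cfsg

namespace Cfsg.Agent.S5726

open MulAction

/-- a Sylow subgroup has orbits of length divisible by the `p`-part of the degree -/
theorem pow_dvd_ncard_orbit {G Ω : Type*} [Group G] [Finite G] [MulAction G Ω]
    [IsPretransitive G Ω] {p k : ℕ} [Fact p.Prime] (hk : p ^ k ∣ Nat.card Ω) (P : Sylow p G) (a : Ω) :
    p ^ k ∣ (orbit (P : Subgroup G) a).ncard := by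
  have h1 : (stabilizer G a ⊓ (P : Subgroup G)).index =
      (orbit (P : Subgroup G) a).ncard * (P : Subgroup G).index := by
    rw [Perm.ncard_orbit_eq_relIndex, ← Subgroup.inf_relIndex_right,
      Subgroup.relIndex_mul_index inf_le_right]
  have h2 : p ^ k ∣ (stabilizer G a ⊓ (P : Subgroup G)).index := by
    refine hk.trans ?_
    rw [← index_stabilizer_of_transitive G a]
    exact Subgroup.index_dvd_of_le inf_le_left
  rw [h1] at h2
  refine Nat.Coprime.dvd_of_dvd_mul_right ?_ h2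
  exact Nat.Coprime.pow_left _ ((Nat.Prime.coprime_iff_not_dvd Fact.out).mpr P.not_dvd_index)

theorem exists_central_orderOf {G : Type*} [Group G] [Finite G] {p : ℕ} [Fact p.Prime]
    (P : Subgroup G) (hP : IsPGroup p P) (hne : P ≠ ⊥) :
    ∃ z ∈ P, orderOf z = p ∧ ∀ x ∈ P, x * z = z * x := by
  have : Nontrivial P := (Subgroup.nontrivial_iff_ne_bot P).mpr hne
  have h1 := hP.center_nontrivial
  obtain ⟨k, hk⟩ := IsPGroup.iff_card.mp (hP.to_subgroup (Subgroup.center P))
  have h2 : p ∣ Nat.card (Subgroup.center P) := by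
    rw [hk]
    refine dvd_pow_self p ?_
    rintro rfl
    exact Finite.one_lt_card.ne' hk
  obtain ⟨z, hz⟩ := exists_prime_orderOf_dvd_card' p h2
  refine ⟨(z : P), (z : P).2, by rw [Subgroup.orderOf_coe, Subgroup.orderOf_coe, hz], fun x hx => ?_⟩
  exact congrArg Subtype.val (Subgroup.mem_center_iff.mp z.2 ⟨x, hx⟩)

/-- If a finite group acts faithfully and transitively on a set with p^k elements, p a prime and k ≥ 1, then some element of order p fixes no point. -/
theorem result {G Ω : Type*} [Group G] [Finite G] [MulAction G Ω] [FaithfulSMul G Ω] [Fintype Ω] (htr : MulAction.IsPretransitive G Ω)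
    (p k : ℕ) (hp : p.Prime) (hk : 1 ≤ k) (hΩ : Fintype.card Ω = p ^ k) :
    ∃ g : G, orderOf g = p ∧ ∀ ω : Ω, g • ω ≠ ω := by
  have := Fact.mk hp
  rw [← Nat.card_eq_fintype_card] at hΩ
  obtain ⟨P⟩ : Nonempty (Sylow p G) := inferInstance
  have hpos : 1 < Nat.card Ω := hΩ ▸ Nat.one_lt_pow (by omega) hp.one_lt
  have hnt : Nontrivial Ω := Finite.one_lt_card_iff_nontrivial.mp hpos
  have horb : ∀ a : Ω, orbit (P : Subgroup G) a = Set.univ := by
    intro a
    rw [Set.eq_univ_iff_ncard]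
    refine le_antisymm (Set.ncard_le_card _) (Nat.le_of_dvd ?_ ?_)
    · rw [Set.ncard_pos]; exact ⟨a, mem_orbit_self a⟩
    · rw [hΩ]; exact pow_dvd_ncard_orbit (hΩ ▸ dvd_rfl) P a
  have hne : (P : Subgroup G) ≠ ⊥ := by
    intro h
    obtain ⟨a, b, hab⟩ := exists_pair_ne Ω
    obtain ⟨x, hx⟩ : b ∈ orbit (P : Subgroup G) a := horb a ▸ Set.mem_univ b
    have : (x : G) = 1 := Subgroup.mem_bot.mp (h ▸ x.2)
    apply hab
    rw [← hx]
    change a = (x : G) • a
    rw [this, one_smul]
  obtain ⟨z, hzP, hz, hc⟩ := exists_central_orderOf (P : Subgroup G) P.isPGroup' hne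
  refine ⟨z, hz, fun ω hω => ?_⟩
  have : z = 1 := Perm.eq_one_of_smul_eq (X := Ω) fun b => by
    obtain ⟨x, rfl⟩ : b ∈ orbit (P : Subgroup G) ω := horb ω ▸ Set.mem_univ b
    change z • (x : G) • ω = (x : G) • ω
    rw [← mul_smul, ← hc x x.2, mul_smul, hω]
  rw [this, orderOf_one] at hz
  exact hp.one_lt.ne hz

end Cfsg.Agent.S5726
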