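import Mathlib
import Cfsg.Statements.S5746
import Cfsg.Agent.Chev.G2Six
import Cfsg.Agent.Spor.J2.Main
import Cfsg.Agent.S1059
-- import your own Cfsg.Agent.* helpers here

set_option autoImplicit false
open Cfsg

namespace Cfsg.Agent.S5746

section abstract

open MulAction

variable {G : Type*} [Group G]

theorem mem_cj {Y : Subgroup G} {g x : G} :
    x ∈ Y.map (MulAut.conj g).toMonoidHom ↔ g⁻¹ * x * g ∈ Y := by
  constructor
  · rintro ⟨y, hy, rfl⟩
    simpa [mul_assoc] using hy
  · intro h
    exact ⟨_, h, by simp [mul_assoc]⟩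

theorem ncard_orb (H : Subgroup G) (x : G) : (orbit H (x : G ⧸ H)).ncard =
    (H ⊓ H.map (MulAut.conj x).toMonoidHom).relIndex H := by
  rw [← MulAction.index_stabilizer, Subgroup.relIndex]
  congr 1
  ext h
  rw [mem_stabilizer_iff, Subgroup.mem_subgroupOf, Subgroup.mem_inf, mem_cj, and_iff_right h.2]
  show (((h : G) * x : G) : G ⧸ H) = x ↔ _
  rw [eq_comm, QuotientGroup.eq, mul_assoc]

theorem exists_dc [Finite G] {H : Subgroup G} (hi : H.index = 416) {x₁ x₂ : G}
    (r₁ : (H ⊓ H.map (MulAut.conj x₁).toMonoidHom).relIndex H = 100)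
    (r₂ : (H ⊓ H.map (MulAut.conj x₂).toMonoidHom).relIndex H = 315) {x : G} (hx : x ∉ H) :
    ∃ h ∈ H, ∃ h' ∈ H, x = h * x₁ * h' ∨ x = h * x₂ * h' := by
  have r₀ : (H ⊓ H.map (MulAut.conj (1 : G)).toMonoidHom).relIndex H = 1 :=
    Subgroup.relIndex_eq_one.2 fun y hy => ⟨hy, mem_cj.2 (by simpa using hy)⟩
  rw [← ncard_orb] at r₀ r₁ r₂
  have hd : ∀ a b : G ⧸ H, (orbit H a).ncard ≠ (orbit H b).ncard → Disjoint (orbit H a) (orbit H b) :=
    fun a b h => Set.disjoint_left.2 fun c ha hb =>
      h (by rw [← orbit_eq_iff.2 ha, orbit_eq_iff.2 hb])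
  have hu : orbit H ((1 : G) : G ⧸ H) ∪ orbit H (x₁ : G ⧸ H) ∪ orbit H (x₂ : G ⧸ H) = Set.univ := by
    refine (Set.eq_univ_iff_ncard _).2 ?_
    rw [Set.ncard_union_eq (Set.disjoint_union_left.2 ⟨hd _ _ (by omega), hd _ _ (by omega)⟩),
      Set.ncard_union_eq (hd _ _ (by omega)), r₀, r₁, r₂]
    exact hi.symm
  have key : ∀ y : G, (x : G ⧸ H) ∈ orbit H (y : G ⧸ H) → ∃ h ∈ H, ∃ h' ∈ H, x = h * y * h' := by
    rintro y ⟨h, e⟩
    have e' : (((h : G) * y : G) : G ⧸ H) = x := e
    exact ⟨h, h.2, _, QuotientGroup.eq.1 e', by group⟩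
  rcases hu.ge (Set.mem_univ (x : G ⧸ H)) with (h | h) | h
  · obtain ⟨a, ha, b, hb, rfl⟩ := key _ h
    exact absurd (mul_mem (mul_mem ha (one_mem _)) hb) hx
  · obtain ⟨a, ha, b, hb, e⟩ := key _ h
    exact ⟨a, ha, b, hb, Or.inl e⟩
  · obtain ⟨a, ha, b, hb, e⟩ := key _ h
    exact ⟨a, ha, b, hb, Or.inr e⟩

theorem coatom_dc {H : Subgroup G} {y h h' : G} (hh : h ∈ H) (hh' : h' ∈ H)
    (m : IsCoatom ((H ⊓ H.map (MulAut.conj y).toMonoidHom).subgroupOf H)) :
    IsCoatom ((H ⊓ H.map (MulAut.conj (h * y * h')).toMonoidHom).subgroupOf H) := by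
  have := ((MulAut.conj (⟨h, hh⟩ : H)).mapSubgroup.isCoatom_iff _).2 m
  convert this using 1
  ext z
  rw [MulEquiv.mapSubgroup_apply]
  erw [mem_cj]
  simp only [Subgroup.mem_subgroupOf, Subgroup.mem_inf, mem_cj, Subgroup.coe_mul, Subgroup.coe_inv]
  rw [and_iff_right z.2, and_iff_right (mul_mem (mul_mem (inv_mem hh) z.2) hh)]
  rw [← H.mul_mem_cancel_left hh', ← H.mul_mem_cancel_right (inv_mem hh')]
  simp only [mul_inv_rev, mul_assoc, mul_inv_cancel_left, mul_inv_cancel, mul_one]

theorem coatom_comap {Γ : Type*} [Group Γ] {ψ : G →* Γ} (hψ : Function.Injective ψ) {K B : Subgroup Γ}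
    (hB : B ≤ ψ.range) (hK : K ≤ B) (hne : K ≠ B) (hmax : ∀ L, K ≤ L → L ≤ B → L = K ∨ L = B) :
    IsCoatom ((K.comap ψ).subgroupOf (B.comap ψ)) := by
  have hc : ∀ y ∈ B, ∃ z : B.comap ψ, ψ z = y := fun y hy => by
    obtain ⟨z, rfl⟩ := hB hy
    exact ⟨⟨z, hy⟩, rfl⟩
  constructor
  · intro h
    refine hne (le_antisymm hK fun y hy => ?_)
    obtain ⟨z, rfl⟩ := hc y hy
    exact h.ge (Subgroup.mem_top z)
  · intro L hL
    rcases hmax (L.map (ψ.comp (B.comap ψ).subtype)) (fun y hy => by
      obtain ⟨z, rfl⟩ := hc y (hK hy)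
      exact ⟨z, hL.le hy, rfl⟩) (by rintro _ ⟨z, -, rfl⟩; exact z.2) with h | h
    · exact absurd (fun (z : B.comap ψ) hz => (h.le ⟨z, hz, rfl⟩ : ψ z ∈ K)) hL.not_ge
    · rw [eq_top_iff]
      intro z _
      obtain ⟨z', hz', e⟩ := h.ge z.2
      exact (Subtype.ext (hψ e) : z' = z) ▸ hz'

theorem main [Finite G] {Γ : Type*} [Group Γ] {ψ : G →* Γ} (hψ : Function.Injective ψ)
    {B K₁ K₂ : Subgroup Γ} (hB : B ≤ ψ.range) (hG : Nat.card G = 251596800) (cB : Nat.card B = 604800)
    (c₁ : Nat.card K₁ = 6048) (c₂ : Nat.card K₂ = 1920) {X₁ X₂ : Γ} (hX : X₁ ∈ ψ.range)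
    (e₁ : B ⊓ B.map (MulAut.conj X₁).toMonoidHom = K₁) (e₂ : B ⊓ B.map (MulAut.conj X₂).toMonoidHom = K₂)
    (m₁ : ∀ L, K₁ ≤ L → L ≤ B → L = K₁ ∨ L = B) (m₂ : ∀ L, K₂ ≤ L → L ≤ B → L = K₂ ∨ L = B)
    (h₁ : ∀ L, B ≤ L → X₁ ∈ L → X₂ ∈ L) (h₂ : ∀ L, B ≤ L → X₂ ∈ L → X₁ ∈ L) :
    IsCoatom (B.comap ψ) ∧ ∀ x, x ∉ B.comap ψ →
      IsCoatom ((B.comap ψ ⊓ (B.comap ψ).map (MulAut.conj x).toMonoidHom).subgroupOf (B.comap ψ)) := by
  obtain ⟨x₂, rfl⟩ := h₁ _ hB hX
  obtain ⟨x₁, rfl⟩ := hX
  have l₁ : K₁ ≤ B := e₁ ▸ inf_le_left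
  have l₂ : K₂ ≤ B := e₂ ▸ inf_le_left
  have hc : ∀ K ≤ B, Nat.card (K.comap ψ) = Nat.card K := fun K hK => by
    rw [← Subgroup.card_map_of_injective hψ, Subgroup.map_comap_eq_self (hK.trans hB)]
  have he : ∀ x, B.comap ψ ⊓ (B.comap ψ).map (MulAut.conj x).toMonoidHom =
      (B ⊓ B.map (MulAut.conj (ψ x)).toMonoidHom).comap ψ := fun x => by
    ext y
    simp only [Subgroup.mem_inf, mem_cj, Subgroup.mem_comap, map_mul, map_inv]
  have hr : ∀ K ≤ B, (K.comap ψ).relIndex (B.comap ψ) * Nat.card K = 604800 := fun K hK => by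
    have := ((K.comap ψ).subgroupOf (B.comap ψ)).index_mul_card
    rwa [Nat.card_congr (Subgroup.subgroupOfEquivOfLe (Subgroup.comap_mono hK)).toEquiv, hc K hK,
      hc B le_rfl, cB] at this
  have hi : (B.comap ψ).index = 416 := by
    have := (B.comap ψ).index_mul_card
    rw [hc B le_rfl, cB, hG] at this
    omega
  have r₁ := hr _ l₁
  have r₂ := hr _ l₂
  rw [c₁, ← e₁, ← he] at r₁
  rw [c₂, ← e₂, ← he] at r₂
  have dc := fun x hx => exists_dc (x := x) hi (x₁ := x₁) (x₂ := x₂) (by omega) (by omega) hx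
  refine ⟨⟨fun h => by simp [h] at hi, fun L hL => ?_⟩, fun x hx => ?_⟩
  · have hBL : B ≤ L.map ψ := fun y hy => by
      obtain ⟨z, rfl⟩ := hB hy
      exact ⟨z, hL.le hy, rfl⟩
    have hm : ∀ y, ψ y ∈ L.map ψ ↔ y ∈ L := fun y => Subgroup.mem_map_iff_mem hψ
    have h12 : x₁ ∈ L ∧ x₂ ∈ L := by
      obtain ⟨y, hy, hy'⟩ := SetLike.exists_of_lt hL
      obtain ⟨a, ha, b, hb, rfl | rfl⟩ := dc y hy'
      · rw [L.mul_mem_cancel_right (hL.le hb), L.mul_mem_cancel_left (hL.le ha)] at hy
        exact ⟨hy, (hm _).1 (h₁ _ hBL ((hm _).2 hy))⟩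
      · rw [L.mul_mem_cancel_right (hL.le hb), L.mul_mem_cancel_left (hL.le ha)] at hy
        exact ⟨(hm _).1 (h₂ _ hBL ((hm _).2 hy)), hy⟩
    rw [eq_top_iff]
    intro y _
    by_cases hy : y ∈ B.comap ψ
    · exact hL.le hy
    · obtain ⟨a, ha, b, hb, rfl | rfl⟩ := dc y hy
      · exact mul_mem (mul_mem (hL.le ha) h12.1) (hL.le hb)
      · exact mul_mem (mul_mem (hL.le ha) h12.2) (hL.le hb)
  · obtain ⟨a, ha, b, hb, rfl | rfl⟩ := dc x hx
    · refine coatom_dc ha hb ?_
      rw [he, e₁]
      exact coatom_comap hψ hB l₁ (fun h => by rw [h, cB] at c₁; omega) m₁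
    · refine coatom_dc ha hb ?_
      rw [he, e₂]
      exact coatom_comap hψ hB l₂ (fun h => by rw [h, cB] at c₂; omega) m₂

end abstract

open Cfsg.Agent.Spor Cfsg.Agent.Spor.NM Cfsg.Agent.Spor.NM.F4x6 Cfsg.Agent.Spor.MJ2 Cfsg.Lie
open Cfsg.Agent.Chev

set_option maxRecDepth 100000
set_option exponentiation.threshold 100000

noncomputable def aT : BT :=
(.node (.node (.node (.node (.node (.leaf (nat_lit 0x200000000000000200000000001000000000000001000000000008000000000000000000000000040000000000000000000000000200000000000000000000000001))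
 (.leaf (nat_lit 0x200000000000000000000000001000000000000000000200000008000000000000000000000000040000000000000040000000000200000000000000000040000001))
) (.leaf (nat_lit 0x200040000000000000000000001000000000000000000000000008001000000000000000000000040000000000000000000000000200040000000000000000000001))
) (.node (.node (.leaf (nat_lit 0x200000000000000000040000001000000040000000000000000008000000200000000000000000040000000000000000000000000200000000000000000000000001))
 (.leaf (nat_lit 0x200000000000000000000000001000000000000000000000000008000000000000008000000000040000000000000000000000000200000000000000200000000001))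
) (.leaf (nat_lit 0x200000000000000000000000001000000000000000000000040008000000000000000000000000040000000000000000000001000200000000000000000000000001))
)) (.node (.node (.node (.leaf (nat_lit 0x200000000001000000000000001000000000000000000000000008000000000040000000000000040000000000000000000000000200000000000000000000000001))
 (.leaf (nat_lit 0x200000000000000000000000001000000000000000000000000008000000000000000001000000040000000000000000008000000200000008000000000000000001))
) (.leaf (nat_lit 0x200000000000000000000000001000200000000000000000000008000000000000000000000000040008000000000000000000000200000000000000000000000001))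
) (.node (.node (.leaf (nat_lit 0x200000008000000000000000001000000000008000000000000008000000000000000000000000040000001000000000000000000200000000000000000000000001))
 (.leaf (nat_lit 0x200000000000000000000000001000000000000000000000000008000000000000000000000000040000000000200000000000000200000000001000000000000001))
) (.leaf (nat_lit 0x200000000000000000000008001000000000000000000000000008000000000000000000000200040000000000000000000000000200000000000000000000008001))
))) (.node (.node (.node (.node (.leaf (nat_lit 0x200000000000004000000000001000000000000020000000000008000000000000000000000000040000000000000000000000000200000000000000000000000001))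
 (.leaf (nat_lit 0x200000000000000000000000001000000000000000004000000008000000000000000000000000040000000000000840000000000200000000000000000800000001))
) (.leaf (nat_lit 0x200800000000000000000000001000000000000000000000000008021000000000000000000000040000000000000000000000000200800000000000000000000001))
) (.node (.node (.leaf (nat_lit 0x200000000000000000840000001000000800000000000000000008000004000000000000000000040000000000000000000000000200000000000000000000000001))
 (.leaf (nat_lit 0x200000000000000000000000001000000000000000000000000008000000000000100000000000040000000000000000000000000200000000000004000000000001))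
) (.leaf (nat_lit 0x200000000000000000000000001000000000000000000000800008000000000000000000000000040000000000000000000020000200000000000000000000000001))
)) (.node (.node (.node (.leaf (nat_lit 0x200000000020000000000000001000000000000000000000000008000000000800000000000000040000000000000000000000000200000000000000000000000001))
 (.leaf (nat_lit 0x200000000000000000000000001000000000000000000000000008000000000000000020000000040000000000000000100000000200000108000000000000000001))
) (.leaf (nat_lit 0x200000000000000000000000001004000000000000000000000008000000000000000000000000040100000000000000000000000200000000000000000000000001))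
) (.node (.node (.leaf (nat_lit 0x200000100000000000000000001000000000108000000000000008000000000000000000000000040000020000000000000000000200000000000000000000000001))
 (.leaf (nat_lit 0x200000000000000000000000001000000000000000000000000008000000000000000000000000040000000004000000000000000200000000020000000000000001))
) (.leaf (nat_lit 0x200000000000000000000100001000000000000000000000000008000000000000000000004200040000000000000000000000000200000000000000000000100001))
))))

/-- The root elements. -/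
noncomputable def ac : ℕ → ℕ := aT.get

noncomputable def cg : ℕ := (nat_lit 0x200000008001004000840108020000200800100020000200000008021000200000008001004000040008001004200840000001000000840000020004000840008021)

noncomputable def cgi : ℕ := (nat_lit 0x840100021004200000108021000000840108021000000040008021004000000108001000200000100020004000040008000000000040100020000000000008000)

noncomputable def cX1 : ℕ := (nat_lit 0x200840008000000200040100021004200000000020000000840000000000200040100001004200040108000004200800108000004200040100000000000000108000)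

noncomputable def cX1i : ℕ := (nat_lit 0x200840008000000200040100021004200000000020000000840000000000200040100001004200040108000004200800108000004200040100000000000000108000)

noncomputable def cX2 : ℕ := (nat_lit 0x4200000000021000200000108001004000800100021000000000000020004000000008021000200040100001004200840108020004200000008001004000040108020)

noncomputable def cX2i : ℕ := (nat_lit 0x200000108001000000840108021000200040008020000000840000021004200840008000004200800000001000200000000020000000040000001004200040000020)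

noncomputable def wS : LT :=
(.node (.node (.leaf [(nat_lit 0)])
 (.leaf [(nat_lit 1), (nat_lit 22), (nat_lit 0), (nat_lit 22), (nat_lit 1)])
) (.node (.leaf [(nat_lit 6), (nat_lit 1), (nat_lit 22), (nat_lit 0), (nat_lit 22), (nat_lit 1), (nat_lit 6)])
 (.leaf [(nat_lit 23), (nat_lit 1), (nat_lit 18), (nat_lit 16), (nat_lit 0), (nat_lit 16), (nat_lit 18), (nat_lit 1), (nat_lit 23)])
))

noncomputable def wH : LT :=
(.node (.node (.leaf [(nat_lit 1), (nat_lit 2), (nat_lit 0), (nat_lit 1), (nat_lit 0), (nat_lit 3), (nat_lit 0), (nat_lit 3), (nat_lit 2), (nat_lit 3)])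
 (.leaf [(nat_lit 2), (nat_lit 1), (nat_lit 3), (nat_lit 0), (nat_lit 2), (nat_lit 1), (nat_lit 2), (nat_lit 0), (nat_lit 3), (nat_lit 1), (nat_lit 2)])
) (.leaf [(nat_lit 3), (nat_lit 0), (nat_lit 1), (nat_lit 2), (nat_lit 3), (nat_lit 1), (nat_lit 2), (nat_lit 0), (nat_lit 1), (nat_lit 3), (nat_lit 2), (nat_lit 0), (nat_lit 3)])
)

noncomputable def wC : LT :=
(.node (.node (.node (.leaf [(nat_lit 1), (nat_lit 3), (nat_lit 2), (nat_lit 0), (nat_lit 1), (nat_lit 2), (nat_lit 3), (nat_lit 1), (nat_lit 2), (nat_lit 3), (nat_lit 0), (nat_lit 2), (nat_lit 0)])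
 (.leaf [(nat_lit 3), (nat_lit 2), (nat_lit 0), (nat_lit 1), (nat_lit 3), (nat_lit 0), (nat_lit 3), (nat_lit 1), (nat_lit 0), (nat_lit 2), (nat_lit 3)])
) (.node (.leaf [(nat_lit 3), (nat_lit 1), (nat_lit 2), (nat_lit 0), (nat_lit 3), (nat_lit 2), (nat_lit 0), (nat_lit 3), (nat_lit 2), (nat_lit 3), (nat_lit 2), (nat_lit 1)])
 (.leaf [(nat_lit 0), (nat_lit 1), (nat_lit 3), (nat_lit 2), (nat_lit 0), (nat_lit 3), (nat_lit 0), (nat_lit 2), (nat_lit 3), (nat_lit 1), (nat_lit 0)])
)) (.node (.node (.leaf [(nat_lit 2), (nat_lit 1), (nat_lit 2), (nat_lit 3), (nat_lit 0), (nat_lit 2), (nat_lit 3), (nat_lit 1), (nat_lit 2), (nat_lit 3), (nat_lit 2), (nat_lit 3), (nat_lit 1)])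
 (.leaf [(nat_lit 2), (nat_lit 1), (nat_lit 0), (nat_lit 2), (nat_lit 1), (nat_lit 0), (nat_lit 3), (nat_lit 1), (nat_lit 2), (nat_lit 0), (nat_lit 1), (nat_lit 2), (nat_lit 0)])
) (.leaf [(nat_lit 0), (nat_lit 2), (nat_lit 3), (nat_lit 0), (nat_lit 2), (nat_lit 1), (nat_lit 2), (nat_lit 0), (nat_lit 3), (nat_lit 2), (nat_lit 0)])
))

/-- The generators of `B` and one more letter. -/
noncomputable def ex (y : ℕ) : ℕ → ℕ := fun x => ifLt x 4 (sc x) y

theorem in_ex {K : Subgroup GL6} (hK : B ≤ K) {y : ℕ} (hy : M.In K y) {w : List ℕ}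
    (hw : lettersLt 5 w = true) : M.In K (evN mul one (ex y) w) := by
  have h : M.Par K (ex y) := fun x => by
    unfold ex
    rw [ifLt_eq]
    split_ifs with h
    · exact (lets_s.in_gen h).mono hK
    · exact hy
  exact ((h.lets 5).in_evN hw).mono (h.gen_le 5)

theorem a_ent : ∀ x < 24, ent (ac x) = true := by decide +kernel

theorem a_ok : ∀ x < 24, ∀ i j : Fin 6, Cl.TF.code
    ((G2.Y (x / 2) (Cl.TF.prim Cl.gf4 ^ (x % 2))).submatrix (3 : Fin 7).succAbove (3 : Fin 7).succAbove i j) =
      Cl.TF.code (dec (Equiv.refl (Fin 6)) 15 (phi4 (Cl.TF.prim Cl.gf4)) (ac x) i j) := by decide +kernel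

theorem in_a {x : ℕ} (hx : x < 24) : M.In (G2.rhoSix Cl.GF4).range (ac x) := by
  obtain ⟨h1, h2⟩ := (spec (by decide +kernel) (Cl.TF.prim Cl.gf4) Cl.prim_rel_GF4).of_coe (Equiv.refl _)
    (a_ent x hx) ((G2.coe_rhoSix_XG Cl.GF4 (by omega) _).trans (Matrix.ext fun i j => Cl.TF.ext_code (a_ok x hx i j)))
  exact ⟨h1, _, h2.symm⟩

theorem g_ok : invChk mul one ent cg cgi = true := by decide +kernel

/-- The embedding of `G₂(4)`. -/
noncomputable def psi : chevG2.group Cl.GF4 →* GL6 :=
  (MulAut.conj (M.elt cg)).toMonoidHom.comp (G2.rhoSix Cl.GF4)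

theorem psi_injective : Function.Injective psi :=
  (MulAut.conj (M.elt cg)).injective.comp
    (G2.rhoSix_injective _ ⟨Cl.TF.prim Cl.gf4, by decide +kernel, by decide +kernel⟩)

theorem in_psi {w : List ℕ} (hw : lettersLt 24 w = true) :
    M.In psi.range (mul (mul cg (evN mul one ac w)) cgi) := by
  have h : M.Lets ac 24 := fun x hx => (in_a hx).1
  obtain ⟨h1, z, h2⟩ := (h.in_evN hw).mono (genLt_le fun x hx => (in_a hx).2)
  obtain ⟨h3, h4, h5⟩ := Model.invChk_sound (M := M) g_ok
  refine ⟨M.V_mul (M.V_mul h3 h1) h4, z, ?_⟩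
  rw [M.elt_mul (M.V_mul h3 h1) h4, M.elt_mul h3 h1, h5, ← h2]
  rfl

theorem s_ok : ∀ x < 4, lettersLt 24 (wS.get x) = true ∧
    sc x = mul (mul cg (evN mul one ac (wS.get x))) cgi := by decide +kernel

theorem B_le : B ≤ psi.range := genLt_le fun x hx => by
  rw [Model.g, (s_ok x hx).2]
  exact (in_psi (s_ok x hx).1).2

theorem X1_mem : M.elt cX1 ∈ psi.range := by
  rw [show cX1 = mul (mul cg (evN mul one ac [4])) cgi by decide +kernel]
  exact (in_psi (by decide +kernel)).2

theorem inf_eq {X Xi : ℕ} (hX : invChk mul one ent X Xi = true) {gc : ℕ → ℕ} {m : ℕ} (hg : M.Par B gc)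
    (hmax : ∀ L, M.gen gc m ≤ L → L ≤ B → L = M.gen gc m ∨ L = B) {t : LT}
    (h1 : ∀ x < m, lettersLt 4 (t.get x) = true ∧
      mul (mul Xi (gc x)) X = evN mul one sc (t.get x)) {k : ℕ} (hk : k < 4) {w : List ℕ}
    (hw : lettersLt 5 w = true)
    (h2 : ordOK mul one (evN mul one (ex (mul (mul Xi (sc k)) X)) w) 13 = true) :
    B ⊓ B.map (MulAut.conj (M.elt X)).toMonoidHom = M.gen gc m := by
  obtain ⟨h3, h4, h5⟩ := Model.invChk_sound (M := M) hX
  have hc : ∀ a, M.V a → M.V (mul (mul Xi a) X) ∧
      M.elt (mul (mul Xi a) X) = (M.elt X)⁻¹ * M.elt a * M.elt X := fun a ha =>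
    ⟨M.V_mul (M.V_mul h4 ha) h3, by rw [M.elt_mul (M.V_mul h4 ha) h3, M.elt_mul h4 ha, h5]⟩
  refine (hmax _ (le_inf (hg.gen_le m) (genLt_le fun x hx => ?_)) inf_le_left).resolve_right fun h => ?_
  · rw [mem_cj, Model.g, ← (hc _ (hg x).1).2, (h1 x hx).2]
    exact (lets_s.in_evN (h1 x hx).1).2
  · have h6 := (Subgroup.mem_inf.1 (h.ge (lets_s.in_gen hk).2)).2
    rw [mem_cj, ← (hc _ (lets_s k hk)).2] at h6
    have := (in_ex le_rfl ⟨(hc _ (lets_s k hk)).1, h6⟩ hw).dvd_card (by norm_num) h2
    rw [card_B] at this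
    norm_num at this

theorem X1_ok : invChk mul one ent cX1 cX1i = true := by decide +kernel

theorem X2_ok : invChk mul one ent cX2 cX2i = true := by decide +kernel

theorem inf_X1 : B ⊓ B.map (MulAut.conj (M.elt cX1)).toMonoidHom = HB :=
  inf_eq X1_ok par_H H_max (t := wH) (by decide +kernel) (k := 3) (by norm_num) (w := [3, 1, 4, 2])
    (by decide +kernel) (by decide +kernel)

theorem inf_X2 : B ⊓ B.map (MulAut.conj (M.elt cX2)).toMonoidHom = C :=
  inf_eq X2_ok par_C C_max (t := wC) (by decide +kernel) (k := 1) (by norm_num) (w := [0, 1, 4, 3])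
    (by decide +kernel) (by decide +kernel)

theorem X2_of (L : Subgroup GL6) (hL : B ≤ L) (h : M.elt cX1 ∈ L) : M.elt cX2 ∈ L := by
  rw [show cX2 = evN mul one (ex cX1) [1, 0, 4, 2, 3, 4] by decide +kernel]
  exact (in_ex hL ⟨(Model.invChk_sound (M := M) X1_ok).1, h⟩ (by decide +kernel)).2

theorem X1_of (L : Subgroup GL6) (hL : B ≤ L) (h : M.elt cX2 ∈ L) : M.elt cX1 ∈ L := by
  rw [show cX1 = evN mul one (ex cX2) [3, 4, 0, 3, 2, 1, 2, 1, 4, 2, 1, 0, 2, 1, 3, 0, 3, 1, 0] by
    decide +kernel]
  exact (in_ex hL ⟨(Model.invChk_sound (M := M) X2_ok).1, h⟩ (by decide +kernel)).2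


/-- The Chevalley group G₂(4) (over the field with 4 elements) has a maximal subgroup H isomorphic to the Hall–Janko group J₂ such that for every x outside H the intersection H ∩ xHx⁻¹ is a maximal subgroup of H; that is, the action of G₂(4) on the cosets of H is extremely primitive. -/
theorem result {F : Type*} [Field F] [Fintype F] (hF : Fintype.card F = 4) :
    ∃ H : Subgroup (Cfsg.Lie.chevG2.group F), IsCoatom H ∧ Cfsg.Spor.IsoJ2 H ∧
      ∀ x : Cfsg.Lie.chevG2.group F, x ∉ H → IsCoatom ((H ⊓ H.map (MulAut.conj x).toMonoidHom).subgroupOf H) := by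
  obtain ⟨f⟩ := Cl.nonempty_ringEquiv_GF4 F hF
  let ψ : chevG2.group F →* GL6 := psi.comp (fieldEquiv chevG2 f).toMonoidHom
  have hψ : Function.Injective ψ := psi_injective.comp (fieldEquiv chevG2 f).injective
  have hr : ψ.range = psi.range := by
    rw [MonoidHom.range_comp, (MonoidHom.range_eq_top (f := (fieldEquiv chevG2 f).toMonoidHom)).2
      (fieldEquiv chevG2 f).surjective, ← MonoidHom.range_eq_map]
  obtain ⟨h1, h2⟩ := main hψ (hr ▸ B_le) (by rw [S1059.result hF]; norm_num) card_B H_lev.card C_lev.card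
    (hr ▸ X1_mem) inf_X1 inf_X2 H_max C_max X2_of X1_of
  exact ⟨_, h1, ⟨(((B.comap ψ).equivMapOfInjective ψ hψ).trans
    (MulEquiv.subgroupCongr (Subgroup.map_comap_eq_self (hr ▸ B_le)))).trans eJ.symm⟩, h2⟩

end Cfsg.Agent.S5746
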