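import Cfsg.Statements.S2176
import Cfsg.Agent.Chev.C2Rank
import Cfsg.Agent.Chev.Good

set_option autoImplicit false
open Cfsg

namespace Cfsg.Agent.S2176

open Cfsg.Lie Cfsg.Lie.ChevalleyDatum

/-- Conjugating moves for the cascades. -/
def tab : List (List ℕ × List (List ℕ × List ℕ)) := [
  ([239], [([], [])]),
  ([226, 239], [([2, 3, 4, 5, 6, 7], [])]),
  ([159, 226, 239], [([2, 3, 0, 2, 1, 3, 4, 5, 6, 7, 1, 3, 2, 0], [])]),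
  ([121, 159, 226, 239], [([5, 6, 7, 1, 3, 4, 5, 6, 0, 2, 3, 4, 5, 1, 3, 4, 2, 3, 0, 2, 1, 3, 4, 5, 6, 7, 5, 3,
    4, 2, 3, 0, 2, 1, 3, 4, 5, 6, 4, 3, 0, 2, 1, 3, 4, 5, 1, 3, 2, 0], [141, 135, 126]), ([1], [136, 141]), ([6,
    7, 5, 6, 4, 5, 3, 4, 2, 3, 0, 2, 1, 3, 4, 5, 6, 7, 2, 3, 0, 2, 1, 3, 4, 5, 6, 3, 2, 1, 3, 4, 5, 3, 4, 0, 2,
    0], [])]),
  ([152, 159, 226, 239], [([5, 4, 2, 3, 0, 2, 1, 3, 4, 5, 6, 7, 1, 3, 4, 5, 1, 3, 2, 0], [])]),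
  ([121, 152, 159, 226, 239], [([5, 6, 7, 1, 3, 4, 5, 6, 0, 2, 3, 4, 5, 1, 3, 4, 2, 3, 0, 2, 1, 3, 4, 5, 6, 7,
    5, 3, 4, 2, 3, 0, 2, 1, 3, 4, 5, 6, 4, 3, 0, 2, 1, 3, 4, 5, 1, 3, 2, 0], [141, 135, 126]), ([1], [136,
    141]), ([5, 4, 2, 3, 0, 2, 1, 3, 4, 5, 6, 7, 2, 3, 0, 2, 1, 3, 4, 5, 6, 3, 2, 1, 3, 4, 5, 3, 4, 0, 2, 0],
    [])]),
  ([126, 152, 159, 226, 239], [([5, 6, 7, 1, 3, 4, 5, 6, 0, 2, 3, 4, 5, 1, 3, 4, 2, 3, 0, 2, 1, 3, 4, 5, 6, 7,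
    5, 4, 3, 2, 1, 3, 4, 5, 3, 0, 2, 1, 3, 4, 3, 2, 1, 3, 2, 0], [141, 135, 126]), ([1], [136, 141]), ([5, 4, 2,
    3, 0, 2, 1, 3, 4, 5, 6, 7, 2, 3, 0, 2, 1, 3, 4, 5, 6, 3, 2, 1, 3, 4, 5, 3, 4, 0, 2, 0], [])]),
  ([135, 152, 159, 226, 239], [([5, 6, 0, 2, 3, 4, 5, 1, 3, 4, 2, 3, 0, 2, 1, 3, 4, 5, 2, 3, 4, 0, 2, 3, 2, 0],
    [141, 135, 126]), ([1], [136, 141]), ([5, 4, 2, 3, 0, 2, 1, 3, 4, 5, 6, 7, 2, 3, 0, 2, 1, 3, 4, 5, 6, 3, 2,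
    1, 3, 4, 5, 3, 4, 0, 2, 0], [])]),
  ([141, 152, 159, 226, 239], [([5, 6, 7, 1, 3, 4, 5, 6, 0, 2, 3, 4, 5, 1, 3, 4, 2, 3, 0, 2, 1, 3, 4, 5, 6, 7,
    5, 4, 3, 2, 1, 3, 4, 5, 3, 4, 1, 3], [141, 135, 126]), ([1], [136, 141]), ([5, 4, 2, 3, 0, 2, 1, 3, 4, 5, 6,
    7, 2, 3, 0, 2, 1, 3, 4, 5, 6, 3, 2, 1, 3, 4, 5, 3, 4, 0, 2, 0], [])]),
  ([121, 126, 152, 159, 226, 239], [([4, 5, 6, 3, 4, 5, 3, 4, 1, 3], [141, 135, 126]), ([1], [136, 141]), ([5,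
    6, 7, 1, 3, 4, 5, 6, 0, 2, 3, 4, 5, 1, 3, 4, 2, 3, 0, 2, 1, 3, 4, 5, 6, 7, 5, 4, 3, 2, 1, 3, 4, 5, 0, 2, 3,
    4, 2, 1, 3, 2, 1, 0], [141, 135, 126]), ([1], [136, 141]), ([1, 3, 4, 5, 6, 2, 3, 4, 5, 1, 3, 4, 2, 3, 0, 2,
    1, 3, 4, 5, 6, 7, 1, 3, 4, 5, 6, 5, 4, 2, 3, 0, 2, 1, 3, 4, 5, 3, 4, 0, 2, 0], [])]),
  ([121, 135, 152, 159, 226, 239], [([4, 5, 6, 7, 3, 4, 5, 6, 0, 2, 3, 4, 5, 1, 3, 4, 2, 3, 0, 2, 1, 3, 4, 5, 6,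
    7, 3, 4, 2, 3], [141, 135, 126]), ([1], [136, 141]), ([5, 6, 7, 1, 3, 4, 5, 6, 0, 2, 3, 4, 5, 1, 3, 4, 2, 3,
    0, 2, 1, 3, 4, 5, 6, 7, 5, 4, 3, 2, 1, 3, 4, 5, 0, 2, 3, 4, 2, 1, 3, 2, 1, 0], [141, 135, 126]), ([1], [136,
    141]), ([1, 3, 4, 5, 6, 2, 3, 4, 5, 1, 3, 4, 2, 3, 0, 2, 1, 3, 4, 5, 6, 7, 1, 3, 4, 5, 6, 5, 4, 2, 3, 0, 2,
    1, 3, 4, 5, 3, 4, 0, 2, 0], [])]),
  ([121, 141, 152, 159, 226, 239], [([4, 5, 6, 3, 4, 5, 3, 0, 2, 1, 3, 4, 3, 2, 1, 3, 2, 0], [141, 135, 126]),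
    ([1], [136, 141]), ([5, 6, 7, 1, 3, 4, 5, 6, 0, 2, 3, 4, 5, 1, 3, 4, 2, 3, 0, 2, 1, 3, 4, 5, 6, 7, 5, 4, 3,
    2, 1, 3, 4, 5, 0, 2, 3, 4, 2, 1, 3, 2, 1, 0], [141, 135, 126]), ([1], [136, 141]), ([1, 3, 4, 5, 6, 2, 3, 4,
    5, 1, 3, 4, 2, 3, 0, 2, 1, 3, 4, 5, 6, 7, 1, 3, 4, 5, 6, 5, 4, 2, 3, 0, 2, 1, 3, 4, 5, 3, 4, 0, 2, 0], [])]),
  ([126, 135, 152, 159, 226, 239], [([5, 6, 7, 1, 3, 4, 5, 6, 0, 2, 3, 4, 5, 1, 3, 4, 2, 3, 0, 2, 1, 3, 4, 5, 6,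
    7, 5, 4, 3, 2, 1, 3, 4, 5], [141, 135, 126]), ([1], [136, 141]), ([5, 6, 7, 1, 3, 4, 5, 6, 0, 2, 3, 4, 5, 1,
    3, 4, 2, 3, 0, 2, 1, 3, 4, 5, 6, 7, 5, 4, 3, 2, 1, 3, 4, 5, 3, 1], [141, 135, 126]), ([1], [136, 141]), ([1,
    3, 4, 5, 6, 2, 3, 4, 5, 1, 3, 4, 2, 3, 0, 2, 1, 3, 4, 5, 6, 7, 1, 3, 4, 5, 6, 5, 4, 2, 3, 0, 2, 1, 3, 4, 5,
    3, 4, 0, 2, 0], [])]),
  ([126, 141, 152, 159, 226, 239], [([5, 6, 0, 2, 3, 4, 5, 1, 3, 4, 2, 3, 0, 2, 1, 3, 4, 5, 4, 3, 2, 0], [141,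
    135, 126]), ([1], [136, 141]), ([5, 6, 7, 1, 3, 4, 5, 6, 0, 2, 3, 4, 5, 1, 3, 4, 2, 3, 0, 2, 1, 3, 4, 5, 6,
    7, 5, 4, 3, 2, 1, 3, 4, 5, 3, 1], [141, 135, 126]), ([1], [136, 141]), ([1, 3, 4, 5, 6, 2, 3, 4, 5, 1, 3, 4,
    2, 3, 0, 2, 1, 3, 4, 5, 6, 7, 1, 3, 4, 5, 6, 5, 4, 2, 3, 0, 2, 1, 3, 4, 5, 3, 4, 0, 2, 0], [])]),
  ([135, 141, 152, 159, 226, 239], [([5, 6, 7, 2, 3, 4, 5, 6, 0, 2, 3, 4, 5, 1, 3, 4, 2, 3, 0, 2, 1, 3, 4, 5, 6,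
    7, 5, 4, 3, 2, 1, 3, 4, 5, 0, 2, 3, 4, 1, 3, 2, 0], [141, 135, 126]), ([1], [136, 141]), ([5, 6, 7, 1, 3, 4,
    5, 6, 0, 2, 3, 4, 5, 1, 3, 4, 2, 3, 0, 2, 1, 3, 4, 5, 6, 7, 5, 4, 3, 2, 1, 3, 4, 5, 3, 1], [141, 135, 126]),
    ([1], [136, 141]), ([1, 3, 4, 5, 6, 2, 3, 4, 5, 1, 3, 4, 2, 3, 0, 2, 1, 3, 4, 5, 6, 7, 1, 3, 4, 5, 6, 5, 4,
    2, 3, 0, 2, 1, 3, 4, 5, 3, 4, 0, 2, 0], [])]),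
  ([121, 126, 135, 152, 159, 226, 239], [([4, 5, 6, 3, 4, 5, 0, 2, 3, 4, 1, 3, 2, 0], [141, 135, 126]), ([1],
    [136, 141]), ([5, 6, 0, 2, 3, 4, 5, 1, 3, 4, 2, 3, 0, 2, 1, 3, 4, 5, 2, 3, 4, 3, 2, 0], [141, 135, 126]),
    ([1], [136, 141]), ([5, 6, 7, 1, 3, 4, 5, 6, 0, 2, 3, 4, 5, 1, 3, 4, 2, 3, 0, 2, 1, 3, 4, 5, 6, 7, 5, 4, 3,
    2, 1, 3, 4, 5, 3, 1], [141, 135, 126]), ([1], [136, 141]), ([1, 3, 4, 5, 6, 2, 3, 4, 5, 1, 3, 4, 2, 3, 0, 2,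
    1, 3, 4, 5, 6, 7, 1, 3, 4, 5, 6, 5, 4, 2, 3, 0, 2, 1, 3, 4, 5, 3, 4, 0, 2, 0], [])]),
  ([121, 126, 141, 152, 159, 226, 239], [([4, 5, 6, 7, 3, 4, 5, 6, 0, 2, 3, 4, 5, 1, 3, 4, 2, 3, 0, 2, 1, 3, 4,
    5, 6, 7], [141, 135, 126]), ([1], [136, 141]), ([5, 6, 0, 2, 3, 4, 5, 1, 3, 4, 2, 3, 0, 2, 1, 3, 4, 5, 2, 3,
    4, 3, 2, 0], [141, 135, 126]), ([1], [136, 141]), ([5, 6, 7, 1, 3, 4, 5, 6, 0, 2, 3, 4, 5, 1, 3, 4, 2, 3, 0,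
    2, 1, 3, 4, 5, 6, 7, 5, 4, 3, 2, 1, 3, 4, 5, 3, 1], [141, 135, 126]), ([1], [136, 141]), ([1, 3, 4, 5, 6, 2,
    3, 4, 5, 1, 3, 4, 2, 3, 0, 2, 1, 3, 4, 5, 6, 7, 1, 3, 4, 5, 6, 5, 4, 2, 3, 0, 2, 1, 3, 4, 5, 3, 4, 0, 2, 0],
    [])]),
  ([121, 135, 141, 152, 159, 226, 239], [([4, 5, 6, 3, 4, 5], [141, 135, 126]), ([1], [136, 141]), ([5, 6, 0, 2,
    3, 4, 5, 1, 3, 4, 2, 3, 0, 2, 1, 3, 4, 5, 2, 3, 4, 3, 2, 0], [141, 135, 126]), ([1], [136, 141]), ([5, 6, 7,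
    1, 3, 4, 5, 6, 0, 2, 3, 4, 5, 1, 3, 4, 2, 3, 0, 2, 1, 3, 4, 5, 6, 7, 5, 4, 3, 2, 1, 3, 4, 5, 3, 1], [141,
    135, 126]), ([1], [136, 141]), ([1, 3, 4, 5, 6, 2, 3, 4, 5, 1, 3, 4, 2, 3, 0, 2, 1, 3, 4, 5, 6, 7, 1, 3, 4,
    5, 6, 5, 4, 2, 3, 0, 2, 1, 3, 4, 5, 3, 4, 0, 2, 0], [])]),
  ([126, 135, 141, 152, 159, 226, 239], [([4, 3], [141, 135, 126]), ([1], [136, 141]), ([5, 6, 0, 2, 3, 4, 5, 1,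
    3, 4, 2, 3, 0, 2, 1, 3, 4, 5, 2, 3, 4, 3, 2, 0], [141, 135, 126]), ([1], [136, 141]), ([5, 6, 7, 1, 3, 4, 5,
    6, 0, 2, 3, 4, 5, 1, 3, 4, 2, 3, 0, 2, 1, 3, 4, 5, 6, 7, 5, 4, 3, 2, 1, 3, 4, 5, 3, 1], [141, 135, 126]),
    ([1], [136, 141]), ([1, 3, 4, 5, 6, 2, 3, 4, 5, 1, 3, 4, 2, 3, 0, 2, 1, 3, 4, 5, 6, 7, 1, 3, 4, 5, 6, 5, 4,
    2, 3, 0, 2, 1, 3, 4, 5, 3, 4, 0, 2, 0], [])]),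
  ([121, 126, 135, 141, 152, 159, 226, 239], [([4, 5, 6, 3, 4, 5, 0, 2, 3, 4, 1, 3, 2, 0], [141, 135, 126]),
    ([1], [136, 141]), ([4, 5, 6, 7, 3, 4, 5, 6, 0, 2, 3, 4, 5, 1, 3, 4, 2, 3, 0, 2, 1, 3, 4, 5, 6, 7, 3, 4],
    [141, 135, 126]), ([1], [136, 141]), ([5, 6, 0, 2, 3, 4, 5, 1, 3, 4, 2, 3, 0, 2, 1, 3, 4, 5, 2, 3, 4, 3, 2,
    0], [141, 135, 126]), ([1], [136, 141]), ([5, 6, 7, 1, 3, 4, 5, 6, 0, 2, 3, 4, 5, 1, 3, 4, 2, 3, 0, 2, 1, 3,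
    4, 5, 6, 7, 5, 4, 3, 2, 1, 3, 4, 5, 3, 1], [141, 135, 126]), ([1], [136, 141]), ([1, 3, 4, 5, 6, 2, 3, 4, 5,
    1, 3, 4, 2, 3, 0, 2, 1, 3, 4, 5, 6, 7, 1, 3, 4, 5, 6, 5, 4, 2, 3, 0, 2, 1, 3, 4, 5, 3, 4, 0, 2, 0], [])])]

/-- Representatives with the ranks of `g - 1`. -/
def reps : List (List ℕ × ℕ) := [([239], 58), ([232, 233], 92), ([228, 222, 218], 110), ([226, 220, 213, 216], 120)]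

theorem chk : chevE8.classChk 100 (reps.map Prod.fst) tab = true := by decide +kernel

theorem chk2 : ∀ r < chevE8.nroots, chevE8.IsDom r → ∀ s < chevE8.nroots, chevE8.pairing r s ≤ 2 := by
  decide +kernel

theorem chk3 : ∀ p ∈ reps, chevE8.rankChk p.1 p.2 = true := by decide +kernel

theorem chk4 : ∀ p ∈ reps, p.2 ≠ 0 ∧ chevE8.collect 100 (p.1 ++ p.1) = [] := by decide +kernel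

/-- Conjugacy classes of involutions in the Chevalley group of type E₈ over a finite field F of characteristic two (the matrix group generated by the root elements x_r(t)). In this problem's root numbering for type E₈ (the Chevalley data module; fundamental roots numbered so that p₁–p₃–p₄–p₅–p₆–p₇–p₈ is the long chain of the diagram and p₂ is joined to p₄; roots indexed by their coefficient vectors in increasing order) let r = 239 be the highest root (2,3,4,6,5,4,3,2), α = 232 = (2,2,4,5,4,3,2,1), β = 233 = (2,3,3,5,4,3,2,1), γ = 228 = (2,2,3,4,3,2,2,1), δ = 222 = (1,2,3,4,3,3,2,1), ε = 218 = (1,2,2,4,4,3,2,1), φ = 226 = (2,2,3,4,3,2,1,0), ψ = 220 = (1,2,3,4,3,2,1,1), θ = 213 = (1,2,2,3,3,3,2,1), ω = 216 = (1,2,2,4,3,2,2,1) (the roots within each of {α, β},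 {γ, δ, ε}, {φ, ψ, θ, ω} pairwise orthogonal); consider x_r(1), x_α(1)x_β(1), x_γ(1)x_δ(1)x_ε(1) and x_φ(1)x_ψ(1)x_θ(1)x_ω(1). Then: each invertible matrix equal to one of these four products lies in the group and has order 2; every element of order 2 of the group is conjugate in the group to one of them; and no two of them are conjugate in the group (so, the four matrices being distinct, the group has exactly four conjugacy classes of involutions). -/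
theorem result {F : Type*} [Field F] [Fintype F] [CharP F 2] :
    (∀ y : GL Cfsg.Lie.chevE8.Idx F, ((y : GL Cfsg.Lie.chevE8.Idx F) : Matrix Cfsg.Lie.chevE8.Idx Cfsg.Lie.chevE8.Idx F) ∈ [Cfsg.Lie.chevE8.x F 239 1, Cfsg.Lie.chevE8.x F 232 1 * Cfsg.Lie.chevE8.x F 233 1, Cfsg.Lie.chevE8.x F 228 1 * Cfsg.Lie.chevE8.x F 222 1 * Cfsg.Lie.chevE8.x F 218 1, Cfsg.Lie.chevE8.x F 226 1 * Cfsg.Lie.chevE8.x F 220 1 * Cfsg.Lie.chevE8.x F 213 1 * Cfsg.Lie.chevE8.x F 216 1] → y ∈ Cfsg.Lie.chevE8.group F ∧ orderOf y = 2) ∧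
    (∀ g ∈ Cfsg.Lie.chevE8.group F, orderOf g = 2 → ∃ y ∈ Cfsg.Lie.chevE8.group F, ((y : GL Cfsg.Lie.chevE8.Idx F) : Matrix Cfsg.Lie.chevE8.Idx Cfsg.Lie.chevE8.Idx F) ∈ [Cfsg.Lie.chevE8.x F 239 1, Cfsg.Lie.chevE8.x F 232 1 * Cfsg.Lie.chevE8.x F 233 1, Cfsg.Lie.chevE8.x F 228 1 * Cfsg.Lie.chevE8.x F 222 1 * Cfsg.Lie.chevE8.x F 218 1, Cfsg.Lie.chevE8.x F 226 1 * Cfsg.Lie.chevE8.x F 220 1 * Cfsg.Lie.chevE8.x F 213 1 * Cfsg.Lie.chevE8.x F 216 1] ∧ ∃ h ∈ Cfsg.Lie.chevE8.group F, h * g * h⁻¹ = y) ∧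
    (∀ y₁ ∈ Cfsg.Lie.chevE8.group F, ∀ y₂ ∈ Cfsg.Lie.chevE8.group F, ((y₁ : GL Cfsg.Lie.chevE8.Idx F) : Matrix Cfsg.Lie.chevE8.Idx Cfsg.Lie.chevE8.Idx F) ∈ [Cfsg.Lie.chevE8.x F 239 1, Cfsg.Lie.chevE8.x F 232 1 * Cfsg.Lie.chevE8.x F 233 1, Cfsg.Lie.chevE8.x F 228 1 * Cfsg.Lie.chevE8.x F 222 1 * Cfsg.Lie.chevE8.x F 218 1, Cfsg.Lie.chevE8.x F 226 1 * Cfsg.Lie.chevE8.x F 220 1 * Cfsg.Lie.chevE8.x F 213 1 * Cfsg.Lie.chevE8.x F 216 1] → ((y₂ : GL Cfsg.Lie.chevE8.Idx F) : Matrix Cfsg.Lie.chevE8.Idx Cfsg.Lie.chevE8.Idx F) ∈ [Cfsg.Lie.chevE8.x F 239 1, Cfsg.Lie.chevE8.x F 232 1 * Cfsg.Lie.chevE8.x F 233 1, Cfsg.Lie.chevE8.x F 228 1 * Cfsg.Lie.chevE8.x F 222 1 * Cfsg.Lie.chevE8.x F 218 1, Cfsg.Lie.chevE8.x F 226 1 * Cfsg.Lie.chevE8.x F 220 1 * Cfsg.Lie.chevE8.x F 213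 1 * Cfsg.Lie.chevE8.x F 216 1] →
      (∃ h ∈ Cfsg.Lie.chevE8.group F, h * y₁ * h⁻¹ = y₂) → ((y₁ : GL Cfsg.Lie.chevE8.Idx F) : Matrix Cfsg.Lie.chevE8.Idx Cfsg.Lie.chevE8.Idx F) = ((y₂ : GL Cfsg.Lie.chevE8.Idx F) : Matrix Cfsg.Lie.chevE8.Idx Cfsg.Lie.chevE8.Idx F)) := by
  exact classes_list (reps := reps.map Prod.fst) (by simp [reps, word, mul_assoc]) (orderOf_of_rank chk3 chk4)
    (fun _ => exists_conj_rep chk2 chk) fun a ha b hb g _ => sep_of_rank chk3 (by decide) a ha b hb g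

end Cfsg.Agent.S2176
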