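import Cfsg.Statements.S2181
import Cfsg.Agent.Chev.C2Rank
import Cfsg.Agent.Chev.Good

set_option autoImplicit false
open Cfsg

namespace Cfsg.Agent.S2181

open Cfsg.Lie Cfsg.Lie.ChevalleyDatum

/-- Conjugating moves for the cascades. -/
def tab : List (List ℕ × List (List ℕ × List ℕ)) := [
  ([125], [([], [])]),
  ([92, 125], [([], [])]),
  ([63, 92, 125], [([], [])]),
  ([87, 92, 125], [([], [])]),
  ([63, 87, 92, 125], [([], [])]),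
  ([66, 87, 92, 125], [([5, 6, 4, 5], [])]),
  ([73, 87, 92, 125], [([5, 6, 0, 2, 3, 4, 5, 1, 3, 4, 2, 3, 0, 2, 1, 3, 4, 5, 2, 3, 4, 0, 2, 3, 2, 0], [78, 73,
    66]), ([1], [74, 78]), ([5, 3, 4, 2, 3, 0, 2, 1, 3, 4, 5, 6, 2, 3, 0, 2, 1, 3, 4, 5, 2, 3, 4, 3, 2, 0],
    [])]),
  ([78, 87, 92, 125], [([5, 6, 4, 5, 0, 2, 3, 4, 1, 3, 2, 0], [])]),
  ([63, 66, 87, 92, 125], [([4, 5, 6, 3, 4, 5, 3, 4, 1, 3], [78, 73, 66]), ([1], [74, 78]), ([3, 4, 5, 6, 2, 3,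
    4, 5, 3, 4], [])]),
  ([63, 73, 87, 92, 125], [([5, 6, 0, 2, 3, 4, 5, 1, 3, 4, 2, 3, 0, 2, 1, 3, 4, 5, 2, 3, 4, 0, 2, 3, 2, 0], [78,
    73, 66]), ([1], [74, 78]), ([3, 4, 5, 6, 2, 3, 4, 5, 3, 4], [])]),
  ([63, 78, 87, 92, 125], [([4, 5, 6, 3, 4, 5, 3, 0, 2, 1, 3, 4, 3, 2, 1, 3, 2, 0], [78, 73, 66]), ([1], [74,
    78]), ([3, 4, 5, 6, 2, 3, 4, 5, 3, 4], [])]),
  ([66, 73, 87, 92, 125], [([5, 6, 0, 2, 3, 4, 5, 1, 3, 4, 2, 3, 0, 2, 1, 3, 4, 5, 2, 3, 4, 0, 2, 3, 2, 0], [78,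
    73, 66]), ([1], [74, 78]), ([5, 3, 4, 2, 3, 0, 2, 1, 3, 4, 5, 6, 5, 4, 3, 2, 1, 3, 4, 5, 4, 2, 3, 0, 2, 0],
    [])]),
  ([66, 78, 87, 92, 125], [([5, 6, 0, 2, 3, 4, 5, 1, 3, 4, 2, 3, 0, 2, 1, 3, 4, 5, 4, 3, 2, 0], [78, 73, 66]),
    ([1], [74, 78]), ([3, 4, 5, 6, 2, 3, 4, 5, 3, 0, 2, 1, 3, 4, 1, 3, 2, 0], [])]),
  ([73, 78, 87, 92, 125], [([5, 6, 0, 2, 3, 4, 5, 1, 3, 4, 2, 3, 0, 2, 1, 3, 4, 5, 2, 3, 4, 0, 2, 3, 2, 0], [78,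
    73, 66]), ([1], [74, 78]), ([3, 4, 5, 6, 2, 3, 4, 5, 3, 0, 2, 1, 3, 4, 1, 3, 2, 0], [])]),
  ([63, 66, 73, 87, 92, 125], [([4, 5, 6, 3, 4, 5, 0, 2, 3, 4, 1, 3, 2, 0], [78, 73, 66]), ([1], [74, 78]), ([5,
    6, 0, 2, 3, 4, 5, 1, 3, 4, 2, 3, 0, 2, 1, 3, 4, 5, 2, 3, 4, 3, 2, 0], [78, 73, 66]), ([1], [74, 78]), ([3,
    4, 5, 6, 2, 3, 4, 5, 3, 0, 2, 1, 3, 4, 1, 3, 2, 0], [])]),
  ([63, 66, 78, 87, 92, 125], [([4, 5, 6, 3, 4, 5, 3, 4, 1, 3], [78, 73, 66]), ([1], [74, 78]), ([4, 5, 6, 3, 4,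
    5, 0, 2, 3, 4, 2, 1, 3, 2, 1, 0], [78, 73, 66]), ([1], [74, 78]), ([5, 3, 4, 2, 3, 0, 2, 1, 3, 4, 5, 6, 5,
    4, 3, 2, 1, 3, 4, 5, 4, 2, 3, 0, 2, 0], [])]),
  ([63, 73, 78, 87, 92, 125], [([4, 5, 6, 3, 4, 5], [78, 73, 66]), ([1], [74, 78]), ([5, 6, 0, 2, 3, 4, 5, 1, 3,
    4, 2, 3, 0, 2, 1, 3, 4, 5, 2, 3, 4, 3, 2, 0], [78, 73, 66]), ([1], [74, 78]), ([3, 4, 5, 6, 2, 3, 4, 5, 3,
    0, 2, 1, 3, 4, 1, 3, 2, 0], [])]),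
  ([66, 73, 78, 87, 92, 125], [([4, 3], [78, 73, 66]), ([1], [74, 78]), ([5, 6, 0, 2, 3, 4, 5, 1, 3, 4, 2, 3, 0,
    2, 1, 3, 4, 5, 2, 3, 4, 3, 2, 0], [78, 73, 66]), ([1], [74, 78]), ([3, 4, 5, 6, 2, 3, 4, 5, 3, 0, 2, 1, 3,
    4, 1, 3, 2, 0], [])]),
  ([63, 66, 73, 78, 87, 92, 125], [([4, 5, 6, 3, 4, 5, 0, 2, 3, 4, 1, 3, 2, 0], [78, 73, 66]), ([1], [74, 78]),
    ([4, 5, 6, 3, 4, 5, 3, 1], [78, 73, 66]), ([1], [74, 78]), ([4, 5, 6, 3, 4, 5, 0, 2, 3, 4, 2, 1, 3, 2, 1,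
    0], [78, 73, 66]), ([1], [74, 78]), ([5, 3, 4, 2, 3, 0, 2, 1, 3, 4, 5, 6, 5, 4, 3, 2, 1, 3, 4, 5, 4, 2, 3,
    0, 2, 0], [])])]

/-- Representatives with the ranks of `g - 1`. -/
def reps : List (List ℕ × ℕ) := [([125], 34), ([92, 125], 52), ([63, 92, 125], 53), ([87, 92, 125], 62), ([63, 87, 92, 125], 63)]

theorem chk : chevE7.classChk 100 (reps.map Prod.fst) tab = true := by decide +kernel

theorem chk2 : ∀ r < chevE7.nroots, chevE7.IsDom r → ∀ s < chevE7.nroots, chevE7.pairing r s ≤ 2 := by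
  decide +kernel

theorem chk3 : ∀ p ∈ reps, chevE7.rankChk p.1 p.2 = true := by decide +kernel

theorem chk4 : ∀ p ∈ reps, p.2 ≠ 0 ∧ chevE7.collect 100 (p.1 ++ p.1) = [] := by decide +kernel

/-- The Chevalley group of type E₇ over a finite field of characteristic two (the matrix group generated by the root elements) has exactly five conjugacy classes of elements of order 2. -/
theorem result {F : Type*} [Field F] [Fintype F] [CharP F 2] :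
    (ConjClasses.mk '' {g : ↥(Cfsg.Lie.chevE7.group F) | orderOf g = 2}).ncard = 5 := by
  exact classes_ncard (reps := reps.map Prod.fst) (by decide) (fun l _ => word_mem_group l)
    (orderOf_of_rank chk3 chk4) (fun _ => exists_conj_rep chk2 chk)
    fun a ha b hb g _ => sep_of_rank chk3 (by decide) a ha b hb g

end Cfsg.Agent.S2181
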