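import Mathlib
import Cfsg.Statements.S2507
import Cfsg.Agent.Cl.PSL2Class

set_option autoImplicit false
open Cfsg

set_option linter.unusedVariables false

namespace Cfsg.Agent.S2507

open Cfsg.Agent.Cl.L2 Matrix MulAction
open scoped MatrixGroups

/-- Let F be a finite field with q = 2^f ≥ 4 elements. The conjugacy class sizes of PSL(2,F) are exactly 1, q(q − 1), q² − 1 and q(q + 1). -/
theorem result {F : Type*} [Field F] [Fintype F]
    (h2 : 2 ∣ Fintype.card F) (h4 : 4 ≤ Fintype.card F) :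
    Set.range (fun g : (Matrix.ProjectiveSpecialLinearGroup (Fin 2) F) => (Subgroup.centralizer ({g} : Set (Matrix.ProjectiveSpecialLinearGroup (Fin 2) F))).index) =
      {1, Fintype.card F * (Fintype.card F - 1), Fintype.card F ^ 2 - 1, Fintype.card F * (Fintype.card F + 1)} := by
  rw [← Nat.card_eq_fintype_card] at h2 h4 ⊢
  have h2' : (2 : F) = 0 := two_eq_zero_iff_even.2 (by omega)
  have hd := gcd_of_two_eq_zero h2'
  have hG := card_PSL_char_two h2'
  have key : ∀ (g : PSL(2, F)) {a b : ℕ}, Nat.card (torS g) = a → 0 < a →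
      b * a = Nat.card F * (Nat.card F - 1) * (Nat.card F + 1) →
      (Subgroup.centralizer {g}).index = b := fun g a b h h0 h1 => by
    have := (torS g).index_mul_card
    rw [centralizer_eq_torS_of_char_two h2']
    exact Nat.eq_of_mul_eq_mul_right h0 (by rw [h1, ← hG, ← this, h])
  have k1 : ∀ g : PSL(2, F), g ≠ 1 → tau (emb g) = 4 →
      (Subgroup.centralizer {g}).index = Nat.card F ^ 2 - 1 := fun g h1 ht => by
    obtain ⟨x, hx⟩ := exists_mem_uniS ht
    refine key g (by rw [torS_eq_uniS hx h1, card_uniS]) (by omega) ?_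
    rw [show Nat.card F ^ 2 - 1 = (Nat.card F + 1) * (Nat.card F - 1) by
      rw [← Nat.sq_sub_sq, one_pow]]; ring
  have k2 : ∀ (g : PSL(2, F)) (x : P1 F), tau (emb g) ≠ 4 → g • x = x →
      (Subgroup.centralizer {g}).index = Nat.card F * (Nat.card F + 1) := fun g x ht hx =>
    key g (by rw [card_torS_of_fix ht hx, hd, Nat.div_one]) (by omega) (by ring)
  have k3 : ∀ g : PSL(2, F), (∀ x : P1 F, g • x ≠ x) →
      (Subgroup.centralizer {g}).index = Nat.card F * (Nat.card F - 1) := fun g hx =>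
    key g (by rw [card_torS_of_nofix hx, hd, Nat.div_one]) (by omega) rfl
  have k0 : (Subgroup.centralizer {(1 : PSL(2, F))}).index = 1 := by
    rw [Subgroup.centralizer_eq_top_iff_subset.2 (by simp), Subgroup.index_top]
  ext n
  simp only [Set.mem_range, Set.mem_insert_iff, Set.mem_singleton_iff]
  constructor
  · rintro ⟨g, rfl⟩
    by_cases h1 : g = 1
    · exact Or.inl (h1 ▸ k0)
    by_cases ht : tau (emb g) = 4
    · exact Or.inr (Or.inr (Or.inl (k1 g h1 ht)))
    by_cases hx : ∃ x : P1 F, g • x = x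
    · exact Or.inr (Or.inr (Or.inr (k2 g _ ht hx.choose_spec)))
    · exact Or.inr (Or.inl (k3 g (not_exists.1 hx)))
  · rintro (rfl | rfl | rfl | rfl)
    · exact ⟨1, k0⟩
    · obtain ⟨g, hg, -⟩ := exists_nofixS (F := F)
      exact ⟨g, k3 g hg⟩
    · obtain ⟨g, hg, h1⟩ := exists_ne_one_mem_uniS (inf : P1 F)
      exact ⟨g, k1 g h1 (mem_uniS.1 hg).2⟩
    · obtain ⟨g, h1, h3, hg⟩ := exists_fixS (F := F)
      refine ⟨g, k2 g _ (tau_ne_four_of_two_fix (emb_ne_one.2 ?_) (inf_ne_pt 0)
        (by rwa [emb_smul]) (by rwa [emb_smul])) h1⟩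
      rintro rfl
      rw [orderOf_one, hd] at hg; omega

end Cfsg.Agent.S2507
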