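import Mathlib
import Cfsg.Statements.S2508
import Cfsg.Agent.Cl.PSL2Class

set_option autoImplicit false
open Cfsg

set_option linter.unusedVariables false

namespace Cfsg.Agent.S2508

open Cfsg.Agent.Cl.L2 Matrix MulAction
open scoped MatrixGroups

lemma aux {F : Type*} [Field F] [Finite F] (h2 : (2 : F) ≠ 0) (h7 : 7 ≤ Nat.card F) {m : ℕ}
    (hm : ∀ t : PSL(2, F), orderOf t = 2 → (Subgroup.centralizer {t}).index = m) (n : ℕ) :
    n ∈ Set.range (fun g : PSL(2, F) => (Subgroup.centralizer ({g} : Set PSL(2, F))).index) ↔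
      n = 1 ∨ n = (Nat.card F ^ 2 - 1) / 2 ∨ n = m ∨ n = Nat.card F * (Nat.card F - 1) ∨
        n = Nat.card F * (Nat.card F + 1) := by
  have hd := gcd_of_two_ne_zero h2
  have hG := card_PSL_two h2
  have key : ∀ (g : PSL(2, F)) {a b : ℕ}, g ≠ 1 → orderOf g ≠ 2 → Nat.card (torS g) * 2 = a →
      0 < a → b * a = Nat.card F * (Nat.card F - 1) * (Nat.card F + 1) →
      (Subgroup.centralizer {g}).index = b := fun g a b h1 ho h h0 h3 => by
    have := (torS g).index_mul_card
    rw [centralizer_eq_torS_of_orderOf h1 ho]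
    exact Nat.eq_of_mul_eq_mul_right h0 (by rw [h3, ← hG, ← this, ← h, mul_assoc])
  have k1 : ∀ g : PSL(2, F), g ≠ 1 → tau (emb g) = 4 →
      (Subgroup.centralizer {g}).index = (Nat.card F ^ 2 - 1) / 2 := fun g h1 ht => by
    obtain ⟨x, hx⟩ := exists_mem_uniS ht
    refine key g h1 (fun h => tauS_ne_four_of_orderOf_two h2 h ht)
      (by rw [torS_eq_uniS hx h1, card_uniS]) (by omega) ?_
    have : 2 ∣ Nat.card F ^ 2 - 1 := by
      have := Nat.odd_iff.1 ((Nat.odd_iff.2 (two_ne_zero_iff_odd.1 h2)).pow (n := 2)); omega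
    rw [mul_comm (Nat.card F) 2, ← mul_assoc, Nat.div_mul_cancel this,
      show Nat.card F ^ 2 - 1 = (Nat.card F + 1) * (Nat.card F - 1) by
      rw [← Nat.sq_sub_sq, one_pow]]; ring
  have k2 : ∀ (g : PSL(2, F)) (x : P1 F), orderOf g ≠ 2 → tau (emb g) ≠ 4 → g • x = x →
      (Subgroup.centralizer {g}).index = Nat.card F * (Nat.card F + 1) := fun g x ho ht hx =>
    key g (a := Nat.card F - 1) (ne_one_of_tauS ht) ho
      (by have := card_torS_mul_of_fix ht hx; rwa [hd] at this) (by omega) (by ring)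
  have k3 : ∀ g : PSL(2, F), orderOf g ≠ 2 → (∀ x : P1 F, g • x ≠ x) →
      (Subgroup.centralizer {g}).index = Nat.card F * (Nat.card F - 1) := fun g ho hx =>
    key g (ne_one_of_tauS (tauS_ne_four_of_nofix hx)) ho (by rw [← card_torS_mul_of_nofix hx, hd])
      (by omega) rfl
  have k0 : (Subgroup.centralizer {(1 : PSL(2, F))}).index = 1 := by
    rw [Subgroup.centralizer_eq_top_iff_subset.2 (by simp), Subgroup.index_top]
  constructor
  · rintro ⟨g, rfl⟩
    by_cases h1 : g = 1
    · exact Or.inl (h1 ▸ k0)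
    by_cases ho : orderOf g = 2
    · exact Or.inr (Or.inr (Or.inl (hm g ho)))
    by_cases ht : tau (emb g) = 4
    · exact Or.inr (Or.inl (k1 g h1 ht))
    by_cases hx : ∃ x : P1 F, g • x = x
    · exact Or.inr (Or.inr (Or.inr (Or.inr (k2 g _ ho ht hx.choose_spec))))
    · exact Or.inr (Or.inr (Or.inr (Or.inl (k3 g ho (not_exists.1 hx)))))
  · rintro (rfl | rfl | rfl | rfl | rfl)
    · exact ⟨1, k0⟩
    · obtain ⟨g, hg, h1⟩ := exists_ne_one_mem_uniS (inf : P1 F)
      exact ⟨g, k1 g h1 (mem_uniS.1 hg).2⟩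
    · obtain ⟨V, hV⟩ := exists_kleinS h2
      obtain ⟨a, ha, -, -, h1, -⟩ := Inv.kleinFour_exists_pair hV
      exact ⟨a, hm a (orderOf_eq_prime ((sq a).trans (Inv.kleinFour_mul_self hV ha)) h1)⟩
    · obtain ⟨g, hg, ho⟩ := exists_nofixS (F := F)
      exact ⟨g, k3 g (by rw [hd] at ho; omega) hg⟩
    · obtain ⟨g, h1, h3, hg⟩ := exists_fixS (F := F)
      rw [hd] at hg
      refine ⟨g, k2 g _ (by omega) (tau_ne_four_of_two_fix (emb_ne_one.2 ?_) (inf_ne_pt 0)
        (by rwa [emb_smul]) (by rwa [emb_smul])) h1⟩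
      rintro rfl
      rw [orderOf_one] at hg; omega

/-- Let F be a finite field with q elements, q odd and q ≥ 7. If q ≡ 1 (mod 4) the conjugacy class sizes of PSL(2,F) are exactly 1, (q² − 1)/2, q(q + 1)/2, q(q − 1) and q(q + 1); if q ≡ 3 (mod 4) they are exactly 1, (q² − 1)/2, q(q − 1)/2, q(q + 1) and q(q − 1). -/
theorem result {F : Type*} [Field F] [Fintype F]
    (hodd : ¬ 2 ∣ Fintype.card F) (h7 : 7 ≤ Fintype.card F) :
    (Fintype.card F % 4 = 1 →
      Set.range (fun g : (Matrix.ProjectiveSpecialLinearGroup (Fin 2) F) => (Subgroup.centralizer ({g} : Set (Matrix.ProjectiveSpecialLinearGroup (Fin 2) F))).index) =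
        {1, (Fintype.card F ^ 2 - 1) / 2, Fintype.card F * (Fintype.card F + 1) / 2,
          Fintype.card F * (Fintype.card F - 1), Fintype.card F * (Fintype.card F + 1)}) ∧
    (Fintype.card F % 4 = 3 →
      Set.range (fun g : (Matrix.ProjectiveSpecialLinearGroup (Fin 2) F) => (Subgroup.centralizer ({g} : Set (Matrix.ProjectiveSpecialLinearGroup (Fin 2) F))).index) =
        {1, (Fintype.card F ^ 2 - 1) / 2, Fintype.card F * (Fintype.card F - 1) / 2,
          Fintype.card F * (Fintype.card F + 1), Fintype.card F * (Fintype.card F - 1)}) := by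
  rw [← Nat.card_eq_fintype_card] at hodd h7 ⊢
  have h2 : (2 : F) ≠ 0 := two_ne_zero_iff_odd.2 (by omega)
  have hG := card_PSL_two h2
  have key : ∀ (t : PSL(2, F)) {a b : ℕ}, orderOf t = 2 → Nat.card (torS t) * 2 = a → 0 < a →
      b * a = Nat.card F * (Nat.card F - 1) * (Nat.card F + 1) →
      (Subgroup.centralizer {t}).index = b / 2 := fun t a b ho h h0 h3 => by
    have := (ntorS t).index_mul_card
    rw [card_ntorS (tauS_ne_four_of_orderOf_two h2 ho), mul_comm 2, h] at this
    rw [centralizer_eq_ntorS_of_orderOf h2 ho]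
    refine (Nat.div_eq_of_eq_mul_left two_pos (Nat.eq_of_mul_eq_mul_right h0 ?_)).symm
    rw [h3, ← hG, ← this]; ring
  constructor
  · intro h
    ext n
    rw [aux h2 h7 (m := Nat.card F * (Nat.card F + 1) / 2) fun t ht => key t ht
      ((card_torS_of_orderOf_two h2 ht).resolve_right (by omega)).2 (by omega) (by ring)]
    simp only [Set.mem_insert_iff, Set.mem_singleton_iff]
  · intro h
    ext n
    rw [aux h2 h7 (m := Nat.card F * (Nat.card F - 1) / 2) fun t ht => key t ht
      ((card_torS_of_orderOf_two h2 ht).resolve_left (by omega)).2 (by omega) rfl]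
    simp only [Set.mem_insert_iff, Set.mem_singleton_iff, or_comm]

end Cfsg.Agent.S2508
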