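import Mathlib
import Cfsg.Statements.S4744
import Cfsg.Agent.Blk.DefZeroInv

set_option autoImplicit false
open Cfsg

namespace Cfsg.Agent.S4744

set_option linter.unusedVariables false

open Cfsg.Agent.Blk Cfsg.Agent.Ch Cfsg.Agent.Inv


/-- Let p be an odd prime and G a finite group of even order divisible by p in which the centralizer of every non-identity p-element has odd order. Then either G has an irreducible character of p-defect zero, or the normalizer of every Sylow p-subgroup P of G has even order and P is abelian. -/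
theorem result {G : Type*} [Group G] [Finite G] (p : ℕ) [Fact p.Prime] (hp2 : p ≠ 2) (hpG : p ∣ Nat.card G) (h2G : 2 ∣ Nat.card G) (hC : ∀ g : G, g ≠ 1 → (∃ k : ℕ, orderOf g = p ^ k) → Odd (Nat.card ↥(Subgroup.centralizer ({g} : Set G)))) : (∃ χ : Cfsg.IrrCharacter G, (Cfsg.charDegree (χ : G → ℂ)).factorization p = (Nat.card G).factorization p) ∨ ∀ P : Sylow p G, Even (Nat.card ↥(Subgroup.normalizer ((P : Subgroup G) : Set G))) ∧ IsMulCommutative ↥(P : Subgroup G) := by
  by_cases hno : ∃ χ : IrrCharacter G,
      (charDegree (χ : G → ℂ)).factorization p = (Nat.card G).factorization p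
  · exact Or.inl hno
  have hC := no_commute_of_centralizer (q := 2) fun g h1 h2 h3 =>
    (Nat.not_even_iff_odd.2 (hC g h1 h2)) (even_iff_two_dvd.2 h3)
  obtain ⟨t, ht⟩ := exists_involution_of_even (even_iff_two_dvd.2 h2G)
  refine Or.inr fun P => ?_
  obtain ⟨-, s, hts, hs⟩ := exists_conj_inverts_sylow hC hno ht P
  refine ⟨even_card_of_involution_mem (t := s) ?_ (by rw [← orderOf_eq_of_isConj hts, ht]),
    ⟨⟨fun a b => Subtype.ext (commute_of_forall_inverts hs a.2 b.2)⟩⟩⟩
  refine Subgroup.mem_normalizer_fintype fun x hx => ?_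
  rw [hs x hx]
  exact inv_mem hx

end Cfsg.Agent.S4744
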