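import Mathlib
import Cfsg.Statements.S3946
import Cfsg.Agent.FG.Kegel

set_option autoImplicit false
open Cfsg

namespace Cfsg.Agent.S3946

/-- Call an automorphism α of order n of a group G splitting when x · α(x) · α²(x) ⋯ α^(n−1)(x) = 1 for every x ∈ G. A finite group admitting a splitting automorphism of prime order is nilpotent (this contains the case of a fixed-point-free automorphism of prime order). -/
theorem result {G : Type*} [Group G] [Finite G] (α : MulAut G) (hp : (orderOf α).Prime)
    (hsplit : ∀ x : G, (((List.range (orderOf α)).map (fun i : ℕ => (α ^ i) x)).prod = 1)) : Group.IsNilpotent G := by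
  obtain ⟨p, hpe⟩ : ∃ p, p = orderOf α := ⟨_, rfl⟩
  rw [← hpe] at hp hsplit
  have : Fact p.Prime := ⟨hp⟩
  let φ : Subgroup.zpowers α →* MulAut G := (Subgroup.zpowers α).subtype
  let a : Subgroup.zpowers α := ⟨α, Subgroup.mem_zpowers α⟩
  have hfin : Finite (G ⋊[φ] Subgroup.zpowers α) :=
    Finite.of_equiv _ SemidirectProduct.equivProd.symm
  have hap : a ^ p = 1 := Subtype.ext (by rw [hpe]; exact pow_orderOf_eq_one α)
  have ha1 : a ≠ 1 := by
    intro h
    have h1 : α = 1 := congrArg Subtype.val h
    rw [h1, orderOf_one] at hpe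
    exact hp.one_lt.ne' hpe
  have h1 : ∀ g : G, ((SemidirectProduct.inl g * SemidirectProduct.inr a :
      G ⋊[φ] Subgroup.zpowers α)) ^ p = 1 := by
    intro g
    rw [FG.mul_pow_eq_prod_conj, ← map_pow, hap, map_one, mul_one,
      ← map_one (SemidirectProduct.inl (φ := φ)), ← hsplit g, map_list_prod, List.map_map]
    congr 1
    apply List.map_congr_left
    intro i _
    rw [← map_pow, ← map_inv, ← SemidirectProduct.inl_aut]
    rfl
  have h2 := FG.kegel_nilpotent (G ⋊[φ] Subgroup.zpowers α) hp
    (SemidirectProduct.rightHom (φ := φ)).ker inferInstance ?_ ?_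
  · rw [← SemidirectProduct.range_inl_eq_ker_rightHom] at h2
    exact Group.nilpotent_of_mulEquiv
      (MonoidHom.ofInjective (SemidirectProduct.inl_injective (φ := φ))).symm
  · intro h
    have h3 : SemidirectProduct.inr a ∈ (SemidirectProduct.rightHom (φ := φ)).ker :=
      h ▸ Subgroup.mem_top _
    rw [MonoidHom.mem_ker, SemidirectProduct.rightHom_inr] at h3
    exact ha1 h3
  · intro y hy
    rw [MonoidHom.mem_ker] at hy
    obtain ⟨i, hi⟩ : ∃ i : ℕ, a ^ i = SemidirectProduct.rightHom y := by
      obtain ⟨i, hi⟩ := (mem_powers_iff_mem_zpowers).2 (SemidirectProduct.rightHom y).2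
      exact ⟨i, Subtype.ext hi⟩
    have hic : i.Coprime p := by
      refine ((Nat.Prime.coprime_iff_not_dvd hp).2 ?_).symm
      rintro ⟨k, rfl⟩
      rw [pow_mul, hap, one_pow] at hi
      exact hy hi.symm
    let f : G → G := fun g => ((SemidirectProduct.inl g * SemidirectProduct.inr a :
      G ⋊[φ] Subgroup.zpowers α) ^ i).left
    have hr : ∀ g : G, ((SemidirectProduct.inl g * SemidirectProduct.inr a :
      G ⋊[φ] Subgroup.zpowers α) ^ i).right = a ^ i := by
      intro g
      change SemidirectProduct.rightHom _ = _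
      rw [map_pow, map_mul, SemidirectProduct.rightHom_inl, SemidirectProduct.rightHom_inr,
        one_mul]
    have hf : Function.Injective f := by
      intro g g' h
      have h3 := FG.eq_of_pow_eq_of_pow_eq_one hic (h1 g) (h1 g')
        (SemidirectProduct.ext h ((hr g).trans (hr g').symm))
      exact SemidirectProduct.inl_injective (mul_right_cancel h3)
    obtain ⟨g, hg⟩ := Finite.injective_iff_surjective.1 hf y.left
    have h4 : y = (SemidirectProduct.inl g * SemidirectProduct.inr a) ^ i :=
      SemidirectProduct.ext hg.symm ((hr g).trans hi).symm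
    rw [h4, ← pow_mul, mul_comm, pow_mul, h1, one_pow]

end Cfsg.Agent.S3946
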