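import Mathlib
import Cfsg.Statements.S4085
import Cfsg.Agent.FG.H93Cyc
import Cfsg.Agent.GT.PGroupBasic

set_option autoImplicit false
open Cfsg

namespace Cfsg.Agent.S4085

open Cfsg.Agent.FG Cfsg.Agent.GT Subgroup

/-- adjacency in the power graph -/
def Adj {G : Type*} [Group G] (x y : G) : Prop := x ∈ zpowers y ∨ y ∈ zpowers x

section
variable {G H : Type*} [Group G] [Finite G] [Group H] [Finite H]

theorem adj_iff {m x y : G} (hx : x ∈ zpowers m) (hy : y ∈ zpowers m) :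
    Adj x y ↔ orderOf x ∣ orderOf y ∨ orderOf y ∣ orderOf x :=
  or_congr ⟨orderOf_dvd_of_mem_zpowers, H93.mem_zpowers_of_orderOf_dvd_of_mem hx hy⟩
    ⟨orderOf_dvd_of_mem_zpowers, H93.mem_zpowers_of_orderOf_dvd_of_mem hy hx⟩

omit [Finite G] in
theorem adj_congr {x y : G} (h : zpowers x = zpowers y) (z : G) : Adj x z ↔ Adj y z := by
  unfold Adj
  rw [h, ← zpowers_le, h, zpowers_le]

theorem exists_mem (m : G) {d : ℕ} (hd : d ∣ orderOf m) : ∃ x ∈ zpowers m, orderOf x = d :=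
  ⟨m ^ (orderOf m / d), pow_mem (mem_zpowers m) _, orderOf_pow_orderOf_div (orderOf_pos m).ne' hd⟩

theorem zpowers_eq {x y : G} (h : x ∈ zpowers y) (h' : orderOf y ≤ orderOf x) :
    zpowers x = zpowers y :=
  PG.eq_of_le_of_card_le (zpowers_le.mpr h) (by rwa [Nat.card_zpowers, Nat.card_zpowers])

theorem card_gens (x : G) : Nat.card {y // zpowers y = zpowers x} = (orderOf x).totient := by
  classical
  have := Fintype.ofFinite (zpowers x)
  rw [← IsCyclic.card_orderOf_eq_totient (α := zpowers x) (by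
    rw [← Nat.card_eq_fintype_card, Nat.card_zpowers]), ← Fintype.card_subtype,
    ← Nat.card_eq_fintype_card]
  exact Nat.card_congr
    { toFun := fun y => ⟨⟨y.1, y.2.le (mem_zpowers y.1)⟩, by
        rw [orderOf_mk, ← Nat.card_zpowers, y.2, Nat.card_zpowers]⟩
      invFun := fun y => ⟨y.1.1, zpowers_eq y.1.2 (by rw [orderOf_coe, y.2])⟩
      left_inv := fun _ => rfl
      right_inv := fun _ => rfl }

theorem exists_incomp {n d p q : ℕ} (hn : n ≠ 0) (hp : p.Prime) (hq : q.Prime) (hpq : p ≠ q)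
    (hpn : p ∣ n) (hqn : q ∣ n) (hd : d ∣ n) (h1 : d ≠ 1) (h2 : d ≠ n) :
    ∃ r, r.Prime ∧ r ∣ n ∧ ¬ (d ∣ r ^ n.factorization r ∨ r ^ n.factorization r ∣ d) := by
  obtain ⟨r, hr, h3⟩ : ∃ r, r.Prime ∧ ¬ r ^ n.factorization r ∣ d := by
    by_contra h
    push Not at h
    refine h2 (Nat.dvd_antisymm hd ((Nat.dvd_iff_prime_pow_dvd_dvd d n).mpr fun r k hr hk => ?_))
    exact (pow_dvd_pow r ((hr.pow_dvd_iff_le_factorization hn).mp hk)).trans (h r hr)
  have hrn : r ∣ n := by
    by_contra h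
    rw [Nat.factorization_eq_zero_of_not_dvd h] at h3
    exact h3 (one_dvd d)
  by_cases h4 : d ∣ r ^ n.factorization r
  swap
  · exact ⟨r, hr, hrn, not_or.mpr ⟨h4, h3⟩⟩
  obtain ⟨s, hs, hsn, hsr⟩ : ∃ s, s.Prime ∧ s ∣ n ∧ s ≠ r := by
    by_cases h : p = r
    · exact ⟨q, hq, hqn, fun h' => hpq (h.trans h'.symm)⟩
    · exact ⟨p, hp, hpn, h⟩
  refine ⟨s, hs, hsn, not_or.mpr ⟨fun h5 => h1 (Nat.eq_one_of_dvd_coprimes
    (Nat.coprime_pow_primes _ _ hs hr hsr) h5 h4), fun h5 => hsr ?_⟩⟩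
  exact (Nat.prime_dvd_prime_iff_eq hs hr).mp (hs.dvd_of_dvd_pow
    (((dvd_pow_self s (hs.factorization_pos_of_dvd hn hsn).ne').trans h5).trans h4))

theorem aux (e : G ≃ H) (he : ∀ x y : G, Adj x y ↔ Adj (e x) (e y)) {p q : ℕ} (hp : p.Prime)
    (hq : q.Prime) (hpq : p < q) {g : G} (hg : orderOf g = p * q) : ∃ h : H, orderOf h = p * q := by
  obtain ⟨m, hm, hmax⟩ := Set.exists_max_image {m : G | g ∈ zpowers m} orderOf (Set.toFinite _)
    ⟨g, mem_zpowers g⟩
  set n := orderOf m with hn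
  have hn0 : n ≠ 0 := (orderOf_pos m).ne'
  have hpqn : p * q ∣ n := hg ▸ orderOf_dvd_of_mem_zpowers hm
  have hpn : p ∣ n := (dvd_mul_right p q).trans hpqn
  have hqn : q ∣ n := (dvd_mul_left q p).trans hpqn
  have hp2 := hp.two_le
  have hM : ∀ x, Adj x m ↔ x ∈ zpowers m := fun x => ⟨fun h => h.elim id fun h => by
    rw [zpowers_eq h (hmax x (zpowers_le.mpr h hm))]; exact mem_zpowers x, Or.inl⟩
  have hw : ∀ r : ℕ, ∃ w ∈ zpowers m, orderOf w = r ^ n.factorization r := fun r =>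
    exists_mem m (Nat.ordProj_dvd n r)
  have hinc : ∀ x ∈ zpowers m, x ≠ 1 → zpowers x ≠ zpowers m → ∃ r, r.Prime ∧ r ∣ n ∧
      ∀ w ∈ zpowers m, orderOf w = r ^ n.factorization r → ¬ Adj x w := fun x hx h1 h2 => by
    obtain ⟨r, hr, hrn, h3⟩ := exists_incomp hn0 hp hq hpq.ne hpn hqn (orderOf_dvd_of_mem_zpowers hx)
      (mt orderOf_eq_one_iff.mp h1) fun h => h2 (zpowers_eq hx h.ge)
    exact ⟨r, hr, hrn, fun w hw hw' h4 => h3 (hw' ▸ (adj_iff hx hw).mp h4)⟩
  have hφ : 2 * (p - 1) ≤ n.totient := by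
    refine le_trans ?_ (Nat.le_of_dvd (Nat.totient_pos.mpr (Nat.pos_of_ne_zero hn0))
      (Nat.totient_dvd_of_dvd hpqn))
    rw [Nat.totient_mul ((Nat.coprime_primes hp hq).mpr hpq.ne), Nat.totient_prime hp,
      Nat.totient_prime hq, mul_comm]
    exact Nat.mul_le_mul_left _ (by omega)
  have hg1 : ∀ x, zpowers x = zpowers m → x ≠ 1 := fun x hx h1 => by
    have := Nat.card_zpowers m
    rw [← hx, h1, Nat.card_zpowers, orderOf_one, ← hn] at this
    exact hp.one_lt.ne' (Nat.dvd_one.mp (this ▸ hpn))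
  obtain ⟨d, hd, hdmax⟩ := Set.exists_max_image {x : G | zpowers x = zpowers m}
    (fun x => orderOf (e x)) (Set.toFinite _) ⟨m, rfl⟩
  set y := e d with hy
  have hN : ∀ x, Adj (e x) y ↔ x ∈ zpowers m := fun x => by
    rw [← he, ← hM]
    exact or_comm.trans ((adj_congr hd x).trans or_comm)
  have hgen : ∀ x, zpowers x = zpowers m → e x ∈ zpowers y := fun x hx =>
    ((hN x).mpr (hx ▸ mem_zpowers x)).elim id fun h => by
      rw [zpowers_eq h (hdmax x hx)]; exact mem_zpowers _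
  have hcount : ∀ z : H, (∀ x, zpowers x = zpowers m → e x ∈ zpowers z) → e 1 ∈ zpowers z →
      n.totient + 1 ≤ orderOf z := fun z h1 h2 => by
    rw [← Nat.card_zpowers, ← card_gens, ← Finite.card_option]
    refine Nat.card_le_card_of_injective (fun o => o.elim ⟨_, h2⟩ fun x => ⟨_, h1 x.1 x.2⟩) ?_
    rintro (_ | a) (_ | b) h
    · rfl
    · exact absurd (e.injective (congrArg Subtype.val h)).symm (hg1 _ b.2)
    · exact absurd (e.injective (congrArg Subtype.val h)) (hg1 _ a.2)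
    · exact congrArg some (Subtype.ext (e.injective (congrArg Subtype.val h)))
  have hone : e 1 ∈ zpowers y := ((hN 1).mpr (one_mem _)).elim id fun h => by
    have h1 := hcount (e 1) (fun x hx => zpowers_le.mpr h (hgen x hx)) (mem_zpowers _)
    obtain ⟨x, hx⟩ := e.surjective (e 1)⁻¹
    have h2 : ∀ z, Adj x z := fun z => by
      rw [he, hx, adj_congr zpowers_inv, ← he]
      exact Or.inl (one_mem _)
    have h3 : x ≠ 1 := by
      rintro rfl
      rw [eq_inv_iff_mul_eq_one, ← pow_two, ← orderOf_dvd_iff_pow_eq_one] at hx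
      have := Nat.le_of_dvd two_pos hx
      omega
    have h4 : zpowers x = zpowers m := by
      by_contra h4
      obtain ⟨r, -, -, h5⟩ := hinc x ((hM x).mp (h2 m)) h3 h4
      obtain ⟨w, hw1, hw2⟩ := hw r
      exact h5 w hw1 hw2 (h2 w)
    have h5 := hgen x h4
    rwa [hx, inv_mem_iff] at h5
  have hsub : ∀ z ∈ zpowers y, e.symm z ∈ zpowers m := fun z hz =>
    (hN _).mp (by rw [e.apply_symm_apply]; exact Or.inl hz)
  by_cases hA : ∀ x ∈ zpowers m, e x ∈ zpowers y
  · obtain ⟨h, -, hh⟩ := exists_mem y (d := p * q) (by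
      rw [← Nat.card_zpowers, ← Nat.card_congr (e.subtypeEquiv (p := (· ∈ zpowers m))
        (q := (· ∈ zpowers y)) fun x => ⟨hA x, fun h => by simpa using hsub _ h⟩)]
      exact hpqn.trans (Nat.card_zpowers m).symm.dvd)
    exact ⟨h, hh⟩
  exfalso
  push Not at hA
  obtain ⟨x0, hx0, hx0'⟩ := hA
  have hpart : ∀ x ∈ zpowers m, e x ∉ zpowers y → ∀ x', ¬ Adj x x' → e x' ∉ zpowers y :=
    fun x hx hx' x' h1 h2 => h1 ((he _ _).mpr (Or.inr
      (zpowers_le.mpr (((hN x).mpr hx).resolve_left hx') h2)))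
  have hall : ∀ x ∈ zpowers m, x ≠ 1 → zpowers x ≠ zpowers m → e x ∉ zpowers y :=
    fun x hx h1 h2 => by
      obtain ⟨r, hr, hrn, h3⟩ := hinc x0 hx0 (fun h => hx0' (h ▸ hone)) fun h => hx0' (hgen _ h)
      obtain ⟨s, hs, hsn, h4⟩ := hinc x hx h1 h2
      obtain ⟨w, hw1, hw2⟩ := hw r
      have h5 := hpart x0 hx0 hx0' w (h3 w hw1 hw2)
      obtain ⟨v, hv1, hv2, hv3⟩ : ∃ v ∈ zpowers m, orderOf v = s ^ n.factorization s ∧
          e v ∉ zpowers y := by
        by_cases hrs : r = s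
        · exact ⟨w, hw1, hrs ▸ hw2, h5⟩
        obtain ⟨v, hv1, hv2⟩ := hw s
        refine ⟨v, hv1, hv2, hpart w hw1 h5 v fun h6 => ?_⟩
        rw [adj_iff hw1 hv1, hw2, hv2] at h6
        rcases h6 with h6 | h6
        · exact hrs ((Nat.prime_dvd_prime_iff_eq hr hs).mp (hr.dvd_of_dvd_pow
            ((dvd_pow_self r (hr.factorization_pos_of_dvd hn0 hrn).ne').trans h6)))
        · exact hrs ((Nat.prime_dvd_prime_iff_eq hs hr).mp (hs.dvd_of_dvd_pow
            ((dvd_pow_self s (hs.factorization_pos_of_dvd hn0 hsn).ne').trans h6))).symm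
      exact hpart v hv1 hv3 x fun h6 => h4 v hv1 hv2 h6.symm
  have hk := hcount y hgen hone
  have hadj : ∀ z ∈ zpowers y, ∀ z' ∈ zpowers y, Adj z z' := fun z hz z' hz' => by
    rw [← e.apply_symm_apply z, ← e.apply_symm_apply z', ← he]
    by_cases h1 : e.symm z = 1
    · rw [h1]; exact Or.inl (one_mem _)
    by_cases h2 : zpowers (e.symm z) = zpowers m
    · exact Or.inr (h2 ▸ hsub z' hz')
    · exact absurd (by simpa using hz) (hall _ (hsub z hz) h1 h2)
  have hr : (orderOf y).minFac.Prime := Nat.minFac_prime (by omega)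
  obtain ⟨j, hj⟩ : ∃ j, orderOf y = (orderOf y).minFac ^ j :=
    ⟨_, Nat.eq_prime_pow_of_unique_prime_dvd (orderOf_pos y).ne' fun {s} hs hsd => by
      obtain ⟨a, ha, ha'⟩ := exists_mem y hsd
      obtain ⟨b, hb, hb'⟩ := exists_mem y (Nat.minFac_dvd (orderOf y))
      have h1 := (adj_iff ha hb).mp (hadj a ha b hb)
      rw [ha', hb'] at h1
      exact h1.elim (Nat.prime_dvd_prime_iff_eq hs hr).mp
        fun h => ((Nat.prime_dvd_prime_iff_eq hr hs).mp h).symm⟩
  have h2φ : orderOf y ≤ 2 * (orderOf y).totient := by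
    generalize (orderOf y).minFac = r at hr hj
    rcases j with _ | j
    · simp [hj]
    rw [hj, Nat.totient_prime_pow_succ hr, pow_succ, mul_left_comm]
    have := hr.two_le
    exact Nat.mul_le_mul_left _ (by omega)
  obtain ⟨u, hu, hu'⟩ := exists_mem m hpn
  obtain ⟨v, hv, hv'⟩ := exists_mem m hqn
  have hqp : ¬ q ∣ p := fun h => absurd (Nat.le_of_dvd hp.pos h) (by omega)
  have huv : ¬ Adj u v := fun h => by
    rw [adj_iff hu hv, hu', hv'] at h
    exact h.elim (fun h => hpq.ne ((Nat.prime_dvd_prime_iff_eq hp hq).mp h)) hqp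
  have hz := ((hN u).mpr hu).resolve_left (hall u hu
    (fun h => huv (h ▸ Or.inl (one_mem _))) fun h => huv (Or.inr (h ▸ hv)))
  have h1 : (orderOf (e u)).totient ≤ p - 1 := by
    rw [← card_gens, ← Nat.totient_prime hp, ← hu', ← card_gens]
    refine Nat.card_le_card_of_injective (fun w => ⟨e.symm w.1, ?_⟩)
      fun a b h => Subtype.ext (e.symm.injective (congrArg Subtype.val h))
    have h2 : ∀ z, Adj (e.symm w.1) z ↔ Adj u z := fun z => by
      rw [he, e.apply_symm_apply, adj_congr w.2, ← he]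
    have h3 := (hM _).mp ((h2 m).mpr (Or.inl hu))
    have h4 := mt (h2 v).mp huv
    have h5 := (h2 g).mpr ((adj_iff hu hm).mpr (Or.inl (by rw [hu', hg]; exact dvd_mul_right p q)))
    rw [adj_iff h3 hv, hv', not_or] at h4
    rw [adj_iff h3 hm, hg] at h5
    have h6 := ((Nat.Prime.coprime_iff_not_dvd hq).mpr h4.2).symm.dvd_of_dvd_mul_right
      (h5.resolve_right fun h => h4.2 ((dvd_mul_left q p).trans h))
    have h7 := ((Nat.dvd_prime hp).mp h6).resolve_left fun h => h4.1 (h ▸ one_dvd q)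
    exact zpowers_eq (H93.mem_zpowers_of_orderOf_dvd_of_mem h3 hu (by rw [h7, hu']))
      (by rw [h7, hu'])
  have h2 := Nat.le_of_dvd (Nat.totient_pos.mpr (orderOf_pos _))
    (Nat.totient_dvd_of_dvd (orderOf_dvd_of_mem_zpowers hz))
  omega

end

/-- Let G and H be finite groups whose power graphs are isomorphic: there is a bijection e : G → H such that, for all x, y, one of x, y is a power of the other exactly when one of e(x), e(y) is a power of the other. Then G and H have the same prime graph: for distinct primes p, q, G has an element of order pq if and only if H does. -/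
theorem result {G H : Type*} [Group G] [Finite G] [Group H] [Finite H] (e : G ≃ H)
    (he : ∀ x y : G, (x ∈ Subgroup.zpowers y ∨ y ∈ Subgroup.zpowers x) ↔
      (e x ∈ Subgroup.zpowers (e y) ∨ e y ∈ Subgroup.zpowers (e x)))
    {p q : ℕ} (hp : p.Prime) (hq : q.Prime) (hpq : p ≠ q) :
    (∃ g : G, orderOf g = p * q) ↔ (∃ h : H, orderOf h = p * q) := by
  wlog hlt : p < q generalizing p q
  · rw [mul_comm]
    exact this hq hp hpq.symm (lt_of_le_of_ne (not_lt.mp hlt) hpq.symm)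
  exact ⟨fun ⟨g, hg⟩ => aux e he hp hq hlt hg, fun ⟨g, hg⟩ => aux e.symm (fun x y => by
    have := he (e.symm x) (e.symm y)
    rw [e.apply_symm_apply, e.apply_symm_apply] at this
    exact this.symm) hp hq hlt hg⟩

end Cfsg.Agent.S4085
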