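import Mathlib
import Cfsg.Statements.S4116
import Cfsg.Agent.GT.Conj
import Cfsg.Agent.GT.PiGroups
import Cfsg.Agent.FG.ClassIdx
import Cfsg.Agent.Perm.FixTools
-- import your own Cfsg.Agent.* helpers here

set_option autoImplicit false
open Cfsg

namespace Cfsg.Agent.S4116

open Subgroup Cfsg.Agent.FG.CI


/-- Let G be a finite group with a subgroup H whose order is coprime to its index (a Hall subgroup) and which meets each of its conjugates by elements outside N_G(H) trivially. Then every subgroup of G whose order is divisible only by primes dividing the order of H lies in a conjugate of H. -/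
theorem result {G : Type*} [Group G] [Finite G] (H : Subgroup G)
    (hHall : (Nat.card H).Coprime H.index) (hTI : Cfsg.IsTISubset (H : Set G))
    (K : Subgroup G) (hK : ∀ q : ℕ, q.Prime → q ∣ Nat.card K → q ∣ Nat.card H) :
    ∃ g : G, K ≤ H.map (MulAut.conj g).toMonoidHom := by
  classical
  by_cases hH : H = ⊥
  · refine ⟨1, ?_⟩
    have : K = ⊥ := by
      by_contra h
      obtain ⟨q, hq, hd⟩ := GT.exists_prime_dvd_card_of_ne_bot h
      have := hK q hq hd
      rw [hH, card_bot] at this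
      exact hq.one_lt.ne' (Nat.dvd_one.1 this)
    rw [this]; exact bot_le
  set N := normalizer (H : Set G) with hN
  have hHall' : IsPiHall {q | q ∣ Nat.card H} H := GT.isPiHall_of_coprime hHall
  -- a `π`-element normalizing a conjugate of `H` lies in it
  have key : ∀ k ∈ K, ∀ g : G, g⁻¹ * k * g ∈ N → g⁻¹ * k * g ∈ H := by
    intro k hk g h
    refine zpowers_le.1 (hHall'.le_of_normalizes ?_ (zpowers_le.2 h))
    rw [Nat.card_zpowers]
    have : g⁻¹ * k * g = g⁻¹ * k * g⁻¹⁻¹ := by rw [inv_inv]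
    rw [this, GT.orderOf_conj]
    exact fun q hq hd => hK q hq (hd.trans (K.orderOf_dvd_natCard hk))
  have fix_iff : ∀ (k g : G), k • (g : G ⧸ N) = g ↔ g⁻¹ * k * g ∈ N := by
    intro k g
    rw [MulAction.Quotient.smul_mk, smul_eq_mul, eq_comm, QuotientGroup.eq, mul_assoc]
  -- each non-identity element of `K` fixes at most one point
  have uniq : ∀ k ∈ K, k ≠ 1 → ∀ x y : G ⧸ N, k • x = x → k • y = y → x = y := by
    intro k hk hk1 x y hx hy
    obtain ⟨x, rfl⟩ := QuotientGroup.mk_surjective x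
    obtain ⟨y, rfl⟩ := QuotientGroup.mk_surjective y
    have h1 := key k hk x ((fix_iff k x).1 hx)
    have h2 := key k hk y ((fix_iff k y).1 hy)
    rw [QuotientGroup.eq]
    by_contra h3
    have := hTI _ h3 _ h2 (by simpa [mul_assoc] using h1)
    apply hk1
    calc k = y * (y⁻¹ * k * y) * y⁻¹ := by group
      _ = 1 := by rw [this]; group
  -- and at least one
  have exi : ∀ k ∈ K, k ≠ 1 → ∃ x : G ⧸ N, k • x = x := by
    intro k hk hk1
    obtain ⟨q, hq, hd⟩ := Nat.exists_prime_and_dvd (mt orderOf_eq_one_iff.1 hk1)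
    have := Fact.mk hq
    set y := k ^ (orderOf k / q) with hy
    have hyo : orderOf y = q := orderOf_pow_orderOf_div (orderOf_pos k).ne' hd
    have hy1 : y ≠ 1 := fun h => by rw [h, orderOf_one] at hyo; exact hq.one_lt.ne hyo
    obtain ⟨Q, hQ⟩ := (not_dvd_index_iff (p := q) H).1
      (hHall'.index q hq · (hK q hq (hd.trans (K.orderOf_dvd_natCard hk))))
    obtain ⟨g, hg⟩ := exists_conj_mem_sylow Q ⟨1, by rw [hyo, pow_one]⟩
    have h1 : y • ((g⁻¹ : G) : G ⧸ N) = (g⁻¹ : G) :=
      (fix_iff _ _).2 (le_normalizer (by simpa using hQ hg))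
    refine ⟨_, uniq y (K.pow_mem hk _) hy1 _ _ ?_ h1⟩
    rw [← mul_smul, hy, ← pow_succ, pow_succ', mul_smul, ← hy, h1]
  have hex : ∃ x : G ⧸ N, ∀ k ∈ K, k • x = x := by
    by_cases hK1 : K = ⊥
    · exact ⟨(1 : G), fun k hk => by rw [hK1, mem_bot] at hk; rw [hk, one_smul]⟩
    obtain ⟨⟨k0, hk0⟩, hk1⟩ := Subgroup.ne_bot_iff_exists_ne_one.1 hK1
    have hk1' : k0 ≠ 1 := fun h => hk1 (Subtype.ext h)
    obtain ⟨x, hx⟩ := exi k0 hk0 hk1'
    have hst : ∀ k ∈ K, k ≠ 1 → ∀ y : G ⧸ N, k • y = y → K ⊓ MulAction.stabilizer G y ≠ ⊥ :=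
      fun k hk h1 y hy h => h1 (mem_bot.1 (h ▸ (⟨hk, hy⟩ : k ∈ K ⊓ MulAction.stabilizer G y)))
    have h1 : (MulAction.stabilizer G x).subgroupOf K = ⊤ := by
      apply eq_top_of_forall_conj_mem
      intro k
      by_cases h2 : (k : G) = 1
      · exact ⟨1, by simp [mem_subgroupOf, h2]⟩
      obtain ⟨y, hy⟩ := exi k k.2 h2
      obtain ⟨c, hc⟩ := Perm.Fx.mem_orbit_of_frobenius K (Set.univ : Set (G ⧸ N))
        (fun _ _ _ _ => trivial) (fun h hh x _ y _ h1 h2 => by
          by_cases h3 : h = 1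
          · exact Or.inl h3
          · exact Or.inr (uniq h hh h3 x y h1 h2)) (Set.mem_univ y) (Set.mem_univ x)
        (hst k k.2 h2 y hy) (hst k0 hk0 hk1' x hx)
      refine ⟨c, ?_⟩
      have hc' : (c : G) • y = x := hc
      change ((c : G) * k * (c : G)⁻¹) • x = x
      rw [← hc', mul_smul, mul_smul, inv_smul_smul, hy]
    exact ⟨x, fun k hk => (h1.ge (mem_top (⟨k, hk⟩ : K)) :)⟩
  obtain ⟨x, hx⟩ := hex
  obtain ⟨g, rfl⟩ := QuotientGroup.mk_surjective x
  exact ⟨g, fun k hk => GT.mem_map_conj.2 (key k hk g ((fix_iff k g).1 (hx k hk)))⟩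

end Cfsg.Agent.S4116
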