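import Mathlib
import Cfsg.Statements.S3811
import Cfsg.Agent.FT.Quot
import Cfsg.Agent.GT.PGroupChain
import Cfsg.Agent.GT.Conj

set_option autoImplicit false
open Cfsg

namespace Cfsg.Agent.S3811

open Cfsg.Agent.GT Cfsg.Agent.FT
open scoped commutatorElement

local notation:75 H " ^ᶜ " g:76 => Subgroup.map (MulEquiv.toMonoidHom (MulAut.conj g)) H

universe u

theorem relIndex_cent_lt {G : Type*} [Group G] [Finite G] {H A : Subgroup G} (h : H ≤ 𝐍(A))
    {a : G} (ha : a ∈ A) (ha1 : a ≠ 1) : (𝐂[a]).relIndex H < Nat.card A := by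
  let f : H ⧸ (𝐂[a]).subgroupOf H → A := Quotient.lift
    (fun g : H => ⟨g * a * (g : G)⁻¹, conj_mem_of_mem_normalizer (h g.2) ha⟩) fun g g' e => by
      have : ((g : G)⁻¹ * g') * a = a * ((g : G)⁻¹ * g') :=
        Subgroup.mem_centralizer_singleton_iff.1
          (QuotientGroup.leftRel_apply (s := (𝐂[a]).subgroupOf H).1 e)
      refine Subtype.ext ?_
      calc (g : G) * a * (g : G)⁻¹ = g * (a * ((g : G)⁻¹ * g')) * (g' : G)⁻¹ := by group
        _ = g' * a * (g' : G)⁻¹ := by rw [← this]; group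
  have := Fintype.ofFinite (H ⧸ (𝐂[a]).subgroupOf H)
  have := Fintype.ofFinite A
  rw [Subgroup.relIndex, Subgroup.index, Nat.card_eq_fintype_card, Nat.card_eq_fintype_card]
  refine Fintype.card_lt_of_injective_of_notMem f (fun g g' e => ?_) (b := 1) ?_
  · induction g using QuotientGroup.induction_on with | H g => ?_
    induction g' using QuotientGroup.induction_on with | H g' => ?_
    have e' : (g : G) * a * (g : G)⁻¹ = g' * a * (g' : G)⁻¹ := congrArg Subtype.val e
    refine QuotientGroup.eq.2 (Subgroup.mem_centralizer_singleton_iff.2 ?_)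
    calc ((g : G)⁻¹ * g') * a = (g : G)⁻¹ * (g' * a * (g' : G)⁻¹) * g' := by group
      _ = a * ((g : G)⁻¹ * g') := by rw [← e']; group
  · rintro ⟨g, e⟩
    induction g using QuotientGroup.induction_on with | H g => ?_
    have e' : (g : G) * a * (g : G)⁻¹ = 1 := congrArg Subtype.val e
    exact ha1 (by simpa using e')

/-- Soft subgroups. -/
structure Soft {P : Type*} [Group P] (p : ℕ) (E : Subgroup P) : Prop where
  comm : IsMulCommutative E
  cent : 𝐂(E) ≤ E
  norm : E.relIndex 𝐍(E) = p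

section

variable {P : Type*} [Group P] [Finite P] {p : ℕ} [hp : Fact p.Prime] (hP : IsPGroup p P)
include hP

theorem lt_norm {D K : Subgroup P} (h : D < K) : D < K ⊓ 𝐍(D) :=
  have := (hP.to_subgroup K).isNilpotent
  PG.lt_inf_normalizer h

theorem norm_le {D K : Subgroup P} (hD : D.relIndex 𝐍(D) = p) (h : D < K) : 𝐍(D) ≤ K :=
  ((PG.eq_or_eq_of_relIndex_prime hp.out (lt_norm hP h).le inf_le_right hD).resolve_left
    (lt_norm hP h).ne').ge.trans inf_le_left

theorem le_or_le {K L : Subgroup P} (h : K ⊓ L < K → (K ⊓ L).relIndex 𝐍(K ⊓ L) = p) :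
    K ≤ L ∨ L ≤ K := by
  by_contra hc
  rw [not_or] at hc
  have h1 : K ⊓ L < K := inf_lt_left.2 hc.1
  have h2 := le_inf (norm_le hP (h h1) h1) (norm_le hP (h h1) (inf_lt_right.2 hc.2))
  exact (lt_norm hP h1).not_ge (inf_le_right.trans h2)

theorem relIndex_eq_of_lt_sq {D K : Subgroup P} (h : ¬ K ≤ D) (h2 : D.relIndex K < p ^ 2) :
    D.relIndex K = p := by
  obtain ⟨j, hj⟩ := PG.relIndex_eq_pow_of_isPGroup (hP.to_subgroup K) D
  rw [hj, Nat.pow_lt_pow_iff_right hp.out.one_lt] at h2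
  interval_cases j
  · exact (h (Subgroup.relIndex_eq_one.1 hj)).elim
  · simpa using hj

omit [Finite P] hP in
theorem lt_of_relIndex {D K : Subgroup P} (h : D ≤ K) (e : D.relIndex K = p) : D < K :=
  lt_of_le_of_ne h fun e' => hp.out.one_lt.ne (by rw [← e, e', Subgroup.relIndex_self])

theorem Soft.norm_norm {E : Subgroup P} (h : Soft p E) (hne : 𝐍(E) ≠ ⊤) :
    (𝐍(E)).relIndex 𝐍(𝐍(E)) = p := by
  set A := 𝐍(E)
  have hEA : E < A := lt_of_relIndex Subgroup.le_normalizer h.norm
  have h1 := lt_norm hP (lt_top_iff_ne_top.2 hne)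
  rw [top_inf_eq] at h1
  obtain ⟨g, hg, hgA⟩ := SetLike.exists_of_lt h1
  have hBA : E ^ᶜ g ≤ A := map_conj_le_of_mem_normalizer hEA.le hg
  have hBi : (E ^ᶜ g).relIndex A = p := by
    conv_lhs => rw [← map_conj_eq_of_mem_norm hg, relIndex_map_conj, h.norm]
  have hEB : ¬ E ^ᶜ g ≤ E := fun e => hgA (mem_normalizer_of_map_conj_le e)
  have hsup : E ⊔ E ^ᶜ g = A :=
    (PG.eq_or_eq_of_relIndex_prime hp.out le_sup_left (sup_le hEA.le hBA) h.norm).resolve_left
      fun e => hEB (le_sup_right.trans e.le)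
  set Z := E ⊓ E ^ᶜ g
  have hZA : A ≤ 𝐂(Z) := hsup ▸ sup_le
    ((PG.isMulCommutative_iff_le_centralizer.1 h.comm).trans (centralizer_anti inf_le_left))
    ((PG.isMulCommutative_iff_le_centralizer.1 (have := h.comm; inferInstance)).trans
      (centralizer_anti inf_le_right))
  have hZi : Z.relIndex E = p := by
    rw [Subgroup.inf_relIndex_left, ← PG.relIndex_sup_of_le_normalizer (hEA.le.trans
      (PG.le_normalizer_of_relIndex_prime (hP.to_subgroup _) hBA hBi)), hsup, hBi]
  have hZ : Z = A ⊓ 𝐂(A) := by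
    refine ((PG.eq_or_eq_of_relIndex_prime hp.out (le_inf (inf_le_left.trans hEA.le)
      (Subgroup.le_centralizer_iff.1 hZA)) (inf_le_right.trans
        ((centralizer_anti hEA.le).trans h.cent)) hZi).resolve_right fun e => ?_).symm
    exact hEA.not_ge ((Subgroup.le_centralizer_iff.1 (e.ge.trans inf_le_right)).trans h.cent)
  have hQ : 𝐍(A) ≤ 𝐍(Z) := hZ ▸ PG.le_normalizer_inf le_rfl (PG.le_normalizer_centralizer le_rfl)
  have hAZ : A ≤ 𝐍(Z) := Subgroup.le_normalizer.trans hQ
  obtain ⟨a, ha, haZ⟩ := SetLike.exists_of_lt (lt_of_relIndex inf_le_left hZi)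
  have h2 := relIndex_cent_lt (quot_le_norm Z (le_refl 𝐍(A)))
    (coset_mem_quot (N := Z) ⟨a, hAZ (hEA.le ha)⟩ (hEA.le ha)) (mt coset_eq_one_iff.1 haZ)
  rw [card_quot hAZ, ← Subgroup.relIndex_mul_relIndex Z E A inf_le_left hEA.le, hZi, h.norm,
    ← relIndex_preim _ hQ, ← sq] at h2
  refine relIndex_eq_of_lt_sq hP h1.not_ge (lt_of_le_of_lt (Subgroup.relIndex_le_of_le_left ?_
    Subgroup.FiniteIndex.index_ne_zero) h2)
  have h3 := PG.le_normalizer_sup_zpowers (preim_le_norm 𝐂[coset Z ⟨a, hAZ (hEA.le ha)⟩])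
    (hAZ (hEA.le ha)) fun x hx => by
      obtain ⟨hx, h4⟩ := mem_preim.1 hx
      have := commutatorElement_eq_one_iff_mul_comm.2
        (Subgroup.mem_centralizer_singleton_iff.1 h4).symm
      rw [← map_commutatorElement] at this
      exact coset_eq_one_iff.1 this
  rwa [PG.sup_zpowers_eq_of_relIndex_prime hp.out inf_le_left hZi ha haZ] at h3

end

theorem quot_lcs {G : Type*} [Group G] {K Y : Subgroup G} (h : K ≤ 𝐍(Y)) (j : ℕ) :
    quot (K.lowerCentralSeries j) Y = (quot K Y).lowerCentralSeries j := by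
  induction j with
  | zero => rfl
  | succ j ih =>
    rw [Subgroup.lowerCentralSeries_succ, Subgroup.lowerCentralSeries_succ, ← ih,
      quot_commutator ((K.lowerCentralSeries_antitone (Nat.zero_le j)).trans h) h]

theorem main {p : ℕ} [hp : Fact p.Prime] (i : ℕ) : ∀ (P : Type u) [Group P] [Finite P],
    IsPGroup p P → ∀ E K : Subgroup P, Soft p E → E ≤ K → K ≠ ⊤ → E.relIndex K = p ^ i →
      K.relIndex 𝐍(K) = p ∧ (∀ j, K.lowerCentralSeries j = ⊥ ↔ i + 1 ≤ j) ∧
        (K ≠ E → ⁅𝐍(E), 𝐍(E)⁆ ≤ 𝐂(K)) := by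
  induction i using Nat.strong_induction_on with | h i ih => ?_
  intro P _ _ hP E K h hEK hK hi
  have hE0 : E ≠ ⊥ := fun e => hK (eq_top_iff.2 ((e ▸ centralizer_bot.ge : ⊤ ≤ 𝐂(E)).trans
    (h.cent.trans hEK)))
  have hK0 : K.lowerCentralSeries 0 ≠ ⊥ := fun e => hE0 (eq_bot_iff.2 (hEK.trans e.le))
  rcases i with _ | i
  · obtain rfl : E = K := le_antisymm hEK (Subgroup.relIndex_eq_one.1 hi)
    refine ⟨h.norm, fun j => ⟨fun e => ?_, fun e => eq_bot_iff.2 ?_⟩, fun e => (e rfl).elim⟩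
    · rcases j with _ | j
      · exact (hK0 e).elim
      · omega
    · exact (E.lowerCentralSeries_antitone e).trans
        (Subgroup.commutator_self_eq_bot_iff.2 h.comm).le
  have hlt : E < K := lt_of_le_of_ne hEK fun e => by
    rw [e, Subgroup.relIndex_self] at hi
    exact (Nat.one_lt_pow (Nat.succ_ne_zero i) hp.out.one_lt).ne hi
  have ih' : ∀ D, E ≤ D → D < K → D.relIndex 𝐍(D) = p ∧ (D ≠ E → ⁅𝐍(E), 𝐍(E)⁆ ≤ 𝐂(D)) := by
    intro D h1 h2
    obtain ⟨j, hj⟩ := PG.relIndex_eq_pow_of_isPGroup (hP.to_subgroup D) E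
    obtain ⟨k, hk⟩ := PG.relIndex_eq_pow_of_isPGroup (hP.to_subgroup K) D
    have h3 := Subgroup.relIndex_mul_relIndex E D K h1 h2.le
    rw [hj, hk, hi, ← pow_add] at h3
    have h4 := Nat.pow_right_injective hp.out.two_le h3
    have h5 : k ≠ 0 := by
      rintro rfl
      exact h2.not_ge (Subgroup.relIndex_eq_one.1 hk)
    have := ih j (by omega) P hP E D h h1 (ne_top_of_lt h2) hj
    exact ⟨this.1, this.2.2⟩
  set A := 𝐍(E)
  have hEA : E < A := lt_of_relIndex Subgroup.le_normalizer h.norm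
  have hAK : A ≤ K := norm_le hP h.norm hlt
  have hTE : ⁅A, A⁆ ≤ E :=
    PG.commutator_self_le_of_relIndex_prime (hP.to_subgroup _) hEA.le h.norm
  have hEc := PG.isMulCommutative_iff_le_centralizer.1 h.comm
  have h1 := lt_norm hP (lt_top_iff_ne_top.2 hK)
  rw [top_inf_eq] at h1
  have hT : ⁅A, A⁆ ≤ 𝐂(K) := by
    obtain ⟨D, hED, hDK, hDi, -⟩ := PG.exists_invariant_relIndex_eq (hP.to_subgroup K)
      (H := ⊥) IsPGroup.of_bot bot_le bot_le hlt
    have hD := ih' D hED (lt_of_relIndex hDK hDi)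
    obtain ⟨g, hg, hgK⟩ := SetLike.exists_of_lt h1
    have hBK : D ^ᶜ g ≤ K := map_conj_le_of_mem_normalizer hDK hg
    have hBi : (D ^ᶜ g).relIndex K = p := by
      conv_lhs => rw [← map_conj_eq_of_mem_norm hg, relIndex_map_conj, hDi]
    have hgD : g ∉ 𝐍(D) := fun e => hgK (norm_le hP hD.1 (lt_of_relIndex hDK hDi) e)
    have hEB : ¬ E ≤ D ^ᶜ g := fun e => by
      rcases le_or_le hP (K := D) (L := D ^ᶜ g) fun h2 => (ih' _ (le_inf hED e)
        (h2.trans_le hDK)).1 with h2 | h2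
      · exact hgD (mem_normalizer_of_le_map_conj h2)
      · exact hgD (mem_normalizer_of_map_conj_le h2)
    have hsup : E ⊔ D ^ᶜ g = K :=
      (PG.eq_or_eq_of_relIndex_prime hp.out le_sup_right (sup_le hEK hBK) hBi).resolve_left
        fun e => hEB (le_sup_left.trans e.le)
    set Y := D ^ᶜ g ⊓ 𝐂(D ^ᶜ g)
    by_cases hY : Y ≤ E
    · have h2 : Y ≤ 𝐂(K) := by
        rw [← hsup, centralizer_sup]
        exact le_inf (hY.trans hEc) inf_le_right
      have h3 : D ⊓ 𝐂(D) ≤ 𝐂(K) := by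
        rw [← map_conj_le_map_conj_iff (g := g), map_conj_inf, ← centralizer_map_conj,
          ← centralizer_map_conj, map_conj_eq_of_mem_norm hg]
        exact h2
      by_cases hDE : D = E
      · exact (hlt.not_ge ((Subgroup.le_centralizer_iff.1 ((le_inf hDE.ge (hDE ▸ hEc)).trans
          h3)).trans h.cent)).elim
      · exact (le_inf (hTE.trans hED) (hD.2 hDE)).trans h3
    · have hKY : K ≤ 𝐍(Y) := by
        have := PG.le_normalizer_of_relIndex_prime (hP.to_subgroup _) hBK hBi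
        exact PG.le_normalizer_inf this (PG.le_normalizer_centralizer this)
      have h2 : A ≤ E ⊔ Y := norm_le hP h.norm (left_lt_sup.2 hY)
      have hYc : Y ≤ 𝐂(Y) := inf_le_right.trans (centralizer_anti inf_le_left)
      have h3 : ⁅A, A⁆ ≤ Y := by
        refine (Subgroup.commutator_mono h2 h2).trans ?_
        rw [← isMulCommutative_quot_iff (sup_le (hEK.trans hKY) Subgroup.le_normalizer),
          quot_sup_self (hEK.trans hKY)]
        exact isMulCommutative_quot Y h.comm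
      rw [← hsup, centralizer_sup]
      exact le_inf (hTE.trans hEc) (h3.trans inf_le_right)
  set Y := K ⊓ 𝐂(K)
  have hNY : 𝐍(K) ≤ 𝐍(Y) := PG.le_normalizer_inf le_rfl (PG.le_normalizer_centralizer le_rfl)
  have hKY : K ≤ 𝐍(Y) := Subgroup.le_normalizer.trans hNY
  have hYE : Y ≤ E := inf_le_right.trans ((centralizer_anti hEK).trans h.cent)
  have hAY : NormalIn Y A := ⟨hYE.trans hEA.le, hAK.trans hKY⟩
  have hKY' : NormalIn Y K := ⟨inf_le_left, hKY⟩
  have hAA := h.norm_norm hP (ne_top_of_le_ne_top hK hAK)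
  have hq : ∀ D, NormalIn Y D → 𝐍(D) ≤ 𝐍(Y) → 𝐍(quot D Y) = quot 𝐍(D) Y := fun D h2 h3 =>
    le_antisymm (fun x hx => by
      obtain ⟨d, rfl⟩ := coset_surjective Y x
      refine coset_mem_quot d (Subgroup.zpowers_le.1 ((quot_le_norm_iff
        (Subgroup.zpowers_le.2 d.2) h2).1 ?_))
      rw [quot_zpowers]
      exact Subgroup.zpowers_le.2 hx) (quot_le_norm Y le_rfl)
  have hNA : 𝐍(A) ≤ 𝐍(Y) := (norm_le hP hAA (hAK.trans_lt h1)).trans hNY
  obtain ⟨r1, r2, -⟩ := ih i (Nat.lt_succ_self i) (CosetOf Y)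
    ((hP.to_subgroup _).to_quotient _) (quot A Y) (quot K Y)
    ⟨(isMulCommutative_quot_iff hAY.2).2 (le_inf (hTE.trans hEK) hT), fun x hx => by
      obtain ⟨d, rfl⟩ := coset_surjective Y x
      refine coset_mem_quot d (Subgroup.zpowers_le.1 (PG.le_normalizer_of_commutator_le
        (N := E) ?_ le_rfl))
      have := (quot_le_cent_iff (Subgroup.zpowers_le.2 d.2) hAY.2).1 (by
        rw [quot_zpowers]; exact Subgroup.zpowers_le.2 hx)
      rw [Subgroup.commutator_comm]
      exact (Subgroup.commutator_mono le_rfl hEA.le).trans (this.trans hYE),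
      by rw [hq A hAY hNA, relIndex_quot hAY hNA, hAA]⟩
    (quot_mono Y hAK) (fun e => h1.not_ge ((quot_le_quot_iff hNY inf_le_left).1 (e ▸ le_top)))
    (by
      have := Subgroup.relIndex_mul_relIndex E A K hEA.le hAK
      rw [h.norm, hi, pow_succ'] at this
      rw [relIndex_quot hAY hKY]
      exact Nat.eq_of_mul_eq_mul_left hp.out.pos this)
  rw [hq K hKY' hNY, relIndex_quot hKY' hNY] at r1
  refine ⟨r1, fun j => ?_, fun _ => hT⟩
  rcases j with _ | j
  · exact ⟨fun e => (hK0 e).elim, fun e => by omega⟩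
  have h2 := K.lowerCentralSeries_antitone (Nat.zero_le j)
  rw [Nat.succ_le_succ_iff, ← r2, ← quot_lcs hKY, quot_eq_bot_iff (h2.trans hKY),
    Subgroup.lowerCentralSeries_succ, Subgroup.commutator_eq_bot_iff_le_centralizer, le_inf_iff]
  exact ⟨fun e => ⟨h2, e⟩, fun e => e.2⟩


/-- Let P be a finite p-group and E an abelian subgroup of P that contains its centralizer, has index p in its normalizer, and has index at least p² in P. Then the subgroups of P containing E are totally ordered by inclusion, each proper one has index p in its normalizer (so they form the normalizer tower of E, with all steps of index p), and the i-th member of the tower above E has nilpotency class i + 1 whenever it is a proper subgroup of P. -/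
theorem result {P : Type*} [Group P] [Finite P] (p : ℕ) [Fact p.Prime] (hP : IsPGroup p P)
    (E : Subgroup P) (hEab : IsMulCommutative ↥E) (hC : Subgroup.centralizer (E : Set P) ≤ E)
    (hN : (E.subgroupOf (Subgroup.normalizer (E : Set P))).index = p) (hidx : p ^ 2 ≤ E.index) :
    (∀ K L : Subgroup P, E ≤ K → E ≤ L → K ≤ L ∨ L ≤ K) ∧
      (∀ K : Subgroup P, E ≤ K → K ≠ ⊤ → (K.subgroupOf (Subgroup.normalizer (K : Set P))).index = p) ∧
      ∀ (i : ℕ) (K : Subgroup P) [Group.IsNilpotent ↥K], E ≤ K → K ≠ ⊤ → K.index * p ^ i = E.index →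
        Group.nilpotencyClass ↥K = i + 1 := by
  have h : Soft p E := ⟨hEab, hC, hN⟩
  have key : ∀ K : Subgroup P, E ≤ K → K ≠ ⊤ → K.relIndex 𝐍(K) = p := fun K h1 h2 => by
    obtain ⟨i, hi⟩ := PG.relIndex_eq_pow_of_isPGroup (hP.to_subgroup K) E
    exact (main i P hP E K h h1 h2 hi).1
  refine ⟨fun K L h1 h2 => le_or_le hP fun h3 => key _ (le_inf h1 h2) (ne_top_of_lt h3), key,
    fun i K _ h1 h2 h3 => ?_⟩
  have h4 := Subgroup.relIndex_mul_index h1
  rw [← h3, mul_comm] at h4
  have h5 := (main i P hP E K h h1 h2 (Nat.eq_of_mul_eq_mul_left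
    (Nat.pos_of_ne_zero Subgroup.FiniteIndex.index_ne_zero) h4)).2.1
  refine eq_of_forall_ge_iff fun j => ?_
  rw [← h5, ← Subgroup.lowerCentralSeries_eq_bot_iff_nilpotencyClass_le,
    ← Subgroup.top_subtype_lowerCentralSeries K,
    Subgroup.map_eq_bot_iff_of_injective _ K.subtype_injective]

end Cfsg.Agent.S3811
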