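import Mathlib
import Cfsg.Statements.S3071
import Cfsg.Agent.GT.ThompsonFusionZJ
import Cfsg.Agent.GT.PStable

set_option autoImplicit false
open Cfsg

namespace Cfsg.Agent.S3071

open Subgroup Cfsg.Agent.GT
open scoped commutatorElement Pointwise

/-- Let p be an odd prime and S a Sylow p-subgroup of the finite group G such that, for every subgroup P with Z(S) ≤ P ≤ S, the normalizer N_G(P) has no section isomorphic to SL₂(p). Let J(S) be the subgroup generated by the abelian subgroups of S of largest order. Then two elements of S are conjugate in G if and only if they are conjugate in N_G(Z(J(S))). -/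
theorem result {G : Type*} [Group G] [Finite G] {p : ℕ} [Fact p.Prime]
    (hp : p ≠ 2) (S : Sylow p G)
    (hfree : ∀ P : Subgroup G, (S : Subgroup G) ⊓ Subgroup.centralizer ((S : Subgroup G) : Set G) ≤ P → P ≤ S →
      ¬ ∃ (H K : Subgroup G) (hK : (K.subgroupOf H).Normal), H ≤ Subgroup.normalizer (P : Set G) ∧
        Nonempty ((H ⧸ K.subgroupOf H) ≃* Matrix.SpecialLinearGroup (Fin 2) (ZMod p))) :
    ∀ x ∈ S, ∀ y ∈ S, (∃ g : G, g * x * g⁻¹ = y) ↔
      ∃ n ∈ Subgroup.normalizer (Cfsg.centerThompsonAOf (S : Subgroup G) : Set G), n * x * n⁻¹ = y := by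
  rw [centerThompsonAOf_eq]
  have hf : ∀ Q : Subgroup G, (S : Subgroup G) ⊓ centralizer ((S : Subgroup G) : Set G) ≤ Q →
      Q ≤ S → ¬ Involves (Matrix.SpecialLinearGroup (Fin 2) (ZMod p)) (normalizer (Q : Set G)) :=
    fun Q h1 h2 h => hfree Q h1 h2 (exists_section_of_involves h)
  have h := thCtrl_thZ_of_local (e := 0) S (th_isStronglyClosed_self _)
    (fun Q => ¬ Involves (Matrix.SpecialLinearGroup (Fin 2) (ZMod p)) (normalizer (Q : Set G)))
    (fun Q g h h' => h (Loc.CF.involves_trans h' (by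
      rw [Tr.normalizer_map_conj]
      exact Loc.CF.involves_of_surjective _ ((MulAut.conj g).toMonoidHom.subgroupMap_surjective _))))
    (fun Q hQ hc => hf Q ((inf_le_inf_left _ (centralizer_le hQ)).trans hc) hQ)
    (fun T hT hZ => hf _ (le_trans (le_inf (le_inf inf_le_left hZ)
      (inf_le_right.trans (centralizer_le inf_le_left))) (center_le_thZ_zero _))
      ((thZ_le _ _).trans inf_le_left))
    (fun Q _ hC T D hD => thCtrl_thZ_of_class hp (Or.inl rfl)
      (fun G _ => ¬ Involves (Matrix.SpecialLinearGroup (Fin 2) (ZMod p)) G)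
      (fun G _ _ H h h' => h (Loc.CF.involves_trans h' (Loc.CF.involves_subgroup H)))
      (fun G _ _ N _ h h' => h (Loc.CF.involves_trans h' (Loc.CF.involves_quotient N)))
      (fun G _ _ P h _ => thStable_of_isPStableOn P.isPGroup'
        fun V _ hV => isPStableOn_of_not_involves hp h V hV) _ hC T hD)
  intro x hx y hy
  refine ⟨?_, fun ⟨n, _, hn⟩ => ⟨n, hn⟩⟩
  rintro ⟨g, rfl⟩
  obtain ⟨m, hm, h1⟩ := (h.controlsStrongFusionOf (A := {x}) (by simpa using hx)).2 g
    (by simpa using hy)
  exact ⟨m, hm, (h1 x rfl).symm⟩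

end Cfsg.Agent.S3071
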