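import Mathlib
import Cfsg.Statements.S0877
import Cfsg.Agent.Ch.BrauerPi
import Cfsg.Agent.Ch.Table

set_option autoImplicit false
open Cfsg

namespace Cfsg.Agent.S0877

theorem χ_deg {H : Type*} [Group H] (χ : IrrCharacter H) :
    (charDegree (χ : H → ℂ) : ℂ) = (χ : H → ℂ) 1 := χ.2.coe_charDegree

theorem sum_comp_eq {G : Type*} [Group G] [Fintype G] {H : Subgroup G} [Fintype H] {m : ℕ}
    (hmn : Nat.card G = m * Nat.card H) (r : G → H)
    (hrH : ∀ {f : H → ℂ}, IsClassFunction H f → ∀ h : H, f (r h) = f h)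
    (hint : ∀ h : H, IsIntegral ℤ (classInner
      (fun x => ((Nat.card (Subgroup.centralizer ({h} : Set H)) : ℂ) • Ch.classInd h) (r x))
      (fun _ => 1)))
    (f : H → ℂ) (hf : IsClassFunction H f) : ∑ x : G, f (r x) = m * ∑ h : H, f h := by
  classical
  let c : H → ℕ := fun h => Nat.card (Subgroup.centralizer ({h} : Set H))
  let N : H → ℕ := fun h => (Finset.univ.filter fun x : G => IsConj h (r x)).card
  have hN : ∀ h, ∑ x : G, Ch.classInd h (r x) = N h := by
    intro h
    simp only [N]
    rw [← Finset.sum_boole]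
    refine Finset.sum_congr rfl fun x _ => ?_
    split_ifs with hc
    exacts [Ch.classInd_of_isConj hc, Ch.classInd_of_not_isConj hc]
  have hG0 : Nat.card G ≠ 0 := Nat.card_pos.ne'
  have hdvd : ∀ h, Nat.card G ∣ c h * N h := by
    intro h
    apply Ch.integral_nat_dvd_of_div hG0
    convert hint h using 1
    rw [Ch.classInner_one_right]
    simp only [Pi.smul_apply, smul_eq_mul]
    rw [← Finset.mul_sum, hN]
    push_cast
    ring
  have hpos : ∀ h, 0 < c h * N h := by
    intro h
    refine Nat.mul_pos Nat.card_pos (Finset.card_pos.mpr ⟨h, ?_⟩)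
    rw [Finset.mem_filter]
    refine ⟨Finset.mem_univ _, ?_⟩
    by_contra hc
    have h1 := hrH (Ch.isClassFunction_classInd h) h
    rw [Ch.classInd_of_not_isConj hc, Ch.classInd_of_isConj (IsConj.refl h)] at h1
    exact zero_ne_one h1
  -- expansion of a class function along the class indicators
  have hexp : ∀ g : H → ℂ, IsClassFunction H g → ∀ y : H,
      ∑ h : H, g h * c h * Ch.classInd h y = Nat.card H * g y := by
    intro g hg y
    have h1 : ∀ h : H, g h * c h * Ch.classInd h y = Ch.classInd y h * (g y * c y) := by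
      intro h
      by_cases hc : IsConj h y
      · rw [Ch.classInd_of_isConj hc, Ch.classInd_of_isConj hc.symm, hg.eq_of_isConj hc]
        simp only [c]
        rw [Ch.card_centralizer_eq_of_isConj hc]
        ring
      · rw [Ch.classInd_of_not_isConj hc, Ch.classInd_of_not_isConj fun h' => hc h'.symm]
        ring
    simp only [h1]
    rw [Ch.sum_classInd_mul y (IsClassFunction.const _),
      ← Subgroup.card_mul_index (Subgroup.centralizer ({y} : Set H))]
    simp only [c]
    push_cast
    ring
  have hall : ∀ g : H → ℂ, IsClassFunction H g →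
      Nat.card H * ∑ x : G, g (r x) = ∑ h : H, g h * (c h * N h : ℕ) := by
    intro g hg
    rw [Finset.mul_sum]
    simp only [← hexp g hg]
    rw [Finset.sum_comm]
    refine Finset.sum_congr rfl fun h _ => ?_
    rw [← Finset.mul_sum, hN]
    push_cast
    ring
  have heq : ∀ h, c h * N h = Nat.card G := by
    have h1 := hall (fun _ => 1) (IsClassFunction.const 1)
    simp only [one_mul, Finset.sum_const, Finset.card_univ, nsmul_eq_mul, mul_one] at h1
    have h2 : ∑ h : H, Nat.card G = ∑ h : H, c h * N h := by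
      have : Nat.card H * Fintype.card G = ∑ h : H, c h * N h := by exact_mod_cast h1
      rw [← this]
      simp
    intro h
    exact ((Finset.sum_eq_sum_iff_of_le fun h _ => Nat.le_of_dvd (hpos h) (hdvd h)).mp h2 h
      (Finset.mem_univ h)).symm
  have h1 := hall f hf
  simp only [heq] at h1
  rw [← Finset.sum_mul, hmn] at h1
  apply mul_left_cancel₀ (Ch.natCard_ne_zero H)
  rw [h1]
  push_cast
  ring

/-- Let H be a subgroup of the finite group G whose order is coprime to its index. Suppose that elements of H conjugate in G are conjugate in H, and that every subgroup E of G that is elementary for some prime (in the sense used for Brauer's characterisation of characters) and whose order divides the order of H is conjugate to a subgroup of H. Then there is a normal subgroup K with K ⊔ H = ⊤ and K ⊓ H trivial. -/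
theorem result {G : Type*} [Group G] [Finite G] (H : Subgroup G) (hHall : Nat.Coprime (Nat.card H) H.index) (hfus : ∀ x ∈ H, ∀ y ∈ H, IsConj x y → ∃ h ∈ H, h * x * h⁻¹ = y) (helem : ∀ (E : Subgroup G) (p : ℕ), p.Prime → Cfsg.IsElementary p E → Nat.card E ∣ Nat.card H → ∃ g : G, E.map (MulAut.conj g).toMonoidHom ≤ H) : ∃ K : Subgroup G, K.Normal ∧ K ⊔ H = ⊤ ∧ K ⊓ H = ⊥ := by
  classical
  have := Fintype.ofFinite G
  have := Fintype.ofFinite H
  set n := Nat.card H with hn
  set m := H.index with hm
  have hcop : m.Coprime n := hHall.symm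
  have hmn : Nat.card G = m * n := by rw [mul_comm, H.card_mul_index]
  have hpow : ∀ x : G, x ^ (m * n) = 1 := fun x => by rw [← hmn, pow_card_eq_one']
  obtain ⟨k, hk⟩ := Ch.exists_pow_eq_snd (G := G) hcop
  have hk1 : ∀ v : G, v ^ n = 1 → v ^ k = v := fun v hv => by
    simpa using hk 1 v (Commute.one_left v) (one_pow m) hv
  have hkn : ∀ x : G, (x ^ k) ^ n = 1 := fun x => by
    obtain ⟨u, v, -, -, e, hc, hu, hv⟩ := Ch.exists_coprime_parts x hcop (hpow x)
    rw [e, hk u v hc hu hv, hv]
  have hr : ∀ x : G, ∃ h : H, IsConj (x ^ k) (h : G) := by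
    intro x
    obtain ⟨a, ha⟩ := helem (Subgroup.zpowers (x ^ k)) 2 Nat.prime_two
      (Ch.isElementary_of_isCyclic Nat.prime_two)
      (by rw [Nat.card_zpowers]; exact orderOf_dvd_of_pow_eq_one (hkn x))
    exact ⟨⟨a * x ^ k * a⁻¹, ha ⟨_, Subgroup.mem_zpowers _, rfl⟩⟩, isConj_iff.mpr ⟨a, rfl⟩⟩
  choose r hr using hr
  have hfus' : ∀ {f : H → ℂ}, IsClassFunction H f → ∀ x y : H, IsConj (x : G) (y : G) →
      f x = f y := by
    intro f hf x y h
    obtain ⟨c, hc, e⟩ := hfus x x.2 y y.2 h
    exact hf.eq_of_isConj (isConj_iff.mpr ⟨⟨c, hc⟩, Subtype.ext e⟩)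
  have hcl : ∀ {f : H → ℂ}, IsClassFunction H f → IsClassFunction G (fun x => f (r x)) := by
    intro f hf
    exact IsClassFunction.of_isConj fun x y h =>
      hfus' hf _ _ ((hr x).symm.trans ((h.pow k).trans (hr y)))
  have hmem : ∀ (R : AddSubgroup ℂ) {f : H → ℂ}, IsClassFunction H f →
      (∀ ψ : H → ℂ, IsIrrCharacter H ψ → classInner f ψ ∈ R) →
      ∀ {χ : G → ℂ}, IsGeneralizedCharacter G χ → classInner (fun x => f (r x)) χ ∈ R := by
    intro R f hf h χ hχ
    refine Ch.classInner_mem_of_section hcop (dvd_of_eq hmn) R (hcl hf) (fun u v hc hu hv => ?_)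
      (fun B _ p hp hB hBn ψ hψ => ?_) hχ
    · refine hfus' hf _ _ ((hr _).symm.trans ?_)
      rw [hk u v hc hu hv]
      have := hr v
      rwa [hk1 v hv] at this
    · obtain ⟨a, ha⟩ := helem B p hp hB hBn
      let φ : B →* H := ((MulAut.conj a).toMonoidHom.comp B.subtype).codRestrict H
        fun b => ha ⟨b, b.2, rfl⟩
      have h1 : (fun b : B => f (r b)) = fun b => f (φ b) := by
        funext b
        refine hfus' hf _ _ ((hr _).symm.trans ?_)
        rw [hk1 b (orderOf_dvd_iff_pow_eq_one.mp ((Subgroup.orderOf_dvd_natCard _ b.2).trans hBn))]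
        exact isConj_iff.mpr ⟨a, rfl⟩
      rw [h1]
      exact Ch.classInner_comp_mem φ R hf h hψ.isGeneralizedCharacter
  have hrH : ∀ {f : H → ℂ}, IsClassFunction H f → ∀ h : H, f (r h) = f h := by
    intro f hf h
    refine hfus' hf _ _ ((hr _).symm.trans ?_)
    rw [hk1 h (orderOf_dvd_iff_pow_eq_one.mp (Subgroup.orderOf_dvd_natCard _ h.2))]
  have hsum := sum_comp_eq hmn r hrH (fun h => hmem AlgInt.toSubring.toAddSubgroup
    ((Ch.isClassFunction_classInd h).smul (Nat.card (Subgroup.centralizer ({h} : Set H)) : ℂ))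
    (fun ψ hψ => by
      rw [Ch.classInner_smul_left, Ch.classInner_classInd_left h hψ.isClassFunction,
        mul_inv_cancel_left₀ (Ch.natCard_ne_zero _)]
      exact hψ.isCharacter.complexConj.isIntegral h) IsGeneralizedCharacter.one)
  have hm0 : (m : ℂ) ≠ 0 := by exact_mod_cast H.index_ne_zero_of_finite
  have hiso : ∀ {f f' : H → ℂ}, IsClassFunction H f → IsClassFunction H f' →
      classInner (fun x => f (r x)) (fun x => f' (r x)) = classInner f f' := by
    intro f f' hf hf'
    have h1 := hsum _ (hf.mul hf'.complexConj)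
    simp only [Pi.mul_apply] at h1
    rw [Ch.classInner_def, Ch.classInner_def, h1, hmn]
    push_cast
    rw [mul_inv, mul_comm (m : ℂ)⁻¹, mul_assoc, inv_mul_cancel_left₀ hm0]
  have hirr : ∀ χ : IrrCharacter H, IsIrrCharacter G (fun x => (χ : H → ℂ) (r x)) := by
    intro χ
    have h1 : IsGeneralizedCharacter G (fun x => (χ : H → ℂ) (r x)) := by
      refine IsGeneralizedCharacter.of_classInner (hcl χ.isClassFunction) fun φ => ?_
      obtain ⟨j, hj⟩ := hmem (Int.castAddHom ℂ).range χ.isClassFunction (fun ψ hψ => by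
        obtain ⟨j, hj⟩ := χ.isGeneralizedCharacter.exists_int_classInner hψ.isGeneralizedCharacter
        exact ⟨j, hj.symm⟩) φ.isGeneralizedCharacter
      exact ⟨j, hj.symm⟩
    refine h1.isIrr_of_norm_one (by rw [hiso χ.isClassFunction χ.isClassFunction,
      χ.2.classInner_self]) ?_
    have := hrH χ.isClassFunction 1
    rw [OneMemClass.coe_one] at this
    rw [this]
    exact χ.2.re_apply_one_pos.le
  have hreg : IsCharacter G (fun x => Ch.regChar H (r x)) := by
    have h1 : (fun x => Ch.regChar H (r x)) = ∑ χ : IrrCharacter H,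
        (charDegree (χ : H → ℂ) : ℂ) • fun x => (χ : H → ℂ) (r x) := by
      funext x
      rw [← Ch.sum_degree_mul_apply, Finset.sum_apply]
      simp [χ_deg]
    rw [h1]
    exact IsCharacter.sum fun χ _ => (hirr χ).isCharacter.natCast_smul _
  have hr1 : Ch.regChar H (r 1) = n := by
    have := hrH (Ch.isCharacter_regChar (G := H)).isClassFunction 1
    rw [OneMemClass.coe_one] at this
    rw [this, Ch.regChar_one]
  have hn0 : (n : ℂ) ≠ 0 := Ch.natCard_ne_zero H
  let K := Ch.charKer (fun x => Ch.regChar H (r x))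
  have hK : ∀ x, x ∈ K ↔ r x = 1 := by
    intro x
    rw [hreg.mem_charKer, hr1, Ch.regChar_apply]
    split_ifs with h
    · simp [h, hn]
    · simp [h, hn0.symm]
  have hdisj : K ⊓ H = ⊥ := by
    rw [eq_bot_iff]
    rintro x ⟨hx, hxH⟩
    have h1 := hr x
    rw [(hK x).mp hx, hk1 x (orderOf_dvd_iff_pow_eq_one.mp (Subgroup.orderOf_dvd_natCard _ hxH)),
      OneMemClass.coe_one, isConj_one_left] at h1
    exact h1
  have hcard : Nat.card K = m := by
    have h1 := hsum _ (Ch.isCharacter_regChar (G := H)).isClassFunction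
    have h2 : ∑ h : H, Ch.regChar H h = n := by
      simp [Ch.regChar_apply, hn]
    have h3 : ∑ x : G, Ch.regChar H (r x) = Nat.card K * n := by
      simp only [Ch.regChar_apply, ← hK]
      rw [← Finset.sum_filter, Finset.sum_const, nsmul_eq_mul, Nat.card_eq_fintype_card (α := K),
        Fintype.card_subtype]
    rw [h2, h3] at h1
    exact_mod_cast mul_right_cancel₀ hn0 h1
  have hcomp : K.IsComplement' H :=
    Subgroup.isComplement'_of_card_mul_and_disjoint (by rw [hcard, hmn]) (disjoint_iff.mpr hdisj)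
  exact ⟨K, hreg.charKer_normal, hcomp.sup_eq_top, hdisj⟩

end Cfsg.Agent.S0877
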