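import Mathlib
import Cfsg.Statements.S4067
import Cfsg.Agent.Ch.Linear
import Cfsg.Agent.Ch.Table
import Cfsg.Agent.Ch.Integrality
import Cfsg.Agent.GT.PGroupIso
import Cfsg.Agent.Deg.PGrp

set_option autoImplicit false
set_option linter.style.haveILetI false
set_option linter.unusedVariables false
open Cfsg

namespace Cfsg.Agent.S4067

open Subgroup Function
open scoped commutatorElement

section
variable {G : Type*} [Group G]

theorem card_orbits_eq {A X : Type*} [Group A] [MulAction A X] [Fintype X] :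
    (Nat.card (MulAction.orbitRel.Quotient A X) : ℚ) =
      ∑ x : X, ((MulAction.orbit A x).ncard : ℚ)⁻¹ := by
  classical
  letI : Fintype (MulAction.orbitRel.Quotient A X) := Fintype.ofFinite _
  rw [← Finset.sum_fiberwise (Finset.univ : Finset X)
    (fun x : X => (Quotient.mk'' x : MulAction.orbitRel.Quotient A X))
    (fun x => ((MulAction.orbit A x).ncard : ℚ)⁻¹),
    Nat.card_eq_fintype_card, ← Finset.card_univ, Finset.card_eq_sum_ones, Nat.cast_sum]
  refine Finset.sum_congr rfl fun q _ => ?_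
  induction q using Quotient.inductionOn' with
  | h a =>
  have h1 : ∀ x : X, (Quotient.mk'' x : MulAction.orbitRel.Quotient A X) = Quotient.mk'' a ↔
      x ∈ MulAction.orbit A a := fun x => by
    rw [Quotient.eq'', MulAction.orbitRel_apply]
  rw [Finset.sum_congr rfl (g := fun _ => ((MulAction.orbit A a).ncard : ℚ)⁻¹) fun x hx => by
    rw [MulAction.orbit_eq_iff.2 ((h1 x).1 (Finset.mem_filter.1 hx).2)]]
  have h2 : (Finset.univ.filter fun x : X =>
      (Quotient.mk'' x : MulAction.orbitRel.Quotient A X) = Quotient.mk'' a).card =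
      (MulAction.orbit A a).ncard := by
    rw [← Set.ncard_coe_finset]
    congr 1
    ext x
    simp [h1]
  have h3 : (MulAction.orbit A a).ncard ≠ 0 :=
    Set.ncard_ne_zero_of_mem (MulAction.mem_orbit_self a)
  rw [Finset.sum_const, h2, nsmul_eq_mul, mul_inv_cancel₀ (by exact_mod_cast h3), Nat.cast_one]

theorem sq_mul_card_conjClasses_le (X : Type*) [Group X] [Finite X] {p : ℕ}
    (hp : ∀ d, d ∣ Nat.card X → d ≠ 1 → p ≤ d) :
    p ^ 2 * Nat.card (ConjClasses X) + (commutator X).index ≤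
      Nat.card X + p ^ 2 * (commutator X).index := by
  classical
  rw [← Ch.card_linear_irr, ← Ch.fintype_card_irr]
  conv_rhs => rw [← Ch.sum_sq_charDegree (G := X)]
  rw [Nat.card_eq_fintype_card,
    Fintype.card_subtype (fun χ : IrrCharacter X => (χ : X → ℂ) 1 = 1), Finset.card_filter,
    Finset.mul_sum, ← Finset.sum_add_distrib,
    ← Finset.card_univ, Finset.card_eq_sum_ones, Finset.mul_sum, ← Finset.sum_add_distrib]
  refine Finset.sum_le_sum fun χ _ => ?_
  have h1 := χ.2.charDegree_pos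
  split_ifs with h
  · nlinarith
  · have h2 : charDegree (χ : X → ℂ) ≠ 1 := fun e => h (by rw [← χ.2.coe_charDegree, e]; simp)
    have := hp _ χ.2.charDegree_dvd_card h2
    nlinarith

theorem card_orbits_le_conj [Finite G] :
    Nat.card (MulAction.orbitRel.Quotient (MulAut G) G) ≤ Nat.card (ConjClasses G) := by
  refine Nat.card_le_card_of_surjective (fun c : ConjClasses G => Quotient.liftOn' c
    (fun g => (Quotient.mk'' g : MulAction.orbitRel.Quotient (MulAut G) G)) fun a b h => ?_) ?_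
  · obtain ⟨c, rfl⟩ := isConj_iff.1 h
    refine Quotient.sound' (MulAction.orbitRel_apply.2 ⟨MulAut.conj c⁻¹, ?_⟩)
    simp [mul_assoc]
  · intro q
    induction q using Quotient.inductionOn' with
    | h a => exact ⟨ConjClasses.mk a, rfl⟩

/-- An automorphism trivial on a normal subgroup of prime index. -/
theorem exists_aut [Finite G] (C : Subgroup G) [C.Normal] {p : ℕ} (hp : p.Prime)
    (hC : C.index = p) {y u : G} (hy : y ∉ C) (hu : u ∈ C) (huc : u ∈ centralizer (C : Set G))
    (hpow : (y * u) ^ p = y ^ p) : ∃ α : MulAut G, α y = y * u := by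
  haveI := Fact.mk hp
  set y' := y * u with hy'
  have hy'C : y' ∉ C := fun h => hy ((C.mul_mem_cancel_right hu).1 h)
  have key : ∀ (k : ℤ), ∀ c ∈ C, y' ^ k * c * (y' ^ k)⁻¹ = y ^ k * c * (y ^ k)⁻¹ := by
    intro k c hc
    have h1 : (QuotientGroup.mk y : G ⧸ centralizer (C : Set G)) = QuotientGroup.mk y' :=
      QuotientGroup.eq.2 (by simpa [hy'] using huc)
    have h2 : (QuotientGroup.mk (y ^ k) : G ⧸ centralizer (C : Set G)) =
        QuotientGroup.mk (y' ^ k) := by
      rw [QuotientGroup.mk_zpow, QuotientGroup.mk_zpow, h1]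
    have h3 := mem_centralizer_iff.1 (QuotientGroup.eq.1 h2) c hc
    calc y' ^ k * c * (y' ^ k)⁻¹ = y ^ k * ((y ^ k)⁻¹ * y' ^ k * c) * (y' ^ k)⁻¹ := by group
      _ = _ := by rw [← h3]; group
  have hdvd : ∀ {x : G}, x ∉ C → ∀ k : ℤ, x ^ k ∈ C → (p : ℤ) ∣ k := by
    intro x hx k hk
    have h1 : (QuotientGroup.mk x : G ⧸ C) ≠ 1 := fun h => hx ((QuotientGroup.eq_one_iff x).1 h)
    have h2 : orderOf (QuotientGroup.mk x : G ⧸ C) = p := orderOf_eq_prime
      (by rw [← hC]; exact pow_card_eq_one') h1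
    rw [← h2, orderOf_dvd_iff_zpow_eq_one, ← QuotientGroup.mk_zpow, QuotientGroup.eq_one_iff]
    exact hk
  have hpk : ∀ k : ℤ, (p : ℤ) ∣ k → y' ^ k = y ^ k := by
    rintro _ ⟨m, rfl⟩
    rw [zpow_mul, zpow_mul, zpow_natCast, zpow_natCast, hpow]
  let Γ : Subgroup (G × G) :=
    { carrier := {w | ∃ c ∈ C, ∃ k : ℤ, w.1 = c * y ^ k ∧ w.2 = c * y' ^ k}
      one_mem' := ⟨1, C.one_mem, 0, by simp, by simp⟩
      mul_mem' := by
        rintro ⟨a, a'⟩ ⟨b, b'⟩ ⟨c, hc, k, rfl, rfl⟩ ⟨d, hd, l, rfl, rfl⟩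
        refine ⟨c * (y ^ k * d * (y ^ k)⁻¹),
          C.mul_mem hc (Subgroup.Normal.conj_mem inferInstance d hd _), k + l, ?_, ?_⟩
        · simp only [Prod.fst_mul]; group
        · rw [← key k d hd]; simp only [Prod.snd_mul]; group
      inv_mem' := by
        rintro ⟨a, a'⟩ ⟨c, hc, k, rfl, rfl⟩
        refine ⟨y ^ (-k) * c⁻¹ * (y ^ (-k))⁻¹,
          Subgroup.Normal.conj_mem inferInstance _ (C.inv_mem hc) _, -k, ?_, ?_⟩
        · simp only [Prod.fst_inv]; group
        · rw [← key (-k) _ (C.inv_mem hc)]; simp only [Prod.snd_inv]; group }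
  have hbij : Bijective (Prod.fst ∘ Γ.subtype) := by
    constructor
    · change Injective ((MonoidHom.fst G G).comp Γ.subtype)
      rw [injective_iff_map_eq_one]
      rintro ⟨⟨a, a'⟩, hm⟩ h
      obtain ⟨c, hc, k, e1, e2⟩ := id hm
      have h1 : c * y ^ k = 1 := e1.symm.trans h
      have h2 : y ^ k ∈ C := (C.mul_mem_cancel_left hc).1 (h1 ▸ C.one_mem)
      ext
      · exact h
      · rw [hpk k (hdvd hy k h2)] at e2
        exact e2.trans h1
    · intro g
      have h1 : (QuotientGroup.mk y : G ⧸ C) ≠ 1 := fun h => hy ((QuotientGroup.eq_one_iff y).1 h)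
      obtain ⟨k, hk⟩ := mem_zpowers_iff.1
        (mem_zpowers_of_prime_card (p := p) hC h1 (g' := QuotientGroup.mk g))
      rw [← QuotientGroup.mk_zpow, QuotientGroup.eq] at hk
      have h2 : g * (y ^ k)⁻¹ ∈ C := Subgroup.Normal.mem_comm inferInstance hk
      exact ⟨⟨(g, g * (y ^ k)⁻¹ * y' ^ k), _, h2, k, by simp, rfl⟩, rfl⟩
  obtain ⟨f, hf⟩ := Subgroup.exists_eq_graph hbij
  have hf' : ∀ a b, (a, b) ∈ Γ ↔ f a = b := fun a b => by rw [hf]; rfl
  have hinj : Injective f := by
    rw [injective_iff_map_eq_one]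
    intro a ha
    obtain ⟨c, hc, k, h1, h2⟩ := (hf' a 1).2 ha
    have h3 : y' ^ k ∈ C := (C.mul_mem_cancel_left hc).1 (h2 ▸ C.one_mem)
    rw [hpk k (hdvd hy'C k h3)] at h2
    exact h1.trans h2.symm
  exact ⟨MulEquiv.ofBijective f (Finite.injective_iff_bijective.1 hinj),
    (hf' y y').1 ⟨1, C.one_mem, 1, by simp, by simp⟩⟩

theorem index_centralizer_eq (x : G) :
    (centralizer {x}).index = {y | IsConj x y}.ncard := by
  have h1 : centralizer {x} = (MulAction.stabilizer (ConjAct G) x).comap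
      (ConjAct.toConjAct (G := G)).toMonoidHom := by
    ext g
    rw [mem_centralizer_singleton_iff, mem_comap, MulAction.mem_stabilizer_iff]
    exact mul_inv_eq_iff_eq_mul.symm
  rw [h1, index_comap_of_surjective (f := (ConjAct.toConjAct (G := G)).toMonoidHom) _
    ConjAct.toConjAct.surjective, MulAction.index_stabilizer]
  congr 1
  ext y
  simp only [Set.mem_ofPred_eq, isConj_iff]
  exact ⟨fun ⟨g, hg⟩ => ⟨ConjAct.ofConjAct g, hg⟩, fun ⟨g, hg⟩ => ⟨ConjAct.toConjAct g, hg⟩⟩

theorem index_ne_one {x : G} (hx : x ∉ center G) : (centralizer {x}).index ≠ 1 := fun h =>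
  hx (mem_center_iff.2 fun g => mem_centralizer_singleton_iff.1
    (index_eq_one.1 h ▸ mem_top g))

variable [Finite G] {p : ℕ}

omit [Finite G] in
theorem card_sub (H : Subgroup G) : Nat.card H = (H : Set G).ncard := Nat.card_coe_set_eq _

theorem comm_le_center (hp : ∀ d, d ∣ Nat.card G → d ≠ 1 → p ≤ d)
    (hK : Nat.card (commutator G) = p) : commutator G ≤ center G := by
  intro k hk
  by_contra hkc
  have h1 := hp _ (index_dvd_card _) (index_ne_one hkc)
  rw [index_centralizer_eq, ← hK] at h1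
  have h2 : {y | IsConj k y} ⊂ (commutator G : Set G) := by
    refine ⟨fun y hy => ?_, fun h => hkc ?_⟩
    · obtain ⟨c, rfl⟩ := isConj_iff.1 hy
      exact Subgroup.Normal.conj_mem inferInstance k hk c
    · have : IsConj k 1 := h (commutator G).one_mem
      rw [isConj_one_left.1 this]
      exact one_mem _
  have := Set.ncard_lt_ncard h2
  rw [card_sub] at h1
  omega

theorem index_cent (hp : ∀ d, d ∣ Nat.card G → d ≠ 1 → p ≤ d)
    (hK : Nat.card (commutator G) = p) {x : G} (hx : x ∉ center G) :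
    (centralizer {x}).index = p := by
  refine le_antisymm ?_ (hp _ (index_dvd_card _) (index_ne_one hx))
  rw [index_centralizer_eq, ← hK, card_sub,
    ← Set.ncard_image_of_injective (commutator G : Set G) (mul_left_injective x)]
  refine Set.ncard_le_ncard fun y hy => ?_
  obtain ⟨c, rfl⟩ := isConj_iff.1 hy
  exact ⟨⁅c, x⁆, commutator_mem_commutator (mem_top _) (mem_top _), by
    simp [commutatorElement_def]⟩

omit [Finite G] in
theorem sq_le_index (hp : ∀ d, d ∣ Nat.card G → d ≠ 1 → p ≤ d) {x : G} (hx : x ∉ center G) :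
    p ^ 2 ≤ (center G).index := by
  have hle : center G ≤ centralizer {x} := center_le_centralizer _
  rw [← relIndex_mul_index hle, sq]
  refine Nat.mul_le_mul (hp _ ((relIndex_dvd_card _ _).trans (card_subgroup_dvd_card _)) fun h => hx ?_)
    (hp _ (index_dvd_card _) (index_ne_one hx))
  exact relIndex_eq_one.1 h (mem_centralizer_singleton_iff.2 rfl)

/-- The key element. -/
theorem exists_key (hpp : p.Prime) (hp : ∀ d, d ∣ Nat.card G → d ≠ 1 → p ≤ d)
    (hK : Nat.card (commutator G) = p) {x₀ : G} (hx₀ : x₀ ∉ center G) :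
    ∃ x, x ∉ center G ∧ ∃ w, w ∉ commutator G ∧ w ∈ centralizer {x} ∧
      w ∈ centralizer (centralizer {x} : Set G) ∧
      ∀ y, y ∉ centralizer {x} → (y * w) ^ p = y ^ p := by
  classical
  have hKZ := comm_le_center hp hK
  have hKp : ∀ k ∈ commutator G, k ^ p = 1 := fun k hk => by
    have := pow_card_eq_one' (x := (⟨k, hk⟩ : commutator G))
    rw [hK] at this
    exact congrArg Subtype.val this
  have hcm : ∀ a b : G, ⁅a, b⁆ ∈ commutator G := fun a b =>
    commutator_mem_commutator (mem_top _) (mem_top _)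
  by_cases hΩ : ∃ w ∈ center G, w ^ p = 1 ∧ w ∉ commutator G
  · obtain ⟨w, hw, hwp, hwK⟩ := hΩ
    refine ⟨x₀, hx₀, w, hwK, center_le_centralizer _ hw, center_le_centralizer _ hw, fun y _ => ?_⟩
    rw [Commute.mul_pow (mem_center_iff.1 hw y), hwp, mul_one]
  push Not at hΩ
  have hpZ : ∀ g : G, g ^ p ∈ center G := fun g => mem_center_iff.2 fun h => by
    have := Deg.commutatorElement_pow_left_of_center (hKZ (hcm g h)) p
    rw [hKp _ (hcm g h), commutatorElement_eq_one_iff_mul_comm] at this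
    exact this.symm
  let π : center G →* G := MonoidHom.mk' (fun z => z ^ p) fun a b =>
    Commute.mul_pow (mem_center_iff.1 b.2 a) p
  set R := π.range with hR
  have hRZ : R ≤ center G := by
    rintro _ ⟨z, rfl⟩
    exact hpZ z
  haveI : R.Normal := ⟨fun a ha g => by
    rw [mem_center_iff.1 (hRZ ha) g, mul_inv_cancel_right]; exact ha⟩
  have hRi : R.relIndex (center G) ≤ p := by
    have h1 : Nat.card π.ker ≤ p := by
      rw [← hK]
      exact Nat.card_le_card_of_injective
        (fun z : π.ker => (⟨z.1.1, hΩ _ z.1.2 z.2⟩ : commutator G)) fun a b h =>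
          Subtype.ext (Subtype.ext (congrArg (fun k : commutator G => (k : G)) h))
    have h2 := π.ker.card_mul_index
    rw [index_ker] at h2
    have h3 := (R.subgroupOf (center G)).card_mul_index
    rw [Nat.card_congr (subgroupOfEquivOfLe hRZ).toEquiv] at h3
    have h4 : 0 < Nat.card R := Nat.card_pos
    change Nat.card R * R.relIndex (center G) = _ at h3
    nlinarith
  obtain ⟨κ, hκ⟩ : ∃ κ, ∀ k ∈ commutator G, k ≠ 1 → k ^ p.choose 2 = κ := by
    rcases hpp.eq_two_or_odd' with rfl | hodd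
    · obtain ⟨c, -, hc⟩ := (Nat.card_eq_two_iff' (1 : commutator G)).1 hK
      exact ⟨c, fun k hk hk1 => by
        simpa using congrArg Subtype.val (hc ⟨k, hk⟩ fun h => hk1 (congrArg Subtype.val h))⟩
    · obtain ⟨m, hm⟩ := GT.PG.choose_two_dvd_of_odd hodd
      exact ⟨1, fun k hk _ => by rw [hm, pow_mul, hKp k hk, one_pow]⟩
  have hmul := GT.PG.mul_pow_of_class_two hKZ
  obtain ⟨x, hx, hxR⟩ : ∃ x, x ∉ center G ∧ x ^ p * κ ∈ R := by
    by_cases hκR : κ ∈ R
    · let φ : G →* G ⧸ R := MonoidHom.mk' (fun g => QuotientGroup.mk (g ^ p)) fun a b => by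
        rw [hmul, QuotientGroup.mk_mul, QuotientGroup.mk_mul,
          (QuotientGroup.eq_one_iff (⁅b, a⁆ ^ p.choose 2)).2, mul_one]
        by_cases h : ⁅b, a⁆ = 1
        · rw [h, one_pow]; exact one_mem _
        · rw [hκ _ (hcm b a) h]; exact hκR
      by_contra hcon
      push Not at hcon
      have h1 : φ.ker ≤ center G := fun g hg => by
        by_contra hg'
        exact hcon g hg' (R.mul_mem ((QuotientGroup.eq_one_iff _).1 hg) hκR)
      have h2 : φ.range ≤ (center G).map (QuotientGroup.mk' R) := by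
        rintro _ ⟨g, rfl⟩
        exact ⟨_, hpZ g, rfl⟩
      have h3 := card_le_of_le h2
      rw [← relIndex_ker, QuotientGroup.ker_mk', ← index_ker] at h3
      have h4 := Nat.le_of_dvd (Nat.pos_of_ne_zero index_ne_zero_of_finite) (index_dvd_of_le h1)
      have h5 := sq_le_index hp hx₀
      have h6 := hpp.two_le
      nlinarith
    · obtain ⟨y₀, hy₀⟩ : ∃ y₀ : G, ⁅y₀, x₀⁆ ≠ 1 := by
        refine not_forall.1 fun h => ?_
        exact hx₀ (mem_center_iff.2 fun g => commutatorElement_eq_one_iff_mul_comm.1 (h g))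
      have hκ0 := hκ _ (hcm _ _) hy₀
      have hp2 : p = 2 := by
        rcases hpp.eq_two_or_odd' with h | hodd
        · exact h
        · obtain ⟨m, hm⟩ := GT.PG.choose_two_dvd_of_odd hodd
          rw [hm, pow_mul, hKp _ (hcm _ _), one_pow] at hκ0
          exact (hκR (hκ0 ▸ R.one_mem)).elim
      have hκZ : κ ∈ center G := hκ0 ▸ pow_mem (hKZ (hcm _ _)) _
      have hidx : (R.subgroupOf (center G)).index = 2 := by
        have h1 : R.relIndex (center G) ≠ 1 := fun h => hκR (relIndex_eq_one.1 h hκZ)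
        have h2 : R.relIndex (center G) ≠ 0 := index_ne_zero_of_finite
        change R.relIndex (center G) = 2
        omega
      have hsw : ∀ a ∈ center G, a ∉ R → a * κ ∈ R := fun a ha haR =>
        (mul_mem_iff_of_index_two hidx (a := ⟨a, ha⟩) (b := ⟨κ, hκZ⟩)).2
          (iff_of_false haR hκR)
      by_contra hcon
      push Not at hcon
      have hall : ∀ a, a ∉ center G → a ^ p ∈ R := fun a ha => by
        by_contra h
        exact hcon a ha (hsw _ (hpZ a) h)
      have hy₀Z : y₀ ∉ center G := fun h => hy₀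
        (commutatorElement_eq_one_iff_mul_comm.2 (mem_center_iff.1 h x₀).symm)
      have hxy : x₀ * y₀ ∉ center G := fun h => hy₀
        (commutatorElement_eq_one_iff_mul_comm.2 (by
          have := mem_center_iff.1 h x₀
          rw [mul_assoc] at this
          exact (mul_left_cancel this).symm))
      have h1 := hall _ hxy
      rw [hmul, hκ0] at h1
      exact hκR ((R.mul_mem_cancel_left (R.mul_mem (hall _ hx₀) (hall _ hy₀Z))).1 h1)
  obtain ⟨z, hz⟩ := hxR
  have hz' : (z : G) ^ p = x ^ p * κ := hz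
  have hw : x * (z : G)⁻¹ ∉ center G := fun h =>
    hx (((center G).mul_mem_cancel_right (inv_mem z.2)).1 h)
  refine ⟨x * (z : G)⁻¹, hw, x * (z : G)⁻¹, fun h => hw (hKZ h),
    mem_centralizer_singleton_iff.2 rfl,
    fun c hc => mem_centralizer_singleton_iff.1 hc, fun y hy => ?_⟩
  have h1 : ⁅x * (z : G)⁻¹, y⁆ ≠ 1 := fun h => hy (mem_centralizer_singleton_iff.2
    (commutatorElement_eq_one_iff_mul_comm.1 h).symm)
  rw [hmul, hκ _ (hcm _ _) h1, Commute.mul_pow (mem_center_iff.1 (inv_mem z.2) x), inv_pow, hz']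
  have h2 := mem_center_iff.1 (hpZ x)
  calc y ^ p * (x ^ p * (x ^ p * κ)⁻¹) * κ = y ^ p * (x ^ p * κ⁻¹ * (x ^ p)⁻¹) * κ := by group
    _ = _ := by rw [← h2]; group

theorem orbit_ge_conj (x : G) :
    (centralizer {x}).index ≤ (MulAction.orbit (MulAut G) x).ncard := by
  rw [index_centralizer_eq]
  refine Set.ncard_le_ncard fun y hy => ?_
  obtain ⟨c, rfl⟩ := isConj_iff.1 hy
  exact ⟨MulAut.conj c, rfl⟩

theorem main2 (hpp : p.Prime) (hp : ∀ d, d ∣ Nat.card G → d ≠ 1 → p ≤ d)
    (hK : Nat.card (commutator G) = p) {x₀ : G} (hx₀ : x₀ ∉ center G) :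
    Nat.card (MulAction.orbitRel.Quotient (MulAut G) G) * p ≤ Nat.card G := by
  classical
  letI := Fintype.ofFinite G
  haveI := Fact.mk hpp
  obtain ⟨x, hx, w, hwK, hwC, hwCC, hw⟩ := exists_key hpp hp hK hx₀
  have hKZ := comm_le_center hp hK
  set C := centralizer {x} with hC
  have hZC : center G ≤ C := center_le_centralizer _
  haveI : C.Normal := Subgroup.Normal.of_commutator_le _ (hKZ.trans hZC)
  have hCi : C.index = p := index_cent hp hK hx
  let T₀ : Submonoid G :=
    { carrier := {t | t ∈ C ∧ ∀ y, y ∉ C → y * t ∈ MulAction.orbit (MulAut G) y}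
      one_mem' := ⟨C.one_mem, fun y _ => by simp⟩
      mul_mem' := by
        rintro a b ⟨ha, ha'⟩ ⟨hb, hb'⟩
        refine ⟨C.mul_mem ha hb, fun y hy => ?_⟩
        have h1 := hb' (y * a) fun h => hy ((C.mul_mem_cancel_right ha).1 h)
        rw [MulAction.orbit_eq_iff.2 (ha' y hy), mul_assoc] at h1
        exact h1 }
  let T : Subgroup G :=
    { T₀ with
      inv_mem' := fun {a} ha => by
        have h1 : a⁻¹ = a ^ (orderOf a - 1) := by
          rw [eq_comm, ← mul_eq_one_iff_eq_inv, ← pow_succ,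
            Nat.sub_add_cancel (orderOf_pos a), pow_orderOf_eq_one]
        change a⁻¹ ∈ T₀
        rw [h1]
        exact T₀.pow_mem ha _ }
  have hT : ∀ t ∈ C, t ∈ centralizer (C : Set G) → (∀ y, y ∉ C → (y * t) ^ p = y ^ p) → t ∈ T :=
    fun t h1 h2 h3 => ⟨h1, fun y hy => exists_aut C hpp hCi hy h1 h2 (h3 y hy)⟩
  have hKT : commutator G ≤ T := fun k hk => hT k (hZC (hKZ hk))
    (center_le_centralizer _ (hKZ hk)) fun y _ => by
      have := pow_card_eq_one' (x := (⟨k, hk⟩ : commutator G))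
      rw [hK] at this
      rw [Commute.mul_pow (mem_center_iff.1 (hKZ hk) y), show k ^ p = 1 from
        congrArg Subtype.val this, mul_one]
  have hTc : p ^ 2 ≤ Nat.card T := by
    have h1 := ((commutator G).subgroupOf T).card_mul_index
    rw [Nat.card_congr (subgroupOfEquivOfLe hKT).toEquiv, hK] at h1
    rw [← h1, sq]
    refine Nat.mul_le_mul_left _ (hp _ ((index_dvd_card _).trans (card_subgroup_dvd_card _))
      fun h => hwK ?_)
    exact relIndex_eq_one.1 h (hT w hwC hwCC hw)
  have hp0 : (0 : ℚ) < p := by exact_mod_cast hpp.pos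
  have hb : ∀ g : G, ((MulAction.orbit (MulAut G) g).ncard : ℚ)⁻¹ ≤
      ((p : ℚ) ^ 2)⁻¹ + (if g ∈ C then (p : ℚ)⁻¹ - ((p : ℚ) ^ 2)⁻¹ else 0) +
        (if g ∈ center G then 1 - (p : ℚ)⁻¹ else 0) := by
    intro g
    by_cases h1 : g ∈ center G
    · rw [if_pos h1, if_pos (hZC h1)]
      have h3 : 1 ≤ (MulAction.orbit (MulAut G) g).ncard :=
        Nat.pos_of_ne_zero (Set.ncard_ne_zero_of_mem (MulAction.mem_orbit_self g))
      have : ((MulAction.orbit (MulAut G) g).ncard : ℚ)⁻¹ ≤ 1 :=
        inv_le_one_of_one_le₀ (by exact_mod_cast h3)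
      linarith
    rw [if_neg h1]
    by_cases h2 : g ∈ C
    · rw [if_pos h2]
      have h3 := orbit_ge_conj g
      rw [index_cent hp hK h1] at h3
      have : ((MulAction.orbit (MulAut G) g).ncard : ℚ)⁻¹ ≤ (p : ℚ)⁻¹ :=
        inv_anti₀ hp0 (by exact_mod_cast h3)
      linarith
    · rw [if_neg h2]
      have h3 : p ^ 2 ≤ (MulAction.orbit (MulAut G) g).ncard := by
        refine hTc.trans ?_
        rw [card_sub, ← Set.ncard_image_of_injective (T : Set G) (mul_right_injective g)]
        refine Set.ncard_le_ncard ?_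
        rintro _ ⟨t, ht, rfl⟩
        exact ht.2 g h2
      have : ((MulAction.orbit (MulAut G) g).ncard : ℚ)⁻¹ ≤ ((p : ℚ) ^ 2)⁻¹ :=
        inv_anti₀ (by positivity) (by exact_mod_cast h3)
      linarith
  have hs := Finset.sum_le_sum fun g (_ : g ∈ Finset.univ) => hb g
  have hcs : ∀ (H : Subgroup G) [DecidablePred (· ∈ H)] (c : ℚ),
      ∑ g : G, (if g ∈ H then c else 0) = Nat.card H * c := by
    intro H _ c
    rw [← Finset.sum_filter, Finset.sum_const, nsmul_eq_mul, Nat.card_eq_fintype_card,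
      Fintype.card_subtype]
  rw [← card_orbits_eq, Finset.sum_add_distrib, Finset.sum_add_distrib, hcs, hcs, Finset.sum_const,
    nsmul_eq_mul, Finset.card_univ, ← Nat.card_eq_fintype_card] at hs
  have h1 : (Nat.card C : ℚ) * p = Nat.card G := by
    rw [← hCi]; exact_mod_cast C.card_mul_index
  have h2 : (Nat.card (center G) : ℚ) * p ^ 2 ≤ Nat.card G := by
    have := Nat.mul_le_mul_left (Nat.card (center G)) (sq_le_index hp hx)
    rw [card_mul_index] at this
    exact_mod_cast this
  have h3 : (2 : ℚ) ≤ p := by exact_mod_cast hpp.two_le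
  have h4 : (0 : ℚ) ≤ Nat.card C := by positivity
  have : (Nat.card (MulAction.orbitRel.Quotient (MulAut G) G) : ℚ) * p ≤ Nat.card G := by
    rw [← h1] at hs h2 ⊢
    generalize (Nat.card (MulAction.orbitRel.Quotient (MulAut G) G) : ℚ) = ω at hs ⊢
    generalize (Nat.card C : ℚ) = c at hs h2 h4 ⊢
    generalize (Nat.card (center G) : ℚ) = z at hs h2
    have h5 : ω * p ^ 2 ≤ c * p + c * (p - 1) + z * p * (p - 1) := by
      have := mul_le_mul_of_nonneg_right hs (sq_nonneg (p : ℚ))
      refine this.trans (le_of_eq ?_)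
      field_simp
    have h6 : z * p ≤ c := le_of_mul_le_mul_right (by nlinarith) hp0
    have h7 : ω * p ^ 2 ≤ c * p ^ 2 := by
      have : z * p * (p - 1) ≤ c * (p - 1) := mul_le_mul_of_nonneg_right h6 (by linarith)
      have : 0 ≤ c * ((p - 1) * (p - 2)) := mul_nonneg h4 (mul_nonneg (by linarith) (by linarith))
      nlinarith
    have := le_of_mul_le_mul_right h7 (by positivity)
    exact mul_le_mul_of_nonneg_right this hp0.le
  exact_mod_cast this

end

/-- Let G be a finite non-abelian group and p the least prime dividing its order. Then the automorphism group of G has at most #G/p orbits on G. -/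
theorem result {G : Type*} [Group G] [Finite G] (hna : ¬ IsMulCommutative G) :
    Nat.card (MulAction.orbitRel.Quotient (MulAut G) G) ≤ Nat.card G / (Nat.card G).minFac := by
  set p := (Nat.card G).minFac with hpdef
  obtain ⟨x₀, hx₀⟩ : ∃ x₀, x₀ ∉ center G := by
    by_contra h
    push Not at h
    exact hna ⟨⟨fun a b => (mem_center_iff.1 (h b) a)⟩⟩
  have hn1 : Nat.card G ≠ 1 := fun h => by
    haveI := (Nat.card_eq_one_iff_unique.1 h).1
    exact hx₀ (Subsingleton.elim 1 x₀ ▸ one_mem _)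
  have hpp : p.Prime := Nat.minFac_prime hn1
  have hp : ∀ d, d ∣ Nat.card G → d ≠ 1 → p ≤ d := fun d hd hd1 => by
    have : d ≠ 0 := fun h => by
      rw [h, zero_dvd_iff] at hd
      exact Nat.card_pos.ne' hd
    exact Nat.minFac_le_of_dvd (by omega) hd
  rw [Nat.le_div_iff_mul_le hpp.pos]
  have hK1 : Nat.card (commutator G) ≠ 1 := fun h => by
    rw [card_eq_one, commutator_eq_bot_iff_center_eq_top] at h
    exact hx₀ (h ▸ mem_top _)
  rcases (hp _ (card_subgroup_dvd_card _) hK1).eq_or_lt with hK | hK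
  · exact main2 hpp hp hK.symm hx₀
  have h1 := sq_mul_card_conjClasses_le G hp
  have h2 := card_orbits_le_conj (G := G)
  have h3 := (commutator G).card_mul_index
  have h4 : (p + 1) * (commutator G).index ≤ Nat.card G := h3 ▸ Nat.mul_le_mul_right _ hK
  have h5 := hpp.pos
  obtain ⟨q, hq⟩ : ∃ q, p = q + 1 := ⟨p - 1, by omega⟩
  rw [hq] at h1 h4 ⊢
  have h6 : (q + 1) * (Nat.card (ConjClasses G) * (q + 1)) ≤ (q + 1) * Nat.card G := by
    nlinarith [Nat.mul_le_mul_left q h4]
  exact (Nat.mul_le_mul_right _ h2).trans (Nat.le_of_mul_le_mul_left h6 (by omega))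

end Cfsg.Agent.S4067
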