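import Mathlib
import Cfsg.Statements.S4126
import Cfsg.Agent.Loc.TechSmall
import Cfsg.Agent.GT.PGroupCritical
import Cfsg.Agent.GT.ComplementSystem
import Cfsg.Agent.GT.Cores
import Cfsg.Agent.GT.PGroupChain
import Cfsg.Agent.GT.CoprimeNilp

set_option autoImplicit false
open Cfsg

namespace Cfsg.Agent.S4126

open Subgroup
open scoped commutatorElement

universe u

theorem exists_small_char {T : Type u} [Group T] [Finite T] {p : ℕ} [Fact p.Prime]
    (hT : IsPGroup p T) :
    ∃ D : Subgroup T, D.Characteristic ∧ (∀ x ∈ D, x ^ p = 1 ∨ (p = 2 ∧ x ^ 4 = 1)) ∧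
      ∀ φ : MulAut T, (orderOf φ).Coprime p → (∀ x ∈ D, φ x = x) → φ = 1 := by
  by_cases hp : p = 2
  · subst hp
    obtain ⟨H, hH⟩ := GT.PG.exists_isCritical hT
    have hc := hH.char
    let D : Subgroup T :=
      { carrier := {x | x ∈ H ∧ x ^ 4 = 1}
        one_mem' := ⟨H.one_mem, one_pow _⟩
        inv_mem' := fun {x} hx => ⟨H.inv_mem hx.1, by rw [inv_pow, hx.2, inv_one]⟩
        mul_mem' := fun {x y} hx hy => ⟨H.mul_mem hx.1 hy.1, by
          have hc1 : ⁅y⁻¹, x⁻¹⁆ ∈ centralizer (H : Set T) :=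
            hH.commutator_mem _ (H.inv_mem hy.1) _
          have hcH : ⁅y⁻¹, x⁻¹⁆ ∈ H := hH.centralizer_le hc1
          have hx2 := hH.pow_mem x hx.1
          have hy2 := hH.pow_mem y hy.1
          have hyi2 := hH.pow_mem y⁻¹ (H.inv_mem hy.1)
          set c := ⁅y⁻¹, x⁻¹⁆ with hcdef
          have hcc : c ^ 2 = 1 := by
            rw [hcdef, ← GT.CopAct.commutatorElement_pow_left_of_commute
              (hc1 _ (H.inv_mem hy.1)), commutatorElement_eq_one_iff_mul_comm]
            exact (hyi2 _ (H.inv_mem hx.1)).symm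
          have h1 : (x * y) ^ 2 = x ^ 2 * y ^ 2 * c := by
            have h2 : y * c = c * y := hc1 y hy.1
            have : x ^ 2 * y ^ 2 * c = x ^ 2 * y * (c * y) := by
              rw [← h2]; simp only [pow_two, mul_assoc]
            rw [this, hcdef, commutatorElement_def]
            simp only [pow_two, inv_inv, mul_assoc, mul_inv_cancel_left]
          have e1 : Commute (x ^ 2) (y ^ 2) := (hx2 _ (H.pow_mem hy.1 2)).symm
          have e2 : Commute (x ^ 2) c := hc1 _ (H.pow_mem hx.1 2)
          have e3 : Commute (y ^ 2) c := hc1 _ (H.pow_mem hy.1 2)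
          rw [show (4 : ℕ) = 2 * 2 from rfl, pow_mul, h1, (e2.mul_left e3).mul_pow, e1.mul_pow,
            ← pow_mul, ← pow_mul, hcc]
          show x ^ 4 * y ^ 4 * 1 = 1
          rw [hx.2, hy.2]; simp⟩ }
    refine ⟨D, ?_, fun x hx => Or.inr ⟨rfl, hx.2⟩, fun φ hφ hfix => ?_⟩
    · refine characteristic_iff_le_comap.2 fun φ x hx => ⟨?_, ?_⟩
      · exact characteristic_iff_le_comap.1 hc φ hx.1
      · show (φ x) ^ 4 = 1
        rw [← map_pow, hx.2, map_one]
    · refine GT.PG.aut_eq_one_of_centralizer_le hT hH.centralizer_le hφ ?_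
      refine Loc.mulAut_apply_eq_of_small (hT.to_subgroup H) hφ
        (fun x hx => characteristic_iff_le_comap.1 hc φ hx) fun x hx hs => hfix x ⟨hx, ?_⟩
      rcases hs with hs | hs
      · rw [show (4 : ℕ) = 2 * 2 from rfl, pow_mul, hs, one_pow]
      · exact hs.2
  · obtain ⟨D, h1, -, -, h2, -, h3, -⟩ := GT.PG.exists_critical_exponent_p hp hT
    exact ⟨D, h1, fun x hx => Or.inl (h2 x hx), h3⟩

theorem not_dvd_index {G : Type u} [Group G] [Finite G] {p : ℕ} [Fact p.Prime] (P : Sylow p G)
    {z : G} (hz : z ∈ centralizer (P : Set G)) : ¬ p ∣ (centralizer ({z} : Set G)).index := by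
  intro h
  have hle : (P : Subgroup G) ≤ centralizer ({z} : Set G) := by
    intro g hg
    rw [mem_centralizer_singleton_iff]
    exact hz g hg
  exact P.not_dvd_index (h.trans (index_dvd_of_le hle))

theorem comm_of_normal {p : ℕ} [hp : Fact p.Prime] (n : ℕ) :
    ∀ (G : Type u) [Group G] [Finite G], Nat.card G = n → ∀ (D : Subgroup G) [D.Normal],
      IsPGroup p D → (∀ x ∈ D, ∃ a : ℕ, (centralizer ({x} : Set G)).index = p ^ a) →
      ∀ g : G, (orderOf g).Coprime p → ∀ d ∈ D, d * g = g * d := by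
  induction n using Nat.strong_induction_on with
  | _ n ih =>
  intro G _ _ hn D _ hD h g hg d hd
  by_cases hD1 : D = ⊥
  · subst hD1
    rw [mem_bot.1 hd]; simp
  obtain ⟨P⟩ : Nonempty (Sylow p G) := inferInstance
  have hne := GT.PG.inf_centralizer_ne_bot_of_isPGroup hD P.isPGroup'
    (le_normalizer_of_normal) hD1
  obtain ⟨⟨z, hz⟩, hz1⟩ := ne_bot_iff_exists_ne_one.1 hne
  have hz1' : z ≠ 1 := fun h => hz1 (Subtype.ext h)
  have hzD := (mem_inf.1 hz).1
  have hzc : z ∈ center G := by
    obtain ⟨a, ha⟩ := h z hzD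
    have h1 := not_dvd_index P (mem_inf.1 hz).2
    rw [ha] at h1
    have ha0 : a = 0 := by
      by_contra h0
      exact h1 (dvd_pow_self p h0)
    rw [ha0, pow_zero, index_eq_one] at ha
    rw [mem_center_iff]
    intro y
    have : y ∈ centralizer ({z} : Set G) := ha ▸ mem_top y
    exact mem_centralizer_singleton_iff.1 this
  have hZle : zpowers z ≤ center G := zpowers_le.2 hzc
  have hZ : (zpowers z).Normal := ⟨fun x hx y => by
    rw [mem_center_iff.1 (hZle hx) y, mul_inv_cancel_right]; exact hx⟩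
  set π := QuotientGroup.mk' (zpowers z) with hπ
  have hlt : Nat.card (G ⧸ zpowers z) < n := by
    rw [← hn, ← (zpowers z).card_mul_index, index_eq_card]
    have h1 : 1 < Nat.card (zpowers z) := (one_lt_card_iff_ne_bot _).2 (by simpa using hz1')
    have h2 : 0 < Nat.card (G ⧸ zpowers z) := Nat.card_pos
    nlinarith
  have : (D.map π).Normal := Normal.map inferInstance π (QuotientGroup.mk'_surjective _)
  have key := ih _ hlt (G ⧸ zpowers z) rfl (D.map π) (hD.map π) (by
    rintro _ ⟨x, hx, rfl⟩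
    obtain ⟨a, ha⟩ := h x hx
    have h1 : (centralizer ({x} : Set G)).map π ≤ centralizer ({π x} : Set (G ⧸ zpowers z)) := by
      rintro _ ⟨y, hy, rfl⟩
      rw [mem_centralizer_singleton_iff, ← map_mul, ← map_mul,
        mem_centralizer_singleton_iff.1 hy]
    have h2 := (index_dvd_of_le h1).trans
      (index_map_dvd (centralizer ({x} : Set G)) (QuotientGroup.mk'_surjective (zpowers z)))
    rw [ha] at h2
    obtain ⟨b, -, hb⟩ := (Nat.dvd_prime_pow hp.out).1 h2
    exact ⟨b, hb⟩) (π g) (hg.coprime_dvd_left (orderOf_map_dvd _ g)) (π d) (mem_map_of_mem π hd)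
  have hc : ⁅g, d⁆ ∈ zpowers z := by
    rw [← QuotientGroup.eq_one_iff, ← QuotientGroup.mk'_apply, map_commutatorElement,
      commutatorElement_eq_one_iff_mul_comm]
    exact key.symm
  have hcomm : Commute g ⁅g, d⁆ := mem_center_iff.1 (hZle hc) g
  have h1 : ⁅g, d⁆ ^ orderOf g = 1 := by
    rw [← GT.CopAct.commutatorElement_pow_left_of_commute hcomm, pow_orderOf_eq_one,
      commutatorElement_one_left]
  have hcD : ⁅g, d⁆ ∈ D := (zpowers_le.2 hzD) hc
  obtain ⟨k, hk⟩ := hD ⟨_, hcD⟩
  have h2 : ⁅g, d⁆ ^ p ^ k = 1 := congrArg Subtype.val hk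
  have h3 : ⁅g, d⁆ = 1 := by
    have := pow_gcd_eq_one.2 ⟨h1, h2⟩
    rwa [(hg.pow_right k).gcd_eq_one, pow_one] at this
  exact (commutatorElement_eq_one_iff_mul_comm.1 h3).symm

theorem mem_pCore {G : Type u} [Group G] [Finite G] {p : ℕ} [hp : Fact p.Prime] (P : Sylow p G)
    {x : G} (hx : x ∈ (P : Subgroup G)) {a : ℕ}
    (ha : (centralizer ({x} : Set G)).index = p ^ a) : x ∈ pCore p G := by
  rw [GT.pCore_eq_normalCore P]
  intro g
  have hcop : (P : Subgroup G).index.Coprime (centralizer ({x} : Set G)).index := by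
    rw [ha]
    exact ((Nat.Prime.coprime_iff_not_dvd hp.out).2 P.not_dvd_index).symm.pow_right a
  obtain ⟨u, hu, c, hc, rfl⟩ := GT.HT.exists_mul_of_coprime_index hcop g
  have hc' := mem_centralizer_singleton_iff.1 hc
  have : u * c * x * (u * c)⁻¹ = u * x * u⁻¹ := by
    rw [mul_assoc u c x, hc']; group
  rw [this]
  exact (P : Subgroup G).mul_mem ((P : Subgroup G).mul_mem hu hx) ((P : Subgroup G).inv_mem hu)

/-- Let G be a finite group and p a prime. Suppose every element of order p, and when p = 2 also every element of order 4, has a conjugacy class of p-power size. Then G has a normal p-complement. -/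
theorem result {G : Type*} [Group G] [Finite G] (p : ℕ) [Fact p.Prime]
    (h : ∀ x : G, (orderOf x = p ∨ (p = 2 ∧ orderOf x = 4)) → ∃ a : ℕ, (Subgroup.centralizer ({x} : Set G)).index = p ^ a) :
    Cfsg.HasNormalPComplement p G := by
  have hp : p.Prime := Fact.out
  have h' : ∀ x : G, (x ^ p = 1 ∨ (p = 2 ∧ x ^ 4 = 1)) →
      ∃ a : ℕ, (centralizer ({x} : Set G)).index = p ^ a := by
    intro x hx
    by_cases h1 : x = 1
    · subst h1
      refine ⟨0, ?_⟩
      rw [pow_zero, index_eq_one, eq_top_iff]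
      intro y _
      rw [mem_centralizer_singleton_iff]; simp
    by_cases h2 : x ^ p = 1
    · exact h x (Or.inl (orderOf_eq_prime h2 h1))
    · rcases hx with hx | ⟨rfl, hx⟩
      · exact absurd hx h2
      · refine h x (Or.inr ⟨rfl, ?_⟩)
        exact orderOf_eq_prime_pow (p := 2) (n := 1) (by simpa using h2) (by simpa using hx)
  obtain ⟨P⟩ : Nonempty (Sylow p G) := inferInstance
  have hT := GT.isPGroup_pCore (G := G) p
  have := GT.pCore_characteristic (G := G) (p := p)
  obtain ⟨D₀, hc, hs, hfix⟩ := exists_small_char hT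
  have hcent : ∀ g : G, (orderOf g).Coprime p → ∀ t ∈ pCore p G, g * t * g⁻¹ = t := by
    intro g hg t ht
    have h1 := hfix (MulAut.conjNormal g) (hg.coprime_dvd_left (orderOf_map_dvd _ g))
      fun a ha => Subtype.ext (by
        rw [MulAut.conjNormal_apply, ← comm_of_normal _ G rfl (D₀.map (pCore p G).subtype)
          (hT.to_le (map_subtype_le _)) ?_ g hg a (mem_map_of_mem _ ha), mul_inv_cancel_right]
        rintro _ ⟨x, hx, rfl⟩
        refine h' _ ?_
        rcases hs x hx with h2 | ⟨h2, h3⟩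
        · exact Or.inl (congrArg Subtype.val h2)
        · exact Or.inr ⟨h2, congrArg Subtype.val h3⟩)
    have h2 := congrArg (fun φ : MulAut (pCore p G) => (φ ⟨t, ht⟩ : G)) h1
    simpa only [MulAut.conjNormal_apply, MulAut.one_apply] using h2
  refine Loc.hasNormalPComplement_of_small P fun D hDP hD g _ hg hcomm => ?_
  rw [← hcomm, commutator_eq_bot_iff_le_centralizer]
  intro x hx
  obtain ⟨a, ha⟩ := h' x (hD x hx)
  have hxT := mem_pCore P (hDP hx) ha
  have : zpowers g ≤ centralizer ({x} : Set G) := by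
    rw [zpowers_le, mem_centralizer_singleton_iff]
    exact mul_inv_eq_iff_eq_mul.1 (hcent g hg x hxT)
  intro y hy
  exact mem_centralizer_singleton_iff.1 (this hy)

end Cfsg.Agent.S4126
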