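import Mathlib
import Cfsg.Statements.S4037
import Cfsg.Agent.FG.H93Elt
import Cfsg.Agent.FG.H93Solv
import Cfsg.Agent.FG.ClassCount
import Cfsg.Agent.FG.SylowCount
import Cfsg.Agent.GT.CoprimeSylow
import Cfsg.Agent.GT.TransferEval
import Cfsg.Agent.Blk.PB
import Cfsg.Agent.Ch.Burnside
import Cfsg.Agent.Ch.Linear

set_option autoImplicit false
open Cfsg

namespace Cfsg.Agent.S4037

open Cfsg.Agent.FG Cfsg.Agent.GT

universe u

theorem eq_bot_of_solvable {G : Type*} [Group G] [Finite G]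
    (hR : ∀ R : Subgroup G, R.Normal → Group.IsSolvable R → R = ⊥) (M : Subgroup G) [M.Normal]
    {L : Subgroup G} (hLM : L ≤ M) (hML : M ≤ Subgroup.normalizer (L : Set G))
    (hL : Group.IsSolvable L) : L = ⊥ := by
  by_contra hne
  obtain ⟨q, hq, A, hAL, hMA, hA, -, hc⟩ := HT.exists_comm_pGroup_le_of_solvable L M hML hL hne
  have : Fact q.Prime := ⟨hq⟩
  have := hc.isNilpotent
  have : Group.IsNilpotent (fittingSubgroup G) := le_fitting_iff.mp le_rfl
  have h1 := (le_fittingOf (hAL.trans hLM) hMA).trans (fittingOf_le_fitting M)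
  rw [hR (fittingSubgroup G) inferInstance inferInstance] at h1
  exact hA (le_bot_iff.mp h1)

/-- The character-theoretic core of Kazarin's theorem. -/
theorem core {G : Type*} [Group G] [Finite G] {p r k : ℕ} (hp : p.Prime) (hr : r.Prime)
    (hpr : p ≠ r) {x y : G} (hx : CI.cidx x = p ^ k) (hx1 : x ∉ Subgroup.center G)
    (hK : ∀ K : Subgroup G, K.Normal → K ≠ ⊥ → commutator G ≤ K)
    (hi : (commutator G).index ∣ r) (hy : y ∈ commutator G) (hyr : r ∣ orderOf y) : False := by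
  classical
  have := Fintype.ofFinite G
  obtain ⟨M, hM⟩ := Blk.exists_isPModular hr
  have hlin : ∀ χ : IrrCharacter G, (χ : G → ℂ) 1 = 1 → χ ∈ principalBlock M G := by
    intro χ h1
    have h2 := (Blk.PB.mem_principal_iff_sum hM _).mp (Blk.PB.mem_pb.mp (Blk.PB.one_mem_pb (G := G) hM))
    rw [Blk.PB.mem_principal_iff_sum hM]
    convert h2 using 2 with g
    rw [Blk.pRegularPart_apply, Blk.pRegularPart_apply]
    split_ifs with hg
    · rfl
    have h3 : g ∈ commutator G := by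
      obtain ⟨c, hc⟩ := hi
      refine Tr.mem_of_pow_mem_of_coprime (n := r) ?_
        ((Nat.Prime.coprime_iff_not_dvd hr).mpr hg).symm
      rw [hc, pow_mul]
      exact Subgroup.pow_mem _ (Subgroup.pow_index_mem _ g) c
    rw [Ch.apply_eq_of_mem_charKer (χ.isCharacter.commutator_le_charKer_of_apply_one h1 h3), h1]
    rfl
  have h1 := Blk.weak_block_orthogonality hM (Blk.PB.coeff_mem (G := G) hM) (x := 1) (y := y)
    (by rw [orderOf_one]; exact hr.one_lt.ne' ∘ Nat.dvd_one.mp) hyr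
  rw [Blk.PB.finsum_pb, ← Finset.sum_filter_add_sum_filter_not _ (fun χ : IrrCharacter G => (χ : G → ℂ) 1 = 1)] at h1
  have h2 : ∑ χ ∈ (Blk.PB.pb M G).filter (fun χ : IrrCharacter G => (χ : G → ℂ) 1 = 1),
      (χ : G → ℂ) 1 * (χ : G → ℂ) y⁻¹ = (commutator G).index := by
    rw [Finset.sum_congr rfl (g := fun _ => (1 : ℂ)), Finset.sum_const, nsmul_one,
      ← Ch.card_linear_irr, Nat.card_eq_fintype_card, Fintype.card_subtype]
    · congr 2
      ext χ
      simp only [Finset.mem_filter, Finset.mem_univ, true_and, Blk.PB.mem_pb]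
      exact ⟨fun h => h.2, fun h => ⟨hlin χ h, h⟩⟩
    · intro χ hχ
      have h3 := (Finset.mem_filter.mp hχ).2
      rw [Ch.apply_eq_of_mem_charKer (χ.isCharacter.commutator_le_charKer_of_apply_one h3
        (Subgroup.inv_mem _ hy)), h3, one_mul]
  have h3 : ∀ χ : IrrCharacter G, ∃ ω : ℂ, IsIntegral ℤ ω ∧
      (χ ∈ (Blk.PB.pb M G).filter (fun χ : IrrCharacter G => ¬ (χ : G → ℂ) 1 = 1) →
        (χ : G → ℂ) 1 * (χ : G → ℂ) y⁻¹ = p * ω) := by
    intro χ
    by_cases hd : p ∣ charDegree (χ : G → ℂ)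
    · obtain ⟨c, hc⟩ := hd
      refine ⟨c * (χ : G → ℂ) y⁻¹, (Ch.integral_natCast c).mul (χ.isCharacter.isIntegral _),
        fun _ => ?_⟩
      rw [← χ.isCharacter.coe_charDegree, hc]
      push_cast
      ring
    refine ⟨0, isIntegral_zero, fun h => False.elim ?_⟩
    obtain ⟨h4, h5⟩ := Finset.mem_filter.mp h
    have h6 : Ch.charKer (χ : G → ℂ) = ⊥ := by
      by_contra hne
      exact h5 (χ.2.apply_one_eq_one_iff_commutator_le.mpr
        (hK _ χ.isCharacter.charKer_normal hne))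
    have h7 : (Subgroup.centralizer ({x} : Set G)).index = p ^ k := hx
    refine hx1 (χ.isCharacter.charCenter_le_center h6
      ((χ.2.eq_zero_or_mem_charCenter_of_coprime ?_).resolve_left
        (Blk.PB.apply_ne_zero hM (Blk.PB.mem_pb.mp h4) ?_)))
    · rw [h7]
      exact Nat.Coprime.pow_right _ ((Nat.Prime.coprime_iff_not_dvd hp).2 hd).symm
    · rw [h7]
      exact fun h8 => hpr ((Nat.prime_dvd_prime_iff_eq hr hp).mp (hr.dvd_of_dvd_pow h8)).symm
  choose ω hω1 hω2 using h3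
  rw [h2, Finset.sum_congr rfl fun χ hχ => hω2 χ hχ, ← Finset.mul_sum] at h1
  have h4 : p ∣ (commutator G).index := Ch.integral_nat_dvd_of_eq_mul
    (IsIntegral.sum _ fun χ _ => hω1 χ).neg (by linear_combination h1)
  exact hpr ((Nat.prime_dvd_prime_iff_eq hp hr).mp (h4.trans hi))

theorem final {G : Type*} [Group G] [Finite G] {p r k : ℕ} (hp : p.Prime) (hr : r.Prime)
    (hpr : p ≠ r) {x : G} (hk : CI.cidx x = p ^ k) (hxr : orderOf x = r)
    (hR : ∀ R : Subgroup G, R.Normal → Group.IsSolvable R → R = ⊥)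
    (hnot : ∀ K : Subgroup G, K.Normal → Group.IsSolvable K → x ∉ K)
    {N : Subgroup G} (hN : IsMinNormal N) (hsup : N ⊔ Subgroup.zpowers x = ⊤) : False := by
  have := hN.normal
  have : Fact p.Prime := ⟨hp⟩
  have : Fact r.Prime := ⟨hr⟩
  have hpow : ∀ {n k : ℕ}, n ∣ p ^ k → ∃ j, n = p ^ j := fun h =>
    let ⟨j, _, hj⟩ := (Nat.dvd_prime_pow hp).mp h; ⟨j, hj⟩
  have hdec : ∀ g : G, ∃ n ∈ N, ∃ h ∈ Subgroup.zpowers x, n * h = g := fun g =>
    HT.mem_sup_of_normal.mp (hsup ▸ Subgroup.mem_top g)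
  have hcN : commutator G ≤ N := by
    have : IsCyclic (G ⧸ N) := ⟨⟨(x : G ⧸ N), fun g => by
      obtain ⟨g, rfl⟩ := QuotientGroup.mk_surjective g
      obtain ⟨n, hn, _, ⟨j, rfl⟩, rfl⟩ := hdec g
      exact ⟨j, by simp [(QuotientGroup.eq_one_iff n).mpr hn]⟩⟩⟩
    exact Subgroup.Normal.quotient_commutative_iff_commutator_le.mp inferInstance
  have hK : ∀ K : Subgroup G, K.Normal → K ≠ ⊥ → N ≤ K := by
    intro K hKn hK1
    refine (hN.le_or_inf_eq_bot K).resolve_right fun h => hK1 (hR K hKn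
      (CopAct.isSolvable_of_isMulCommutative (H96.isMulCommutative_iff.mpr fun a ha b hb => ?_)))
    have h1 : a * b * a⁻¹ * b⁻¹ ∈ N ⊓ K :=
      ⟨hcN (Subgroup.commutator_mem_commutator (Subgroup.mem_top a) (Subgroup.mem_top b)),
        K.mul_mem (K.mul_mem (K.mul_mem ha hb) (K.inv_mem ha)) (K.inv_mem hb)⟩
    rw [h, Subgroup.mem_bot, mul_inv_eq_one, mul_inv_eq_iff_eq_mul] at h1
    exact h1
  have hNc : N = commutator G := le_antisymm (hK _ inferInstance fun h => by
    rw [commutator_eq_bot_iff_center_eq_top] at h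
    exact hnot (Subgroup.center G) inferInstance (CopAct.isSolvable_of_isMulCommutative inferInstance)
      (h ▸ Subgroup.mem_top x)) hcN
  have hcN' := hNc.le
  by_cases hrN : r ∣ Nat.card N
  · obtain ⟨y, hy⟩ := exists_prime_orderOf_dvd_card' (G := N) r hrN
    refine core (y := (y : G)) hp hr hpr hk (hnot _ inferInstance
      (CopAct.isSolvable_of_isMulCommutative inferInstance)) (fun K h1 h2 => hcN.trans (hK K h1 h2)) ?_ (hcN' y.2)
      (by rw [Subgroup.orderOf_coe, hy])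
    rw [← hNc, ← Subgroup.relIndex_top_right, ← hsup, Subgroup.relIndex_sup_left, ← hxr,
      ← Nat.card_zpowers]
    exact Subgroup.relIndex_dvd_card _ _
  · obtain ⟨P, hP⟩ := CopAct.exists_invariant_sylow (A := Subgroup.zpowers x) (K := N)
      Subgroup.le_normalizer_of_normal
      (by rw [Nat.card_zpowers, hxr]; exact (Nat.Prime.coprime_iff_not_dvd hr).mpr hrN)
      (Or.inl (CopAct.isSolvable_zpowers x)) p
    have h1 := CopAct.isSolvable_zpowers x
    have h2 := H93.isSolvable_of_isPGroup hp (P.isPGroup'.map N.subtype)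
    have h3 := isSolvable_sup_of_le_normalizer hP
    refine hnot (Subgroup.normalClosure {x}) inferInstance (HT.isSolvable_of_le ?_ h3)
      (Subgroup.subset_normalClosure rfl)
    refine (Subgroup.closure_le _).mpr fun z hz => ?_
    obtain ⟨a, ha, hz⟩ := Group.mem_conjugatesOfSet_iff.mp hz
    obtain ⟨g, rfl⟩ := isConj_iff.mp hz
    rw [Set.mem_singleton_iff.mp ha]
    obtain ⟨n, hn, h, hh, rfl⟩ := hdec g
    obtain ⟨j, hj⟩ := hpow (hk ▸ CI.relIndex_cent_dvd N x)
    obtain ⟨a, ha, b, hb, hab⟩ := CI.exists_mul_of_coprime_index (H := (P : Subgroup N))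
      (K := (Subgroup.centralizer {x}).subgroupOf N) (by
        rw [← Subgroup.relIndex, hj]
        exact ((Nat.Prime.coprime_iff_not_dvd hp).mpr P.not_dvd_index).symm.pow_right j) ⟨n, hn⟩
    have h4 : n = a * b := congrArg Subtype.val hab
    have h5 : (b : G) * h * x * ((b : G) * h)⁻¹ = x := CI.mem_cent'.mp (Subgroup.mul_mem _ hb
      (Subgroup.zpowers_le.mpr (CI.self_mem_cent x) hh))
    have h6 : n * h * x * (n * h)⁻¹ = a * x * (a : G)⁻¹ := by
      conv_rhs => rw [← h5]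
      rw [h4]; group
    have h7 : (a : G) ∈ Subgroup.zpowers x ⊔ (P : Subgroup N).map N.subtype :=
      Subgroup.mem_sup_right ⟨a, ha, rfl⟩
    rw [h6]
    exact Subgroup.mul_mem _ (Subgroup.mul_mem _ h7 (Subgroup.mem_sup_left (Subgroup.mem_zpowers x)))
      (Subgroup.inv_mem _ h7)

theorem aux {p : ℕ} (hp : p.Prime) (G : Type u) [Group G] [Finite G] : ∀ x : G,
    (∃ k, CI.cidx x = p ^ k) → ∃ K : Subgroup G, K.Normal ∧ Group.IsSolvable K ∧ x ∈ K := by
  refine subgroup_quotient_induction (P := fun G _ _ => ∀ x : G, (∃ k, CI.cidx x = p ^ k) →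
    ∃ K : Subgroup G, K.Normal ∧ Group.IsSolvable K ∧ x ∈ K) ?_ G
  intro G _ _ ihs ihq x₀ ⟨k₀, hk₀⟩
  have : Fact p.Prime := ⟨hp⟩
  have hpow : ∀ {n k : ℕ}, n ∣ p ^ k → ∃ j, n = p ^ j := fun h =>
    let ⟨j, _, hj⟩ := (Nat.dvd_prime_pow hp).mp h; ⟨j, hj⟩
  by_cases hR : ∀ R : Subgroup G, R.Normal → Group.IsSolvable R → R = ⊥
  swap
  · push Not at hR
    obtain ⟨R, hRn, hRs, hR1⟩ := hR
    obtain ⟨K, hKn, hKs, hxK⟩ := ihq R hR1 x₀ (hpow ((CI.cidx_mk_dvd R x₀).trans hk₀.dvd))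
    exact ⟨K.comap (QuotientGroup.mk' R), inferInstance, isSolvable_comap_mk' K, hxK⟩
  refine ⟨⊥, inferInstance, inferInstance, ?_⟩
  by_contra hx₀
  obtain ⟨r, hr, hrd⟩ := Nat.exists_prime_and_dvd (fun h1 => hx₀ (orderOf_eq_one_iff.mp h1))
  have : Fact r.Prime := ⟨hr⟩
  obtain ⟨x, hxr, k, hk⟩ : ∃ x : G, orderOf x = r ∧ ∃ k, CI.cidx x = p ^ k :=
    ⟨_, orderOf_pow_orderOf_div (orderOf_pos x₀).ne' hrd, hpow ((CI.cidx_pow_dvd x₀ _).trans hk₀.dvd)⟩
  have hx1 : x ≠ 1 := fun h => hr.one_lt.ne' (by rw [← hxr, h, orderOf_one])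
  have hnot : ∀ K : Subgroup G, K.Normal → Group.IsSolvable K → x ∉ K := fun K h1 h2 h3 =>
    hx1 (Subgroup.mem_bot.mp ((hR K h1 h2).le h3))
  have hpr : p ≠ r := by
    rintro rfl
    exact hnot _ inferInstance (H93.isSolvable_of_isPGroup hp (isPGroup_pCore p))
      (CI.mem_pCore_of_cidx_pow ⟨1, by rw [hxr, pow_one]⟩ ⟨k, hk⟩)
  have htop : ∀ M : Subgroup G, M.Normal → x ∈ M → M = ⊤ := by
    intro M hM hxM
    by_contra hne
    obtain ⟨K, hKn, hKs, hxK⟩ := ihs M hne ⟨x, hxM⟩ 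
      (hpow ((CI.cidx_coe_dvd M ⟨x, hxM⟩).trans hk.dvd))
    have h1 := eq_bot_of_solvable hR M (Subgroup.map_subtype_le K)
      (CopAct.le_normalizer_map_subtype_of_normal K) (HT.isSolvable_map _ hKs)
    exact hx1 (Subgroup.mem_bot.mp (h1.le ⟨_, hxK, rfl⟩))
  have : Nontrivial G := ⟨x, 1, hx1⟩
  obtain ⟨N, hN⟩ := exists_isMinNormal G
  have := hN.normal
  have hsup : N ⊔ Subgroup.zpowers x = ⊤ := by
    by_contra hne
    have hxH : x ∈ N ⊔ Subgroup.zpowers x := Subgroup.mem_sup_right (Subgroup.mem_zpowers x)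
    obtain ⟨K, hKn, hKs, hxK⟩ := ihs _ hne ⟨x, hxH⟩ (hpow (k := k) (by
      rw [CI.cidx_mk, H96.relIndex_eq_of_mul (L := N) le_sup_left, ← hk]
      · exact CI.relIndex_cent_dvd N x
      intro m hm
      obtain ⟨n, hn, h, hh, rfl⟩ := HT.mem_sup_of_normal.mp hm
      refine ⟨n, hn, ?_⟩
      rw [inv_mul_cancel_left]
      exact Subgroup.zpowers_le.mpr (CI.self_mem_cent x) hh))
    have h0 := CopAct.le_normalizer_map_subtype_of_normal K
    have h1 := eq_bot_of_solvable hR N (L := K.map (Subgroup.subtype _) ⊓ N) inf_le_right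
      (CopAct.le_normalizer_inf (le_sup_left.trans h0) Subgroup.le_normalizer)
      (HT.isSolvable_of_le inf_le_left (HT.isSolvable_map _ hKs))
    have h2 : x ∈ Subgroup.centralizer (N : Set G) := by
      rw [Subgroup.mem_centralizer_iff]
      intro n hn
      have hxK' : x ∈ K.map (Subgroup.subtype _) := ⟨_, hxK, rfl⟩
      have h3 : n * x * n⁻¹ * x⁻¹ ∈ K.map (Subgroup.subtype _) ⊓ N :=
        ⟨Subgroup.mul_mem _ (CopAct.conj_mem (le_sup_left.trans h0) hn hxK')
          (Subgroup.inv_mem _ hxK'), by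
          rw [mul_assoc, mul_assoc, ← mul_assoc x]
          exact N.mul_mem hn (this.conj_mem _ (N.inv_mem hn) x)⟩
      rw [h1, Subgroup.mem_bot, mul_inv_eq_one, mul_inv_eq_iff_eq_mul] at h3
      exact h3
    have h3 := htop _ inferInstance h2
    refine hN.ne_bot (hR N this (CopAct.isSolvable_of_isMulCommutative
      (H96.isMulCommutative_iff.mpr fun a ha b _ => ?_)))
    exact Subgroup.mem_centralizer_iff.mp (h3.ge (Subgroup.mem_top b)) a ha
  exact final hp hr hpr hk hxr hR hnot hN hsup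

/-- If an element x of a finite group G has a conjugacy class of prime-power size, then the normal closure of x in G (the subgroup generated by the conjugacy class of x) is solvable. -/
theorem result {G : Type*} [Group G] [Finite G]
    (x : G) {p : ℕ} (hp : p.Prime) (k : ℕ) (hx : (ConjClasses.mk x).carrier.ncard = p ^ k) :
    Group.IsSolvable ↥(Subgroup.normalClosure ({x} : Set G)) := by
  obtain ⟨K, hK, hs, hxK⟩ := aux hp G x ⟨k, (ncard_carrier_mk x).symm.trans hx⟩
  exact HT.isSolvable_of_le (Subgroup.normalClosure_le_normal (Set.singleton_subset_iff.mpr hxK)) hs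

end Cfsg.Agent.S4037
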