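import Mathlib
import Cfsg.Statements.S3865
import Cfsg.Agent.FG.MaxClassUnif
import Cfsg.Agent.FG.H92Basic
import Cfsg.Agent.FG.TwoMax
import Cfsg.Agent.Inv.FzBasic
import Cfsg.Agent.GT.TransferFrobenius
import Cfsg.Agent.GT.PPrimeCore

set_option autoImplicit false
open Cfsg

namespace Cfsg.Agent.S3865

section aux

open Subgroup Cfsg.Agent.GT Cfsg.Agent.FG Cfsg.Agent.FG.H92 Cfsg.Agent.FG.MxC Cfsg.Agent.Loc.H78.Lie Cfsg.Agent.Inv.Fz
open scoped commutatorElement

section PGrp

variable {S : Type*} [Group S] {p : ℕ} [hp : Fact p.Prime] [Finite S] {n : ℕ}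
  (hn : Nat.card S = p ^ (n + 3)) (hc : Group.nilpotencyClass S = n + 2)
include hn hc

theorem γ_bot : γ S (n + 2) = ⊥ := by
  haveI := (IsPGroup.of_card hn).isNilpotent
  rw [← hc]
  exact Subgroup.lowerCentralSeries_nilpotencyClass

theorem card_γ {i : ℕ} (h1 : 1 ≤ i) (hi : i ≤ n + 2) : Nat.card (γ S i) = p ^ (n + 2 - i) := by
  obtain ⟨i, rfl⟩ : ∃ j, i = j + 1 := ⟨i - 1, by omega⟩
  rw [PG.card_lowerCentralSeries_of_maxClass hn hc (by omega)]
  congr 1
  omega

theorem commute_γ {x y : S} (hx : x ∈ γ S n) (hy : y ∈ γ S 1) : Commute x y := by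
  have h := comm_mem_γ hx hy
  rw [γ_bot hn hc] at h
  exact commutatorElement_eq_one_iff_commute.mp (mem_bot.mp h)

theorem not_mem_γ_one {x : S} (hx : Nat.card (centralizer ({x} : Set S)) ≤ p ^ 2) :
    x ∉ γ S 1 := fun h => by
  have hp1 := hp.out.one_lt
  have h1 : γ S n ≤ centralizer {x} := fun y hy =>
    mem_centralizer_singleton_iff.mpr (commute_γ hn hc hy h)
  rcases Nat.eq_zero_or_pos n with rfl | hn0
  · have h2 := (card_le_of_le h1).trans hx
    rw [show γ S 0 = ⊤ from rfl, card_top, hn] at h2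
    exact absurd ((Nat.pow_le_pow_iff_right hp1).mp h2) (by omega)
  have h2 : γ S n = centralizer {x} := eq_of_le_of_card_ge h1 (by
    rw [card_γ hn hc hn0 (by omega), show n + 2 - n = 2 by omega]; exact hx)
  have h3 : C S n ≤ centralizer {x} := fun g hg => by
    have h4 := hg x (h2 ▸ mem_centralizer_singleton_iff.mpr rfl)
    rw [γ_bot hn hc] at h4
    exact mem_centralizer_singleton_iff.mpr
      (commutatorElement_eq_one_iff_mul_comm.mp (mem_bot.mp h4)).symm
  have h4 := (C S n).card_mul_index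
  rw [index_C hn hc hn0 le_rfl, hn] at h4
  have h5 : Nat.card (C S n) = p ^ (n + 2) :=
    Nat.eq_of_mul_eq_mul_right hp.out.pos (by rw [h4]; ring)
  have h6 := (card_le_of_le h3).trans hx
  rw [h5] at h6
  exact absurd ((Nat.pow_le_pow_iff_right hp1).mp h6) (by omega)

theorem not_mem_C {x : S} (hx : Nat.card (centralizer ({x} : Set S)) ≤ p ^ 2) {i : ℕ}
    (h1 : 1 ≤ i) (hi : i ≤ n) : x ∉ C S i := fun h => by
  let π := QuotientGroup.mk' (γ S (i + 2))
  have hle : γ S (i + 2) ≤ γ S i := S3806.anti (by omega)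
  have hcm : ((γ S i).map π).comap π = γ S i := by
    rw [comap_map_eq, QuotientGroup.ker_mk', sup_eq_left.mpr hle]
  have h2 := PG.card_comap_mk' (γ S (i + 2)) ((γ S i).map π)
  rw [hcm, card_γ hn hc h1 (by omega), card_γ hn hc (by omega) (by omega),
    show n + 2 - i = 2 + (n + 2 - (i + 2)) by omega, pow_add] at h2
  have h3 := Nat.eq_of_mul_eq_mul_right (pow_pos hp.out.pos _) h2
  have h4 : (γ S i).map π ≤ centralizer {π x} := by
    rintro _ ⟨y, hy, rfl⟩
    rw [mem_centralizer_singleton_iff, ← commutatorElement_eq_one_iff_mul_comm,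
      ← map_commutatorElement]
    exact (QuotientGroup.eq_one_iff _).mpr (h y hy)
  have h5 : (γ S i).map π = centralizer {π x} := eq_of_le_of_card_ge h4 (by
    rw [← h3]; exact (PG.card_centralizer_mk_le _ x).trans hx)
  have h6 : x ∈ ((γ S i).map π).comap π := by
    rw [mem_comap, h5]
    exact mem_centralizer_singleton_iff.mpr rfl
  rw [hcm] at h6
  exact not_mem_γ_one hn hc hx (S3806.anti h1 h6)

theorem center_le (N : Subgroup S) [N.Normal] (hN : N ≠ ⊥) : center S ≤ N := by
  obtain ⟨z, hz, hzc, hz1, -⟩ := PG.exists_mem_center_of_normal (IsPGroup.of_card hn) N hN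
  have h1 : zpowers z = center S := by
    refine eq_of_le_of_card_ge (zpowers_le.mpr hzc) ?_
    have h2 := card_dvd_of_le (zpowers_le.mpr hzc)
    rw [PG.card_center_of_maxClass hn hc] at h2 ⊢
    rcases (Nat.dvd_prime hp.out).mp h2 with h | h
    · exact absurd (zpowers_eq_bot.mp (card_eq_one.mp h)) hz1
    · exact h.ge
  rw [← h1]
  exact zpowers_le.mpr hz

theorem γ_le (N : Subgroup S) [N.Normal] (hN : N ≠ ⊥) (hN' : Nat.card N ≠ p) (hn0 : 1 ≤ n) :
    γ S n ≤ N := by
  have hS : IsPGroup p S := IsPGroup.of_card hn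
  obtain ⟨k, hk⟩ := IsPGroup.iff_card.mp (hS.to_subgroup N)
  have hk2 : 2 ≤ k := by
    rcases (by omega : k = 0 ∨ k = 1 ∨ 2 ≤ k) with rfl | rfl | h
    · exact absurd (card_eq_one.mp hk) hN
    · exact absurd (by simpa using hk) hN'
    · exact h
  have h1 := N.card_mul_index
  obtain ⟨r, hr⟩ := hS.index N
  rw [hk, hr, hn, ← pow_add] at h1
  have h2 := Nat.pow_right_injective hp.out.two_le h1
  rcases (by omega : r = 0 ∨ r = 1 ∨ 2 ≤ r) with rfl | rfl | h
  · rw [index_eq_one.mp hr]; exact le_top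
  · exact (S3806.anti hn0).trans ((PG.frattini_eq_commutator_of_maxClass hn hc).ge.trans
      (frattini_le_coatom (PG.isCoatom_of_index_prime hp.out (by simpa using hr))))
  · obtain ⟨r, rfl⟩ : ∃ j, r = j + 2 := ⟨r - 2, by omega⟩
    rw [PG.eq_lowerCentralSeries_of_maxClass hn hc N hr]
    exact S3806.anti (by omega)

/-- local step: a uniform element is not moved onto a non-uniform one outside `N` -/
theorem local_step (N : Subgroup S) [N.Normal] (hN : N ≠ ⊥) (hN' : Nat.card N ≠ p)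
    {E : Subgroup S} (hE : E ≠ ⊤) {x y : S} (hxE : x ∈ E) (hyE : y ∈ E) (hyN : y ∉ N)
    (hx : Nat.card (centralizer ({x} : Set S)) ≤ p ^ 2)
    (hy : Nat.card ↥(E ⊓ centralizer ({y} : Set S)) ≤ p ^ 2) :
    Nat.card (centralizer ({y} : Set S)) ≤ p ^ 2 := by
  have hxC := fun i => not_mem_C hn hc hx (i := i)
  by_cases hy1 : y ∈ γ S 1
  swap
  · refine (card_centralizer_eq hn hc hy1 fun i h1 hi hyC => hE ?_).le
    refine frattini_nongenerating ((eq_top_iff' _).mpr fun g => ?_)
    obtain ⟨k, l, e⟩ := exists_ι_zero_eq hn hc (index_C hn hc h1 hi) (hxC i h1 hi) hyC hy1 g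
    have h2 : (x ^ k * y ^ l)⁻¹ * g ∈ γ S 1 := by
      rw [← ι_eq_zero_iff (i := 0) (mem_top _), ι_mul (mem_top _) (mem_top _), ι_inv (mem_top _),
        ι_mul (mem_top _) (mem_top _), ι_zpow (mem_top _), ι_zpow (mem_top _), e, neg_add_cancel]
    rw [PG.frattini_eq_commutator_of_maxClass hn hc, ← mul_inv_cancel_left (x ^ k * y ^ l) g]
    exact mul_mem (mem_sup_left (mul_mem (zpow_mem hxE k) (zpow_mem hyE l))) (mem_sup_right h2)
  exfalso
  have hZ := γ_last_eq_center hn hc
  have hyZ : y ∉ γ S (n + 1) := fun h => hyN (center_le hn hc N hN (hZ ▸ h))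
  have hn0 : 1 ≤ n := by
    rcases Nat.eq_zero_or_pos n with rfl | h
    · exact absurd hy1 hyZ
    · exact h
  have step : ∀ i, 1 ≤ i → i ≤ n → ∀ a ∈ γ S i, a ∉ γ S (i + 1) → ⁅a, x⁆ ∉ γ S (i + 2) :=
    fun i h1 hi a ha ha' h => hxC i h1 hi (mem_C_of hn hc h1 (by omega) ha ha' (by
      rw [lie_ι_zero ha]; exact ι_eq_zero h))
  have comm : ∀ a ∈ E, ⁅a, x⁆ ∈ E := fun a ha => by
    rw [commutatorElement_def]
    exact mul_mem (mul_mem (mul_mem ha hxE) (inv_mem ha)) (inv_mem hxE)
  have up : ∀ d i, i + d = n + 1 → 1 ≤ i → (∃ a ∈ E, a ∈ γ S i ∧ a ∉ γ S (i + 1)) →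
      γ S i ≤ E := by
    intro d
    induction d with
    | zero =>
      rintro i hi h1 ⟨a, haE, ha, ha'⟩
      obtain rfl : i = n + 1 := by omega
      rw [← S3806.eq_sup_of_card (γ_succ_le _) (S3806.card_lcs_succ hn hc le_rfl) ha ha'
        ((IsPGroup.of_card hn).to_subgroup _), show γ S (n + 1 + 1) = ⊥ from γ_bot hn hc]
      exact sup_le bot_le (zpowers_le.mpr haE)
    | succ d ih =>
      rintro i hi h1 ⟨a, haE, ha, ha'⟩
      obtain ⟨i, rfl⟩ : ∃ j, i = j + 1 := ⟨i - 1, by omega⟩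
      rw [← S3806.eq_sup_of_card (γ_succ_le _) (S3806.card_lcs_succ hn hc (by omega)) ha ha'
        ((IsPGroup.of_card hn).to_subgroup _)]
      exact sup_le (ih (i + 1 + 1) (by omega) (by omega) ⟨_, comm a haE, comm_mem_γ_succ ha x,
        step _ h1 (by omega) a ha ha'⟩) (zpowers_le.mpr haE)
  obtain ⟨i, h1, hi, hyi, hyi'⟩ : ∃ i, 1 ≤ i ∧ i ≤ n ∧ y ∈ γ S i ∧ y ∉ γ S (i + 1) := by
    by_contra hcon
    push Not at hcon
    have key : ∀ i, i ≤ n → y ∈ γ S (i + 1) := by
      intro i hi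
      induction i with
      | zero => exact hy1
      | succ i ih => exact hcon _ (by omega) hi (ih (by omega))
    exact hyZ (key n le_rfl)
  have h2 : γ S n ≤ E ⊓ centralizer {y} :=
    le_inf ((S3806.anti hi).trans (up (n + 1 - i) i (by omega) h1 ⟨y, hyE, hyi, hyi'⟩))
      fun z hz => mem_centralizer_singleton_iff.mpr (commute_γ hn hc hz hy1)
  have h3 : γ S n = E ⊓ centralizer {y} := eq_of_le_of_card_ge h2 (by
    rw [card_γ hn hc hn0 (by omega), show n + 2 - n = 2 by omega]; exact hy)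
  exact hyN (γ_le hn hc N hN hN' hn0 (h3 ▸ ⟨hyE, mem_centralizer_singleton_iff.mpr rfl⟩))

end PGrp

variable {G : Type*} [Group G] [Finite G] {p : ℕ} [hp : Fact p.Prime]

omit [Finite G] in
theorem card_inf_centralizer {P E : Subgroup G} (hE : E ≤ P) {x : G} (hx : x ∈ P) :
    Nat.card ↥(E.subgroupOf P ⊓ centralizer ({(⟨x, hx⟩ : P)} : Set P)) =
      Nat.card ↥(E ⊓ centralizer ({x} : Set G)) := by
  rw [← Nat.card_congr (subgroupOfEquivOfLe (inf_le_left.trans hE :
    E ⊓ centralizer ({x} : Set G) ≤ P)).toEquiv]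
  congr 3
  ext y
  simp only [mem_inf, mem_subgroupOf, mem_centralizer_singleton_iff, Subtype.ext_iff, coe_mul]

omit [Finite G] in
theorem card_centralizer_sub {P : Subgroup G} {x : G} (hx : x ∈ P) :
    Nat.card ↥(centralizer ({(⟨x, hx⟩ : P)} : Set P)) =
      Nat.card ↥(P ⊓ centralizer ({x} : Set G)) := by
  rw [← card_inf_centralizer le_rfl hx, subgroupOf_self, top_inf_eq]

theorem exists_of_normal (P : Sylow p G) {n : ℕ} (hn : Nat.card (P : Subgroup G) = p ^ (n + 3))
    (hc : Group.nilpotencyClass (P : Subgroup G) = n + 2) (N : Subgroup G) [hNn : N.Normal]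
    (hN : N.subgroupOf P ≠ ⊥) (hN' : Nat.card (N.subgroupOf (P : Subgroup G)) ≠ p)
    (hPN : ¬ (P : Subgroup G) ≤ N) :
    ∃ x ∈ (P : Subgroup G), (Nat.card (centralizer ({x} : Set G))).factorization p = 2 := by
  let U : G → Prop := fun x => x ∉ N ∧ Nat.card ↥((P : Subgroup G) ⊓ centralizer {x}) ≤ p ^ 2
  have hcj : ∀ (E : Subgroup G) (g x : G), g ∈ normalizer (E : Set G) →
      Nat.card ↥(E ⊓ centralizer {g * x * g⁻¹}) = Nat.card ↥(E ⊓ centralizer {x}) := by
    intro E g x hg
    rw [← card_cj g (E ⊓ centralizer {x}), cj_inf, cj_centralizer_singleton, cj_eq_iff.mpr hg]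
  have hNc : ∀ g x, x ∉ N → g * x * g⁻¹ ∉ N := fun g x hx h =>
    hx (by simpa [mul_assoc] using hNn.conj_mem _ h g⁻¹)
  have loc : ∀ E : Subgroup G, E ≤ P → ∀ g ∈ normalizer (E : Set G), ∀ x ∈ E, U x →
      U (g * x * g⁻¹) := by
    intro E hE g hg x hx ⟨hxN, hxU⟩
    refine ⟨hNc g x hxN, ?_⟩
    have hy : g * x * g⁻¹ ∈ E := (mem_normalizer_iff.mp hg x).mp hx
    by_cases hEP : E = P
    · rw [← hEP] at hxU ⊢
      rwa [hcj E g x hg]
    rw [← card_centralizer_sub (hE hy)]
    refine local_step hn hc (N.subgroupOf P) hN hN' (E := E.subgroupOf P)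
      (fun h => hEP (le_antisymm hE (subgroupOf_eq_top.mp h))) (x := ⟨x, hE hx⟩) hx hy
      (hNc g x hxN) (by rwa [card_centralizer_sub]) ?_
    rw [card_inf_centralizer hE, hcj E g x hg]
    exact (card_le_of_le (inf_le_inf_right _ hE)).trans hxU
  have loc' : ∀ E : Subgroup G, E ≤ P → ∀ g ∈ normalizer (E : Set G), ∀ x ∈ E,
      (U x ↔ U (g * x * g⁻¹)) := fun E hE g hg x hx => ⟨loc E hE g hg x hx, fun h => by
    simpa [mul_assoc] using loc E hE g⁻¹ (inv_mem hg) _ ((mem_normalizer_iff.mp hg x).mp hx) h⟩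
  obtain ⟨x, hxN, hx1, hxC⟩ := exists_uniform hn hc (M := N.subgroupOf P)
    fun h => hPN (subgroupOf_eq_top.mp h)
  have hx := card_centralizer_eq hn hc hx1 hxC
  rw [show x = ⟨x, x.2⟩ from rfl, card_centralizer_sub] at hx
  refine ⟨x, x.2, ?_⟩
  obtain ⟨D, hD, hle⟩ := exists_isSylIn (H := centralizer {(x : G)})
    (P.isPGroup'.to_le (inf_le_left : (P : Subgroup G) ⊓ centralizer {(x : G)} ≤ P)) inf_le_right
  obtain ⟨g, hg⟩ := exists_cj_le_sylow P hD.isPGroup
  have hxD : (x : G) ∈ D := hle ⟨x.2, mem_centralizer_singleton_iff.mpr rfl⟩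
  have h1 := (alperin_rel P (fun a b => U a ↔ U b) ⟨fun _ => Iff.rfl, Iff.symm, Iff.trans⟩
    (fun s hs y hy => loc' P le_rfl s (le_normalizer hs) y hy)
    (fun E hE _ _ _ => loc' E hE) x.2 (hg (conj_mem_cj.mpr hxD))).mp ⟨hxN, hx.le⟩
  have h2 : Nat.card D = p ^ 2 := by
    refine le_antisymm ?_ (hx ▸ card_le_of_le hle)
    rw [← card_cj g D]
    refine (card_le_of_le (le_inf hg ?_)).trans h1.2
    rw [← cj_centralizer_singleton]
    exact cj_mono hD.le
  have h3 := hD.toSylow.card_eq_multiplicity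
  rw [hD.coe_toSylow, Nat.card_congr (subgroupOfEquivOfLe hD.le).toEquiv, h2] at h3
  exact (Nat.pow_right_injective hp.out.two_le h3).symm

theorem eq_of_card (P : Sylow p G) (hcore : pPrimeCore p G = ⊥) {Z : Subgroup G}
    (hZc : (P : Subgroup G) ≤ centralizer (Z : Set G)) (hZ : Z ≤ ⁅(P : Subgroup G), (P : Subgroup G)⁆)
    (N : Subgroup G) [hNn : N.Normal] (hN : (P : Subgroup G) ⊓ N = Z) : N = Z := by
  have hZN : Z ≤ N := hN ▸ inf_le_right
  have hZP : Z ≤ P := hN ▸ inf_le_left
  have hS : IsSylIn p Z N := hN ▸ isSylIn_inf_normal P N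
  have key : ∀ u ∈ N, u ∈ normalizer (Z : Set G) → u ∈ centralizer (Z : Set G) := by
    intro u huN hu
    have h1 : IsSylIn p P (((P : Subgroup G) ⊔ N) ⊓ centralizer (Z : Set G)) :=
      isSylIn_sylow P (le_inf le_sup_left hZc)
    obtain ⟨k, hk, hku⟩ := h1.frattini (g := u) (by
      rw [← cj_eq_iff, cj_inf, cj_eq_of_mem (mem_sup_right huN), cj_centralizer,
        cj_eq_iff.mpr hu])
    obtain ⟨a, ha, b, hb, e⟩ := (mem_sup_iff_of_le_normalizer le_normalizer_of_normal).mp
      (mul_mem hk.1 (mem_sup_right huN))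
    have hbP : b ∈ normalizer ((P : Subgroup G) : Set G) := by
      rw [e] at hku
      exact (mul_mem_cancel_left (le_normalizer ha)).mp hku
    have hb1 : ∀ g ∈ (P : Subgroup G), ∃ z ∈ Z, b * g * b⁻¹ = z * g := fun g hg => by
      refine ⟨b * g * b⁻¹ * g⁻¹, ?_, by group⟩
      rw [← hN, mem_inf]
      refine ⟨mul_mem ((mem_normalizer_iff.mp hbP g).mp hg) (inv_mem hg), ?_⟩
      rw [mul_assoc, mul_assoc, ← mul_assoc g]
      exact mul_mem hb (hNn.conj_mem _ (inv_mem hb) g)
    have hbc : ⁅(P : Subgroup G), (P : Subgroup G)⁆ ≤ centralizer {b} := by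
      rw [commutator_le]
      intro g hg h hh
      obtain ⟨z, hz, ez⟩ := hb1 g hg
      obtain ⟨w, hw, ew⟩ := hb1 h hh
      rw [mem_centralizer_singleton_iff, eq_comm, ← mul_inv_eq_iff_eq_mul]
      have e1 : b * ⁅g, h⁆ * b⁻¹ = ⁅z * g, w * h⁆ := by
        rw [← ez, ← ew]; simp only [commutatorElement_def]; group
      have c1 : Commute z g := hZc hg z hz
      have c2 : Commute z h := hZc hh z hz
      have c3 : Commute w g := hZc hg w hw
      have c4 : Commute w h := hZc hh w hw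
      have c5 : Commute z w := hZc (hZP hw) z hz
      have e2 : ⁅z * g, w * h⁆ = ⁅g, h⁆ := by
        simp only [commutatorElement_def, mul_inv_rev]
        calc z * g * (w * h) * (g⁻¹ * z⁻¹) * (h⁻¹ * w⁻¹)
            = z * (g * w) * h * g⁻¹ * (z⁻¹ * h⁻¹) * w⁻¹ := by group
          _ = (z * w) * (g * h * g⁻¹ * h⁻¹) * (w * z)⁻¹ := by
            rw [← c3.eq, c2.inv_inv.eq]; group
          _ = g * h * g⁻¹ * h⁻¹ := by
            rw [← c5.eq, ((((c1.mul_left c3).mul_right (c2.mul_left c4)).mul_right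
              (c1.mul_left c3).inv_right).mul_right (c2.mul_left c4).inv_right).eq]
            group
      rw [e1, e2]
    have hbZ : b ∈ centralizer (Z : Set G) := fun z hz =>
      mem_centralizer_singleton_iff.mp (hbc (hZ hz))
    have : u = k⁻¹ * (a * b) := by rw [← e]; group
    rw [this]
    exact mul_mem (inv_mem hk.2) (mul_mem (hZc ha) hbZ)
  have h1 : HasNormalPComplement p N := by
    refine Tr.hasNormalPComplement_of_normalizer_le_centralizer hS.toSylow fun u hu y hy => ?_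
    refine Subtype.ext (key u u.2 (mem_normalizer_of_conj_mem fun z hz => ?_) y hy)
    exact (mem_normalizer_iff.mp hu ⟨z, hZN hz⟩).mp hz
  have h2 : IsPGroup p N := by
    rw [← pResidual_eq_bot_iff, ← h1.pPrimeCore_eq_pResidual, ← pPrimeCoreOf_eq_bot_iff,
      eq_bot_iff, ← hcore]
    exact pPrimeCoreOf_le_pPrimeCore N
  exact hS.eq_of_le h2 le_rfl hZN

end aux

open Subgroup Cfsg.Agent.GT Cfsg.Agent.FG Cfsg.Agent.FG.H92 Cfsg.Agent.FG.MxC Cfsg.Agent.Loc.H78.Lie Cfsg.Agent.Inv.Fz in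
open scoped commutatorElement in
/-- Let G be a finite group whose Sylow p-subgroup P has order p ^ n with n ≥ 2 and nilpotency class n - 1 (maximal class), whose largest normal subgroup of order prime to p is trivial, and which has no proper normal subgroup of index prime to p. Then either some x ∈ P has a centralizer in G whose order has p-part p ^ 2, or G is quasisimple with centre of order at most p. -/
theorem result {G : Type*} [Group G] [Finite G] (p : ℕ) [Fact p.Prime] (P : Sylow p G) (n : ℕ) (hP : Nat.card P = p ^ n) (hn : 2 ≤ n) (hmax : Group.nilpotencyClass ↥(P : Subgroup G) = n - 1) (hcore : Cfsg.pPrimeCore p G = ⊥) (hres : ∀ N : Subgroup G, N.Normal → (N.index).Coprime p → N = ⊤) : (∃ x ∈ (P : Subgroup G), (Nat.card (Subgroup.centralizer ({x} : Set G))).factorization p = 2) ∨ (Cfsg.IsQuasisimple G ∧ Nat.card (Subgroup.center G) ≤ p) := by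
  have hp := (Fact.out : p.Prime)
  change Nat.card (P : Subgroup G) = p ^ n at hP
  rcases hn.eq_or_lt with rfl | hn3
  · refine Or.inl ⟨1, one_mem _, ?_⟩
    have h1 : centralizer ({1} : Set G) = ⊤ := by
      rw [eq_top_iff']
      simp [mem_centralizer_singleton_iff]
    rw [h1, card_top]
    exact (Nat.pow_right_injective hp.two_le (hP.symm.trans P.card_eq_multiplicity)).symm
  obtain ⟨m, rfl⟩ : ∃ m, n = m + 3 := ⟨n - 3, by omega⟩
  replace hmax : Group.nilpotencyClass (P : Subgroup G) = m + 2 := hmax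
  refine or_iff_not_imp_left.mpr fun hno => ?_
  let Z : Subgroup G := (center (P : Subgroup G)).map (P : Subgroup G).subtype
  have hZcard : Nat.card Z = p := by
    rw [card_map_of_injective (subtype_injective _), PG.card_center_of_maxClass hP hmax]
  have hZc : (P : Subgroup G) ≤ centralizer (Z : Set G) := by
    rintro g hg _ ⟨z, hz, rfl⟩
    exact (congrArg Subtype.val (mem_center_iff.mp hz ⟨g, hg⟩)).symm
  have hZ' : Z ≤ ⁅(P : Subgroup G), (P : Subgroup G)⁆ := by
    rw [← map_subtype_commutator]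
    exact map_mono (γ_last_eq_center hP hmax ▸ S3806.anti (show 1 ≤ m + 1 by omega))
  have hidx : ∀ N : Subgroup G, (P : Subgroup G) ≤ N → N.index.Coprime p := fun N h =>
    ((Nat.Prime.coprime_iff_not_dvd hp).mpr fun h' =>
      P.not_dvd_index (h'.trans (index_dvd_of_le h))).symm
  have main : ∀ N : Subgroup G, N.Normal → N ≠ ⊥ → N ≠ ⊤ → N = Z := by
    intro N _ h1 h2
    have h3 : N.subgroupOf P ≠ ⊥ := fun h => by
      have h4 := (isSylIn_inf_normal P N).not_dvd_relIndex
      rw [inf_comm, subgroupOf_eq_bot.mp h |>.eq_bot, relIndex_bot_left] at h4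
      exact h1 (eq_bot_iff.mpr (hcore ▸ le_pPrimeCore
        ((Nat.Prime.coprime_iff_not_dvd hp).mpr h4).symm))
    have h4 : Nat.card (N.subgroupOf (P : Subgroup G)) = p := by
      by_contra h4
      exact hno (exists_of_normal P hP hmax N h3 h4 fun h => h2 (hres N ‹_› (hidx N h)))
    refine eq_of_card P hcore hZc hZ' N ?_
    have h5 := eq_of_le_of_card_ge (center_le hP hmax _ h3)
      (by rw [h4, PG.card_center_of_maxClass hP hmax])
    change _ = (center (P : Subgroup G)).map (P : Subgroup G).subtype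
    rw [h5, subgroupOf_map_subtype, inf_comm]
  have hna : ¬ IsMulCommutative G := fun h =>
    PG.not_isMulCommutative_of_maxClass hP hmax inferInstance
  have hZb : Z ≠ ⊥ := fun h => by
    rw [h, card_bot] at hZcard
    exact hp.one_lt.ne hZcard
  have hcne : center G ≠ ⊤ := fun h => hna ⟨⟨fun a b => mem_center_iff.mp (h ▸ mem_top b) a⟩⟩
  have hperf : _root_.commutator G = ⊤ := by
    by_contra h
    have h1 := main _ inferInstance (fun e => hna (TM.commutator_eq_bot_iff.mp e)) h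
    obtain ⟨K, hK, hZK⟩ := Sylow.exists_subgroup_card_pow_succ (p := p) (n := 1) (H := Z)
      ((pow_dvd_pow p (by omega)).trans (hP ▸ card_subgroup_dvd_card (P : Subgroup G)))
      (by rw [hZcard, pow_one])
    have hlt : ∀ {a b : ℕ}, a < b → p ^ a ≠ p ^ b := fun h =>
      (Nat.pow_lt_pow_right hp.one_lt h).ne
    have h2 := main K (PG.normal_of_commutator_le (h1 ▸ hZK)) (fun e => hZb (le_bot_iff.mp
      (e ▸ hZK))) (fun e => by
        have h3 := card_subgroup_dvd_card (P : Subgroup G)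
        rw [hP, ← card_top (G := G), ← e, hK] at h3
        exact absurd ((Nat.pow_dvd_pow_iff_le_right hp.one_lt).mp h3) (by omega))
    rw [h2, hZcard] at hK
    exact hlt (show 1 < 1 + 1 by omega) ((pow_one p).trans hK)
  have hcen : ∀ N : Subgroup G, N.Normal → N ≠ ⊥ → N ≠ ⊤ → N ≤ center G := by
    intro N hN h1 h2
    obtain rfl := main N hN h1 h2
    have h3 := hres _ inferInstance (hidx _ hZc)
    intro z hz
    exact mem_center_iff.mpr fun g => ((h3 ▸ mem_top g : g ∈ centralizer (Z : Set G)) z hz).symm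
  refine ⟨⟨Group.isPerfect_def.mpr hperf, ?_⟩, ?_⟩
  · haveI : Nontrivial (G ⧸ center G) := QuotientGroup.nontrivial_iff.mpr hcne
    refine ⟨fun K hK => ?_⟩
    have hs := QuotientGroup.mk'_surjective (center G)
    by_cases h : K.comap (QuotientGroup.mk' (center G)) = ⊤
    · right
      rw [← map_comap_eq_self_of_surjective hs K, h, map_top_of_surjective _ hs]
    · left
      rw [← map_comap_eq_self_of_surjective hs K, Subgroup.map_eq_bot_iff, QuotientGroup.ker_mk']
      by_cases h' : K.comap (QuotientGroup.mk' (center G)) = ⊥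
      · rw [h']; exact bot_le
      · exact hcen _ (hK.comap _) h' h
  · by_cases h : center G = ⊥
    · rw [h, card_bot]; exact hp.pos
    · rw [main _ inferInstance h hcne, hZcard]

end Cfsg.Agent.S3865
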