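import Cfsg.Statements.S1159
import Cfsg.Agent.Chev.ReeCount2
import Cfsg.Agent.Chev.ReeInst

set_option autoImplicit false
open Cfsg

namespace Cfsg.Agent.S1159

/-- In the small Ree group ²G₂(q), q = 3^(2m+1) with m ≥ 1, realised as G¹ inside the Chevalley group G₂ over the field with q elements (θ the 3^m-th power map), with `r = 3^(m+1)`: a natural number is the order of an element of `G¹` iff it divides one of `6`, `9`, `q - 1`, `(q + 1)/2`, `q - r + 1`, `q + r + 1`. -/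
theorem result {K : Type*} [Field K] [Fintype K] {m : ℕ} (hm : 1 ≤ m) (hK : Fintype.card K = 3 ^ (2 * m + 1)) (d : ℕ) :
    (∃ g : ↥(Cfsg.Lie.twistedG2 K (3 ^ m)), orderOf g = d) ↔
      (d ∣ 6 ∨ d ∣ 9 ∨ d ∣ 3 ^ (2 * m + 1) - 1 ∨ d ∣ (3 ^ (2 * m + 1) + 1) / 2 ∨
        d ∣ 3 ^ (2 * m + 1) - 3 ^ (m + 1) + 1 ∨ d ∣ 3 ^ (2 * m + 1) + 3 ^ (m + 1) + 1) := by
  obtain ⟨R, -⟩ := Chev.ReeInst.exists_ree hK
  have hq : 3 < Fintype.card K := by
    rw [hK]
    calc 3 = 3 ^ 1 := rfl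
      _ < _ := Nat.pow_lt_pow_right (by norm_num) (by omega)
  have hr : (3 ^ (m + 1)) ^ 2 = 3 * Fintype.card K := by rw [hK]; ring
  have := R.finite
  obtain ⟨y₁, h₁, b₁⟩ := R.exists_big_H hq
  obtain ⟨y₂, h₂, b₂⟩ := R.exists_big_Cp hq
  obtain ⟨⟨y₃, b₃, c₃, n₃⟩, ⟨y₄, b₄, c₄, n₄⟩⟩ := R.exists_tori' hq hr
  have e₁ := R.centralizer_eq_H b₁ h₁
  have e₂ := R.centralizer_eq_Cp b₂ h₂
  have hn := Chev.sub_mul_add hq.le hr
  have o₁ := R.card_oddPart_H b₁ (by rw [e₁, R.card_H])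
  have o₂ := R.card_oddPart_Cp b₂ (by rw [e₂, R.card_Cp])
  have o₃ := (R.card_oddPart_Z b₃ ⟨_, by rw [c₃, hn]⟩).trans c₃
  have o₄ := (R.card_oddPart_Z b₄ ⟨_, by rw [c₄, mul_comm, hn]⟩).trans c₄
  have h8 := R.card_mod_eight
  rw [← hK]
  constructor
  · rintro ⟨g, rfl⟩
    rcases R.orderOf_cases g with h | h | h | h | h | h
    iterate 4 exact Or.inl (by norm_num [h])
    · exact Or.inr (Or.inl h.dvd)
    have h1 := Chev.orderOf_dvd_card_centralizer g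
    rcases R.card_centralizer_cases h with h2 | h2 | h2
    · exact Or.inr (Or.inr (Or.inl (h2 ▸ h1)))
    · refine Or.inr (Or.inr (Or.inr (Or.inl ?_)))
      rw [h2, show Fintype.card K + 1 = 2 * ((Fintype.card K + 1) / 2) by omega] at h1
      rcases Nat.even_or_odd' (orderOf g) with ⟨k, hk | hk⟩
      · have h4 := R.not_four_dvd_orderOf g
        rw [hk] at h1 h4 ⊢
        rw [show (Fintype.card K + 1) / 2 = 2 * ((Fintype.card K + 1) / 4) by omega] at h1 ⊢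
        exact mul_dvd_mul_left 2 ((Nat.Coprime.dvd_mul_left (Nat.coprime_two_right.2
          (Nat.odd_iff.2 (by omega)))).1 (Nat.dvd_of_mul_dvd_mul_left two_pos h1))
      · exact (Nat.Coprime.dvd_mul_left (Nat.coprime_two_right.2 ⟨k, hk⟩)).1 h1
    · obtain ⟨p, a, b, c⟩ := h
      have h3 := (c.trans h1).trans h2
      rw [← hn, a.dvd_mul] at h3
      refine Or.inr (Or.inr (Or.inr (Or.inr (h3.imp (fun h3 => ?_) fun h3 => ?_))))
      · rw [← c₃, ← R.card_centralizer_eq b₃ ⟨p, a, b, c, c₃ ▸ h3⟩]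
        exact h1
      · rw [← c₄, ← R.card_centralizer_eq b₄ ⟨p, a, b, c, c₄ ▸ h3⟩]
        exact h1
  · have key : ∀ g : ↥(Cfsg.Lie.twistedG2 K (3 ^ m)), d ∣ orderOf g →
        ∃ g : ↥(Cfsg.Lie.twistedG2 K (3 ^ m)), orderOf g = d := fun g h =>
      let ⟨k, hk⟩ := Chev.ReeUtil.exists_pow_orderOf_eq h
      ⟨_, hk⟩
    rintro (h | h | h | h | h | h)
    · exact key _ (R.orderOf_x_u_a one_ne_zero ▸ h)
    · exact key (R.x 1 0 0) (R.orderOf_x_eq_nine_iff.2 one_ne_zero ▸ h)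
    · obtain ⟨g, hg⟩ := R.isCyclic_H.exists_ofOrder_eq_natCard
      exact key g (by rwa [Subgroup.orderOf_coe, hg, R.card_H])
    · obtain ⟨g, h1, h2⟩ := R.exists_mem_oddPart b₂ dvd_rfl
      refine key (R.a * g) ?_
      rw [Commute.orderOf_mul_eq_mul_orderOf_of_coprime (R.Cp_comm R.a_mem_Cp (e₂ ▸ h1.1))
        (by rw [R.orderOf_a]; exact h1.2.coprime_two_left), R.orderOf_a, h2, o₂]
      rwa [show 2 * ((Fintype.card K + 1) / 4) = (Fintype.card K + 1) / 2 by omega]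
    · obtain ⟨g, -, h2⟩ := R.exists_mem_oddPart b₃ (o₃ ▸ h)
      exact ⟨g, h2⟩
    · obtain ⟨g, -, h2⟩ := R.exists_mem_oddPart b₄ (o₄ ▸ h)
      exact ⟨g, h2⟩

end Cfsg.Agent.S1159
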