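import Mathlib
import Cfsg.Statements.S3322
import Cfsg.Agent.FG.DGroup

set_option autoImplicit false
open Cfsg

namespace Cfsg.Agent.S3322

open Subgroup Cfsg.Agent.GT Cfsg.Agent.GW Cfsg.Agent.Inv Cfsg.Agent.Inv.Fz Cfsg.Agent.Inv.SE
open Cfsg.Agent.Cl Cfsg.Agent.CIT.CA Cfsg.Agent.FG.DG
open scoped Pointwise

theorem inner {L : Type*} [Group L] [Finite L] (h : EA L (Sylow 2 L)) {x y : Sylow 2 L}
    (hxy : x ≠ y) (β : MulAut L) (hβ : ∀ t ∈ h.tt x, β t = t) : ∃ u : L, β = MulAut.conj u := by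
  have act : ∀ (γ : MulAut L) (l : L) (P : Sylow 2 L), γ l • γ • P = γ • l • P := fun γ l P => by
    rw [Sylow.smul_def, Sylow.smul_def, smul_smul, smul_smul]
    congr 1
    ext g
    simp
  obtain ⟨s, hs, hsx⟩ := h.exists_inv x
  have hst : s ∈ h.tt x := h.mem_tt.2 ⟨mul_self_of_two hs, hsx⟩
  have fix : ∀ γ : MulAut L, (∀ t ∈ h.tt x, γ t = t) → γ • x = x := fun γ hγ =>
    h.uniq s hs _ _ (by rw [← hγ s hst, act, hsx]) hsx
  obtain ⟨u, hu, huy⟩ := h.exists_tt_smul (x := x) (y := β • y) (z := y)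
    (fun e => hxy ((smul_left_cancel_iff β).1 ((fix β hβ).trans e))) hxy
  have hγ : ∀ t ∈ h.tt x, (MulAut.conj u * β) t = t := fun t ht => by
    rw [MulAut.mul_apply, hβ t ht, MulAut.conj_apply, (h.commute_tt hu ht).eq, mul_inv_cancel_right]
  have hy : (MulAut.conj u * β) • y = y := by rw [mul_smul, ← Sylow.smul_def, huy]
  have hall : ∀ z : Sylow 2 L, (MulAut.conj u * β) • z = z := fun z => by
    by_cases hz : x = z
    · exact hz ▸ fix _ hγ
    · obtain ⟨t, ht, rfl⟩ := h.exists_tt_smul hxy hz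
      rw [← act, hγ t ht, hy]
  refine ⟨u⁻¹, ?_⟩
  rw [map_inv, eq_inv_iff_mul_eq_one, ← mul_eq_one_comm]
  ext l
  have h1 : ∀ z : Sylow 2 L, (l⁻¹ * (MulAut.conj u * β) l) • z = z := fun z => by
    rw [mul_smul, inv_smul_eq_iff, ← hall (l • z), ← act, hall]
  have := h.eq_one_of_three hxy (EA.smul_ne hsx hxy) (fun e => ne_one_of_two hs
    (h.eq_one_of_mem_tt hxy hst e.symm)) (h1 _) (h1 _) (h1 _)
  exact (inv_mul_eq_one.1 this).symm

universe u

variable {G : Type u} [Group G] [Finite G]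

theorem two_nc (h : IAC G) (hns : ¬ Group.IsSolvable G) : TwoInv G ∧ NcInv G := by
  obtain ⟨P⟩ : Nonempty (Sylow 2 G) := inferInstance
  refine ⟨twoInv_of_not_isCyclic h P fun hc => hns (isSolvable_of_isCyclic_sylow P hc),
    ncInv_of_not_normal h P fun hn => hns ?_⟩
  have h1 := P.isPGroup'.isNilpotent
  have h2 : Group.IsSolvable (G ⧸ (P : Subgroup G)) :=
    S0205.result (Nat.odd_iff.2 (Nat.two_dvd_ne_zero.1 P.not_dvd_index))
  exact Group.isSolvable_of_ker_le_range (P : Subgroup G).subtype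
    (QuotientGroup.mk' (P : Subgroup G)) (by simp)

theorem pp_of_iac (h : IAC G) (hns : ¬ Group.IsSolvable G) :
    Odd (Nat.card (center G)) ∧ PP (G ⧸ center G) := by
  obtain ⟨h1, h2⟩ := two_nc h hns
  obtain ⟨F, _, _, n, hn, hF, e⟩ := h.exists_quot_equiv h1 h2
  refine ⟨odd_card_iff_no_involution.2 fun t ht h3 =>
    ne_one_of_two h3 (h.center_odd h2 t ht (mul_self_of_two h3)), F, inferInstance, inferInstance,
    ?_, Or.inl e⟩
  rw [hF]
  exact lt_of_lt_of_le (by norm_num) (Nat.pow_le_pow_right two_pos hn)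

section Three

variable {H A : Subgroup G} (hAH : A ≤ H) (hD : ∀ x ∈ H, x ∉ A → x ^ 2 = 1)
  (two : ∀ x ∈ H, ∀ y ∈ H, x ∉ A → y ∉ A → x * y ∈ A)
  (hC : ∀ j ∈ A, orderOf j = 2 → Cen j = H) {a₀ : G} (ha₀ : a₀ ∈ A) (ha₀' : a₀ * a₀ ≠ 1)
  {i₁ i₂ : G} (h₁ : i₁ ∈ A) (h₂ : i₂ ∈ A) (hp : Pair i₁ i₂)
include hAH hD two hC ha₀ ha₀' h₁ h₂ hp

omit [Finite G] in
theorem closed {j : G} (hj : j ∈ A) (hj2 : orderOf j = 2) (g : G) (hg : g * j * g⁻¹ ∈ H) :
    g * j * g⁻¹ ∈ A := by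
  by_contra hy
  have hmem : ∀ c, Commute c (g * j * g⁻¹) ↔ g⁻¹ * c * g ∈ H := fun c => by
    rw [← hC j hj hj2, mem_centralizer_singleton_iff, ← commute_iff_eq,
      ← commute_conj_iff (g := g) (b := j), show g * (g⁻¹ * c * g) * g⁻¹ = c by group]
  have key : ∀ i ∈ A, orderOf i = 2 → g⁻¹ * i * g ∈ H ∧ g⁻¹ * i * g ∉ A := fun i hi hi2 => by
    refine ⟨(hmem i).1 (mem_centralizer_singleton_iff.1 ((hC i hi hi2).ge hg)).symm, fun h => ?_⟩
    have h3 : g⁻¹ * a₀ * g ∈ H := by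
      rw [← hC _ h ((Inv.orderOf_conj_inv g i).trans hi2), mem_centralizer_singleton_iff]
      have := mem_centralizer_singleton_iff.1 ((hC i hi hi2).ge (hAH ha₀))
      rw [show g⁻¹ * a₀ * g * (g⁻¹ * i * g) = g⁻¹ * (a₀ * i) * g by group, this]
      group
    have h4 := inv_of_out hAH hD hg hy ha₀
    rw [← ((hmem a₀).2 h3).eq, mul_inv_cancel_right] at h4
    exact ha₀' (mul_eq_one_iff_eq_inv.2 h4)
  obtain ⟨a1, b1⟩ := key _ h₁ hp.ha
  obtain ⟨a2, b2⟩ := key _ h₂ hp.hb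
  refine (key _ (mul_mem h₁ h₂) hp.mul.hb).2 ?_
  rw [show g⁻¹ * (i₁ * i₂) * g = g⁻¹ * i₁ * g * (g⁻¹ * i₂ * g) by group]
  exact two _ a1 _ a2 b1 b2

theorem odd_index : ¬ 2 ∣ H.index := by
  obtain ⟨P, hP, -⟩ := exists_isSylIn (p := 2) (H := H) IsPGroup.of_bot bot_le
  obtain ⟨S, hS⟩ := hP.isPGroup.exists_le_sylow
  refine not_dvd_index_of_sylow_le S (Classical.byContradiction fun hSH => ?_)
  obtain ⟨s, hs, hsP, hsN⟩ := exists_mem_normalizer_of_lt S.isPGroup' hS fun h => hSH (h.trans hP.le)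
  have hcen : ∀ i ∈ A, i * i = 1 → ∀ y ∈ H, Commute y i := fun i hi hi2 y hy => by
    by_cases e : i = 1
    · rw [e]; exact Commute.one_right y
    · exact mem_centralizer_singleton_iff.1 ((hC i hi (orderOf_two_of hi2 e)).ge hy)
  let N : Subgroup G :=
    { carrier := {i | i ∈ A ∧ i * i = 1}
      mul_mem' := fun {a b} ha hb => ⟨mul_mem ha.1 hb.1,
        (commute_iff_mul_sq ha.2 hb.2).1 (hcen b hb.1 hb.2 a (hAH ha.1))⟩
      one_mem' := ⟨one_mem _, mul_one 1⟩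
      inv_mem' := fun {a} ha => ⟨inv_mem ha.1, by rw [← mul_inv_rev, ha.2, inv_one]⟩ }
  have hN : IsPGroup 2 N := fun i => ⟨1, Subtype.ext (by simpa [sq] using i.2.2)⟩
  have hNP : N ≤ P := by
    obtain ⟨g, hg, hle⟩ := hP.exists_cj_le hN fun i hi => hAH hi.1
    intro i hi
    have := hle (mem_map_of_mem (MulAut.conj g).toMonoidHom hi)
    rwa [show (MulAut.conj g).toMonoidHom i = i from
      mul_inv_eq_iff_eq_mul.2 (hcen i hi.1 hi.2 g hg)] at this
  obtain ⟨z, hz, hz2, hzc⟩ := exists_central_mem_of_normalized (p := 2)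
    (T := (S : Subgroup G) ⊓ normalizer (P : Set G)) (N := N) S.isPGroup'.to_inf_left
    (le_inf (hNP.trans hS) (hNP.trans le_normalizer))
    (fun e => ne_one_of_two hp.ha (mem_bot.1 (e ▸ ⟨h₁, mul_self_of_two hp.ha⟩))) fun g hg i hi => by
      refine ⟨?_, by rw [conj_mul, hi.2, mul_one, mul_inv_cancel]⟩
      by_cases e : i = 1
      · rw [e, mul_one, mul_inv_cancel]; exact one_mem _
      · exact closed hAH hD two hC ha₀ ha₀' h₁ h₂ hp hi.1 (orderOf_two_of hi.2 e) g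
          (hP.le (conj_mem_of_mem_normalizer hg.2 (hNP hi)))
  have hsH : s ∈ H := (hC z hz.1 hz2).le (mem_centralizer_singleton_iff.2 (hzc s ⟨hs, hsN⟩))
  exact hsP ((hP.eq_of_le S.isPGroup'.to_inf_left inf_le_right (le_inf hS hP.le)).le ⟨hs, hsH⟩)

theorem exists_ker {x : G} (hx : x ∈ H) (hxA : x ∉ A) :
    ∃ K : Subgroup G, K.Normal ∧ K.index = 2 ∧ ∀ y ∈ H, y ∈ K → y ∈ A := by
  have hi : A.relIndex H = 2 := by
    rw [relIndex, index_eq_two_iff]
    refine ⟨⟨x, hx⟩, fun b => ?_⟩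
    simp only [mem_subgroupOf, coe_mul]
    by_cases hb : (b : G) ∈ A
    · exact Or.inr ⟨hb, fun h => hxA ((mul_mem_cancel_left hb).1 h)⟩
    · exact Or.inl ⟨two _ b.2 _ hx hb hxA, hb⟩
  have : (A.subgroupOf H).Normal := normal_of_index_eq_two hi
  have : IsCyclic (H ⧸ A.subgroupOf H) := isCyclic_of_prime_card (p := 2) hi
  let _ : CommGroup (H ⧸ A.subgroupOf H) := IsCyclic.commGroup
  have key : ∀ y ∈ H, y ∈ (MonoidHom.transfer (QuotientGroup.mk' (A.subgroupOf H))).ker → y ∈ A :=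
    fun y hy hτ => by
      by_contra hyA
      obtain ⟨t, h1, h2, -⟩ := Tr.thompson_transfer (QuotientGroup.mk' (A.subgroupOf H))
        (odd_index hAH hD two hC ha₀ ha₀' h₁ h₂ hp) Tr.eq_of_sq_eq_one_of_isCyclic (hD y hy hyA) hτ
        (C := ⊥) IsPGroup.of_bot (by simp)
      have h3 : t⁻¹ * y * t ∈ A := by simpa [mem_subgroupOf] using (QuotientGroup.eq_one_iff _).1 h2
      have h4 := closed hAH hD two hC ha₀ ha₀' h₁ h₂ hp h3 ((Inv.orderOf_conj_inv t y).trans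
        (orderOf_two_of (by rw [← sq, hD y hy hyA]) fun e => hyA (e ▸ one_mem _))) t
      rw [show t * (t⁻¹ * y * t) * t⁻¹ = y by group] at h4
      exact hyA (h4 hy)
  refine ⟨_, inferInstance, ?_, key⟩
  have h1 : (MonoidHom.transfer (QuotientGroup.mk' (A.subgroupOf H))).ker.index ∣ 2 := by
    rw [index_ker, ← hi]
    exact card_subgroup_dvd_card _
  refine ((Nat.dvd_prime Nat.prime_two).1 h1).resolve_left fun h => hxA (key x hx ?_)
  rw [index_eq_one.1 h]
  trivial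

theorem res_three (hns : ¬ Group.IsSolvable G) {x : G} (hx : x ∈ H) (hxA : x ∉ A) : Res G := by
  obtain ⟨K, hn, hi, hK⟩ := exists_ker hAH hD two hC ha₀ ha₀' h₁ h₂ hp hx hxA
  obtain ⟨S, hS⟩ := exists_sylow_le_of_not_dvd_index (odd_index hAH hD two hC ha₀ ha₀' h₁ h₂ hp)
  have hI : IAC K := fun t a b ht ha hb => by
    have ht' : orderOf (t : G) = 2 := by rw [orderOf_coe, ht]
    obtain ⟨g, hg⟩ := exists_conj_mem_sylow_two ht' S
    have h1 := hC _ (hK _ (hS hg) (hn.conj_mem _ t.2 g)) ((Inv.orderOf_conj' g _).trans ht')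
    have h2 : ∀ c : K, Commute c t → g * c * g⁻¹ ∈ A := fun c hc => hK _ (h1.le
      (mem_centralizer_singleton_iff.2 (commute_conj_iff.2 (hc.map K.subtype))))
      (hn.conj_mem _ c.2 g)
    exact Subtype.ext (commute_conj_iff.1 (comm_of_out hAH hD hx hxA (h2 a ha) (h2 b hb)))
  have hKs : ¬ Group.IsSolvable K := fun hs => hns (by
    have := (IsPGroup.of_card (p := 2) (G := G ⧸ K) (n := 1) hi).isNilpotent
    exact Group.isSolvable_of_ker_le_range K.subtype (QuotientGroup.mk' K) (by simp))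
  obtain ⟨ht, hnc⟩ := two_nc hI hKs
  obtain ⟨hZ, hPP⟩ := pp_of_iac hI hKs
  have ho := hI.center_odd hnc
  have hea := hI.ea ht hnc
  let α : G →* MulAut (K ⧸ center K) := (Aut.centerQuotAut K).comp MulAut.conjNormal
  have hα : ∀ (g : G) (k : K), α g k = (⟨g * k * g⁻¹, hn.conj_mem _ k.2 g⟩ : K) := fun _ _ => rfl
  have hαK : ∀ k : K, α k = MulAut.conj (k : K ⧸ center K) := fun k => MulEquiv.ext fun l => by
    obtain ⟨l, rfl⟩ := QuotientGroup.mk_surjective l
    rfl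
  obtain ⟨j, hjA, hjK, hj⟩ : ∃ j ∈ A, j ∈ K ∧ orderOf j = 2 := by
    by_cases e₁ : i₁ ∈ K
    · exact ⟨_, h₁, e₁, hp.ha⟩
    by_cases e₂ : i₂ ∈ K
    · exact ⟨_, h₂, e₂, hp.hb⟩
    · exact ⟨_, mul_mem h₁ h₂, (mul_mem_iff_of_index_two hi).2 (by tauto), hp.mul.hb⟩
  have hj' : orderOf (⟨j, hjK⟩ : K) = 2 := by rw [Subgroup.orderOf_mk, hj]
  have hjq := CIT.CA.orderOf_mk ho hj'
  obtain ⟨P, hP⟩ := hea.ex _ hjq
  obtain ⟨Q, hQ⟩ := ((hI.quot le_rfl ho).ac (ht.quot ho)).exists_ne (hnc.quot le_rfl ho) P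
  obtain ⟨u, hu⟩ := inner hea hQ (α x) fun t ht => by
    by_cases e : t = 1
    · rw [e, map_one]
    have hc := hea.commute_tt ht (hea.mem_tt.2 ⟨mul_self_of_two hjq, hP⟩)
    obtain ⟨t, ht2, rfl⟩ := exists_lift ho (orderOf_two_of (hea.mem_tt.1 ht).1 e)
    have h1 : (t : G) ∈ A := hK _ ((hC j hjA hj).le (mem_centralizer_singleton_iff.2
      ((commute_of_mk le_rfl ho (mul_self_of_two hj') hc).map K.subtype))) t.2
    rw [hα]
    congr 2
    exact mul_inv_eq_iff_eq_mul.2 (mem_centralizer_singleton_iff.1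
      ((hC _ h1 (by rw [orderOf_coe, ht2])).ge hx))
  have hr : α.range = (MulAut.conj : K ⧸ center K →* _).range := by
    refine le_antisymm ?_ ?_
    · rintro _ ⟨g, rfl⟩
      by_cases hg : g ∈ K
      · exact ⟨_, (hαK ⟨g, hg⟩).symm⟩
      · have h1 : g * x⁻¹ ∈ K := (mul_mem_iff_of_index_two hi).2
          ⟨fun h => absurd h hg, fun h => absurd (hK x hx (inv_mem_iff.1 h)) hxA⟩
        refine ⟨((⟨_, h1⟩ : K) : K ⧸ center K) * u, ?_⟩
        rw [map_mul, ← hu, ← hαK, ← map_mul, inv_mul_cancel_right]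
    · rintro _ ⟨l, rfl⟩
      obtain ⟨l, rfl⟩ := QuotientGroup.mk_surjective l
      exact ⟨l, hαK l⟩
  have hinj : Function.Injective (MulAut.conj : K ⧸ center K →* _) :=
    (injective_iff_map_eq_one _).2 fun l hl => by
      have h1 : ∀ c, Commute l c := fun c => mul_inv_eq_iff_eq_mul.1 (MulEquiv.congr_fun hl c)
      have h2 : ∀ R : Sylow 2 (K ⧸ center K), l • R = R := fun R => by
        rw [Sylow.smul_def, hl, one_smul]
      exact hea.eq_one_of_commute hQ (h2 _) (h2 _) hjq (h1 _)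
  let e : G ⧸ α.ker ≃* K ⧸ center K := (QuotientGroup.quotientKerEquivRange α).trans
    ((MulEquiv.subgroupCongr hr).trans (MonoidHom.ofInjective hinj).symm)
  refine ⟨α.ker, inferInstance, Or.inr ⟨_, hZ, ?_⟩, hPP.of_equiv e.symm⟩
  have e1 := α.ker.card_mul_index
  rw [index_eq_card, Nat.card_congr e.toEquiv, ← K.card_mul_index, hi,
    ← (center K).card_mul_index, index_eq_card] at e1
  refine Nat.eq_of_mul_eq_mul_right (Nat.card_pos (α := K ⧸ center K)) ?_
  rw [e1]; ring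

end Three

theorem aux (H A : Subgroup G) (hAH : A < H) (hD : ∀ x ∈ H, x ∉ A → x ^ 2 = 1)
    (h4 : 4 ∣ Nat.card ↥H)
    (hC : ∀ j ∈ H, orderOf j = 2 → (∀ h ∈ H, h * j = j * h) → centralizer ({j} : Set G) = H)
    (hns : ¬ Group.IsSolvable G) : Res G := by
  obtain ⟨x, hx, hxA⟩ := SetLike.exists_of_lt hAH
  by_cases hE : ∀ a ∈ A, a * a = 1
  · have hsq : ∀ h ∈ H, h * h = 1 := fun h hh => by
      by_cases e : h ∈ A
      · exact hE h e
      · rw [← sq, hD h hh e]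
    have hc : ∀ a ∈ H, ∀ b ∈ H, Commute a b := fun a ha b hb =>
      (commute_iff_mul_sq (hsq a ha) (hsq b hb)).2 (hsq _ (mul_mem ha hb))
    have hC' : ∀ j ∈ H, orderOf j = 2 → Cen j = H := fun j hj h2 => hC j hj h2 fun h hh => hc h hh j hj
    have hx2 : orderOf x = 2 := orderOf_two_of (hsq x hx) fun e => hxA (e ▸ one_mem _)
    obtain ⟨S, hS⟩ := exists_sylow_two_mem hx2
    obtain ⟨z, -, hz, hzc⟩ := exists_central_of_isPGroup S.isPGroup'
      (fun e => ne_one_of_two hx2 (mem_bot.1 (e ▸ hS)))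
    have hSH : (S : Subgroup G) ≤ H := fun y hy =>
      (hC' z ((hC' x hx hx2).le (mem_centralizer_singleton_iff.2 (hzc x hS).symm)) hz).le
        (mem_centralizer_singleton_iff.2 (hzc y hy))
    have hI : IAC G := fun t a b ht ha hb => by
      obtain ⟨g, hg⟩ := exists_conj_mem_sylow_two ht S
      have h1 := hC' _ (hSH hg) ((Inv.orderOf_conj' g _).trans ht)
      exact commute_conj_iff.1 (hc _ (h1.le (mem_centralizer_singleton_iff.2 (commute_conj_iff.2 ha)))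
        _ (h1.le (mem_centralizer_singleton_iff.2 (commute_conj_iff.2 hb))))
    obtain ⟨h1, h2⟩ := pp_of_iac hI hns
    exact ⟨_, inferInstance, Or.inl h1, h2⟩
  push Not at hE
  obtain ⟨a₀, ha₀, ha₀'⟩ := hE
  have two : ∀ x ∈ H, ∀ y ∈ H, x ∉ A → y ∉ A → x * y ∈ A := fun x hx y hy hxA hyA => by
    by_contra h
    have h1 := inv_of_out hAH.le hD (mul_mem hx hy) h ha₀
    rw [show x * y * a₀ * (x * y)⁻¹ = x * (y * a₀ * y⁻¹) * x⁻¹ by group,
      inv_of_out hAH.le hD hy hyA ha₀, inv_of_out hAH.le hD hx hxA (inv_mem ha₀), inv_inv] at h1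
    exact ha₀' (mul_eq_one_iff_eq_inv.2 h1)
  have hC' : ∀ j ∈ A, orderOf j = 2 → Cen j = H := fun j hj h2 => hC j (hAH.le hj) h2 fun h hh => by
    by_cases e : h ∈ A
    · exact comm_of_out hAH.le hD hx hxA e hj
    · exact (commute_of_inverts_of_mul_self (inv_of_out hAH.le hD hh e hj) (mul_self_of_two h2)).symm
  have hi : A.relIndex H = 2 := by
    rw [relIndex, index_eq_two_iff]
    refine ⟨⟨x, hx⟩, fun b => ?_⟩
    simp only [mem_subgroupOf, coe_mul]
    by_cases hb : (b : G) ∈ A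
    · exact Or.inr ⟨hb, fun h => hxA ((mul_mem_cancel_left hb).1 h)⟩
    · exact Or.inl ⟨two _ b.2 _ hx hb hxA, hb⟩
  obtain ⟨j, hj, hj2⟩ := exists_involution_mem_of_even (H := A) (by
    have := (A.subgroupOf H).card_mul_index
    rw [← relIndex, hi, Nat.card_congr (subgroupOfEquivOfLe hAH.le).toEquiv] at this
    rw [Nat.even_iff]
    omega)
  by_cases hu : ∀ s ∈ A, orderOf s = 2 → s = j
  · have e := hC' j hj hj2
    exact Uq.res ⟨hj2, hj, e ▸ hAH.le, e ▸ hD, e ▸ ⟨x, hx, hxA⟩, e ▸ two, hu⟩ hns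
  · push Not at hu
    obtain ⟨s, hs, hs2, hne⟩ := hu
    exact res_three hAH.le hD two hC' ha₀ ha₀' hs hj
      ⟨hs2, hj2, hne, comm_of_out hAH.le hD hx hxA hs hj⟩ hns hx hxA

/-- Call a group a D-group when it has a proper subgroup outside of which every element x satisfies x² = 1 (for instance a dihedral group, or an elementary abelian 2-group). Let G be a finite group with a subgroup H that is a D-group (witnessed by a proper subgroup A of H) of order divisible by 4, such that H = C_G(j) for every involution j in the centre of H. If G is not solvable, then G has a normal subgroup N whose order is odd or twice an odd number with G/N isomorphic to PSL(2, q) or PGL(2, q) for some prime power q > 3 (q may be even). -/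
theorem result
    {G : Type*} [Group G] [Finite G] (H A : Subgroup G) (hAH : A < H) (hD : ∀ x ∈ H, x ∉ A → x ^ 2 = 1)
    (h4 : 4 ∣ Nat.card ↥H)
    (hC : ∀ j ∈ H, orderOf j = 2 → (∀ h ∈ H, h * j = j * h) → Subgroup.centralizer ({j} : Set G) = H)
    (hns : ¬ Group.IsSolvable G) :
    ∃ (N : Subgroup G) (_ : N.Normal), (Odd (Nat.card ↥N) ∨ ∃ m : ℕ, Odd m ∧ Nat.card ↥N = 2 * m) ∧
      ∃ (F : Type) (_ : Field F) (_ : Fintype F), 3 < Fintype.card F ∧
        (Nonempty (G ⧸ N ≃* Matrix.ProjectiveSpecialLinearGroup (Fin 2) F) ∨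
          Nonempty (G ⧸ N ≃* Matrix.ProjGenLinGroup (Fin 2) F)) := by
  exact aux H A hAH hD h4 hC hns

end Cfsg.Agent.S3322
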