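import Mathlib
import Cfsg.Statements.S2773
import Cfsg.Agent.Loc.FocMain

set_option autoImplicit false
universe u
open Cfsg

namespace Cfsg.Agent.S2773


open Cfsg.Agent.Loc Cfsg.Agent.Loc.Foc Cfsg.Agent.Loc.Mss Cfsg.Agent.Loc.PU Subgroup
open scoped commutatorElement Pointwise

theorem focal_in {G : Type*} [Group G] [Finite G] {p : ℕ} [Fact p.Prime] (S : Sylow p G)
    {N D : Subgroup G} (hN : (S : Subgroup G) ≤ N)
    (h : ∀ x ∈ (S : Subgroup G), ∀ g ∈ N, g * x * g⁻¹ ∈ (S : Subgroup G) →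
      x⁻¹ * (g * x * g⁻¹) ∈ D) : (S : Subgroup G) ⊓ ⁅N, N⁆ ≤ D := by
  have h1 := CF.inf_commutator_le_of_focal (S.subtype hN) (D := D.subgroupOf N)
    fun x hx g hg => h x hx g g.2 hg
  rintro x ⟨hx, hx'⟩
  have e : ⁅N, N⁆ = Subgroup.map N.subtype ⁅(⊤ : Subgroup N), (⊤ : Subgroup N)⁆ := by
    rw [Subgroup.map_commutator, GT.th_map_top_subtype]
  rw [e] at hx'
  obtain ⟨y, hy, rfl⟩ := hx'
  exact h1 ⟨hx, hy⟩

theorem normZ_le {G : Type*} [Group G] [Finite G] {p : ℕ} [Fact p.Prime] (S : Sylow p G) :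
    (S : Subgroup G) ⊓ ⁅𝐍[𝐙[(S : Subgroup G)]], 𝐍[𝐙[(S : Subgroup G)]]⁆ ≤
      (S : Subgroup G) ⊓ ⁅𝐂[𝐙[(S : Subgroup G)]], 𝐂[𝐙[(S : Subgroup G)]]⁆ ⊔
      (S : Subgroup G) ⊓ ⁅𝐍[(S : Subgroup G)], 𝐍[(S : Subgroup G)]⁆ := by
  refine focal_in S (norm_Z le_normalizer) fun x hx g hg hx' => ?_
  obtain ⟨n, hn, c, hc, rfl⟩ := (Syl.of_sylow_le S (le_cent_Z _)).frattini'
    (norm_cent le_rfl hg)
  have hy : c * x * c⁻¹ ∈ (S : Subgroup G) := by
    have := conj_mem_of_norm (inv_mem hn) hx'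
    convert this using 1; group
  have e : x⁻¹ * (n * c * x * (n * c)⁻¹) = ⁅x⁻¹, c⁆ * ⁅(c * x * c⁻¹)⁻¹, n⁆ := by
    simp only [commutatorElement_def]; group
  rw [e]
  refine mul_mem_sup ⟨?_, commutator_mem_commutator (le_cent_Z _ (inv_mem hx)) hc⟩
    ⟨comm_le_left le_rfl (commutator_mem_commutator (inv_mem hy) hn),
      commutator_mem_commutator (le_normalizer (inv_mem hy)) hn⟩
  have e' : ⁅x⁻¹, c⁆ = x⁻¹ * (c * x * c⁻¹) := by simp only [commutatorElement_def]; group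
  rw [e']
  exact (S : Subgroup G).mul_mem (inv_mem hx) hy

/-- For every nontrivial finite 3-group S there is a nontrivial characteristic subgroup K of S such that, in every finite group G containing S as a Sylow 3-subgroup, S ∩ G' is the product of S ∩ (C_G(Z(S)))' and S ∩ (N_G(K))' (derived subgroups; product taken elementwise). -/
theorem result {S : Type u} [Group S] [Finite S] [Nontrivial S] (hS : IsPGroup 3 S) : ∃ K : Subgroup S, K ≠ ⊥ ∧ K.Characteristic ∧ ∀ (G : Type u) [Group G] [Finite G] (τ : S →* G), Function.Injective τ → (∃ P : Sylow 3 G, (P : Subgroup G) = τ.range) → ∀ g : G, g ∈ τ.range ⊓ commutator G ↔ ∃ a ∈ τ.range ⊓ ⁅Subgroup.centralizer ((τ.range ⊓ Subgroup.centralizer (τ.range : Set G) : Subgroup G) : Set G), Subgroup.centralizer ((τ.range ⊓ Subgroup.centralizer (τ.range : Set G) : Subgroup G) : Set G)⁆, ∃ b ∈ τ.range ⊓ ⁅Subgroup.normalizer ((K.map τ : Subgroup G) : Set G), Subgroup.normalizer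 ((K.map τ : Subgroup G) : Set G)⁆, g = a * b := by
  haveI : Fact (Nat.Prime 3) := ⟨Nat.prime_three⟩
  refine ⟨WK 3 S, char_WK.1 _ hS inferInstance, characteristic_iff_map_eq.2 (char_WK.2 _ _ hS),
    fun G _ _ τ hτ ⟨P, hP⟩ g => ?_⟩
  have e : (WK 3 S).map τ = kS 3 (P : Subgroup G) := by
    rw [hP, WK, map_kS hτ, ← MonoidHom.range_eq_map]
  rw [← hP, e]
  have n1 : 𝐍[(P : Subgroup G)] ≤ 𝐍[kS 3 (P : Subgroup G)] := (Blk.norm_bB le_rfl).trans (norm_kB _)
  constructor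
  · intro hg
    have h1 := ((foc_le (by decide) P).trans (sup_le ((normZ_le P).trans (sup_le_sup_left
      (inf_le_inf_left _ (commutator_mono n1 n1)) _)) le_sup_right)) hg
    rw [← SetLike.mem_coe, coe_mul_of_left_le_normalizer_right] at h1
    · obtain ⟨a, ha, b, hb, rfl⟩ := h1
      exact ⟨a, ha, b, hb, rfl⟩
    · exact inf_le_left.trans (norm_inf le_normalizer
        ((le_normalizer.trans n1).trans (normalizer_commutator_ge_right _ _)))
  · rintro ⟨a, ha, b, hb, rfl⟩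
    exact mul_mem ⟨ha.1, commutator_mono le_top le_top ha.2⟩
      ⟨hb.1, commutator_mono le_top le_top hb.2⟩

end Cfsg.Agent.S2773
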