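import Cfsg.Statements.S2088
import Cfsg.Agent.Spor.MX.L34Gen

set_option autoImplicit false
open Cfsg

namespace Cfsg.Agent.S2088

open Cfsg.Agent.Spor Cfsg.Agent.Spor.MX

/-- Exceptional Schur multiplier: over the field with 4 elements, PSL₃ has Schur multiplier isomorphic to the product of cyclic groups of orders 3, 4 and 4 (order 48, not cyclic; here the Schur multiplier is described through stem extensions, as in the definitions). -/
theorem result {F : Type*} [Field F] [Fintype F] (hF : Fintype.card F = 4) : Cfsg.HasSchurMultiplier (Matrix.ProjectiveSpecialLinearGroup (Fin 3) F) (Multiplicative (ZMod 3 × ZMod 4 × ZMod 4)) := by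
  obtain ⟨e⟩ := Cl.nonempty_ringEquiv_GF4 F hF
  refine HasSchurMultiplier.congr ?_ (Cl.pslMapEquiv (Fin 3) e).symm
  obtain ⟨χ, hχ⟩ := l343_chi l3m_gen l3m_comm0
  obtain ⟨ψ, hψ⟩ := l34_chi l3m_gen l3m_comm1 l3m_comm2
  exact hasMult_three (hasMult_of_bounds l3m_gen.2.2 [(2, 6, 4), (3, 2, 1)] [5, 7] (by decide +kernel)
    (forall_mem_cons' (l3m_gen.not_dvd 2 5 (l34_l32 l3m_gen.2.1) (by decide +kernel))
      (forall_mem_cons' (l3m_gen.not_dvd 3 2 (l34_l9 l3m_gen.2.1) (by decide +kernel))
      forall_mem_nil'))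
    (n := 48) (by simp) (χ.prod ψ) (surjective_prod hχ hψ (by simp; decide)))

end Cfsg.Agent.S2088
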