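import Mathlib
import Cfsg.Statements.S5259
import Cfsg.Agent.Fus.LieSL
import Cfsg.Agent.Fus.ModelExists
import Cfsg.Agent.Fus.Normal
import Cfsg.Agent.Fus.EssBasic
import Cfsg.Agent.Fus.EssMisc

set_option autoImplicit false
set_option linter.unusedVariables false
open Cfsg

namespace Cfsg.Agent.S5259

open Cfsg.FusionSystem Cfsg.Agent.Fus Subgroup

section
variable {Ω : Type*} [Group Ω] {S : Subgroup Ω} [Finite S] {p : ℕ} [Fact p.Prime]
  {F : FusionSystem S}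

theorem not_le_center (hS : IsPGroup p S) (hF : F.IsSaturated p)
    (h1 : ∀ x ∈ S, ∀ y ∈ S, x⁻¹ * (y * x * y⁻¹) ∈ centralizerIn S S)
    (h2 : ∀ w ∈ S, w ∉ centralizerIn S S → ∀ z ∈ centralizerIn S S,
      ∃ s ∈ S, w⁻¹ * (s * w * s⁻¹) = z)
    {E N : Subgroup Ω} (hE : F.IsEssential p E) (hN : F.IsNormal N) (h0 : N ≠ ⊥) :
    ¬ N ≤ centralizerIn S S := by
  intro hNZ
  have := finite_of_le hE.le
  have hZE : centralizerIn S S ≤ E := fun z hz =>
    hE.isCentric.mem hz.1 (centralizer_le hE.le hz.2)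
  have hn : ∀ s ∈ S, s ∈ normalizerIn S E := fun s hs => ⟨hs, mem_normalizer_fintype
    fun x hx => by simpa using E.mul_mem hx (hZE (h1 x (hE.le hx) s hs))⟩
  have hfix : ∀ s ∈ S, ∀ z ∈ centralizerIn S S, s * z * s⁻¹ = z := fun s hs z hz => by
    rw [hz.2 s hs]; group
  have hnot : ¬ InvA (F.autGroup E) (centralizerIn S S) := fun hI => by
    obtain ⟨s, hs, hsE⟩ := SetLike.exists_of_lt (hF.lt_of_isEssential hS hE)
    exact hsE ((hE.isRadical hS).mem_of_chain2 hS hE.isCentric hI (invA_bot _) bot_le bot_le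
      (hn s hs) (fun x hx => h1 x (hE.le hx) s hs) fun x hx => by simp [hfix s hs x hx])
  have : ∃ γ ∈ F.autGroup E, ∃ z ∈ centralizerIn S S, totA γ z ∉ centralizerIn S S := by
    by_contra hh
    push Not at hh
    exact hnot ⟨hZE, hh⟩
  obtain ⟨γ, hγ, z, hz, hw⟩ := this
  have hNI : InvA (F.autGroup E) N := ⟨hNZ.trans hZE, fun α hα x hx =>
    hN.stronglyClosed.mem (mor_totA hE.le hα) (hZE (hNZ hx)) hx⟩
  obtain ⟨⟨d, hd⟩, hd1⟩ := (ne_bot_iff_exists_ne_one).1 h0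
  obtain ⟨s, hs, e⟩ := h2 _ (hE.le (totA_mem γ (hZE hz))) hw d (hNZ hd)
  let L : Subgroup (MulAut E) :=
    { carrier := {α | α ∈ F.autGroup E ∧ (∀ x ∈ N, totA α x = x) ∧ z⁻¹ * totA α z ∈ N}
      one_mem' := ⟨one_mem _, fun x hx => totA_one (hNI.le hx), by
        rw [totA_one (hZE hz), inv_mul_cancel]; exact one_mem _⟩
      mul_mem' := fun {α β} ha hb => ⟨mul_mem ha.1 hb.1, fun x hx => by
        rw [totA_mul _ _ (hNI.le hx), hb.2.1 x hx, ha.2.1 x hx], by
        have := N.mul_mem ha.2.2 (hNI.mem ha.1 hb.2.2)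
        rwa [(mulOn_totA α).map_mul (E.inv_mem (hZE hz)) (totA_mem β (hZE hz)),
          (mulOn_totA α).map_inv (hZE hz), mul_assoc, mul_inv_cancel_left,
          ← totA_mul _ _ (hZE hz)] at this⟩
      inv_mem' := fun {α} ha => ⟨Subgroup.inv_mem _ ha.1,
        fun x hx => totA_inv_fix (hNI.le hx) (ha.2.1 x hx), by
        have := N.inv_mem (hNI.mem (Subgroup.inv_mem _ ha.1) ha.2.2)
        rwa [(mulOn_totA α⁻¹).map_mul (E.inv_mem (hZE hz)) (totA_mem α (hZE hz)),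
          (mulOn_totA α⁻¹).map_inv (hZE hz), totA_inv_totA _ (hZE hz), mul_inv_rev,
          inv_inv] at this⟩ }
  let φ : L →* N := MonoidHom.mk' (fun α => ⟨z⁻¹ * totA α.1 z, α.2.2.2⟩) fun α β =>
    Subtype.ext (by
      change z⁻¹ * totA (α.1 * β.1) z = z⁻¹ * totA α.1 z * (z⁻¹ * totA β.1 z)
      rw [← α.2.2.1 _ β.2.2.2, (mulOn_totA α.1).map_mul (E.inv_mem (hZE hz))
        (totA_mem β.1 (hZE hz)), (mulOn_totA α.1).map_inv (hZE hz), totA_mul _ _ (hZE hz)]
      group)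
  have hT : autInducedBy S E ≤ L := fun α hα => by
    obtain ⟨t, ht, rfl⟩ := mem_autInducedBy_iff_cAut.1 hα
    refine ⟨F.cAut_mem_autGroup hE.le ht, fun x hx => ?_, ?_⟩
    · rw [totA_cAut ht.2 (hNI.le hx), hfix t ht.1 x (hNZ hx)]
    · rw [totA_cAut ht.2 (hZE hz), hfix t ht.1 z hz, inv_mul_cancel]; exact one_mem _
  have hTk : (autInducedBy S E).subgroupOf L ≤ φ.ker := fun α hα => by
    obtain ⟨t, ht, et⟩ := mem_autInducedBy_iff_cAut.1 (mem_subgroupOf.1 hα)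
    refine Subtype.ext ?_
    change z⁻¹ * totA α.1 z = 1
    rw [← et, totA_cAut ht.2 (hZE hz), hfix t ht.1 z hz, inv_mul_cancel]
  have hLF : L ≤ F.autGroup E := fun α hα => hα.1
  have hnd : ¬ p ∣ Nat.card φ.range := fun hh => by
    refine (hF.fullyAutomized hS hE.isFullyNormalized).not_dvd hS ?_
    rw [← relIndex_mul_relIndex _ _ _ hT hLF]
    refine Dvd.dvd.mul_right (hh.trans ?_) _
    rw [← index_ker]
    exact index_dvd_of_le hTk
  have := finite_of_le hN.le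
  have hr : φ.range = ⊥ := by
    obtain ⟨k, hk⟩ := ((hS.to_le hN.le).to_subgroup φ.range).exists_card_eq
    rcases k with _ | k
    · exact card_eq_one.1 (by simpa using hk)
    · exact absurd (hk ▸ dvd_pow_self p k.succ_ne_zero) hnd
  have hγw : totA γ z ∈ E := totA_mem γ (hZE hz)
  have key : z⁻¹ * totA (γ⁻¹ * cAut E s * γ) z = totA γ⁻¹ d := by
    rw [totA_mul _ _ (hZE hz), totA_mul _ _ hγw, totA_cAut (hn s hs).2 hγw, ← e,
      (mulOn_totA γ⁻¹).map_mul (E.inv_mem hγw) ((mem_normalizer_iff.1 (hn s hs).2 _).1 hγw),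
      (mulOn_totA γ⁻¹).map_inv hγw, totA_inv_totA _ (hZE hz)]
  have hL : γ⁻¹ * cAut E s * γ ∈ L := by
    refine ⟨mul_mem (mul_mem (Subgroup.inv_mem _ hγ) (F.cAut_mem_autGroup hE.le (hn s hs))) hγ,
      fun x hx => ?_, key ▸ hNI.mem (Subgroup.inv_mem _ hγ) hd⟩
    rw [totA_mul _ _ (hNI.le hx), totA_mul _ _ (totA_mem γ (hNI.le hx)),
      totA_cAut (hn s hs).2 (totA_mem γ (hNI.le hx)), hfix s hs _ (hNZ (hNI.mem hγ hx)),
      totA_inv_totA _ (hNI.le hx)]
  have h3 : φ ⟨_, hL⟩ = 1 := mem_bot.1 (hr ▸ ⟨_, rfl⟩)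
  have h4 : totA γ⁻¹ d = 1 := key ▸ congrArg Subtype.val h3
  exact hd1 (Subtype.ext ((totA_eq_one_iff _ (hNI.le hd)).1 h4))

theorem constrained (hS : IsPGroup p S) (hF : F.IsSaturated p)
    (h1 : ∀ x ∈ S, ∀ y ∈ S, x⁻¹ * (y * x * y⁻¹) ∈ centralizerIn S S)
    (h2 : ∀ w ∈ S, w ∉ centralizerIn S S → ∀ z ∈ centralizerIn S S,
      ∃ s ∈ S, w⁻¹ * (s * w * s⁻¹) = z)
    (h3 : ∀ w ∈ S, w ∉ centralizerIn S S → ∀ x ∈ S, ∀ y ∈ S, w * x = x * w → w * y = y * w →
      x * y = y * x) (h0 : F.core ≠ ⊥) : F.IsConstrained p := by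
  refine ⟨hF, ?_⟩
  by_cases hex : ∃ E, F.IsEssential p E
  swap
  · push Not at hex
    exact ⟨S, (hF.isNormal_top_iff hS).2 hex, F.isCentric_top⟩
  have key : ∀ E, F.IsEssential p E → ∀ w ∈ E, w ∉ centralizerIn S S →
      ∀ x, x ∈ E ↔ x ∈ S ∧ w * x = x * w := by
    intro E hE
    have := finite_of_le hE.le
    have hZE : centralizerIn S S ≤ E := fun z hz =>
      hE.isCentric.mem hz.1 (centralizer_le hE.le hz.2)
    have hn : ∀ s ∈ S, s ∈ normalizerIn S E := fun s hs => ⟨hs, mem_normalizer_fintype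
      fun x hx => by simpa using E.mul_mem hx (hZE (h1 x (hE.le hx) s hs))⟩
    have hnot : ¬ E ⊓ centralizer (E : Set Ω) ≤ centralizerIn S S := fun hh => by
      obtain ⟨s, hs, hsE⟩ := SetLike.exists_of_lt (hF.lt_of_isEssential hS hE)
      refine hsE ((hE.isRadical hS).mem_of_chain2 hS hE.isCentric
        ((invA_top _).inf_centralizer (invA_top _)) (invA_bot _) bot_le bot_le
        (hn s hs) (fun x hx => ?_) fun x hx => by rw [(hh hx).2 s hs]; simp)
      have := h1 x (hE.le hx) s hs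
      exact ⟨hZE this, centralizer_le hE.le this.2⟩
    obtain ⟨v, hv, hvZ⟩ := SetLike.not_le_iff_exists.1 hnot
    have hab : ∀ x ∈ E, ∀ y ∈ E, x * y = y * x := fun x hx y hy =>
      h3 v (hE.le hv.1) hvZ x (hE.le hx) y (hE.le hy) (hv.2 x hx).symm (hv.2 y hy).symm
    exact fun w hw hwZ x => ⟨fun hx => ⟨hE.le hx, hab w hw x hx⟩, fun hx =>
      hE.isCentric.mem hx.1 fun y hy => h3 w (hE.le hw) hwZ y (hE.le hy) x hx.1 (hab w hw y hy) hx.2⟩
  obtain ⟨E, hE⟩ := hex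
  have hN := F.isNormal_core
  obtain ⟨w, hw, hwZ⟩ := SetLike.not_le_iff_exists.1 (not_le_center hS hF h1 h2 hE hN h0)
  have huniq : ∀ R, F.IsEssential p R → R = E := fun R hR => Subgroup.ext fun x => by
    rw [key R hR w (hN.le_of_essential hS hR hw) hwZ, key E hE w (hN.le_of_essential hS hE hw) hwZ]
  refine ⟨E, hF.isNormal_of_alperin hS ?_, hE.isCentric⟩
  rintro R (rfl | hR)
  · refine ⟨hE.le, fun g hg x hx => ?_⟩
    have hwS := hN.le hw
    have hgw : g w ∉ centralizerIn R R := fun hh => hwZ ⟨hwS, fun y hy =>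
      (hg.mor.commute_iff hy hwS).1 (hh.2 _ (hg.maps y hy))⟩
    refine (key E hE _ (hN.le_of_essential hS hE (hN.stronglyClosed.mem hg.mor hwS hw)) hgw _).2
      ⟨hg.maps x (hE.le hx), (hg.mor.commute_iff hwS (hE.le hx)).2
        ((key E hE w (hN.le_of_essential hS hE hw) hwZ x).1 hx).2⟩
  · obtain rfl := huniq R hR
    exact ⟨le_rfl, fun g hg => hg.maps⟩

end

section
open Matrix LF

variable {K : Type*} [Field K]

/-- The upper unitriangular matrix with entries `a, b, c`. -/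
def ut (a b c : K) : SpecialLinearGroup (Fin 3) K :=
  ⟨!![1, a, c; 0, 1, b; 0, 0, 1], by simp [det_fin_three]⟩

theorem ut_mul (a b c a' b' c' : K) :
    ut a b c * ut a' b' c' = ut (a + a') (b + b') (c + c' + a * b') := by
  refine Subtype.ext ?_
  change (!![1, a, c; 0, 1, b; 0, 0, 1] * !![1, a', c'; 0, 1, b'; 0, 0, 1] : Matrix _ _ K) =
    !![1, a + a', c + c' + a * b'; 0, 1, b + b'; 0, 0, 1]
  rw [mul_fin_three]
  ext i j
  fin_cases i <;> fin_cases j <;> simp <;> ring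

theorem ut_inj {a b c a' b' c' : K} : ut a b c = ut a' b' c' ↔ a = a' ∧ b = b' ∧ c = c' := by
  refine ⟨fun h => ?_, by rintro ⟨rfl, rfl, rfl⟩; rfl⟩
  have h' := congrArg (fun g : SpecialLinearGroup (Fin 3) K => (g.1 0 1, g.1 1 2, g.1 0 2)) h
  simpa [ut] using h'

theorem ut_comm {a b c a' b' c' : K} :
    ut a b c * ut a' b' c' = ut a' b' c' * ut a b c ↔ a * b' = a' * b := by
  rw [ut_mul, ut_mul, ut_inj]
  exact ⟨fun h => by linear_combination h.2.2, fun h =>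
    ⟨add_comm _ _, add_comm _ _, by linear_combination h⟩⟩

theorem mem_uG_iff {g : SpecialLinearGroup (Fin 3) K} :
    g ∈ uG (slφ 3 K) id ↔ ∃ a b c, g = ut a b c := by
  rw [mem_uG, mx_sl]
  constructor
  · intro h
    refine ⟨g.1 0 1, g.1 1 2, g.1 0 2, Subtype.ext ?_⟩
    have h00 := h 0 0 le_rfl
    have h11 := h 1 1 le_rfl
    have h22 := h 2 2 le_rfl
    have h10 := h 1 0 (by decide)
    have h20 := h 2 0 (by decide)
    have h21 := h 2 1 (by decide)
    ext i j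
    fin_cases i <;> fin_cases j <;> simp_all [ut]
  · rintro ⟨a, b, c, rfl⟩ i j hij
    fin_cases i <;> fin_cases j <;> simp_all [ut]

end

/-- Let p be a prime, K a finite field of characteristic p, and S a finite p-group isomorphic to a Sylow p-subgroup of SL₃(K). Then every exotic fusion system F over S (saturated but not the fusion system of a finite group on a Sylow p-subgroup) has no nontrivial normal subgroup: O_p(F) = 1. -/
theorem result {Ω : Type*} [Group Ω] {S : Subgroup Ω} [Finite S] (p : ℕ) [Fact p.Prime] (hS : IsPGroup p S) (F : Cfsg.FusionSystem S) (hF : F.IsSaturated p) {K : Type*} [Field K] [Fintype K] [CharP K p] (T : Sylow p (Matrix.SpecialLinearGroup (Fin 3) K)) (e : ↥S ≃* ↥(T : Subgroup (Matrix.SpecialLinearGroup (Fin 3) K))) (hex : F.IsExotic p) : F.core = ⊥ := by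
  by_contra h0
  have hU : IsPGroup p (LF.uG (LF.slφ 3 K) id) :=
    LF.isPGroup_uG Matrix.SpecialLinearGroup.toGL_injective
  let U : Sylow p (Matrix.SpecialLinearGroup (Fin 3) K) := hU.toSylow
    (LF.sl_full.not_dvd_index Matrix.SpecialLinearGroup.toGL_injective)
  let e' : S ≃* (U : Subgroup (Matrix.SpecialLinearGroup (Fin 3) K)) := e.trans (T.equiv U)
  let j : Ω → Matrix.SpecialLinearGroup (Fin 3) K :=
    tot ((U : Subgroup _).subtype.comp e'.toMonoidHom)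
  have hj : MulOn S j := mulOn_tot _
  have inj : ∀ x ∈ S, ∀ y ∈ S, j x = j y → x = y := fun x hx y hy h => by
    simp only [j, tot_apply _ hx, tot_apply _ hy] at h
    exact congrArg Subtype.val (e'.injective (Subtype.ext h))
  have hm : ∀ x ∈ S, ∃ a b c, j x = ut a b c := fun x hx => by
    simp only [j, tot_apply _ hx]
    exact mem_uG_iff.1 (e' ⟨x, hx⟩).2
  have hs : ∀ a b c, ∃ x ∈ S, j x = ut a b c := fun a b c => by
    obtain ⟨x, hx⟩ := e'.surjective ⟨ut a b c, mem_uG_iff.2 ⟨a, b, c, rfl⟩⟩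
    exact ⟨x, x.2, by simp only [j, tot_coe]; exact congrArg Subtype.val hx⟩
  have hc : ∀ {x y}, x ∈ S → y ∈ S → ∀ {a b c a' b' c'}, j x = ut a b c → j y = ut a' b' c' →
      (x * y = y * x ↔ a * b' = a' * b) := fun {x y} hx hy _ _ _ _ _ _ e1 e2 => by
    rw [← ut_comm, ← e1, ← e2, ← hj x hx y hy, ← hj y hy x hx]
    exact ⟨fun h => by rw [h], inj _ (S.mul_mem hx hy) _ (S.mul_mem hy hx)⟩
  have hZ : ∀ {x}, x ∈ S → ∀ {a b c}, j x = ut a b c →
      (x ∈ centralizerIn S S ↔ a = 0 ∧ b = 0) := fun {x} hx a b c ex => by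
    refine ⟨fun h => ?_, fun h => ⟨hx, fun y hy => ?_⟩⟩
    · obtain ⟨y, hy, ey⟩ := hs 1 0 0
      obtain ⟨z, hz, ez⟩ := hs 0 1 0
      have h1 := (hc hy hx ey ex).1 (h.2 y hy)
      have h2 := (hc hz hx ez ex).1 (h.2 z hz)
      exact ⟨by simpa using h2.symm, by simpa using h1⟩
    · obtain ⟨a', b', c', ey⟩ := hm y hy
      rw [hc hy hx ey ex, h.1, h.2]; simp
  have hcomm : ∀ {x y}, x ∈ S → y ∈ S → ∀ {a b c a' b' c'}, j x = ut a b c → j y = ut a' b' c' →
      j (x⁻¹ * (y * x * y⁻¹)) = ut 0 0 (a' * b - a * b') := fun {x y} hx hy a b c a' b' c' e1 e2 => by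
    rw [hj.map_mul (S.inv_mem hx) (S.mul_mem (S.mul_mem hy hx) (S.inv_mem hy)), hj.map_conj hy hx,
      hj.map_inv hx, inv_mul_eq_iff_eq_mul, mul_inv_eq_iff_eq_mul, e1, e2, ut_mul, ut_mul, ut_mul,
      ut_inj]
    exact ⟨by ring, by ring, by ring⟩
  have hcon : F.IsConstrained p := by
    refine constrained hS hF (fun x hx y hy => ?_) (fun w hw hwZ z hz => ?_)
      (fun w hw hwZ x hx y hy h1 h2 => ?_) h0
    · obtain ⟨a, b, c, e1⟩ := hm x hx
      obtain ⟨a', b', c', e2⟩ := hm y hy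
      exact (hZ (S.mul_mem (S.inv_mem hx) (S.mul_mem (S.mul_mem hy hx) (S.inv_mem hy)))
        (hcomm hx hy e1 e2)).2 ⟨rfl, rfl⟩
    · obtain ⟨a, b, c, e1⟩ := hm w hw
      obtain ⟨a', b', c', e2⟩ := hm z hz.1
      obtain ⟨rfl, rfl⟩ := (hZ hz.1 e2).1 hz
      rw [hZ hw e1] at hwZ
      have : ∃ u v : K, u * b - a * v = c' := by
        by_cases hb : b = 0
        · have ha : a ≠ 0 := fun ha => hwZ ⟨ha, hb⟩
          exact ⟨0, -c' / a, by field_simp; ring⟩
        · exact ⟨c' / b, 0, by field_simp; ring⟩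
      obtain ⟨u, v, huv⟩ := this
      obtain ⟨s, hs', es⟩ := hs u v 0
      exact ⟨s, hs', inj _ (S.mul_mem (S.inv_mem hw) (S.mul_mem (S.mul_mem hs' hw)
        (S.inv_mem hs'))) _ hz.1 (by rw [hcomm hw hs' e1 es, huv, e2])⟩
    · obtain ⟨a, b, c, e1⟩ := hm w hw
      obtain ⟨a₁, b₁, c₁, e2⟩ := hm x hx
      obtain ⟨a₂, b₂, c₂, e3⟩ := hm y hy
      rw [hZ hw e1] at hwZ
      rw [hc hw hx e1 e2] at h1
      rw [hc hw hy e1 e3] at h2
      rw [hc hx hy e2 e3]
      by_cases hb : b = 0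
      · have ha : a ≠ 0 := fun ha => hwZ ⟨ha, hb⟩
        apply mul_left_cancel₀ ha
        linear_combination a₁ * h2 - a₂ * h1
      · apply mul_left_cancel₀ hb
        linear_combination b₁ * h2 - b₂ * h1
  obtain ⟨G, _, ι, h⟩ := hcon.exists_isModel hS
  exact hex.2 ⟨G, inferInstance, h.1, ι, h.2.1, h.2.2.1⟩

end Cfsg.Agent.S5259
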