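import Mathlib
import Cfsg.Statements.S3784
import Cfsg.Agent.NT.Zsigmondy

set_option autoImplicit false
open Cfsg

namespace Cfsg.Agent.S3784

/-- Let p, q be primes and a, b positive integers with p^a = q^b + 1. Then either p = 2, b = 1, a is prime and q = 2^a − 1; or q = 2, a = 1, b is a power of 2 and p = 2^b + 1; or p^a = 9 and q^b = 8. -/
theorem result (p q a b : ℕ) (hp : p.Prime) (hq : q.Prime) (ha : 1 ≤ a) (hb : 1 ≤ b) (h : p ^ a = q ^ b + 1) : (p = 2 ∧ b = 1 ∧ a.Prime ∧ q + 1 = 2 ^ a) ∨ (q = 2 ∧ a = 1 ∧ (∃ m : ℕ, b = 2 ^ m) ∧ p = 2 ^ b + 1) ∨ (p ^ a = 9 ∧ q ^ b = 8) := by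
  have hq1 : 1 < q ^ b := Nat.one_lt_pow (by omega) hq.one_lt
  rcases hp.eq_two_or_odd' with rfl | hpo
  · -- `p = 2`, so `q` is odd
    have hqo : Odd q := by
      rcases hq.eq_two_or_odd' with rfl | h'
      · exfalso
        have h1 : 2 ∣ 2 ^ a := dvd_pow_self 2 (by omega)
        have h2 : 2 ∣ 2 ^ b := dvd_pow_self 2 (by omega)
        omega
      · exact h'
    have ha2 : 2 ≤ a := by
      by_contra h'
      obtain rfl : a = 1 := by omega
      omega
    have hbo : Odd b := by
      rcases Nat.even_or_odd b with ⟨c, rfl⟩ | h'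
      · exfalso
        have h4 : 4 ∣ 2 ^ a := by simpa using Nat.pow_dvd_pow 2 ha2
        have h8 := Nat.eight_dvd_sq_sub_one_of_odd (hqo.pow (n := c))
        rw [← pow_mul, mul_two] at h8
        omega
      · exact h'
    have hb1 : b = 1 := by
      by_contra hb1
      have hb3 : 3 ≤ b := by obtain ⟨t, ht⟩ := hbo; omega
      obtain ⟨r, hr, hr1, -, hr2⟩ := NT.zsigmondy' (a := q) (n := 2 * b) hq.one_lt (by omega)
        (by rintro ⟨rfl, -⟩; exact absurd hqo (by decide)) (by rintro ⟨h', -⟩; omega)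
      have e : q ^ (2 * b) - 1 = (q ^ b + 1) * (q ^ b - 1) := by
        rw [mul_comm 2 b, pow_mul]
        simpa using Nat.sq_sub_sq (q ^ b) 1
      have h1 := (hr1 _).mpr dvd_rfl
      rw [e] at h1
      rcases (Nat.Prime.dvd_mul hr).mp h1 with h2 | h2
      · rw [← h] at h2
        have := Nat.le_of_dvd (by norm_num) (hr.dvd_of_dvd_pow h2)
        omega
      · have := Nat.le_of_dvd (by omega) ((hr1 _).mp h2)
        omega
    subst hb1
    rw [pow_one] at h
    refine Or.inl ⟨rfl, rfl, ?_, h.symm⟩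
    have : q = 2 ^ a - 1 := by omega
    exact (Nat.prime_of_pow_sub_one_prime (by omega) (this ▸ hq)).2
  · -- `p` odd, so `q = 2`
    have hq2 : q = 2 := by
      rcases hq.eq_two_or_odd' with h' | h'
      · exact h'
      · exfalso
        obtain ⟨s, hs⟩ := hpo.pow (n := a)
        obtain ⟨t, ht⟩ := h'.pow (n := b)
        omega
    subst hq2
    by_cases ha1 : a = 1
    · subst ha1
      rw [pow_one] at h
      exact Or.inr (Or.inl ⟨rfl, rfl,
        Nat.pow_of_pow_add_prime (a := 2) (by norm_num) (by omega) (h ▸ hp), h⟩)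
    by_cases h2 : a = 2 ∧ ∃ m : ℕ, p + 1 = 2 ^ m
    · obtain ⟨rfl, m, hm⟩ := h2
      have e : 2 ^ b = (p + 1) * (p - 1) := by
        have := Nat.sq_sub_sq p 1
        simp only [one_pow] at this
        omega
      obtain ⟨k, -, hk⟩ := (Nat.dvd_prime_pow Nat.prime_two).mp (Dvd.intro_left _ e.symm)
      have hp3 : 3 ≤ p := by have := hp.two_le; obtain ⟨t, ht⟩ := hpo; omega
      have hp3' : p = 3 := by
        by_contra hne
        have hm2 : 2 ≤ m := by
          by_contra hlt
          have : 2 ^ m ≤ 2 ^ 1 := Nat.pow_le_pow_right (by norm_num) (by omega)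
          omega
        have hk2 : 2 ≤ k := by
          by_contra hlt
          have : 2 ^ k ≤ 2 ^ 1 := Nat.pow_le_pow_right (by norm_num) (by omega)
          obtain ⟨t, ht⟩ := hpo
          omega
        have h4 : 4 ∣ 2 ^ m := by simpa using Nat.pow_dvd_pow 2 hm2
        have h4' : 4 ∣ 2 ^ k := by simpa using Nat.pow_dvd_pow 2 hk2
        omega
      subst hp3'
      exact Or.inr (Or.inr ⟨by norm_num, by omega⟩)
    · exfalso
      obtain ⟨r, hr, hr1, -, hr2⟩ := NT.zsigmondy' (a := p) (n := a) hp.one_lt (by omega)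
        (by rintro ⟨rfl, -⟩; exact absurd hpo (by decide)) h2
      have h1 := (hr1 _).mpr dvd_rfl
      rw [h, Nat.add_sub_cancel] at h1
      have := Nat.le_of_dvd (by norm_num) (hr.dvd_of_dvd_pow h1)
      omega

end Cfsg.Agent.S3784
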