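import Mathlib
import Cfsg.Statements.S0018
import Cfsg.Agent.S0017
import Cfsg.Agent.GT.PPrimeCore

set_option autoImplicit false
open Cfsg

namespace Cfsg.Agent.S0018

/-- A finite solvable group whose Sylow p-subgroups are abelian has p-length one: a Sylow p-subgroup together with the largest normal subgroup of order prime to p generates a normal subgroup. -/
theorem result {G : Type*} [Group G] [Finite G] [Group.IsSolvable G]
    (p : ℕ) [Fact p.Prime] (P : Sylow p G) (hP : IsMulCommutative P) :
    ((P : Subgroup G) ⊔ Cfsg.pPrimeCore p G).Normal := by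

  have hsurj := QuotientGroup.mk'_surjective (pPrimeCore p G)
  have h1 := S0017.result (G := G ⧸ pPrimeCore p G) p GT.pPrimeCore_quotient_pPrimeCore
  set Q := P.mapSurjective hsurj
  have h2 : pCore p (G ⧸ pPrimeCore p G) ≤ Q := (GT.isPGroup_pCore p).le_sylow_of_normal Q
  have h3 : (Q : Subgroup _) ≤ pCore p (G ⧸ pPrimeCore p G) := by
    refine le_trans ?_ h1
    rintro _ ⟨x, hx, rfl⟩ y hy
    obtain ⟨y, hy', rfl⟩ := h2 hy
    rw [← map_mul, ← map_mul]
    congr 1
    exact congrArg Subtype.val (mul_comm' (⟨y, hy'⟩ : P) ⟨x, hx⟩)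
  have h4 : (Q : Subgroup (G ⧸ pPrimeCore p G)).Normal := by
    rw [← le_antisymm h2 h3]; infer_instance
  have h5 := h4.comap (QuotientGroup.mk' _)
  rwa [Sylow.coe_mapSurjective, Subgroup.comap_map_eq, QuotientGroup.ker_mk'] at h5

end Cfsg.Agent.S0018
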