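import Mathlib
import Cfsg.Statements.S5596
import Cfsg.Agent.Spor.ESSingular

set_option autoImplicit false
open Cfsg

namespace Cfsg.Agent.S5596

open Cfsg.Agent.Spor Subgroup

/-- Setting: `z` is an involution of the finite group `G`; for each element `x`, `Q x` is the largest normal 2-subgroup of the centralizer of `x`; `Q z` is extraspecial and contains its own centralizer in `G`. A subgroup `U` is singular when it is elementary abelian, every non-identity element of `U` is conjugate to `z`, and any two non-identity elements `u`, `v` of `U` are orthogonal (`v ∈ Q u`). Write `QU` for the intersection of the `Q u` and `LU` for the join of the `Q u` over the non-identity `u` in `U`. If `U` is singular of order `2 ^ n` with `n ≥ 2`, then `U ≤ QU ≤ LU`, `LU` normalizes `U`, and `LU` induces on `U` its full automorphism group (the general linear group of dimension `n` over the field with two elements): every automorphism of `U` is conjugation by some element of `LU`.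 -/
theorem result {G : Type*} [Group G] [Finite G]
    (Q : G → Subgroup G)
    (hQ : ∀ x : G, Q x = (Cfsg.pCore 2 ↥(Subgroup.centralizer ({x} : Set G))).map (Subgroup.centralizer ({x} : Set G)).subtype)
    (z : G) (hz : orderOf z = 2) (hE : Cfsg.IsExtraspecial 2 ↥(Q z))
    (hC : Subgroup.centralizer ((Q z : Subgroup G) : Set G) ≤ Q z)
    (U : Subgroup G) (hU2 : ∀ u ∈ U, u * u = 1)
    (hS : ∀ u ∈ U, u ≠ 1 → ∃ g : G, g * z * g⁻¹ = u)
    (hO : ∀ u ∈ U, ∀ v ∈ U, u ≠ 1 → v ≠ 1 → v ∈ Q u)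
    (QU LU : Subgroup G) (hQU : QU = ⨅ u ∈ ((U : Set G) \ {1}), Q u) (hLU : LU = ⨆ u ∈ ((U : Set G) \ {1}), Q u)
    (n : ℕ) (hn : 2 ≤ n) (hcard : Nat.card ↥U = 2 ^ n) :
    U ≤ QU ∧ QU ≤ LU ∧ LU ≤ Subgroup.normalizer (U : Set G) ∧
      ∀ φ : ↥U ≃* ↥U, ∃ g ∈ LU, ∀ u : ↥U, g * (u : G) * g⁻¹ = ((φ u : ↥U) : G) := by
  have hes : ∀ u ∈ U, u ≠ 1 → ES2 (Q u) u := fun u hu h1 => (es2_of_singular hQ hz hE hC (hS u hu h1)).1
  have hUQ : ∀ u ∈ U, u ≠ 1 → U ≤ Q u := by
    intro u hu h1 v hv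
    by_cases hv1 : v = 1
    · rw [hv1]; exact one_mem _
    · exact hO u hu v hv h1 hv1
  have hN : LU ≤ normalizer (U : Set G) := hLU ▸ iSup_le_normalizer_of_singular hes hO
  have hQL : ∀ u ∈ U, u ≠ 1 → Q u ≤ LU := fun u hu h1 =>
    hLU ▸ le_iSup₂_of_le (f := fun u (_ : u ∈ (U : Set G) \ {1}) => Q u) u ⟨hu, h1⟩ le_rfl
  refine ⟨hQU ▸ le_iInf₂ fun u hu => hUQ u hu.1 hu.2, ?_, hN, ?_⟩
  · have : U ≠ ⊥ := by
      intro e
      rw [e, card_bot] at hcard
      have : 2 ^ 2 ≤ 2 ^ n := Nat.pow_le_pow_right (by norm_num) hn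
      omega
    obtain ⟨⟨u, hu⟩, hu1⟩ := (nontrivial_iff_exists_ne (1 : U)).1 ((nontrivial_iff_ne_bot U).2 this)
    have hu1' : u ≠ 1 := fun e => hu1 (Subtype.ext e)
    exact le_trans (hQU ▸ iInf₂_le_of_le (f := fun u (_ : u ∈ (U : Set G) \ {1}) => Q u) u ⟨hu, hu1'⟩ le_rfl)
      (hQL u hu hu1')
  · intro φ
    -- for `g ∈ LU` the set of points where `φ` agrees with conjugation by `g`
    let F : G → Subgroup G := fun g =>
      (MonoidHom.eqLocus ((MulAut.conj g).toMonoidHom.comp U.subtype)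
        (U.subtype.comp φ.toMonoidHom)).map U.subtype
    have hF : ∀ g x, x ∈ F g ↔ ∃ hx : x ∈ U, g * x * g⁻¹ = φ ⟨x, hx⟩ := by
      intro g x
      constructor
      · rintro ⟨y, hy, rfl⟩; exact ⟨y.2, hy⟩
      · rintro ⟨hx, e⟩; exact ⟨⟨x, hx⟩, e, rfl⟩
    obtain ⟨g, hg, hmax⟩ := Set.exists_max_image (LU : Set G) (fun g => Nat.card (F g))
      (Set.toFinite _) ⟨1, LU.one_mem⟩
    refine ⟨g, hg, fun v => ?_⟩
    by_contra hv
    -- `a = g v g⁻¹`, `b = φ v`
    have ha : g * v * g⁻¹ ∈ U := (mem_normalizer_iff.1 (hN hg) v).1 v.2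
    set a := g * v * g⁻¹ with hadef
    set b : G := ((φ v : U) : G) with hbdef
    have hb : b ∈ U := (φ v).2
    have hu : b * a ∈ U := U.mul_mem hb ha
    have hu1 : b * a ≠ 1 := fun e => hv (by
      calc a = b * b * a := by rw [hU2 b hb, one_mul]
        _ = b := by rw [mul_assoc, e, mul_one])
    let A := (F g).map (MulAut.conj g).toMonoidHom
    have hAU : A ≤ U := by
      rintro _ ⟨x, hx, rfl⟩
      obtain ⟨hx', -⟩ := (hF g x).1 hx
      exact (mem_normalizer_iff.1 (hN hg) x).1 hx'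
    obtain ⟨K, hK⟩ := exists_ext2 A (b * a) (fun x hx => by
      rw [comm_of_sq_eq_one hU2 hu (hAU hx), mul_inv_cancel_right]; exact hx) (by rw [hU2 _ hu]; exact one_mem _)
    have hKU : K ≤ U := by
      intro x hx
      rcases (hK x).1 hx with h1 | h1
      · exact hAU h1
      · exact (U.mul_mem_cancel_left hu).1 (hAU h1)
    have haK : a ∉ K := by
      intro h1
      rcases (hK a).1 h1 with h2 | h2
      · rw [mem_map_conj_iff] at h2
        have h3 : g⁻¹ * a * g = v := by rw [hadef]; group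
        rw [h3] at h2
        obtain ⟨_, e⟩ := (hF g v).1 h2
        exact hv e
      · rw [mul_assoc, hU2 a ha, mul_one] at h2
        obtain ⟨x, hx, e⟩ := h2
        obtain ⟨hx', e2⟩ := (hF g x).1 hx
        have e3 : φ ⟨x, hx'⟩ = φ v := Subtype.ext (e2.symm.trans e)
        have e4 : x = v := congrArg Subtype.val (φ.injective e3)
        apply hv
        rw [hadef, ← e4]; exact e
    obtain ⟨q, hq, hq1, hq2⟩ := (hes _ hu hu1).exists_sep (hKU.trans (hUQ _ hu hu1))
      ((hK _).2 (Or.inr (by rw [hU2 _ hu]; exact one_mem _))) (hUQ _ hu hu1 ha) haK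
    have hqa := (hes _ hu hu1).aes.conj_of_ne hq (hUQ _ hu hu1 ha) hq2
    rw [mul_assoc b, hU2 a ha, mul_one] at hqa
    have hlt : F g < F (q * g) := by
      refine lt_of_le_of_ne (fun x hx => ?_) fun e => hv ?_
      · obtain ⟨hx', e⟩ := (hF g x).1 hx
        refine (hF _ x).2 ⟨hx', ?_⟩
        have := hq1 _ ((hK _).2 (Or.inl (conj_mem_map_conj g hx)))
        rw [← e]
        calc q * g * x * (q * g)⁻¹ = q * (g * x * g⁻¹) * q⁻¹ := by group
          _ = _ := by rw [this]; group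
      · have : (v : G) ∈ F (q * g) := (hF _ _).2 ⟨v.2, by
          calc q * g * v * (q * g)⁻¹ = q * a * q⁻¹ := by rw [hadef]; group
            _ = _ := hqa⟩
        rw [← e] at this
        obtain ⟨_, e2⟩ := (hF g v).1 this
        exact e2
    have h1 := hmax (q * g) (LU.mul_mem (hQL _ hu hu1 hq) hg)
    have h2 := GT.card_lt_of_lt hlt
    omega

end Cfsg.Agent.S5596
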