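import Cfsg.Statements.S2049
import Cfsg.Agent.Spor.MX.HeGen

set_option autoImplicit false
open Cfsg

namespace Cfsg.Agent.S2049

open Cfsg.Agent.Spor Cfsg.Agent.Spor.MX

/-- The Schur multiplier of the Held group (the finitely presented group of the definitions) is trivial; here the Schur multiplier is described through stem extensions, as in the definitions: surjective homomorphisms onto the group from a finite group, whose kernel is central in that finite group and contained in that finite group's commutator subgroup. -/
theorem result : Cfsg.HasCyclicSchurMultiplier Cfsg.Spor.He 1 := by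
  exact cyclic_top (cyclic_of_bounds he_gen.2.2 [(2, 10, 0), (3, 3, 0), (5, 2, 0), (7, 3, 0)] [17] (by decide +kernel)
    (forall_mem_cons' (he_gen.not_dvd 2 1 (he_l2 he_gen.2.1) (by decide +kernel))
      (forall_mem_cons' (he_gen.not_dvd 3 1 (he_l3 he_gen.2.1) (by decide +kernel))
      (forall_mem_cons' (he_gen.not_dvd 5 1 (he_l5 he_gen.2.1) (by decide +kernel))
      (forall_mem_cons' (he_gen.not_dvd 7 1 (he_l7 he_gen.2.1) (by decide +kernel))
      forall_mem_nil'))))
    (one_dvd _))

end Cfsg.Agent.S2049
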