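import Cfsg.Statements.S2051
import Cfsg.Agent.Spor.MX.RuGen
import Cfsg.Agent.Spor.MX.RuCov

set_option autoImplicit false
open Cfsg

namespace Cfsg.Agent.S2051

open Cfsg.Agent.Spor Cfsg.Agent.Spor.MX

/-- The Schur multiplier of the Rudvalis group (the unitary automorphism group of the rank-28 Gaussian lattice modulo its centre) is cyclic of order 2; here the Schur multiplier is described through stem extensions, as in the definitions: surjective homomorphisms onto the group from a finite group, whose kernel is central in that finite group and contained in that finite group's commutator subgroup. -/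
theorem result : Cfsg.HasCyclicSchurMultiplier Cfsg.Spor.Ru 2 := by
  exact cyclic_top (cyclic_of_bounds ru_gen.2.2 [(2, 14, 1), (3, 3, 0), (5, 3, 0)] [7, 13, 29] (by decide +kernel)
    (forall_mem_cons' (ru_gen.not_dvd 2 2 (ru_l4 ru_gen.2.1) (by decide +kernel))
      (forall_mem_cons' (ru_gen.not_dvd 3 1 (ru_l3 ru_gen.2.1) (by decide +kernel))
      (forall_mem_cons' (ru_gen.not_dvd 5 1 (ru_l5 ru_gen.2.1) (by decide +kernel))
      forall_mem_nil')))
    (ru2_cover ru_gen (commute_of_base ru_tabs ru_base (by decide +kernel))))

end Cfsg.Agent.S2051
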