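import Mathlib
import Cfsg.Agent.Perm.PrimeDegree2
import Cfsg.Agent.Perm.PrimeIndex
import Cfsg.Agent.Perm.Basic
import Cfsg.Agent.S0498
import Cfsg.Statements.S0679

set_option autoImplicit false
open Cfsg

namespace Cfsg.Agent.S0679

open Cfsg.Agent.Perm MulAction

section aux

local instance factPrime11 : Fact (Nat.Prime 11) := ⟨by norm_num⟩

/-- Candidate permutations normalising multiplication by `3`. -/
def cand (r a b : ZMod 11) : ZMod 11 → ZMod 11 :=
  ![0, a, b, r * a, r ^ 4 * a, r ^ 3 * a, r * b, r ^ 2 * b, r ^ 4 * b, r ^ 2 * a, r ^ 3 * b]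

/-- Generators used in words. -/
def gens (f h : ZMod 11 → ZMod 11) (i : ℕ) (x : ZMod 11) : ZMod 11 :=
  if i = 0 then x + 1 else if i = 1 then f x else h x

/-- Evaluation of a word. -/
def ev (f h : ZMod 11 → ZMod 11) (w : List ℕ) (x : ZMod 11) : ZMod 11 :=
  w.foldr (gens f h) x

theorem eq_cand (f : ZMod 11 → ZMod 11) (r : ZMod 11) (h : ∀ x, f (3 * x) = r * f x)
    (h0 : f 0 = 0) : f = cand r (f 1) (f 2) := by
  have h3 : f 3 = r * f 1 := h 1
  have h9 : f 9 = r * f 3 := h 3
  have h5 : f 5 = r * f 9 := h 9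
  have h4 : f 4 = r * f 5 := h 5
  have h6 : f 6 = r * f 2 := h 2
  have h7 : f 7 = r * f 6 := h 6
  have h10 : f 10 = r * f 7 := h 7
  have h8 : f 8 = r * f 10 := h 10
  funext x
  fin_cases x
  · exact h0
  · rfl
  · rfl
  · exact h3
  · change f 4 = r ^ 4 * f 1
    rw [h4, h5, h9, h3]; ring
  · change f 5 = r ^ 3 * f 1
    rw [h5, h9, h3]; ring
  · exact h6
  · change f 7 = r ^ 2 * f 2
    rw [h7, h6]; ring
  · change f 8 = r ^ 4 * f 2
    rw [h8, h10, h7, h6]; ring
  · change f 9 = r ^ 2 * f 1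
    rw [h9, h3]; ring
  · change f 10 = r ^ 3 * f 2
    rw [h10, h7, h6]; ring

/-- Words used to produce elements of order divisible by `7`. -/
def words : List (List ℕ) :=
  [[1, 0], [1, 0, 0], [1, 1, 0], [1, 0, 0, 0], [1, 1, 0, 0], [1, 1, 1, 0], [1, 0, 0, 0, 0],
    [1, 1, 0, 1, 0], [1, 0, 1, 0, 0], [1, 0, 1, 1, 0, 0], [1, 0, 1, 0, 0, 0, 0],
    [1, 0, 1, 0, 1, 0, 0, 0], [1, 0, 1, 0, 1, 0, 1, 0, 0], [1, 0, 1, 0, 1, 0, 1, 0, 0, 0],
    [1, 0, 1, 0, 1, 0, 0, 0, 0, 0], [1, 0, 1, 0, 0, 0, 1, 0, 0, 0, 0]]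

theorem key1 : ∀ r ∈ ([3, 9, 5, 4] : List (ZMod 11)), ∀ a ∈ ([1, 2] : List (ZMod 11)),
    ∀ b : ZMod 11, Function.Injective (cand r a b) →
      (r, a, b) ∈ ([(3, 1, 2), (3, 2, 4), (9, 1, 6), (9, 1, 10), (5, 1, 6), (5, 1, 7), (4, 1, 10),
        (4, 1, 8)] : List (ZMod 11 × ZMod 11 × ZMod 11)) ∨
      ∃ w ∈ words, ∃ x, (ev (cand r a b) id w)^[7] x = x ∧ ev (cand r a b) id w x ≠ x := by
  decide +kernel

theorem key2 : ∀ z ∈ ([(9, 1, 6), (9, 1, 10), (5, 1, 6), (5, 1, 7), (4, 1, 10),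
        (4, 1, 8)] : List (ZMod 11 × ZMod 11 × ZMod 11)),
      ∃ w ∈ ([[1, 2, 0, 0], [2, 1, 0]] : List (List ℕ)), ∃ x,
        (ev (cand z.1 z.2.1 z.2.2) (fun y => -y) w)^[7] x = x ∧
          ev (cand z.1 z.2.1 z.2.2) (fun y => -y) w x ≠ x := by
  decide +kernel

/-- Words for the transitivity of the stabilisers of two and three points. -/
def words' : List (List ℕ) :=
  [[], [0, 1, 0, 0, 0, 0, 0, 1, 0, 1], [0, 1, 1, 0, 1, 0, 0, 1, 1, 0, 0],
    [0, 1, 0, 1, 0, 1, 0, 1, 1, 0, 0, 0], [1], [1, 1, 1], [0, 0, 1, 0, 1, 1, 0, 1, 0, 0, 1, 0],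
    [1, 0, 1, 0, 0, 0, 0, 0, 1, 0, 1], [1, 1], [0, 0, 0, 1, 1, 0, 1, 0, 1, 0, 1, 0, 1, 0, 0],
    [0, 0, 0, 1, 1, 0, 1, 0, 1, 0, 0, 1, 0], [1, 0, 0, 1, 1, 0, 1, 0, 0, 0, 1, 0, 0],
    [1, 0, 0, 0, 0, 1, 0, 1, 0, 1, 0, 1, 0, 1, 0], [1, 1, 0, 1, 0, 0, 0, 0, 0, 1, 0],
    [1, 1, 0, 1, 0, 0, 0, 0, 1, 0, 1, 0, 0], [0, 1, 0, 1, 0, 1, 0, 1, 1, 0, 0, 0, 1],
    [1, 1, 1, 0, 1, 0, 1, 0], [1, 0, 1, 0, 1, 0], [1, 1, 0, 1, 0, 1, 0], [0, 1, 0, 1, 0, 1, 1, 1],
    [0, 1, 0, 1, 0], [1, 0, 0, 1, 0, 0, 0, 0, 1, 0, 0], [0, 1, 0, 1, 0, 1],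
    [0, 0, 1, 0, 1, 0, 0, 0, 1, 1, 0, 0, 0, 0], [0, 0, 0, 0, 0, 1, 1, 1, 0, 1, 1, 1, 0],
    [0, 0, 1, 1, 0, 0, 0, 0, 0, 1, 1, 1], [1, 1, 0, 0, 0, 1, 1, 1, 0, 0, 0, 0, 0, 1, 0],
    [1, 0, 0, 1, 0, 0, 1, 1, 0, 0, 1, 0, 0]]

theorem key3 : ∀ b ∈ ([6, 10] : List (ZMod 11)), ∀ z : ZMod 11, z ≠ 0 → z ≠ 1 →
    (∃ w ∈ words', ev (cand 9 1 b) id w 0 = 0 ∧ ev (cand 9 1 b) id w 1 = 1 ∧
      ev (cand 9 1 b) id w 2 = z) ∧
    (z ≠ 2 → ∃ w ∈ words', ev (cand 9 1 b) id w 0 = 0 ∧ ev (cand 9 1 b) id w 1 = 1 ∧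
      ev (cand 9 1 b) id w 2 = 2 ∧ ev (cand 9 1 b) id w 3 = z) := by
  decide +kernel

theorem sign_neg11 : Equiv.Perm.sign (Equiv.neg (ZMod 11)) = -1 := by
  decide +kernel

theorem key4' : ∀ a ≤ 7, ∀ b ≤ 4, (2 * (2 ^ a * 3 ^ b)) % 11 = 1 % 11 →
    ((11 * (2 ^ a * 3 ^ b)) % 5 = 1 % 5 → 2 ^ a * 3 ^ b = 6) ∧
      ((11 * (2 ^ a * 3 ^ b)) % 5 = 2 → 2 ^ a * 3 ^ b = 72) := by decide +kernel

theorem key4 (m : ℕ) (hm : m ∣ 2 ^ 7 * 3 ^ 4) (h : (2 * m) % 11 = 1 % 11) :
    ((11 * m) % 5 = 1 % 5 → m = 6) ∧ (∀ n, n ≤ 11 * m → 2 * n = 11 * m → n % 5 = 1 % 5 → m = 72) := by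
  have : ((11 * m) % 5 = 1 % 5 → m = 6) ∧ ((11 * m) % 5 = 2 → m = 72) := by
    obtain ⟨x, y, hx, hy, hxy⟩ := Nat.dvd_mul.1 hm
    obtain ⟨a, ha, hx'⟩ := (Nat.dvd_prime_pow Nat.prime_two).1 hx
    obtain ⟨b, hb, hy'⟩ := (Nat.dvd_prime_pow Nat.prime_three).1 hy
    rw [← hxy, hx', hy'] at h ⊢
    exact key4' a ha b hb h
  refine ⟨this.1, fun n _ h1 h2 => this.2 ?_⟩
  rw [← h1, Nat.mul_mod, h2]

section

variable {G : Type*} [Group G] {α : Type*} [MulAction G α] {e : α ≃ ZMod 11}

theorem exists_word {τ u t : G} {f h : ZMod 11 → ZMod 11} (he : ∀ x, e (τ • x) = e x + 1)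
    (hu : ∀ x, e (u • x) = f (e x)) (ht : ∀ x, e (t • x) = h (e x)) (w : List ℕ) :
    ∃ g : G, ∀ x, e (g • x) = ev f h w (e x) := by
  induction w with
  | nil => exact ⟨1, fun x => by simp [ev]⟩
  | cons i w ih =>
    obtain ⟨g, hg⟩ := ih
    by_cases h0 : i = 0
    · exact ⟨τ * g, fun x => by rw [mul_smul, he, hg]; simp [ev, gens, h0]⟩
    by_cases h1 : i = 1
    · exact ⟨u * g, fun x => by rw [mul_smul, hu, hg]; simp [ev, gens, h1]⟩
    · exact ⟨t * g, fun x => by rw [mul_smul, ht, hg]; simp [ev, gens, h0, h1]⟩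

theorem seven_dvd [Finite G] {g : G} {F : ZMod 11 → ZMod 11} (hg : ∀ x, e (g • x) = F (e x))
    {y : ZMod 11} (h1 : F^[7] y = y) (h2 : F y ≠ y) : 7 ∣ Nat.card G := by
  have hp : ∀ (n : ℕ) x, e (g ^ n • x) = F^[n] (e x) := by
    intro n
    induction n with
    | zero => simp
    | succ n ih => intro x; rw [pow_succ, mul_smul, ih, hg]; rfl
  have h3 : period g (e.symm y) ∣ 7 := by
    rw [← pow_smul_eq_iff_period_dvd]
    apply e.injective
    rw [hp]; simpa using h1
  rcases (Nat.dvd_prime (by norm_num)).1 h3 with h | h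
  · exfalso
    apply h2
    have := pow_period_smul g (e.symm y)
    rw [h, pow_one] at this
    have := congrArg e this
    rwa [hg, Equiv.apply_symm_apply] at this
  · rw [← h]
    exact (period_dvd_orderOf g _).trans (orderOf_dvd_natCard g)

end

theorem aux {α : Type*} [Fintype α] [DecidableEq α] (hα : Fintype.card α = 11) (G : Subgroup (Equiv.Perm α)) [MulAction.IsPretransitive G α] (hG : ¬ Group.IsSolvable G) (hA : ¬ alternatingGroup α ≤ G) : (MulAction.IsMultiplyPretransitive G α 4 ∧ ∀ x : Fin 4 ↪ α, MulAction.stabilizer G x = ⊥) ∨ Nonempty (G ≃* Matrix.ProjectiveSpecialLinearGroup (Fin 2) (ZMod 11)) := by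
  haveI : Fact (Nat.Prime 5) := ⟨by norm_num⟩
  have hcard : Nat.card α = 11 := by rw [Nat.card_eq_fintype_card, hα]
  obtain ⟨a₀⟩ : Nonempty α := (Nat.card_pos_iff.1 (by rw [hcard]; norm_num)).1
  obtain ⟨P⟩ : Nonempty (Sylow 11 G) := inferInstance
  obtain ⟨τ, hτP, hτ, e, -, he⟩ := exists_coord_sylow hcard P a₀
  have hprim : IsPreprimitive G α := IsPreprimitive.of_prime_card (by rw [hcard]; norm_num)
  have hPc := card_sylow_of_prime_degree hcard P
  have hPn : ¬ (P : Subgroup G).Normal := by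
    intro hn
    refine hG (isSolvable_of_affine (e := e) fun g => affine_of_mem_normalizer' he ?_)
    rw [hτP, Subgroup.normalizer_eq_top]
    trivial
  have htwo : IsMultiplyPretransitive G α 2 :=
    (affine_or_two_pretransitive he).resolve_left fun h => hG (isSolvable_of_affine h)
  have h110 : 110 ∣ Nat.card G := by
    have := descFactorial_dvd_card htwo (by rw [hcard]; norm_num)
    rwa [hcard] at this
  have h5 := prime_dvd_index_of_isPreprimitive G hprim hA (by omega) Nat.prime_five (by omega)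
  have h7 := prime_dvd_index_of_isPreprimitive G hprim hA (by omega) (q := 7) (by norm_num)
    (by omega)
  obtain ⟨i35, hi35⟩ : 35 ∣ G.index :=
    Nat.Coprime.mul_dvd_of_dvd_of_dvd (by norm_num : Nat.Coprime 5 7) h5 h7
  obtain ⟨m, hm⟩ := h110
  have hmdvd : m ∣ 10368 := by
    have hGi := G.card_mul_index
    rw [Nat.card_perm, hcard, hi35, hm] at hGi
    have : Nat.factorial 11 = 39916800 := by decide
    exact ⟨i35, by nlinarith⟩
  have hn7 : ¬ 7 ∣ Nat.card G := by
    rw [hm]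
    intro h
    have := (Nat.Coprime.dvd_of_dvd_mul_left (by norm_num) h).trans hmdvd
    norm_num at this
  have hm5 : ¬ 5 ∣ m := fun h => by have := h.trans hmdvd; norm_num at this
  -- normal subgroups
  have lemX : ∀ M : Subgroup G, M.Normal → M ≠ ⊥ →
      ¬ ∀ g ∈ M, g ∈ Subgroup.normalizer ((P : Subgroup G) : Set G) →
        ∃ k, ¬ 5 ∣ k ∧ g ^ k = 1 := by
    intro M hM hMb h
    have hsτ : Equiv.Perm.sign (τ : Equiv.Perm α) = 1 := by
      have h1 : (τ : Equiv.Perm α) ^ 11 = 1 := by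
        rw [← Subgroup.coe_pow, orderOf_dvd_iff_pow_eq_one.1 hτ.dvd]; rfl
      have := congrArg Equiv.Perm.sign h1
      rw [map_pow, map_one] at this
      rcases Int.units_eq_one_or (Equiv.Perm.sign (τ : Equiv.Perm α)) with h2 | h2
      · exact h2
      · rw [h2] at this; exact absurd this (by decide)
    have hPM : (P : Subgroup G) ≤ M ⊓ (alternatingGroup α).subgroupOf G := by
      refine le_inf (sylow_le_of_normal_prime_degree hcard M hMb P) ?_
      rw [← hτP, Subgroup.zpowers_le]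
      exact hsτ
    apply hPn
    rw [← eq_sylow_of_normal_prime_degree hcard _ P hPM]
    · infer_instance
    rintro g ⟨⟨hgM, hgA⟩, hgN⟩
    obtain ⟨k, hk, hgk⟩ := h g hgM hgN
    obtain ⟨a, b, hab⟩ := affine_of_mem_normalizer' he (hτP ▸ hgN)
    have hp : ∀ (n : ℕ) x y, e (g ^ n • x) - e (g ^ n • y) = a ^ n * (e x - e y) := by
      intro n
      induction n with
      | zero => simp
      | succ n ih => intro x y; rw [pow_succ, mul_smul, mul_smul, ih, hab, hab]; ring
    have hak : a ^ k = 1 := by simpa [hgk] using (hp k (e.symm 1) (e.symm 0)).symm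
    have hk0 : k ≠ 0 := by rintro rfl; exact hk (dvd_zero 5)
    have ha0 : a ≠ 0 := by rintro rfl; rw [zero_pow hk0] at hak; exact zero_ne_one hak
    have ha2 : a * a = 1 := by
      have h1 : orderOf a ∣ 2 * 5 := orderOf_dvd_of_pow_eq_one (ZMod.pow_card_sub_one_eq_one ha0)
      have h2 : Nat.Coprime (orderOf a) 5 := Nat.Coprime.coprime_dvd_left
        (orderOf_dvd_of_pow_eq_one hak) ((Nat.Prime.coprime_iff_not_dvd Nat.prime_five).2 hk).symm
      rw [← sq]
      exact orderOf_dvd_iff_pow_eq_one.1 (h2.dvd_of_dvd_mul_right h1)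
    rcases mul_self_eq_one_iff.1 ha2 with rfl | rfl
    · rw [← hτP]
      exact mem_zpowers_of_translation he (b := b) (by simpa using hab)
    · exfalso
      have h1 : ((τ ^ (-b).val * g : G) : Equiv.Perm α) = e.symm.permCongr (Equiv.neg (ZMod 11)) := by
        ext x
        apply e.injective
        change e ((τ ^ (-b).val * g : G) • x) = _
        rw [mul_smul, coord_pow he, hab]
        simp
      have h2 := congrArg Equiv.Perm.sign h1
      have hgA' : Equiv.Perm.sign (g : Equiv.Perm α) = 1 := hgA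
      rw [Equiv.Perm.sign_permCongr, sign_neg11, Subgroup.coe_mul, Subgroup.coe_pow, map_mul,
        map_pow, hsτ, hgA'] at h2
      simp at h2
  haveI : Nontrivial G := Finite.one_lt_card_iff_nontrivial.1 (by
    have : m ≠ 0 := by rintro rfl; simp at hm5
    omega)
  obtain ⟨k, hk, hN, hmul⟩ := exists_card_normalizer he
  rw [hτP] at hN hmul
  have hk5 : 5 ∣ k := by
    by_contra h
    refine lemX ⊤ inferInstance top_ne_bot fun g _ hg => ⟨11 * k, fun h' => h ?_, ?_⟩
    · exact Nat.Coprime.dvd_of_dvd_mul_left (by norm_num) h'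
    · rw [← hN]
      exact congrArg Subtype.val (pow_card_eq_one' (x := (⟨g, hg⟩ : Subgroup.normalizer _)))
  obtain ⟨c, -, hc⟩ := hmul 3 (by obtain ⟨j, rfl⟩ := hk5; rw [pow_mul]; exact one_pow j)
  have hcp : ∀ (n : ℕ) x, e (c ^ n • x) = 3 ^ n * e x := by
    intro n
    induction n with
    | zero => simp
    | succ n ih => intro x; rw [pow_succ, mul_smul, ih, hc]; ring
  have hco : orderOf c = 5 := by
    apply orderOf_eq_prime
    · exact eq_of_smul_eq_smul (α := α) fun x => e.injective (by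
        rw [hcp, one_smul]; exact one_mul _)
    · rintro rfl
      have := hc (e.symm 1)
      simp at this
      exact absurd this (by decide)
  have hQc : Nat.card (Subgroup.zpowers c) = 5 := by rw [Nat.card_zpowers, hco]
  let Q : Sylow 5 G := (IsPGroup.of_card (hQc.trans (pow_one 5).symm)).toSylow (by
    have := (Subgroup.zpowers c).card_mul_index
    rw [hQc, hm] at this
    rw [show (Subgroup.zpowers c).index = 22 * m by omega]
    exact fun h => hm5 (Nat.Coprime.dvd_of_dvd_mul_left (by norm_num) h))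
  have hQ : (Q : Subgroup G) = Subgroup.zpowers c := rfl
  -- elements normalising `Q`
  have hnorm : ∀ u ∈ Subgroup.normalizer ((Q : Subgroup G) : Set G), ∃ (i : ℕ) (r a b : ZMod 11),
      (∀ x, e ((c ^ i * u) • x) = cand r a b (e x)) ∧ (∀ x, e ((u * c * u⁻¹) • x) = r * e x) ∧
      (r, a, b) ∈ ([(3, 1, 2), (3, 2, 4), (9, 1, 6), (9, 1, 10), (5, 1, 6), (5, 1, 7), (4, 1, 10),
        (4, 1, 8)] : List (ZMod 11 × ZMod 11 × ZMod 11)) := by
    intro u hu
    have h1 : u * c * u⁻¹ ∈ Subgroup.zpowers c :=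
      (Subgroup.mem_normalizer_iff.1 hu c).1 (Subgroup.mem_zpowers c)
    obtain ⟨j, hj⟩ := (mem_powers_iff_mem_zpowers.2 h1)
    simp only at hj
    have hr : ∀ x, e ((u * c * u⁻¹) • x) = 3 ^ j * e x := fun x => by rw [← hj, hcp]
    set r : ZMod 11 := 3 ^ j with hrdef
    have hr5 : r ^ 5 = 1 := by rw [hrdef, ← pow_mul, mul_comm, pow_mul]; exact one_pow j
    have hr1 : r ≠ 1 := by
      intro h
      have : u * c * u⁻¹ = 1 := eq_of_smul_eq_smul (α := α) fun x => e.injective (by
        rw [hr, h, one_mul, one_smul])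
      have h2 : c = 1 := by simpa using this
      rw [h2, orderOf_one] at hco
      exact absurd hco (by decide)
    have hrm : r ∈ ([3, 9, 5, 4] : List (ZMod 11)) := by
      revert hr5 hr1; generalize r = s; revert s; decide
    have hf : ∀ (i : ℕ) (y : ZMod 11), e ((c ^ i * u) • e.symm (3 * y))
        = r * e ((c ^ i * u) • e.symm y) := by
      intro i y
      have : e.symm (3 * y) = c • e.symm y := e.injective (by simp [hc])
      rw [this, mul_smul, mul_smul, hcp, hcp, ← mul_smul, show u * c = u * c * u⁻¹ * u by group,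
        mul_smul, hr]
      ring
    have hf0 : ∀ i : ℕ, e ((c ^ i * u) • e.symm 0) = 0 := by
      intro i
      have := hf i 0
      rw [mul_zero] at this
      have h2 : (1 - r) * e ((c ^ i * u) • e.symm 0) = 0 := by linear_combination this
      exact (mul_eq_zero.1 h2).resolve_left (sub_ne_zero.2 hr1.symm)
    have hinj : ∀ i : ℕ, Function.Injective fun y => e ((c ^ i * u) • e.symm y) := fun i =>
      e.injective.comp ((MulAction.injective _).comp e.symm.injective)
    obtain ⟨i, hi⟩ : ∃ i : ℕ, e ((c ^ i * u) • e.symm 1) ∈ ([1, 2] : List (ZMod 11)) := by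
      have h1 : e ((c ^ 0 * u) • e.symm 1) ≠ 0 := fun h =>
        one_ne_zero (hinj 0 (h.trans (hf0 0).symm))
      have h2 : ∀ a : ZMod 11, a ≠ 0 → ∃ i : Fin 5, 3 ^ (i : ℕ) * a ∈ ([1, 2] : List (ZMod 11)) := by
        decide
      obtain ⟨i, hi⟩ := h2 _ h1
      exact ⟨i, by simpa [mul_smul, hcp] using hi⟩
    have hcand := eq_cand (fun y => e ((c ^ i * u) • e.symm y)) r (hf i) (hf0 i)
    have hact : ∀ x, e ((c ^ i * u) • x) = cand r (e ((c ^ i * u) • e.symm 1))
        (e ((c ^ i * u) • e.symm 2)) (e x) := fun x => by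
      simpa using congrFun hcand (e x)
    refine ⟨i, r, _, _, hact, hr, ?_⟩
    refine (key1 r hrm _ hi _ (by rw [← hcand]; exact hinj i)).resolve_right ?_
    rintro ⟨w, -, y, h1, h2⟩
    obtain ⟨g, hg⟩ := exists_word (h := id) he hact (t := 1) (by simp) w
    exact hn7 (seven_dvd hg h1 h2)
  have hNC : ¬ Subgroup.normalizer ((Q : Subgroup G) : Set G) ≤
      Subgroup.centralizer ((Q : Subgroup G) : Set G) := by
    intro hle
    have h1 := MonoidHom.not_dvd_card_ker_transferSylow Q hle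
    have h2 := (MonoidHom.ker_transferSylow_isComplement' Q hle).card_mul_card
    refine lemX (MonoidHom.transferSylow Q hle).ker inferInstance ?_ fun g hg _ => ⟨_, h1, ?_⟩
    · intro h
      rw [h, hQ, hQc, hm, Subgroup.card_bot] at h2
      omega
    · exact congrArg Subtype.val (pow_card_eq_one' (x := (⟨g, hg⟩ : MonoidHom.ker _)))
  have hcent : ∀ u : G, u * c * u⁻¹ = c → u ∈ Subgroup.centralizer ((Q : Subgroup G) : Set G) := by
    rintro u hu _ ⟨j, rfl⟩
    have : Commute c u := by rw [mul_inv_eq_iff_eq_mul] at hu; exact hu.symm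
    exact (this.zpow_left j).eq
  have hnot : ∀ t : G, ¬ ∀ x, e (t • x) = - e x := by
    intro t ht
    obtain ⟨u, hu, hu'⟩ := Set.not_subset.1 hNC
    obtain ⟨i, r, a, b, h1, h2, h3⟩ := hnorm u hu
    have hr : r ≠ 3 := by
      rintro rfl
      exact hu' (hcent u (eq_of_smul_eq_smul (α := α) fun x => e.injective (by rw [h2, hc])))
    obtain ⟨w, -, y, h4, h5⟩ := key2 (r, a, b) (by
      simp only [List.mem_cons, Prod.mk.injEq, hr, false_and, false_or] at h3 ⊢
      exact h3)
    obtain ⟨g, hg⟩ := exists_word (h := fun y => -y) he h1 ht w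
    exact hn7 (seven_dvd hg h4 h5)
  have hk' : k = 5 := by
    have hk10 : k ∈ Nat.divisors 10 := Nat.mem_divisors.2 ⟨hk, by norm_num⟩
    have : ∀ k ∈ Nat.divisors 10, 5 ∣ k → k = 5 ∨ k = 10 := by decide
    rcases this k hk10 hk5 with h | rfl
    · exact h
    · obtain ⟨t, -, ht⟩ := hmul (-1) (by decide)
      exact absurd (fun x => by rw [ht, neg_one_mul]) (hnot t)
  subst hk'
  have hC : Subgroup.centralizer ((Q : Subgroup G) : Set G) = Q := by
    apply le_antisymm
    · intro u hu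
      obtain ⟨i, r, a, b, h1, h2, h3⟩ := hnorm u (Subgroup.centralizer_le_normalizer _ hu)
      have hr : r = 3 := by
        have h4 : u * c * u⁻¹ = c := by rw [← hu c (Subgroup.mem_zpowers c)]; group
        have := h2 (e.symm 1)
        rw [h4, hc] at this
        simpa using this.symm
      subst hr
      have : (a = 1 ∧ b = 2) ∨ (a = 2 ∧ b = 4) := by
        clear h1; revert a b; decide
      rcases this with ⟨rfl, rfl⟩ | ⟨rfl, rfl⟩
      · have h5 : c ^ i * u = 1 := eq_of_smul_eq_smul (α := α) fun x => e.injective (by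
          rw [h1, one_smul]; generalize e x = y; revert y; decide)
        rw [eq_inv_of_mul_eq_one_right h5]
        exact Subgroup.inv_mem _ (Subgroup.npow_mem_zpowers c i)
      · exfalso
        refine hnot ((c ^ i * u) ^ 5) fun x => ?_
        simp only [pow_succ, pow_zero, one_mul, mul_smul _ (c ^ i * u), h1]
        generalize e x = y; revert y; decide
    · rw [hQ]
      exact Subgroup.le_centralizer _
  haveI : IsCyclic (Q : Subgroup G) := isCyclic_of_prime_card (p := 5) hQc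
  let ψ := (Q : Subgroup G).normalizerMonoidHom
  have hNQ : Nat.card (Subgroup.normalizer ((Q : Subgroup G) : Set G)) = 5 * Nat.card ψ.range := by
    rw [← Subgroup.card_mul_index ψ.ker, Subgroup.index_ker, Subgroup.normalizerMonoidHom_ker, hC,
      Nat.card_congr (Subgroup.subgroupOfEquivOfLe Subgroup.le_normalizer).toEquiv]
    exact congrArg (· * _) hQc
  have hAut : Nat.card (MulAut (Q : Subgroup G)) = 4 := by
    rw [IsCyclic.card_mulAut, hQ, hQc]; decide
  have hv4 : Nat.card ψ.range ∣ 4 := hAut ▸ Subgroup.card_subgroup_dvd_card _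
  have hv1 : Nat.card ψ.range ≠ 1 := by
    intro h
    apply hNC
    rw [hC]
    exact (Subgroup.eq_of_le_of_card_ge Subgroup.le_normalizer (by rw [hNQ, h, hQ, hQc])).ge
  have hn11 := card_sylow_modEq_one 11 G
  rw [P.card_eq_index_normalizer] at hn11
  have hNi := (Subgroup.normalizer ((P : Subgroup G) : Set G)).card_mul_index
  have hn5 := card_sylow_modEq_one 5 G
  rw [Q.card_eq_index_normalizer] at hn5
  have hNQi := (Subgroup.normalizer ((Q : Subgroup G) : Set G)).card_mul_index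
  rw [hN, hm] at hNi
  rw [hNQ, hm] at hNQi
  change (Subgroup.normalizer ((P : Subgroup G) : Set G)).index % 11 = 1 % 11 at hn11
  change (Subgroup.normalizer ((Q : Subgroup G) : Set G)).index % 5 = 1 % 5 at hn5
  have hk4 := key4 m hmdvd (by
    rw [← hn11]; congr 1; omega)
  have hv : Nat.card ψ.range = 2 ∨ Nat.card ψ.range = 4 := by
    have : ∀ v ∈ Nat.divisors 4, v ≠ 1 → v = 2 ∨ v = 4 := by decide
    exact this _ (Nat.mem_divisors.2 ⟨hv4, by norm_num⟩) hv1
  rcases hv with hv | hv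
  · right
    rw [hv] at hNQi
    have hm6 : m = 6 := hk4.1 (by rw [← hn5]; congr 1; omega)
    subst hm6
    haveI : IsSimpleGroup G := ⟨fun M hM => by
      by_cases hMb : M = ⊥
      · exact Or.inl hMb
      right
      have hPM := sylow_le_of_normal_prime_degree hcard M hMb P
      have hle : (P : Subgroup G) ≤ M ⊓ Subgroup.normalizer ((P : Subgroup G) : Set G) :=
        le_inf hPM Subgroup.le_normalizer
      have c1 := Subgroup.card_dvd_of_le hle
      have c2 := Subgroup.card_dvd_of_le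
        (inf_le_right : M ⊓ Subgroup.normalizer ((P : Subgroup G) : Set G) ≤ _)
      rw [hPc] at c1
      rw [hN] at c2
      obtain ⟨j, hj⟩ := c1
      rw [hj] at c2
      rcases (Nat.dvd_prime Nat.prime_five).1 (Nat.dvd_of_mul_dvd_mul_left (by norm_num) c2)
        with rfl | rfl
      · exfalso
        apply hPn
        rw [← eq_sylow_of_normal_prime_degree hcard M P hPM
          (Subgroup.eq_of_le_of_card_ge hle (by rw [hj, hPc])).ge]
        exact hM
      · have h1 := Subgroup.eq_of_le_of_card_ge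
          (inf_le_right : M ⊓ Subgroup.normalizer ((P : Subgroup G) : Set G) ≤ _) (by rw [hj, hN])
        rw [← Sylow.normalizer_sup_eq_top' P hPM, eq_comm, sup_eq_right]
        exact inf_eq_right.1 h1⟩
    exact Cfsg.Agent.S0498.result 11 (Or.inl rfl) (by rw [hm]; rfl) (ZMod.card 11)
  · left
    rw [hv] at hNQi
    have hm72 : m = 72 := hk4.2 _ (by omega) (by omega) hn5
    subst hm72
    have htop : ψ.range = ⊤ := Subgroup.eq_top_of_card_eq _ (by rw [hv, hAut])
    let sq : MulAut (Q : Subgroup G) := MulEquiv.ofBijective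
      (⟨⟨fun x => x ^ 2, one_pow 2⟩, fun x y => (Commute.mul_pow (mul_comm' x y) 2)⟩ :
        (Q : Subgroup G) →* (Q : Subgroup G))
      (powCoprime (G := (Q : Subgroup G)) (n := 2) (by rw [hQ, hQc]; norm_num)).bijective
    obtain ⟨u, hu⟩ : sq ∈ ψ.range := by rw [htop]; trivial
    have hu2 : (u : G) * c * (u : G)⁻¹ = c ^ 2 :=
      congrArg Subtype.val (MulEquiv.congr_fun hu ⟨c, Subgroup.mem_zpowers c⟩)
    obtain ⟨i, r, a, b, h1, h2, h3⟩ := hnorm u u.2
    have hr : r = 9 := by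
      have := h2 (e.symm 1)
      rw [hu2, hcp] at this
      simp only [Equiv.apply_symm_apply, mul_one] at this
      rw [← this]; rfl
    subst hr
    have hab : a = 1 ∧ b ∈ ([6, 10] : List (ZMod 11)) := by
      clear h1; revert a b; decide
    obtain ⟨rfl, hb⟩ := hab
    have hw := fun w => exists_word (h := id) he h1 (t := 1) (by simp) w
    have hthree : IsMultiplyPretransitive G α 3 := by
      refine isMultiplyPretransitive_succ_of_fix htwo {e.symm 0, e.symm 1}
        (Finset.card_pair (e.symm.injective.ne zero_ne_one)) ?_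
      have : ∀ a ∉ ({e.symm 0, e.symm 1} : Finset α), ∃ g : G,
          (∀ x ∈ ({e.symm 0, e.symm 1} : Finset α), g • x = x) ∧ g • e.symm 2 = a := by
        intro a ha
        simp only [Finset.mem_insert, Finset.mem_singleton, not_or, e.eq_symm_apply]
          at ha
        obtain ⟨w, -, w0, w1, w2⟩ := (key3 b hb (e a) ha.1 ha.2).1
        obtain ⟨g, hg⟩ := hw w
        refine ⟨g, ?_, e.injective (by simp [hg, w2])⟩
        simp only [Finset.mem_insert, Finset.mem_singleton]
        rintro x (rfl | rfl)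
        · exact e.injective (by simp [hg, w0])
        · exact e.injective (by simp [hg, w1])
      intro a ha a' ha'
      obtain ⟨g, hg, rfl⟩ := this a ha
      obtain ⟨g', hg', rfl⟩ := this a' ha'
      exact ⟨g' * g⁻¹, fun x hx => by rw [mul_smul, inv_smul_eq_iff.2 (hg x hx).symm, hg' x hx],
        by rw [mul_smul, inv_smul_smul]⟩
    have hfour : IsMultiplyPretransitive G α 4 := by
      refine isMultiplyPretransitive_succ_of_fix hthree {e.symm 0, e.symm 1, e.symm 2}
        (Finset.card_eq_three.2 ⟨_, _, _, e.symm.injective.ne (by decide),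
          e.symm.injective.ne (by decide), e.symm.injective.ne (by decide), rfl⟩) ?_
      have : ∀ a ∉ ({e.symm 0, e.symm 1, e.symm 2} : Finset α), ∃ g : G,
          (∀ x ∈ ({e.symm 0, e.symm 1, e.symm 2} : Finset α), g • x = x) ∧ g • e.symm 3 = a := by
        intro a ha
        simp only [Finset.mem_insert, Finset.mem_singleton, not_or, e.eq_symm_apply]
          at ha
        obtain ⟨w, -, w0, w1, w2, w3⟩ := (key3 b hb (e a) ha.1 ha.2.1).2 ha.2.2
        obtain ⟨g, hg⟩ := hw w
        refine ⟨g, ?_, e.injective (by simp [hg, w3])⟩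
        simp only [Finset.mem_insert, Finset.mem_singleton]
        rintro x (rfl | rfl | rfl)
        · exact e.injective (by simp [hg, w0])
        · exact e.injective (by simp [hg, w1])
        · exact e.injective (by simp [hg, w2])
      intro a ha a' ha'
      obtain ⟨g, hg, rfl⟩ := this a ha
      obtain ⟨g', hg', rfl⟩ := this a' ha'
      exact ⟨g' * g⁻¹, fun x hx => by rw [mul_smul, inv_smul_eq_iff.2 (hg x hx).symm, hg' x hx],
        by rw [mul_smul, inv_smul_smul]⟩
    refine ⟨hfour, fun x => ?_⟩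
    have h1 := index_stabilizer_embedding hfour x
    have h3 : Nat.descFactorial 11 4 = 7920 := by decide
    rw [hcard, h3] at h1
    have h1' : (stabilizer G x).index = 7920 := h1
    have h2 := (stabilizer G x).card_mul_index
    rw [h1', hm] at h2
    exact Subgroup.eq_bot_of_card_eq _ (by omega)

end aux

/-- A non-solvable transitive permutation group on 11 points that does not contain the alternating group is either sharply 4-transitive (of order 7920) or isomorphic to the projective special linear group of degree 2 over the field with 11 elements. -/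
theorem result {α : Type*} [Fintype α] [DecidableEq α] (hα : Fintype.card α = 11) (G : Subgroup (Equiv.Perm α)) [MulAction.IsPretransitive G α] (hG : ¬ Group.IsSolvable G) (hA : ¬ alternatingGroup α ≤ G) : (MulAction.IsMultiplyPretransitive G α 4 ∧ ∀ x : Fin 4 ↪ α, MulAction.stabilizer G x = ⊥) ∨ Nonempty (G ≃* Matrix.ProjectiveSpecialLinearGroup (Fin 2) (ZMod 11)) := by
  exact aux hα G hG hA

end Cfsg.Agent.S0679
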