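import Mathlib
import Cfsg.Statements.S3633
import Cfsg.Agent.Perm.PrimeGraph
-- import your own Cfsg.Agent.* helpers here

set_option autoImplicit false
open Cfsg

namespace Cfsg.Agent.S3633

open Subgroup Cfsg.Agent.GT Cfsg.Agent.Perm.PG


/-- Let G be a finite group and ρ a set of at least three prime divisors of the order of G that are pairwise non-adjacent in the prime graph (no element of order rs for distinct r, s ∈ ρ). Then at most one prime of ρ divides the order of any given solvable normal subgroup of G; in particular G is not solvable. -/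
theorem result {G : Type*} [Group G] [Finite G] (ρ : Finset ℕ) (hρ : 3 ≤ ρ.card) (hc : ((∀ r ∈ ρ, r.Prime ∧ r ∣ Nat.card G) ∧ (∀ r ∈ ρ, ∀ s ∈ ρ, r ≠ s → ¬ ∃ x : G, orderOf x = r * s)))
    (K : Subgroup G) [K.Normal] (hK : Group.IsSolvable ↥K) :
    (∀ r ∈ ρ, ∀ s ∈ ρ, r ∣ Nat.card ↥K → s ∣ Nat.card ↥K → r = s) ∧ ¬ Group.IsSolvable G := by
  have key : ∀ H : Subgroup G, Group.IsSolvable H → ∀ r ∈ ρ, ∀ s ∈ ρ, ∀ t ∈ ρ, r ≠ s → r ≠ t →
      s ≠ t → r ∣ Nat.card H → s ∣ Nat.card H → ¬ t ∣ Nat.card H := by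
    intro H _ r hr s hs t ht h1 h2 h3 h4 h5 h6
    rcases adj_of_isSolvable H (hc.1 r hr).1 (hc.1 s hs).1 (hc.1 t ht).1 h1 h2 h3 h4 h5 h6 with
      h | h | h
    · exact hc.2 r hr s hs h1 (exists_orderOf_of_subgroup H h)
    · exact hc.2 r hr t ht h2 (exists_orderOf_of_subgroup H h)
    · exact hc.2 s hs t ht h3 (exists_orderOf_of_subgroup H h)
  constructor
  · intro r hr s hs h1 h2
    by_contra hrs
    obtain ⟨t, ht, ht'⟩ := Finset.exists_mem_notMem_of_card_lt_card
      (Finset.card_le_two.trans_lt hρ : ({r, s} : Finset ℕ).card < ρ.card)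
    simp only [Finset.mem_insert, Finset.mem_singleton, not_or] at ht'
    have := Fact.mk (hc.1 t ht).1
    obtain ⟨y, hy⟩ := exists_prime_orderOf_dvd_card' t (hc.1 t ht).2
    have : Group.IsSolvable (zpowers y) := isSolvable_of_isMulCommutative
    exact key _ (isSolvable_sup (zpowers y) K) r hr s hs t ht hrs (Ne.symm ht'.1) (Ne.symm ht'.2)
      (h1.trans (card_dvd_of_le le_sup_right)) (h2.trans (card_dvd_of_le le_sup_right))
      (by rw [← hy, ← Nat.card_zpowers]; exact card_dvd_of_le le_sup_left)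
  · intro _
    obtain ⟨r, hr, s, hs, t, ht, h1, h2, h3⟩ := Finset.two_lt_card.mp hρ
    exact key ⊤ inferInstance r hr s hs t ht h1 h2 h3 (by simpa using (hc.1 r hr).2)
      (by simpa using (hc.1 s hs).2) (by simpa using (hc.1 t ht).2)

end Cfsg.Agent.S3633
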