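import Mathlib
import Cfsg.Statements.S2671
import Cfsg.Agent.Cl.ClassCount

set_option autoImplicit false
open Cfsg

namespace Cfsg.Agent.S2671

theorem orderOf_neg {r : ℕ} (hr : r.Prime) (hr2 : r ≠ 2) (a : ZMod r) (ha : a ≠ 0) :
    orderOf (-a) = if Odd (orderOf a) then 2 * orderOf a else
      if orderOf a % 4 = 2 then orderOf a / 2 else orderOf a := by
  have := Fact.mk hr
  have h1 : orderOf (-1 : ZMod r) = 2 := by rw [orderOf_neg_one, if_neg (by rwa [ZMod.ringChar_zmod_n])]
  have h0 : 0 < orderOf a := (isOfFinOrder_iff_pow_eq_one.2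
    ⟨r - 1, by have := hr.two_le; omega, ZMod.pow_card_sub_one_eq_one ha⟩).orderOf_pos
  by_cases h : Odd (orderOf a)
  · rw [if_pos h, neg_eq_neg_one_mul, (Commute.all _ _).orderOf_mul_eq_mul_orderOf_of_coprime
      (by rw [h1]; exact h.coprime_two_left), h1]
  · obtain ⟨k, hk⟩ := Nat.not_odd_iff_even.1 h
    have h2 : a ^ k = -1 := by
      refine (mul_self_eq_one_iff.1 (by rw [← pow_add, ← hk, pow_orderOf_eq_one])).resolve_left
        fun h2 => ?_
      have := Nat.le_of_dvd (by omega) (orderOf_dvd_of_pow_eq_one h2)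
      omega
    rw [if_neg h, neg_eq_neg_one_mul, ← h2, ← pow_succ, orderOf_pow' _ (by omega), hk,
      show (k + k).gcd (k + 1) = Nat.gcd 2 (k + 1) by
        rw [← Nat.gcd_sub_self_left (by omega), ← Nat.gcd_sub_self_right (by omega),
          show k + 1 - (k + k - (k + 1)) = 2 by omega, ← Nat.gcd_add_self_left,
          show k + k - (k + 1) + 2 = k + 1 by omega, Nat.gcd_comm]]
    split_ifs with h3
    · rw [Nat.gcd_eq_left (by omega)]
    · rw [Nat.coprime_two_left.2 (by rw [Nat.odd_iff]; omega), Nat.div_one]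

/-- Number of conjugacy classes of elements of odd prime order r in the general unitary group GU_n(q), for r not dividing q(q + 1): let i be the multiplicative order of q modulo r, b = i if i is odd and b = i/2 if i is even, and s = (r − 1)/b. If i ≢ 2 (mod 4) the eigenvalue orbits pair off into dual pairs of totally isotropic blocks and there are C(⌊n/(2b)⌋ + s/2, s/2) − 1 classes; if i ≡ 2 (mod 4) each orbit gives a non-degenerate block of dimension i/2 and there are C(⌊2n/i⌋ + s, s) − 1 classes. -/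
theorem result {K : Type*} [Field K] [Fintype K] {p q n r i b s : ℕ} [Fact p.Prime] [CharP K p] (hK : Fintype.card K = q ^ 2) (hr : r.Prime) (hr2 : r ≠ 2) (hrp : r ≠ p) (hi : i = orderOf (q : ZMod r)) (hi2 : i ≠ 2) (hb : b = if Odd i then i else i / 2) (hs : s * b = r - 1) : Nat.card {C : ConjClasses ↥(Cfsg.GU n K q) // ∃ g : ↥(Cfsg.GU n K q), ConjClasses.mk g = C ∧ orderOf g = r} = if i % 4 = 2 then Nat.choose (2 * n / i + s) s - 1 else Nat.choose (n / (2 * b) + s / 2) (s / 2) - 1 := by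
  have hp : p.Prime := Fact.out
  have := Fact.mk hr
  obtain ⟨σ, hσ⟩ := Cl.exists_uField hK
  have hq : (q : ZMod r) ≠ 0 := by
    rw [Ne, ZMod.natCast_eq_zero_iff]
    intro h
    obtain ⟨f, -, hf⟩ := FiniteField.card K p
    exact hrp ((Nat.prime_dvd_prime_iff_eq hr hp).1
      (hr.dvd_of_dvd_pow (hf ▸ hK ▸ h.pow two_ne_zero)))
  have h := fun t => Cl.Cls.card_conjClasses_orderOf_prime (K := AlgebraicClosure K)
    ((Units.coeHom (Matrix (Fin n) (Fin n) K)).comp (Cfsg.GU n K q).subtype)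
    (fun _ _ h => Subtype.ext (Units.ext h))
    (fun a b h => (Cl.Cls.isConj_GU_iff hσ a b).2 (Cl.Cls.isConj_units_iff.2 h)) (u := -q) (t := t)
    hσ.spec_zpow_injective
    (fun g => by
      simp only [zpow_neg, zpow_natCast]
      exact Cl.Cls.evM_map_of_mem_GU hσ g)
    (fun R h1 h2 h3 => Cl.Cls.exists_GU_isSS_evM hσ
      (by simpa only [zpow_neg, zpow_natCast] using h1) (by simpa using h2) h3)
    hr (by rwa [Ne, CharP.cast_eq_zero_iff K p, Nat.prime_dvd_prime_iff_eq hp hr, eq_comm])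
  have h1 : orderOf (-(q : ZMod r)) ∣ r - 1 :=
    orderOf_dvd_of_pow_eq_one (ZMod.pow_card_sub_one_eq_one (neg_ne_zero.2 hq))
  have h0 : 0 < orderOf (-(q : ZMod r)) := Nat.pos_of_dvd_of_pos h1 (by have := hr.two_le; omega)
  simp only [Int.cast_neg, Int.cast_natCast, Fintype.card_fin] at h
  rw [orderOf_neg hr hr2 _ hq, ← hi] at h h1 h0
  have h2 : ∀ j, j = 2 * b → 0 < j → j ∣ r - 1 → s / 2 * j = r - 1 := by
    rintro _ rfl h3 h4
    rw [← hs] at h4 ⊢
    rw [← mul_assoc, Nat.div_mul_cancel (Nat.dvd_of_mul_dvd_mul_right (by omega) h4)]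
  by_cases h3 : Odd i
  · rw [if_pos h3] at h h1 h0 hb
    rw [if_neg (by rw [Nat.odd_iff] at h3; omega), h _ (h2 _ (by rw [hb]) h0 h1), hb]
  · rw [if_neg h3] at h h1 h0 hb
    have h4 : i = 2 * b := by rw [Nat.odd_iff] at h3; omega
    split_ifs at h h1 h0 ⊢ with h5
    · rw [h s (hb ▸ hs), ← hb, h4, Nat.mul_div_mul_left _ _ two_pos]
    · rw [h _ (h2 _ h4 h0 h1), h4]

end Cfsg.Agent.S2671
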