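import Mathlib
import Cfsg.Statements.S2519
import Cfsg.Agent.Chev.G2Spec
-- import your own Cfsg.Agent.* helpers here

set_option autoImplicit false
open Cfsg

namespace Cfsg.Agent.S2519

open Cfsg.Agent.Chev.G2 Cfsg.Agent.Cl

theorem antichain {p q : ℕ} (hp : p.Prime) (hpq : p ∣ q) (hq : 5 ≤ q) {s t : ℕ}
    (hs : s ∈ [p * (q + 1), p * (q - 1), q ^ 2 - 1, q ^ 2 + q + 1, q ^ 2 - q + 1, p ^ 2])
    (ht : t ∈ [p * (q + 1), p * (q - 1), q ^ 2 - 1, q ^ 2 + q + 1, q ^ 2 - q + 1, p ^ 2])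
    (h : s ∣ t) : t = s := by
  have hq2 : p ∣ q ^ 2 := dvd_pow hpq two_ne_zero
  have hle : q ≤ q ^ 2 := Nat.le_self_pow two_ne_zero q
  have h5 : 5 * q ≤ q ^ 2 := by nlinarith
  have n1 : ¬ p ∣ q + 1 := fun h => hp.not_dvd_one ((Nat.dvd_add_right hpq).1 h)
  have n2 : ¬ p ∣ q - 1 := fun h => hp.not_dvd_one ((Nat.dvd_sub_iff_right (by omega) hpq).1 h)
  have hA : ∀ s ∈ [q ^ 2 - 1, q ^ 2 + q + 1, q ^ 2 - q + 1],
      ¬ p ∣ s ∧ q ^ 2 - q + 1 ≤ s ∧ s ≤ q ^ 2 + q + 1 := by
    simp only [List.forall_mem_cons, List.not_mem_nil, false_imp_iff, implies_true, and_true]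
    refine ⟨⟨fun h => ?_, by omega, by omega⟩, ⟨fun h => ?_, by omega, le_rfl⟩, fun h => ?_, le_rfl,
      by omega⟩
    · exact hp.not_dvd_one ((Nat.dvd_sub_iff_right (by omega) hq2).1 h)
    · exact hp.not_dvd_one ((Nat.dvd_add_right (dvd_add hq2 hpq)).1 h)
    · exact hp.not_dvd_one ((Nat.dvd_add_right (Nat.dvd_sub hq2 hpq)).1 h)
  have split : ∀ s ∈ [p * (q + 1), p * (q - 1), q ^ 2 - 1, q ^ 2 + q + 1, q ^ 2 - q + 1, p ^ 2],
      s ∈ [q ^ 2 - 1, q ^ 2 + q + 1, q ^ 2 - q + 1] ∨ ∃ m ∈ [q + 1, q - 1, p], s = p * m := by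
    intro s hs
    simp only [List.mem_cons, List.not_mem_nil, or_false] at hs
    rcases hs with rfl | rfl | rfl | rfl | rfl | rfl <;> simp [pow_two]
  rcases split s hs with h1 | ⟨m, hm, rfl⟩ <;> rcases split t ht with h2 | ⟨n, hn, rfl⟩
  · obtain ⟨-, a1, a2⟩ := hA s h1
    obtain ⟨-, b1, b2⟩ := hA t h2
    exact (Nat.eq_of_dvd_of_lt_two_mul (by omega) h (by omega))
  · obtain ⟨a0, a1, -⟩ := hA s h1
    have h3 : s ∣ n := ((Nat.coprime_comm.1 (hp.coprime_iff_not_dvd.2 a0)).dvd_mul_left).1 h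
    have hpq' := Nat.le_of_dvd (by omega) hpq
    have h4 := Nat.le_of_dvd (by have := hp.pos; simp at hn; omega) h3
    simp at hn; omega
  · exact absurd (dvd_of_mul_right_dvd h) (hA t h2).1
  · have h3 : m ∣ n := Nat.dvd_of_mul_dvd_mul_left hp.pos h
    congr 1
    simp only [List.mem_cons, List.not_mem_nil, or_false] at hm hn
    rcases hm with rfl | rfl | rfl <;> rcases hn with rfl | rfl | rfl
    · rfl
    · have := Nat.le_of_dvd (by omega) h3; omega
    · rcases (Nat.dvd_prime hp).1 h3 with e | e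
      · omega
      · exact absurd (e ▸ dvd_rfl) n1
    · have : q - 1 ∣ 2 := (Nat.dvd_add_right (dvd_refl (q - 1))).1 (by
        rwa [show q - 1 + 2 = q + 1 by omega])
      have := Nat.le_of_dvd two_pos this; omega
    · rfl
    · rcases (Nat.dvd_prime hp).1 h3 with e | e
      · omega
      · exact absurd (e ▸ dvd_rfl) n2
    · exact absurd h3 n1
    · exact absurd h3 n2
    · rfl

/-- Let F be a finite field of odd order q = p^a ≥ 5. The element orders of the Chevalley group G₂(F) that are maximal under divisibility are exactly p(q + 1), p(q − 1), q² − 1, q² + q + 1, q² − q + 1, together with p² when p is 3 or 5. -/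
theorem result {F : Type*} [Field F] [Fintype F] (p a : ℕ) (hp : p.Prime) (hp2 : p ≠ 2) (ha : 1 ≤ a) (hF : Fintype.card F = p ^ a) (hq5 : 5 ≤ Fintype.card F) :
    {n : ℕ | n ∈ Set.range (orderOf : ↥(Cfsg.Lie.chevG2.group F) → ℕ) ∧ ∀ m ∈ Set.range (orderOf : ↥(Cfsg.Lie.chevG2.group F) → ℕ), n ∣ m → m = n} =
      ({p * (p ^ a + 1), p * (p ^ a - 1), p ^ (2 * a) - 1, p ^ (2 * a) + p ^ a + 1, p ^ (2 * a) - p ^ a + 1} : Set ℕ) ∪
        (if p = 3 ∨ p = 5 then ({p ^ 2} : Set ℕ) else ∅) := by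
  have := Fact.mk hp
  have : CharP F p := charP_of_card_eq_prime_pow hF
  rw [pow_mul', ← hF]
  refine spec_maximal_eq _ (fun g => ?_) ?_ fun s hs t ht => antichain hp
    (hF ▸ dvd_pow_self p (by omega)) hq5 ?_ ?_
  · rcases pow_eq_one_odd p hp2 g with e | ⟨k, hk, e⟩ | ⟨k, hk, e⟩
    · by_cases h : p = 3 ∨ p = 5
      · exact ⟨p ^ 2, by simp [h], orderOf_dvd_of_pow_eq_one (e 2 (by rcases h with rfl | rfl <;> norm_num))⟩
      · have h7 : 7 ≤ p := by
          by_contra! h7
          interval_cases p <;> simp_all (config := { decide := true })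
        exact ⟨p * (Fintype.card F + 1), by simp,
          (orderOf_dvd_of_pow_eq_one (e 1 (by simpa using h7))).trans (by simp)⟩
    · simp only [List.mem_cons, List.not_mem_nil, or_false] at hk
      rcases hk with rfl | rfl | rfl <;> exact ⟨_, by simp, orderOf_dvd_of_pow_eq_one e⟩
    · simp only [List.mem_cons, List.not_mem_nil, or_false] at hk
      rcases hk with rfl | rfl <;> exact ⟨_, by simp, orderOf_dvd_of_pow_eq_one e⟩
  · rintro s ((rfl | rfl | rfl | rfl | rfl) | hs)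
    · exact exists_orderOf_mul_add_one F p
    · exact exists_orderOf_mul_sub_one F p
    · exact exists_orderOf_sq_sub_one F
    · exact exists_orderOf_sq_add F (by omega)
    · exact exists_orderOf_sq_sub F (by omega)
    · split_ifs at hs with h
      · obtain rfl : s = p ^ 2 := hs
        rcases h with rfl | rfl
        exacts [⟨_, orderOf_gw_three F⟩, ⟨_, orderOf_gw_five F⟩]
      · exact hs.elim
  · rcases hs with (rfl | rfl | rfl | rfl | rfl) | hs
    iterate 5 simp
    split_ifs at hs with h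
    · obtain rfl : s = p ^ 2 := hs
      simp
    · exact hs.elim
  · rcases ht with (rfl | rfl | rfl | rfl | rfl) | ht
    iterate 5 simp
    split_ifs at ht with h
    · obtain rfl : t = p ^ 2 := ht
      simp
    · exact ht.elim

end Cfsg.Agent.S2519
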