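import Mathlib
import Cfsg.Statements.S2520
import Cfsg.Agent.Chev.G2Spec
-- import your own Cfsg.Agent.* helpers here

set_option autoImplicit false
open Cfsg

namespace Cfsg.Agent.S2520

open Cfsg.Agent.Chev.G2

/-- Let F be a finite field with q = 2^a ≥ 4 elements and G₂(F) the Chevalley group of type G₂ over it. Every element order of G₂(F) maximal under divisibility lies in the set {8, 12, 2(q + 1), 2(q − 1), q² − 1, q² + q + 1, q² − q + 1}, and every member of that set is an element order of G₂(F). -/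
theorem result {F : Type*} [Field F] [Fintype F] (a : ℕ) (ha : 2 ≤ a) (hF : Fintype.card F = 2 ^ a) :
    {n : ℕ | n ∈ Set.range (orderOf : ↥(Cfsg.Lie.chevG2.group F) → ℕ) ∧ ∀ m ∈ Set.range (orderOf : ↥(Cfsg.Lie.chevG2.group F) → ℕ), n ∣ m → m = n} ⊆ ({8, 12, 2 * (2 ^ a + 1), 2 * (2 ^ a - 1), 2 ^ (2 * a) - 1, 2 ^ (2 * a) + 2 ^ a + 1, 2 ^ (2 * a) - 2 ^ a + 1} : Set ℕ) ∧
    ({8, 12, 2 * (2 ^ a + 1), 2 * (2 ^ a - 1), 2 ^ (2 * a) - 1, 2 ^ (2 * a) + 2 ^ a + 1, 2 ^ (2 * a) - 2 ^ a + 1} : Set ℕ) ⊆ Set.range (orderOf : ↥(Cfsg.Lie.chevG2.group F) → ℕ) := by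
  have : CharP F 2 := charP_of_card_eq_prime_pow hF
  have hq : 4 ≤ Fintype.card F := hF ▸ Nat.pow_le_pow_right (by norm_num) ha (n := 2)
  rw [pow_mul', ← hF]
  have h2 : ({8, 12, 2 * (Fintype.card F + 1), 2 * (Fintype.card F - 1), Fintype.card F ^ 2 - 1,
      Fintype.card F ^ 2 + Fintype.card F + 1, Fintype.card F ^ 2 - Fintype.card F + 1} : Set ℕ) ⊆
      Set.range (orderOf : ↥(Cfsg.Lie.chevG2.group F) → ℕ) := by
    rintro _ (rfl | rfl | rfl | rfl | rfl | rfl | rfl)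
    exacts [⟨_, orderOf_gw_eight F⟩, ⟨_, orderOf_gw_twelve F⟩, exists_orderOf_mul_add_one F 2,
      exists_orderOf_mul_sub_one F 2, exists_orderOf_sq_sub_one F,
      exists_orderOf_sq_add F (by omega), exists_orderOf_sq_sub F hq]
  refine ⟨?_, h2⟩
  rintro _ ⟨⟨g, rfl⟩, h⟩
  suffices ∃ k ∈ ({8, 12, 2 * (Fintype.card F + 1), 2 * (Fintype.card F - 1), Fintype.card F ^ 2 - 1,
      Fintype.card F ^ 2 + Fintype.card F + 1, Fintype.card F ^ 2 - Fintype.card F + 1} : Set ℕ),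
      g ^ k = 1 by
    obtain ⟨k, hk, e⟩ := this
    rwa [← h k (h2 hk) (orderOf_dvd_of_pow_eq_one e)]
  rcases pow_eq_one_even g with e | e | ⟨k, hk, e⟩ | ⟨k, hk, e⟩
  · exact ⟨_, by simp, e⟩
  · exact ⟨_, by simp, e⟩
  · simp only [List.mem_cons, List.not_mem_nil, or_false] at hk
    rcases hk with rfl | rfl | rfl <;> exact ⟨_, by simp, e⟩
  · simp only [List.mem_cons, List.not_mem_nil, or_false] at hk
    rcases hk with rfl | rfl <;> exact ⟨_, by simp, e⟩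

end Cfsg.Agent.S2520
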