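import Mathlib
import Cfsg.Statements.S2472
import Cfsg.Agent.Cl.ClassSpOSpec

set_option autoImplicit false
open Cfsg

namespace Cfsg.Agent.S2472

/-- Adjacency of a prime and the characteristic in the prime graph of PSp(2n,q): let F be a finite field of characteristic p with q elements, n ≥ 2 with PSp(2n,F) simple, and let r ≠ p be an odd prime dividing the order of PSp(2n,F), with k the multiplicative order of q modulo r and η(k) = k for odd k, k/2 for even k. Then PSp(2n,F) has NO element of order r·p if and only if η(k) > n − 1. -/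
theorem result {F : Type*} [Field F] [Fintype F] (p : ℕ) [Fact p.Prime] [CharP F p] (n : ℕ) (hn : 2 ≤ n) (hsmall : n = 2 → 3 ≤ Fintype.card F)
    (r : ℕ) (hr : r.Prime) (hr2 : r ≠ 2) (hrp : r ≠ p) (hrG : r ∣ Nat.card (Cfsg.PSp n F))
    (k ηk : ℕ) (hk : k = orderOf ((Fintype.card F : ℕ) : ZMod r)) (hηk : (Odd k ∧ ηk = k) ∨ (Even k ∧ 2 * ηk = k)) :
    (r * p ∉ Set.range (orderOf : Cfsg.PSp n F → ℕ)) ↔ n - 1 < ηk := by
  classical
  have := Fact.mk hr
  have hp : p.Prime := Fact.out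
  constructor
  · intro h
    by_contra h1
    obtain ⟨μ, h2, h3, h4⟩ := Cl.SpO.exists_root_eta p (AlgebraicClosure F) hrp hk hηk
    obtain ⟨x, h5, -, h6⟩ := Cl.SpO.exists_PSp_orbits p (n := n) (ν := 1) (f := 0) h2 one_ne_zero
      (Cl.SpO.eta_pos p hrp hk hηk) h4 (by simp) (by omega)
    exact h (Cl.spec_mem_of_dvd x (((Nat.coprime_primes hr hp).2 hrp).mul_dvd_of_dvd_of_dvd
      ((hr.odd_of_ne_two hr2).coprime_two_right.dvd_of_dvd_mul_left (h3 ▸ h5)) (h6 (by omega))))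
  · rintro h ⟨x, hx⟩
    obtain ⟨g, rfl⟩ := QuotientGroup.mk_surjective x
    obtain ⟨μ, h1, h2, h3, h4⟩ := Cl.SpO.exists_orbit (K := AlgebraicClosure F) p g hr2 hrp
      (hx ▸ dvd_mul_right r p)
    obtain ⟨e, R, a1, a2, a3, a4, -⟩ :=
      Cl.SpO.split_orbit (Cl.evs_map_frob _) (Cl.evs_specSp_map g) h1 h3
    have h5 := Nat.le_of_dvd a1 (Cl.SpO.eta_le hk hηk h2 h4 a2)
    have h6 := congrArg Multiset.card a4
    rw [Cl.evs_specSp_card, Multiset.card_add, Cl.card_specPM] at h6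
    rw [Multiset.card_eq_zero.1 (by omega : R.card = 0), add_zero] at a4
    obtain ⟨M, b1, b2⟩ : ∃ M, M.Coprime p ∧ orderOf μ ∣ M :=
      (Cl.spec_orderOf_dvd_pm h2 a2).elim (fun h => ⟨_, (Cl.spec_coprime_card_pow p a1).1, h⟩)
        fun h => ⟨_, (Cl.spec_coprime_card_pow p a1).2, h⟩
    have h7 := Cl.SpO.orderOf_dvd_of_count p (x := Cl.specSp F n g) (k := M) (b := 0)
      (fun ν hν => (Cl.SpecOrb.of_mem_specPM (a4 ▸ hν)).pow_eq_one
        (orderOf_dvd_iff_pow_eq_one.1 b2)) (a4 ▸ Multiset.nodup_iff_count_le_one.1 a3)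
    rw [pow_zero, mul_one] at h7
    exact hp.ne_one (b1.symm.eq_one_of_dvd
      ((hx ▸ dvd_mul_left p r).trans ((Cl.SpO.orderOf_PSp_dvd g).trans h7)))

end Cfsg.Agent.S2472
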