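import Mathlib
import Cfsg.Statements.S2474
import Cfsg.Agent.Cl.SpecOmega

set_option autoImplicit false
open Cfsg

namespace Cfsg.Agent.S2474

open Cfsg.Agent.Cl

variable {F : Type*} [Field F] [Fintype F] {n : ℕ} (p : ℕ) [Fact p.Prime] [CharP F p]

/-- `N` divides the order of an element of `PSp_{2n}(F)`. -/
def PS (F : Type*) [Field F] (n N : ℕ) : Prop := ∃ x : PSp n F, N ∣ orderOf x

omit [Fintype F] in
theorem two_ne (hp : p ≠ 2) : (2 : F) ≠ 0 := fun h =>
  hp ((Nat.prime_dvd_prime_iff_eq Fact.out Nat.prime_two).1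
    ((CharP.cast_eq_zero_iff F p 2).1 (by exact_mod_cast h)))

omit [Fintype F] in
theorem dvd_sp (g : Matrix.symplecticGroup (Fin n) F) :
    orderOf (g : PSp n F) ∣ orderOf (specSp F n g) :=
  (specSp_orderOf_dvd_iff g _).2 (Or.inl (pow_orderOf_eq_one _))

omit [Fintype F] in
theorem dvd_of_evs {V : Type*} [AddCommGroup V] [Module F V] [FiniteDimensional F V]
    {x : Module.End F V} {N t : ℕ} (hN : N.Coprime (2 * p)) (h : N ∣ orderOf x)
    (h' : ∀ ν ∈ evs (AlgebraicClosure F) x, ν ^ (2 * t) = 1) : N ∣ t := by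
  have h1 := pow_mul_eq_of_evs (K := AlgebraicClosure F) p (x := x) (c := 1)
    (by rw [map_one]; exact h')
    (Nat.lt_pow_self (Fact.out : p.Prime).one_lt).le
  rw [one_pow, map_one, ← orderOf_dvd_iff_pow_eq_one] at h1
  exact (Nat.Coprime.coprime_mul_right_right hN).dvd_of_dvd_mul_left
    (((Nat.Coprime.coprime_mul_left_right hN).pow_right _).dvd_of_dvd_mul_right (h.trans h1))

theorem caseA (hp : p ≠ 2) {N : ℕ} (hN : N.Coprime (2 * p)) : SpecOm F n N ↔ PS F n N := by
  classical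
  have h2 := two_ne (F := F) p hp
  have : CharP (AlgebraicClosure F) p := inferInstance
  have hm := spec_neg_one_ne_one (K := AlgebraicClosure F) p hp
  have hodd : Odd N := Nat.coprime_two_right.1 (Nat.Coprime.coprime_mul_right_right hN)
  have hφ := spec_pow_card_injective (F := F) (K := AlgebraicClosure F)
  constructor
  · rintro ⟨g, hg, h⟩
    have := spec_finite_OG (Q := quad_odd n F)
    obtain ⟨⟨g, hg⟩, h⟩ := spec_exists_of_dvd (⟨g, hg⟩ : commutator (OG (quad_odd n F)))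
      (n := N) (by rwa [← Subgroup.orderOf_coe])
    rw [← Subgroup.orderOf_coe, ← orderOf_specO] at h
    have hQ := quad_odd_nondeg (m := n) h2
    obtain ⟨R, m, h1, h3, h4, h5, -, h6, h7⟩ := spec_filter_ne_one hφ hm (evs_map_frob _)
      (evs_specO_map hQ g) (evs_prod_of_mem h2 hQ hg) fun h8 => hm (by
        have := pow_eq_one_of_mem_evs (pow_orderOf_eq_one _) h8
        rwa [h, hodd.neg_one_pow] at this)
    rw [evs_card, o_finrank_odd] at h6
    obtain ⟨x, c, h8, h9⟩ := exists_PSp_evs (F := F) (n := n) p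
      (R := R + Multiset.replicate (2 * (n - m)) 1) (by simp [h1]) (by simp [h3])
      (by rw [Multiset.card_add, h4, Multiset.card_replicate]; omega) (by simp [h5])
    refine ⟨x, dvd_of_evs p hN h.symm.dvd fun ν hν => ?_⟩
    rcases h7 ν hν with rfl | hν
    · exact one_pow _
    · rw [two_mul, pow_add, (h9 ν (Multiset.mem_add.2 (Or.inl hν))).1, h8]
  · rintro ⟨x, h⟩
    obtain ⟨x, rfl⟩ := spec_exists_of_dvd x h
    obtain ⟨g, rfl, hg⟩ := spec_lift_PSp x hodd
    obtain ⟨R, m, h1, h3, h4, h5, h6, h7, h8⟩ := spec_filter_ne_one hφ hm (evs_map_frob _)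
      (evs_specSp_map g) (by rw [evs_prod, det_specSp, map_one]) fun h8 => hm (by
        have := pow_eq_one_of_mem_evs hg h8
        rwa [hodd.neg_one_pow] at this)
    rw [evs_specSp_card] at h7
    obtain ⟨y, h9, h10, -⟩ := spec_exists_omega (n := n) (k := n - m) h2 h1 h3 h4 h5 h6 (by omega)
      (one_mem _)
    refine ⟨y, h9, dvd_of_evs p hN (dvd_sp g) fun ν hν => ?_⟩
    rcases h8 ν hν with rfl | hν
    · exact one_pow _
    · exact orderOf_dvd_iff_pow_eq_one.1 (h10 ν hν)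

theorem small_omega (hp : p ≠ 2) {r s : ℕ} (hr : r.Prime) (hs : s.Prime) (hs2 : s ≠ 2)
    (hrs : r ≠ s) (h : r = 2 ∨ r ∣ Fintype.card F) (h' : SpecSmall (Fintype.card F) n s) :
    SpecOm F n (r * s) := by
  obtain ⟨e, h1, h3, h4⟩ := h'
  have h2 := two_ne (F := F) p hp
  obtain ⟨μ, h5, h6, h7⟩ := spec_exists_torus_gen p (AlgebraicClosure F) h1 h4
  obtain ⟨y, h8, h9⟩ := spec_exists_prime_omega (n := n - e) h2 (by omega) hr h
  obtain ⟨g, h10, h11, h12⟩ := spec_exists_omega_PM (n := n) h2 h5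
    (spec_ne_inv_of_dvd (lt_of_le_of_ne hs.two_le hs2.symm) h6.symm.dvd h5) h1 h7 (by omega) h8
  refine ⟨g, h10, ((Nat.coprime_primes hr hs).2 hrs).mul_dvd_of_dvd_of_dvd (h9 ▸ h12) ?_⟩
  exact ((Nat.coprime_primes hs Nat.prime_two).2 hs2).dvd_of_dvd_mul_left (h6 ▸ h11)

theorem small_psp (hp : p ≠ 2) {s : ℕ} (hs : Odd s) (h' : SpecSmall (Fintype.card F) n s) :
    ∃ x : PSp n F, 2 ∣ orderOf x ∧ p ∣ orderOf x ∧ s ∣ orderOf x := by
  obtain ⟨e, h1, h3, h4⟩ := h'
  obtain ⟨μ, h5, h6, h7⟩ := spec_exists_torus_gen p (AlgebraicClosure F) h1 h4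
  obtain ⟨x, c, h8, h9, h10, h11⟩ := spec_exists_PSp_block (n := n) p hp h5 h3.le h7
  have h12 : c = 1 := spec_eq_one_of_odd hs (by
    rw [← h9 h1, ← pow_mul, mul_comm, pow_mul, ← h6, pow_orderOf_eq_one, one_pow]) h8
  exact ⟨x, spec_even_of_neg_one_pow p hp ((h10 h3).trans h12),
    by simpa using h11 0 (by rw [pow_zero]; omega), h6 ▸ orderOf_dvd_of_pow_eq_one ((h9 h1).trans h12)⟩

omit [Fact p.Prime] in
theorem p_dvd : p ∣ Fintype.card F := by
  obtain ⟨k, -, hk⟩ := FiniteField.card F p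
  exact hk ▸ dvd_pow_self p k.ne_zero

theorem caseB (hp : p ≠ 2) (hn : 0 < n) {s : ℕ} (hs : s.Prime) (hs2 : s ≠ 2) (hsp : s ≠ p) :
    SpecOm F n (p * s) ↔ PS F n (p * s) := by
  have h2 := two_ne (F := F) p hp
  have hQ := quad_odd_nondeg (m := n) h2
  constructor
  · rintro ⟨g, -, h⟩
    rw [← orderOf_specO] at h
    obtain ⟨x, -, h3, h4⟩ := small_psp p hp (hs.odd_of_ne_two hs2)
      (spec_small_of_char_dvd p hp ((Group.isUnit g).map _) (evs_specO_map hQ g) hn
        o_finrank_odd.le hs hs2 hsp ((dvd_mul_left _ _).trans h) ((dvd_mul_right _ _).trans h))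
    exact ⟨x, ((Nat.coprime_primes Fact.out hs).2 hsp.symm).mul_dvd_of_dvd_of_dvd h3 h4⟩
  · rintro ⟨x, h⟩
    obtain ⟨g, rfl⟩ := QuotientGroup.mk_surjective x
    replace h := h.trans (dvd_sp g)
    exact small_omega p hp Fact.out hs hs2 hsp.symm (Or.inr (p_dvd p))
      (spec_small_of_char_dvd p hp ((Group.isUnit g).map _) (evs_specSp_map g) hn
        (by rw [sp_finrank_std]; omega) hs hs2 hsp ((dvd_mul_left _ _).trans h)
        ((dvd_mul_right _ _).trans h))

theorem caseC (hp : p ≠ 2) (hn : 3 ≤ n) : SpecOm F n (2 * p) ↔ PS F n (2 * p) := by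
  have h2 := two_ne (F := F) p hp
  have hc : (2 : ℕ).Coprime p := (Nat.coprime_primes Nat.prime_two Fact.out).2 hp.symm
  refine iff_of_true ?_ ?_
  · obtain ⟨μ, h5, h6, h7⟩ := spec_exists_torus_gen (F := F) p (AlgebraicClosure F) (e := 2)
      (N := 4) two_pos (Or.inl (by
        obtain ⟨k, hk⟩ := spec_odd_card (F := F) p hp
        exact ⟨k * k + k, by rw [hk]; apply Nat.sub_eq_of_eq_add; ring⟩))
    obtain ⟨y, h8, h9⟩ := spec_exists_prime_omega (n := n - 2) h2 (by omega) Fact.out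
      (Or.inr (p_dvd p))
    obtain ⟨g, h10, h11, h12⟩ := spec_exists_omega_PM (n := n) h2 h5
      (spec_ne_inv_of_dvd (s := 4) (by norm_num) h6.symm.dvd h5) two_pos h7 (by omega) h8
    refine ⟨g, h10, hc.mul_dvd_of_dvd_of_dvd ?_ (h9 ▸ h12)⟩
    rw [h6] at h11
    omega
  · obtain ⟨x, h3, h4, -⟩ := small_psp (F := F) (n := n) p hp odd_one
      ⟨1, one_pos, by omega, Or.inl (one_dvd _)⟩
    exact ⟨x, hc.mul_dvd_of_dvd_of_dvd h3 h4⟩

theorem four_dvd {s t q : ℕ} (h : 2 * s ∣ t) (ht : 2 * t + 1 = q ∨ 2 * t = q + 1) :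
    4 * s ∣ q - 1 ∨ 4 * s ∣ q + 1 := by
  obtain ⟨c, rfl⟩ := h
  exact ht.imp (fun h => ⟨c, by rw [← h, Nat.add_sub_cancel]; ring⟩) fun h => ⟨c, by rw [← h]; ring⟩

theorem caseD (hp : p ≠ 2) (hn : 0 < n) {s : ℕ} (hs : s.Prime) (hs2 : s ≠ 2) (hsp : s ≠ p) :
    SpecOm F n (2 * s) ↔ PS F n (2 * s) := by
  classical
  have h2 := two_ne (F := F) p hp
  have hQ := quad_odd_nondeg (m := n) h2
  have hc : (2 : ℕ).Coprime s := (Nat.coprime_primes Nat.prime_two hs).2 hs2.symm
  have hq := spec_odd_card (F := F) p hp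
  constructor
  · rintro ⟨g, hg, h⟩
    rw [← orderOf_specO] at h
    rcases spec_small_or_top p hp ((Group.isUnit g).map _)
      (evs_specO_map (K := AlgebraicClosure F) hQ g) o_finrank_odd.le hs hs2 hsp
      ((dvd_mul_left _ _).trans h) with h3 | ⟨μ, t, R, h3, h4, h5, h6, h7, -, h8⟩
    · obtain ⟨x, h4, -, h5⟩ := small_psp p hp (hs.odd_of_ne_two hs2) h3
      exact ⟨x, hc.mul_dvd_of_dvd_of_dvd h4 h5⟩
    have h9 : R = Multiset.replicate 1 1 := by
      have h10 := congrArg Multiset.card h7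
      rw [evs_card, o_finrank_odd, Multiset.card_add, card_specPM] at h10
      obtain ⟨a, rfl⟩ := Multiset.card_eq_one.1 (show R.card = 1 by omega)
      have h11 := evs_prod_of_mem (K := AlgebraicClosure F) h2 hQ hg
      rw [h7, Multiset.prod_add, prod_specPM h3] at h11
      simpa using h11
    subst h9
    have h10 := (spec_ospin_orbit h2 hQ (by rintro rfl; simp at h4) h5 h6 h7).1
      ((mem_commutator_OG_iff_of_two_ne_zero hQ h2 g).1 hg).2
    have h11 := pow_mul_eq_of_count_le p (x := specO _ g) (k := t) (b := 0) (c := 1)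
      (fun ν hν => by
        rw [h7, Multiset.mem_add] at hν
        rw [map_one]
        rcases hν with hν | hν
        · exact (SpecOrb.of_mem_specPM hν).pow_eq_one h10
        · rw [Multiset.eq_of_mem_replicate hν, one_pow]) h8
    rw [pow_zero, mul_one, one_pow, map_one, ← orderOf_dvd_iff_pow_eq_one] at h11
    obtain ⟨x, hx⟩ := spec_exists_torus_PSp (F := F) p hp hn (four_dvd (h.trans h11) h5)
    exact ⟨x, Nat.dvd_of_mul_dvd_mul_left two_pos (by rwa [← mul_assoc])⟩
  · rintro ⟨x, h⟩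
    obtain ⟨g, rfl⟩ := QuotientGroup.mk_surjective x
    rcases spec_small_or_top p hp ((Group.isUnit g).map _)
      (evs_specSp_map (K := AlgebraicClosure F) g) (n := n) (by rw [sp_finrank_std]; omega) hs hs2
      hsp (((dvd_mul_left _ _).trans h).trans (dvd_sp g))
      with h3 | ⟨μ, t, R, h3, h4, h5, h6, h7, -, h8⟩
    · exact small_omega p hp Nat.prime_two hs hs2 hs2.symm (Or.inl rfl) h3
    have h9 : R = 0 := by
      have h10 := congrArg Multiset.card h7
      rw [evs_specSp_card, Multiset.card_add, card_specPM] at h10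
      exact Multiset.card_eq_zero.1 (by omega)
    rw [h9, add_zero] at h7
    obtain ⟨c, h10, h11⟩ : ∃ c : F, c * c = 1 ∧ μ ^ t = algebraMap F _ c := by
      rw [two_mul, pow_add, mul_self_eq_one_iff] at h6
      rcases h6 with h6 | h6
      · exact ⟨1, by simp, by simpa using h6⟩
      · exact ⟨-1, by simp, by simpa using h6⟩
    have h12 := pow_mul_eq_of_count_le p (x := specSp F n g) (k := t) (b := 0) (c := c)
      (fun ν hν => by
        rw [h7] at hν
        have h13 : ∀ i, (μ ^ Fintype.card F ^ i) ^ t = algebraMap F _ c := fun i => by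
          rw [← pow_mul, mul_comm, pow_mul, h11, ← map_pow, FiniteField.pow_card_pow]
        obtain ⟨i, -, rfl | rfl⟩ := mem_specPM.1 hν
        · exact h13 i
        · rw [inv_pow, h13, ← map_inv₀, ← eq_inv_of_mul_eq_one_left h10]) h8
    rw [pow_zero, mul_one] at h12
    have h13 := four_dvd (h.trans ((specProj_specSp.orderOf_dvd_iff g t).2 ⟨_, h12⟩)) h5
    obtain ⟨l, h14, h15, h16⟩ := spec_exists_torus_gen p (AlgebraicClosure F) hn h13
    obtain ⟨y, h17, h18, -⟩ := spec_exists_omega_PM (n := n) (k := 0) h2 h14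
      (spec_ne_inv_of_dvd (s := 4) (by norm_num) (h15 ▸ dvd_mul_right _ _) h14) hn h16 rfl
      (one_mem _)
    exact ⟨y, h17, Nat.dvd_of_mul_dvd_mul_left two_pos (by rwa [← mul_assoc, h15] at *)⟩

/-- For q odd and n ≥ 3 the simple groups PΩ(2n+1,q) and PSp(2n,q) (which have the same order but different sets of element orders) have the same prime graph: for all distinct primes r, s, one of them has an element of order r·s if and only if the other does. -/
theorem result {F : Type*} [Field F] [Fintype F] (hodd : Odd (Fintype.card F)) (n : ℕ) (hn : 3 ≤ n) (r s : ℕ) (hr : r.Prime) (hs : s.Prime) (hrs : r ≠ s) :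
    (r * s ∈ Set.range (orderOf : Cfsg.POmega F (Cfsg.quadFormOdd n F) → ℕ)) ↔ (r * s ∈ Set.range (orderOf : Cfsg.PSp n F → ℕ)) := by
  obtain ⟨p, hp⟩ := CharP.exists F
  have hpp : p.Prime := CharP.char_is_prime F p
  have := Fact.mk hpp
  have hp2 : p ≠ 2 := by
    rintro rfl
    exact (Nat.not_even_iff_odd.2 hodd) (even_iff_two_dvd.2 (p_dvd 2))
  rw [specOm_iff (two_ne p hp2) (by omega)]
  refine Iff.trans ?_ (show PS F n (r * s) ↔ _ from
    ⟨fun ⟨x, hx⟩ => spec_mem_of_dvd x hx, fun ⟨x, hx⟩ => ⟨x, hx.symm.dvd⟩⟩)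
  have key : ∀ r s : ℕ, r.Prime → s.Prime → r ≠ s → (r = 2 ∨ r = p) →
      (SpecOm F n (r * s) ↔ PS F n (r * s)) := by
    intro r s hr hs hrs h
    by_cases h1 : s = 2
    · subst h1
      rw [h.resolve_left hrs, mul_comm]
      exact caseC p hp2 hn
    by_cases h3 : s = p
    · subst h3
      rw [h.resolve_right hrs]
      exact caseC s hp2 hn
    rcases h with rfl | rfl
    · exact caseD p hp2 (by omega) hs h1 h3
    · exact caseB r hp2 (by omega) hs h1 h3
  by_cases h1 : r = 2 ∨ r = p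
  · exact key r s hr hs hrs h1
  by_cases h3 : s = 2 ∨ s = p
  · rw [mul_comm]; exact key s r hs hr hrs.symm h3
  push Not at h1 h3
  refine caseA p hp2 (Nat.Coprime.mul_left ?_ ?_) <;> refine Nat.Coprime.mul_right ?_ ?_
  · exact (Nat.coprime_primes hr Nat.prime_two).2 h1.1
  · exact (Nat.coprime_primes hr hpp).2 h1.2
  · exact (Nat.coprime_primes hs Nat.prime_two).2 h3.1
  · exact (Nat.coprime_primes hs hpp).2 h3.2

end Cfsg.Agent.S2474
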