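import Mathlib
import Cfsg.Statements.S0412
import Cfsg.Agent.Spor.WittAut
-- import your own Cfsg.Agent.* helpers here

set_option autoImplicit false
open Cfsg

namespace Cfsg.Agent.S0412

/-- Aut of an S(5, 8, 24) is simple of order 244823040 and 5-transitive on points. -/
theorem result {α : Type*} [Fintype α] [DecidableEq α] (hα : Fintype.card α = 24) {B : Set (Finset α)} (hB : Cfsg.IsSteinerSystem 5 8 B) : Cfsg.IsM24 (Cfsg.setSystemAut B) ∧ MulAction.IsMultiplyPretransitive (Cfsg.setSystemAut B) α 5 := by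
  obtain ⟨f, hf⟩ := Spor.Golay.exists_emb_24 hα hB
  obtain ⟨φ, -⟩ := hf.exists_mulEquiv (by simp)
  rw [Spor.Golay.StabSet_empty] at φ
  refine ⟨⟨?_, ?_⟩, hf.isMultiplyPretransitive (by simp)⟩
  · rw [φ.isSimpleGroup_congr]; exact Spor.Golay.simple_M24
  · rw [Nat.card_congr φ.toEquiv, Spor.Golay.card_M24]

end Cfsg.Agent.S0412
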