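import Mathlib
import Cfsg.Statements.S2933
import Cfsg.Agent.Inv.SingerMain
import Cfsg.Agent.Inv.Fpf3

set_option autoImplicit false
open Cfsg

namespace Cfsg.Agent.S2933

open Inv.U3 Multiplicative

theorem klein_trans {Q : Type*} [Group Q] (C : Subgroup Q) (hC : Nat.card C = 4)
    (h2 : ∀ x ∈ C, x * x = 1) (ρ : MulAut Q) (hρ : ∀ x ∈ C, ρ x ∈ C) (h3 : ∀ x, ρ (ρ (ρ x)) = x)
    (hne : ∃ x ∈ C, ρ x ≠ x) : (∀ x ∈ C, x ≠ 1 → ρ x ≠ x) ∧
      ∀ x y : Q, x ∈ C → y ∈ C → x ≠ 1 → y ≠ 1 → ∃ k : ℕ, (ρ ^ k) x = y := by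
  have : Finite C := Nat.finite_of_card_ne_zero (by omega)
  have : Nontrivial C := Finite.one_lt_card_iff_nontrivial.1 (by omega)
  have : IsKleinFour C := ⟨hC, (Monoid.exponent_eq_prime_iff Nat.prime_two).2 fun g hg =>
    orderOf_eq_prime (Subtype.ext (by rw [sq]; exact h2 g g.2)) hg⟩
  have key : ∀ x ∈ C, ∀ y ∈ C, ∀ z ∈ C, x ≠ 1 → y ≠ 1 → x ≠ y → z ≠ 1 → z ≠ x → z ≠ y →
      z = x * y := fun x hx y hy z hz a b c d e f =>
    congrArg Subtype.val (IsKleinFour.eq_mul_of_ne_all (G := C) (x := ⟨x, hx⟩) (y := ⟨y, hy⟩)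
      (z := ⟨z, hz⟩) (by simpa) (by simpa) (by simpa) (by simpa) (by simpa) (by simpa))
  have h1 : ∀ x, x ≠ 1 → ρ x ≠ 1 := fun x hx => by simpa using hx
  have f1 : ∀ x ∈ C, x ≠ 1 → ρ x ≠ x := fun x hx hx1 e => by
    obtain ⟨y, hy, hy'⟩ := hne
    have a : y ≠ 1 := by rintro rfl; simp at hy'
    have b : x ≠ y := by rintro rfl; exact hy' e
    have c := key x hx y hy _ (hρ y hy) hx1 a b (h1 y a)
      (fun e' => b (ρ.injective (e.trans e'.symm))) hy'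
    have d := h3 y
    rw [c, map_mul, e, c, ← mul_assoc, h2 x hx, one_mul] at d
    exact hy' d
  refine ⟨f1, fun x y hx hy hx1 hy1 => ?_⟩
  by_cases a : y = x
  · exact ⟨0, a.symm⟩
  by_cases b : y = ρ x
  · exact ⟨1, b.symm⟩
  refine ⟨2, ?_⟩
  rw [key x hx _ (hρ x hx) y hy hx1 (h1 x hx1) (f1 x hx hx1).symm hy1 a b]
  exact key x hx _ (hρ x hx) _ (hρ _ (hρ x hx)) hx1 (h1 x hx1) (f1 x hx hx1).symm
    (h1 _ (h1 x hx1)) (fun e => f1 x hx hx1 (by have := h3 x; rwa [show ρ (ρ x) = x from e] at this))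
    (ρ.injective.ne (f1 x hx hx1))

/-- Let T be a 2-subgroup of a finite group G, V ≤ Z(T) a four-group, and t, ρ ∈ N_G(V) ∩ N_G(T) elements of order 2 and 3 with t commuting with ρ and with V. If [V, ρ] = V and C_T(t) = V, then T is elementary abelian of order 16, or homocyclic of rank 2 (ℤ/2ⁿ × ℤ/2ⁿ for some n ≥ 1), or isomorphic to a Sylow 2-subgroup of PSL₃(4) or of PSU₃(4). -/
theorem result {G : Type*} [Group G] [Finite G] (T V : Subgroup G) (hT : IsPGroup 2 ↥T) (hVT : V ≤ T ⊓ Subgroup.centralizer (T : Set G)) (hV : Nat.card ↥V = 4 ∧ ∀ v ∈ V, v ^ 2 = 1) (t ρ : G) (ht : orderOf t = 2) (hρ : orderOf ρ = 3) (htn : t ∈ Subgroup.normalizer (V : Set G) ⊓ Subgroup.normalizer (T : Set G)) (hρn : ρ ∈ Subgroup.normalizer (V : Set G) ⊓ Subgroup.normalizer (T : Set G)) (htρ : t * ρ = ρ * t) (htV : t ∈ Subgroup.centralizer (V : Set G)) (hVρ : ⁅V, Subgroup.zpowers ρ⁆ = V) (hCt : T ⊓ Subgroup.centralizer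 ({t} : Set G) = V) : (Nat.card ↥T = 16 ∧ ∀ x ∈ T, x ^ 2 = 1) ∨ (∃ n : ℕ, 1 ≤ n ∧ Nonempty (↥T ≃* Multiplicative (ZMod (2 ^ n)) × Multiplicative (ZMod (2 ^ n)))) ∨ (∃ (F : Type) (_ : Field F) (_ : Fintype F), Fintype.card F = 4 ∧ ∀ P : Sylow 2 (Matrix.ProjectiveSpecialLinearGroup (Fin 3) F), Nonempty (↥T ≃* ↥(P : Subgroup (Matrix.ProjectiveSpecialLinearGroup (Fin 3) F)))) ∨ (∃ (F : Type) (_ : Field F) (_ : Fintype F), Fintype.card F = 16 ∧ ∀ P : Sylow 2 (Cfsg.PSU 3 F 4), Nonempty (↥T ≃* ↥(P : Subgroup (Cfsg.PSU 3 F 4)))) := by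
  let α : MulAut T := T.normalizerMonoidHom ⟨t, htn.2⟩
  let β : MulAut T := T.normalizerMonoidHom ⟨ρ, hρn.2⟩
  have hα : ∀ x : T, (α x : G) = t * x * t⁻¹ := fun _ => rfl
  have hβ : ∀ x : T, (β x : G) = ρ * x * ρ⁻¹ := fun _ => rfl
  have hVT' : V ≤ T := hVT.trans inf_le_left
  have hcard : Nat.card (V.subgroupOf T) = 4 := by
    rw [Nat.card_congr (Subgroup.subgroupOfEquivOfLe hVT').toEquiv, hV.1]
  have h2 : ∀ x ∈ V.subgroupOf T, x * x = 1 := fun x hx => Subtype.ext (by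
    rw [← sq]; exact hV.2 x hx)
  have hβ3 : β ^ 3 = 1 := by
    rw [← map_pow, show (⟨ρ, hρn.2⟩ : Subgroup.normalizer (T : Set G)) ^ 3 = 1 from
      Subtype.ext (by rw [← hρ]; exact pow_orderOf_eq_one ρ), map_one]
  have hβ3' : ∀ x, β (β (β x)) = x := fun x => by
    rw [← MulAut.mul_apply, ← MulAut.mul_apply, ← pow_three', hβ3]; rfl
  have hβC : ∀ x ∈ V.subgroupOf T, β x ∈ V.subgroupOf T := fun x hx =>
    (Subgroup.mem_normalizer_iff.1 hρn.1 _).1 hx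
  obtain ⟨f1, f2⟩ := klein_trans _ hcard h2 β hβC hβ3' (by
    by_contra! h
    have : ⁅V, Subgroup.zpowers ρ⁆ = ⊥ := by
      rw [Subgroup.commutator_comm, Subgroup.commutator_eq_bot_iff_le_centralizer,
        Subgroup.zpowers_le]
      intro v hv
      exact (mul_inv_eq_iff_eq_mul.1 (congrArg Subtype.val (h ⟨v, hVT' hv⟩ hv))).symm
    rw [hVρ] at this
    have h4 := hV.1
    rw [this, Subgroup.card_bot] at h4
    omega)
  obtain ⟨K, i1, _, e, l, he, hr, hact, hl⟩ := exists_singer_field (V.subgroupOf T)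
    ⟨⟨fun a b => Subtype.ext (Subtype.ext ((hVT b.2).2 _ a.1.2))⟩⟩ β hβC
    (by intro h; rw [h, Subgroup.card_bot] at hcard; omega) f2
  have : CharP K 2 := CharTwo.of_one_ne_zero_of_two_eq_zero one_ne_zero (by
    have := h2 _ (hr.le ⟨ofAdd 1, rfl⟩)
    rw [← map_mul, map_eq_one_iff _ he] at this
    rw [← one_add_one_eq_two]; exact this)
  have hK : Nat.card K = 2 ^ 2 :=
    (Nat.card_congr (MonoidHom.ofInjective he).toEquiv).trans (by rw [hr, hcard]; rfl)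
  have ht2 : t * t = 1 := by rw [← sq, ← ht, pow_orderOf_eq_one]
  have h : Setup l α β e := ⟨hT, fun x => Subtype.ext (by
      rw [hα, hα, ← mul_assoc, ← mul_assoc, ht2, mul_assoc, ← mul_inv_rev, ht2]; simp),
    fun x => Subtype.ext (by
      rw [hα, hβ, hβ, hα, ← mul_assoc, ← mul_assoc, htρ, mul_assoc _ ρ⁻¹, ← mul_inv_rev, htρ]
      group),
    ⟨3, by decide, hβ3⟩, he, fun x => by
      rw [hr, Subgroup.mem_subgroupOf, ← hCt, Subtype.ext_iff, hα, mul_inv_eq_iff_eq_mul,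
        Subgroup.mem_inf, Subgroup.mem_centralizer_singleton_iff, eq_comm]
      exact (and_iff_right x.2).symm, hact, hl⟩
  have hs : ∃ s : K, s ≠ 0 ∧ s ≠ 1 := by
    obtain ⟨s, h1, h2⟩ := Cl.exists_sq_ne_one_of_four_le_card (F := K) (by omega)
    exact ⟨s, h1, fun e => h2 (by rw [e, one_pow])⟩
  by_cases hc : ∀ x y : T, x * y = y * x
  · by_cases h1 : (∀ x : T, x * x = 1) ∧ e.range ≠ ⊤
    · obtain ⟨π, p1, p2, -⟩ := h.plane_of_elem h1.1 h1.2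
      refine Or.inl ⟨?_, fun x hx => congrArg Subtype.val ((sq _).trans (h1.1 ⟨x, hx⟩))⟩
      rw [Nat.card_eq_of_bijective π ⟨(MonoidHom.ker_eq_bot_iff _).1 p2, p1⟩]
      exact (Nat.card_prod K K).trans (by rw [hK]; rfl)
    have h3 : ∀ x : T, x * x = 1 → x ∈ V.subgroupOf T := fun x hx => by
      rw [← hr]
      rcases h.elem_or_omega hc with h3 | h3
      · rw [not_and, not_not] at h1
        rw [h1 h3]; trivial
      · exact h3 x hx
    have hu : e (ofAdd 1) ≠ 1 := (map_ne_one_iff _ he).2 (one_ne_zero (α := K))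
    have hu' := hr.le ⟨ofAdd 1, rfl⟩
    have h4 : Inv.F3.K4 β (e (ofAdd 1)) := ⟨⟨hβ3', fun x hx => by
      by_contra hx1
      obtain ⟨z, hz, hz1, hz2⟩ := GT.PG.exists_mem_ne_one_pow_eq_one
        (hT.to_subgroup (Subgroup.zpowers x)) (by rwa [Ne, Subgroup.zpowers_eq_bot])
      obtain ⟨i, rfl⟩ := hz
      exact f1 _ (h3 _ (by rwa [← sq])) hz1 (by rw [map_zpow, hx])⟩, hT,
      orderOf_eq_prime (by rw [sq]; exact h2 _ hu') hu, fun x hx => by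
        by_cases hx1 : x = 1
        · exact Or.inl hx1
        obtain ⟨k, rfl⟩ := f2 _ x hu' (h3 x hx) hu hx1
        rw [pow_eq_pow_mod k hβ3]
        have : k % 3 = 0 ∨ k % 3 = 1 ∨ k % 3 = 2 := by omega
        rcases this with h | h | h <;> rw [h] <;> simp [sq]⟩
    obtain ⟨n, hn, ⟨ε⟩⟩ := h4.homocyclic hc
    exact Or.inr (Or.inl ⟨n, hn, ⟨ε.trans (MulEquiv.prodMultiplicative _ _)⟩⟩)
  rcases h.recognition hs hc with ⟨⟨ε⟩⟩ | ⟨F, i2, i3, σ, _, hq, ⟨ε⟩⟩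
  · have i4 := Fintype.ofFinite K
    refine Or.inr (Or.inr (Or.inl ⟨K, i1, i4, by rw [← Nat.card_eq_fintype_card, hK]; rfl,
      fun S => ?_⟩))
    obtain ⟨ε'⟩ := HQ.sylow_PSL hK S
    exact ⟨ε.trans ε'.symm⟩
  · rw [hK] at hq
    refine Or.inr (Or.inr (Or.inr ⟨F, i2, i3, by rw [← Nat.card_eq_fintype_card, hq.card]; rfl,
      fun S => ?_⟩))
    obtain ⟨ε'⟩ := sylow_PSU (p := 2) (k := 2) hq S
    exact ⟨ε.trans ε'.symm⟩

end Cfsg.Agent.S2933
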