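import Mathlib
import Cfsg.Statements.S3157
import Cfsg.Agent.S2933
import Cfsg.Agent.Inv.AnisoQuad
import Cfsg.Agent.GT.PGroupMaxClass

set_option autoImplicit false
open Cfsg

namespace Cfsg.Agent.S3157

open Inv.U3 Multiplicative
open scoped commutatorElement

variable {T : Type*} [Group T] [Finite T] {ρ : MulAut T}

theorem card_cases (hT : Nat.card T = 64) (H : Inv.F3.Fpf ρ) (M : Subgroup T)
    (hM : ∀ y ∈ M, ρ y ∈ M) :
    Nat.card M = 1 ∨ Nat.card M = 4 ∨ Nat.card M = 16 ∨ Nat.card M = 64 := by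
  have h1 := Inv.AQ.card_modEq (p := 3) ρ H.cube (· ∈ M) hM
  rw [show Nat.card {w // w ∈ M ∧ ρ w = w} = 1 from Nat.card_eq_one_iff_exists.2
    ⟨⟨1, one_mem _, map_one _⟩, fun w => Subtype.ext (H.fpf _ w.2.2)⟩] at h1
  obtain ⟨k, hk, e⟩ := (Nat.dvd_prime_pow Nat.prime_two).1
    (show Nat.card M ∣ 2 ^ 6 from M.card_subgroup_dvd_card.trans (by rw [hT]; rfl))
  rw [e] at h1 ⊢
  interval_cases k <;> simp_all [Nat.ModEq]

theorem center_data (hT : Nat.card T = 64) (H : Inv.F3.Fpf ρ) (hnc : ¬ ∀ a b : T, a * b = b * a) :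
    Nat.card (Subgroup.center T) = 4 ∧ (∀ z ∈ Subgroup.center T, z * z = 1) ∧
      ∃ a b : T, Subgroup.centralizer {a} ⊓ Subgroup.centralizer {b} = Subgroup.center T := by
  push Not at hnc
  obtain ⟨a, b, hab⟩ := hnc
  have h2 : IsPGroup 2 T := IsPGroup.of_card (n := 6) hT
  have : Nontrivial T := Finite.one_lt_card_iff_nontrivial.1 (by omega)
  have := h2.center_nontrivial
  have hc : ∀ u : T, ∀ y ∈ Subgroup.centralizer {u}, ρ y ∈ Subgroup.centralizer {u} :=
    fun u y hy => Subgroup.mem_centralizer_singleton_iff.2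
      (H.comm_r (show Commute u y from (Subgroup.mem_centralizer_singleton_iff.1 hy).symm)).symm
  obtain ⟨z, hz, hz1, hz2⟩ := GT.PG.exists_mem_ne_one_pow_eq_one (h2.to_subgroup _)
    ((Subgroup.nontrivial_iff_ne_bot _).1 this)
  let O : Subgroup T :=
    { carrier := {z | z ∈ Subgroup.center T ∧ z * z = 1}
      one_mem' := ⟨one_mem _, mul_one 1⟩
      mul_mem' := fun {u v} hu hv => ⟨mul_mem hu.1 hv.1, by
        rw [mul_assoc, ← mul_assoc v, ← Subgroup.mem_center_iff.1 hv.1, mul_assoc, hv.2, mul_one,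
          hu.2]⟩
      inv_mem' := fun {u} hu => ⟨inv_mem hu.1, by rw [← mul_inv_rev, hu.2, inv_one]⟩ }
  have c0 := card_cases hT H O fun y hy =>
    ⟨(Subgroup.centerCongr ρ ⟨y, hy.1⟩).2, by rw [← map_mul, hy.2, map_one]⟩
  have c1 := card_cases hT H _ fun y (hy : y ∈ Subgroup.centralizer {a} ⊓ Subgroup.centralizer {b}) =>
    ⟨hc a y hy.1, hc b y hy.2⟩
  have c2 := card_cases hT H _ (hc a)
  have l0 : 1 < Nat.card O := Finite.one_lt_card_iff_nontrivial.2
    ((Subgroup.nontrivial_iff_ne_bot _).2 fun h => hz1 (h.le ⟨hz, by rwa [← sq]⟩))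
  have i1 : O ≤ Subgroup.center T := fun y hy => hy.1
  have i2 : Subgroup.center T ≤ Subgroup.centralizer {a} ⊓ Subgroup.centralizer {b} :=
    le_inf (Subgroup.center_le_centralizer _) (Subgroup.center_le_centralizer _)
  have l1 := Subgroup.card_le_of_le i1
  have l2 := Subgroup.card_le_of_le i2
  have l3 := GT.PG.card_lt_of_lt (lt_of_le_of_ne inf_le_left fun h =>
    hab (Subgroup.mem_centralizer_singleton_iff.1
      (h.ge (Subgroup.mem_centralizer_singleton_iff.2 rfl)).2) :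
    Subgroup.centralizer {a} ⊓ Subgroup.centralizer {b} < Subgroup.centralizer {a})
  have l4 := GT.PG.card_lt_of_lt (lt_top_iff_ne_top.2 fun h =>
    hab (Subgroup.mem_centralizer_singleton_iff.1 (h.ge (Subgroup.mem_top b))).symm :
    Subgroup.centralizer {a} < ⊤)
  rw [Subgroup.card_top, hT] at l4
  exact ⟨by omega, fun y hy => ((Subgroup.eq_of_le_of_card_ge i1 (by omega)).ge hy).2, a, b,
    (Subgroup.eq_of_le_of_card_ge i2 (by omega)).symm⟩

theorem fixed (hT : Nat.card T = 64) (H : Inv.F3.Fpf ρ) (hnc : ¬ ∀ a b : T, a * b = b * a)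
    (hZ2 : ∀ z ∈ Subgroup.center T, z * z = 1) (x : MulAut T) (hx : ∀ y, x (x y) = y)
    (hxr : ∀ y, x (ρ y) = ρ (ρ (x y))) (C : Subgroup T) (hC : ∀ y : T, y ∈ C ↔ x y = y) :
    Nonempty (C ≃* DihedralGroup 4) ∨ Nonempty (C ≃* QuaternionGroup 2) := by
  have hz : ∀ {z}, z ∈ Subgroup.center T → ∀ y, y * z = z * y := fun hz =>
    Subgroup.mem_center_iff.1 hz
  have hf : ∀ (f : MulAut T) {z}, z ∈ Subgroup.center T → f z ∈ Subgroup.center T := fun f z hz =>
    (Subgroup.centerCongr f ⟨z, hz⟩).2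
  have hcm : ∀ u v : T, ⁅u, v⁆ ∈ Subgroup.center T := fun u v =>
    H.class_two (Subgroup.commutator_mem_commutator trivial trivial)
  have hi : ∀ {z}, z ∈ Subgroup.center T → z⁻¹ = z := fun hz =>
    inv_eq_of_mul_eq_one_right (hZ2 _ hz)
  have lift : ∀ y : T, ∃ c ∈ C, ∃ w ∈ Subgroup.center T, y * x y = c * w := fun y => by
    have h1 : x (y * x y) = y * x y * ⁅y⁻¹, (x y)⁻¹⁆⁻¹ := by
      rw [map_mul, hx, commutatorElement_def]; group
    set z := ⁅y⁻¹, (x y)⁻¹⁆⁻¹
    have h2 : z ∈ Subgroup.center T := inv_mem (hcm _ _)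
    have h3 : x z = z := by
      have := congrArg x h1
      rw [hx, map_mul, h1, mul_assoc, left_eq_mul] at this
      rw [eq_inv_of_mul_eq_one_right this, hi h2]
    refine ⟨y * x y * ρ z, (hC _).2 ?_, ρ z, hf ρ h2, by rw [mul_assoc, hZ2 _ (hf ρ h2), mul_one]⟩
    rw [map_mul, h1, hxr, h3, H.rr, mul_assoc, mul_inv_rev, hi h2, hi (hf ρ h2), hz h2,
      ← mul_assoc z, hZ2 z h2, one_mul]
  have hsq : ∀ y : T, y * y ∈ Subgroup.center T := fun y => Subgroup.mem_center_iff.2 fun w =>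
    (commutatorElement_eq_one_iff_mul_comm.1 (by
      rw [commutator_mul_left_of_central (hcm _ _), hZ2 _ (hcm _ _)])).symm
  have key : ∀ y : T, y = ρ y * x (ρ y) * ρ (ρ (y * x y)) *
      ((⁅(ρ (ρ y))⁻¹, ρ (ρ (x y))⁆ * (ρ (ρ (x y)) * ρ (ρ (x y))))⁻¹ * (y * y)) := fun y => by
    rw [hxr, map_mul, map_mul, H.rr y, commutatorElement_def]; group
  have hfix : ∀ {z}, z ∈ Subgroup.center T → z * x z ∈ C := fun {z} h =>
    (hC _).2 (by rw [map_mul, hx, hz h])
  have surj : ∀ y : T, ∃ c ∈ C, ∃ d ∈ C, y = c * ρ (ρ d) := fun y => by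
    obtain ⟨c, hc, w, hw, e1⟩ := lift (ρ y)
    obtain ⟨d, hd, v, hv, e2⟩ := lift y
    have e3 := key y
    set u := (⁅(ρ (ρ y))⁻¹, ρ (ρ (x y))⁆ * (ρ (ρ (x y)) * ρ (ρ (x y))))⁻¹ * (y * y)
    have hu : u ∈ Subgroup.center T := mul_mem (inv_mem (mul_mem (hcm _ _) (hsq _))) (hsq _)
    have hW := mul_mem (mul_mem hw (hf ρ (hf ρ hv))) hu
    have e4 := key (w * ρ (ρ v) * u)
    rw [commutator_eq_one_of_central_right _ (hf ρ (hf ρ (hf x hW))), hZ2 _ hW,
      hZ2 _ (hf ρ (hf ρ (hf x hW))), one_mul, inv_one, one_mul, mul_one] at e4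
    refine ⟨_, mul_mem hc (hfix (hf ρ hW)), _, mul_mem hd (hfix hW), ?_⟩
    rw [map_mul ρ d, map_mul ρ (ρ d), mul_assoc c, ← mul_assoc _ (ρ (ρ d)),
      ← hz (mul_mem (hf ρ hW) (hf x (hf ρ hW))), mul_assoc (ρ (ρ d)), ← e4, e3, e1, e2, map_mul,
      map_mul, mul_assoc c, ← mul_assoc w, ← hz hw]
    simp only [mul_assoc]
  have h8 : Nat.card C = 8 := by
    have := Nat.card_eq_of_bijective (fun p : C × C => (p.1 : T) * ρ (ρ p.2))
      ⟨fun ⟨c, d⟩ ⟨c', d'⟩ e => by
        have e1 : (c'⁻¹ * c : C) = ρ (ρ (d' * d⁻¹ : C)) := by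
          simp only [Subgroup.coe_mul, Subgroup.coe_inv, map_mul, map_inv]
          rw [inv_mul_eq_iff_eq_mul, ← mul_assoc, eq_mul_inv_iff_mul_eq]; exact e
        have e2 := (hC _).1 (c'⁻¹ * c).2
        rw [e1, hxr, hxr, (hC _).1 (d' * d⁻¹).2, H.cube, eq_comm] at e2
        have e3 := ρ.injective (H.fpf _ e2 |>.trans (map_one ρ).symm)
        rw [e3, map_one, map_one] at e1
        exact Prod.ext (inv_mul_eq_one.1 (Subtype.ext e1)).symm
          (mul_inv_eq_one.1 (Subtype.ext e3)).symm,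
      fun y => by
        obtain ⟨c, hc, d, hd, e⟩ := surj y
        exact ⟨(⟨c, hc⟩, ⟨d, hd⟩), e.symm⟩⟩
    rw [Nat.card_prod, hT] at this
    nlinarith
  obtain ⟨a, b, hab⟩ : ∃ a b : C, a * b ≠ b * a := by
    by_contra! h
    have h1 : ∀ a ∈ C, ∀ b ∈ C, Commute a b := fun a ha b hb =>
      congrArg Subtype.val (h ⟨a, ha⟩ ⟨b, hb⟩)
    refine hnc fun y y' => ?_
    obtain ⟨c, hc, d, hd, rfl⟩ := surj y
    obtain ⟨c', hc', d', hd', rfl⟩ := surj y'
    exact ((h1 c hc c' hc').mul_right (H.comm_r (H.comm_r (h1 c hc d' hd')))).mul_left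
      ((H.comm_r (H.comm_r (h1 c' hc' d hd))).symm.mul_right (((h1 d hd d' hd').map ρ).map ρ))
  have l4 : Subgroup.centralizer {a} ≠ ⊤ := fun h =>
    hab (Subgroup.mem_centralizer_singleton_iff.1 (h.ge (Subgroup.mem_top b))).symm
  have l5 := Subgroup.card_mul_index (Subgroup.centralizer {a})
  have l6 := Subgroup.one_lt_index_of_ne_top l4
  obtain ⟨m, u, v, hm⟩ := GT.PG.exists_maxTwo_of_card_centralizer_le
    (IsPGroup.of_card (n := 3) h8) (by omega) (x := a) (by nlinarith)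
  obtain rfl : m = 1 := by
    have := Nat.pow_right_injective le_rfl (hm.card_eq.symm.trans (h8.trans (show 8 = 2 ^ 3 from rfl)))
    omega
  rcases hm.cases with h | h | h
  · exact Or.inl h
  · exact Or.inr h
  · omega

/-- Let T be a non-abelian group of order 64 admitting automorphisms ρ of order 3 and x of order 2 with x ρ x⁻¹ = ρ⁻¹ (so they generate a symmetric group of degree 3), where ρ fixes only the identity. Then T is isomorphic to a Sylow 2-subgroup of the projective special linear group of dimension 3 over the field with 4 elements, and the subgroup of fixed points of x is dihedral of order 8 or quaternion of order 8. -/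
theorem result {T : Type*} [Group T] [Finite T] (hT : Nat.card T = 64) (hna : ¬ IsMulCommutative T) (ρ x : MulAut T) (hρ : orderOf ρ = 3) (hx : orderOf x = 2)
    (hxr : x * ρ * x⁻¹ = ρ⁻¹) (hfp : ∀ y : T, ρ y = y → y = 1) (C : Subgroup T) (hC : ∀ y : T, y ∈ C ↔ x y = y) :
    (∃ (F : Type) (_ : Field F) (_ : Fintype F), Fintype.card F = 4 ∧
        ∃ S : Sylow 2 (Matrix.ProjectiveSpecialLinearGroup (Fin 3) F), Nonempty (T ≃* ↥(S : Subgroup (Matrix.ProjectiveSpecialLinearGroup (Fin 3) F)))) ∧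
      (Nonempty (↥C ≃* DihedralGroup 4) ∨ Nonempty (↥C ≃* QuaternionGroup 2)) := by
  have hρ3 : ρ ^ 3 = 1 := by rw [← hρ, pow_orderOf_eq_one]
  have hx2 : x * x = 1 := by rw [← sq, ← hx, pow_orderOf_eq_one]
  have H : Inv.F3.Fpf ρ := ⟨fun y => by
    rw [← MulAut.mul_apply, ← MulAut.mul_apply, ← pow_three', hρ3]; rfl, hfp⟩
  have hnc : ¬ ∀ a b : T, a * b = b * a := fun h => hna ⟨⟨h⟩⟩
  obtain ⟨hZ, hZ2, a, b, hab⟩ := center_data hT H hnc
  refine ⟨?_, fixed hT H hnc hZ2 x (fun y => by rw [← MulAut.mul_apply, hx2]; rfl) (fun y => ?_) C hC⟩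
  · have hc : ∀ z ∈ Subgroup.center T, ρ z ∈ Subgroup.center T := fun z hz =>
      (Subgroup.centerCongr ρ ⟨z, hz⟩).2
    have hne : Subgroup.center T ≠ ⊥ := fun h => by rw [h, Subgroup.card_bot] at hZ; omega
    obtain ⟨-, f2⟩ := S2933.klein_trans _ hZ hZ2 ρ hc H.cube (by
      obtain ⟨z, hz⟩ := Subgroup.ne_bot_iff_exists_ne_one.1 hne
      exact ⟨z, z.2, fun e => hz (Subtype.ext (hfp _ e))⟩)
    obtain ⟨K, i1, _, e, l, he, hr, hact, hl⟩ := exists_singer_field (Subgroup.center T)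
      inferInstance ρ hc hne f2
    have : CharP K 2 := CharTwo.of_one_ne_zero_of_two_eq_zero one_ne_zero (by
      have := hZ2 _ (hr.le ⟨ofAdd 1, rfl⟩)
      rw [← map_mul, map_eq_one_iff _ he] at this
      rw [← one_add_one_eq_two]; exact this)
    have hK : Nat.card K = 2 ^ 2 :=
      (Nat.card_congr (MonoidHom.ofInjective he).toEquiv).trans (by rw [hr, hZ]; rfl)
    obtain ⟨c, c0, c1, -, c3⟩ := exists_comm_coord e he hr.le (MonoidHom.id T) (MonoidHom.id T)
      fun u v => hr.ge (H.class_two (Subgroup.commutator_mem_commutator trivial trivial))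
    replace c0 : ∀ u v, ⁅u, v⁆ = e (ofAdd (c u v)) := c0
    have hl3 : l * (l * (l * 1)) = 1 := he (show e (ofAdd (l * (l * (l * 1)))) = e (ofAdd 1) by
      rw [← hact, ← hact, ← hact, H.cube])
    have c4 : ∀ u v, c (ρ u) v ^ 2 = l * c u v ^ 2 := fun u v => by
      have : c (ρ u) v = l * (l * c u v) := he (show e (ofAdd _) = e (ofAdd (l * (l * c u v))) by
        rw [← c0, H.br_l, c0, hact, hact])
      rw [this]
      linear_combination (l * c u v ^ 2) * hl3
    let π : T →* Multiplicative (K × K) := MonoidHom.mk' (fun u => ofAdd (c u a ^ 2, c u b ^ 2))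
      fun u v => by rw [c1, c1, CharTwo.add_sq, CharTwo.add_sq]; rfl
    have hk : π.ker = Subgroup.center T := by
      rw [← hab]
      ext u
      rw [MonoidHom.mem_ker, MonoidHom.mk'_apply, ofAdd_eq_one, Prod.mk_eq_zero,
        pow_eq_zero_iff two_ne_zero, pow_eq_zero_iff two_ne_zero, c3, c3, Subgroup.mem_inf,
        Subgroup.mem_centralizer_singleton_iff, Subgroup.mem_centralizer_singleton_iff,
        commutatorElement_eq_one_iff_mul_comm, commutatorElement_eq_one_iff_mul_comm]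
      rfl
    have hπ : Function.Surjective π := by
      rw [← MonoidHom.range_eq_top]
      refine Subgroup.eq_top_of_card_eq _ ?_
      have h1 := Subgroup.card_mul_index π.ker
      rw [Subgroup.index_ker, hk, hZ, hT] at h1
      rw [show Nat.card (Multiplicative (K × K)) = _ from Nat.card_prod K K, hK]
      omega
    rcases recognition_of_scalar he hr.le hact hl π hπ (hk.trans hr.symm)
      (fun u => by simp [π, c4]) hnc with ⟨⟨ε⟩⟩ | ⟨F, i2, i3, σ, _, hq, ⟨ε⟩⟩
    · have i4 := Fintype.ofFinite K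
      obtain ⟨S⟩ : Nonempty (Sylow 2 (Matrix.ProjectiveSpecialLinearGroup (Fin 3) K)) :=
        inferInstance
      obtain ⟨ε'⟩ := HQ.sylow_PSL hK S
      exact ⟨K, i1, i4, by rw [← Nat.card_eq_fintype_card, hK]; rfl, S, ⟨ε.trans ε'.symm⟩⟩
    · rw [hK] at hq
      have : CharP F 2 := Cl.Aut.charP_of_card (p := 2) (f := 4) (by rw [hq.card]; rfl)
      have h1 := UQ.eq_one_of_inverted hq (ρ := MulAut.congr ε ρ) (t := MulAut.congr ε x)
        (by rw [← map_pow, hρ3, map_one]) (by rw [← map_mul, hx2, map_one])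
        (by rw [← map_inv, ← map_inv, ← map_mul, ← map_mul, hxr])
      rw [map_eq_one_iff _ (MulAut.congr ε).injective] at h1
      rw [h1, orderOf_one] at hρ
      omega
  · have := congrArg (fun f : MulAut T => f y) (mul_inv_eq_iff_eq_mul.1 hxr)
    simp only [MulAut.mul_apply] at this
    rw [this, MulAut.inv_apply, MulEquiv.symm_apply_eq, H.cube]

end Cfsg.Agent.S3157
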