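import Mathlib
import Cfsg.Statements.S3161
import Cfsg.Agent.Inv.SingerMain

set_option autoImplicit false
open Cfsg

namespace Cfsg.Agent.S3161

open Inv.U3 Multiplicative

/-- Let Q be a non-abelian finite 2-group admitting commuting automorphisms α of order 2 and ρ of order 2^n − 1, where n ≥ 2, such that the fixed points of α form an elementary abelian subgroup of order 2^n on whose nonidentity elements the group generated by ρ acts transitively. Then Q is isomorphic to a Sylow 2-subgroup of the projective special unitary group of dimension 3 with parameter 2^n (realised over the field with 4^n elements) or of the projective special linear group of dimension 3 over the field with 2^n elements. -/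
theorem result {Q : Type*} [Group Q] [Finite Q] (hQ : IsPGroup 2 Q) (hna : ¬ IsMulCommutative Q) (n : ℕ) (hn : 2 ≤ n)
    (α ρ : MulAut Q) (hα : orderOf α = 2) (hρ : orderOf ρ = 2 ^ n - 1) (hc : Commute α ρ)
    (C : Subgroup Q) (hC : ∀ x : Q, x ∈ C ↔ α x = x) (hCE : Cfsg.IsElementaryAbelian 2 C ∧ Nat.card ↥C = 2 ^ n)
    (htr : ∀ x y : Q, x ∈ C → y ∈ C → x ≠ 1 → y ≠ 1 → ∃ k : ℕ, (ρ ^ k) x = y) :
    (∃ (F : Type) (_ : Field F) (_ : Fintype F), Fintype.card F = 4 ^ n ∧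
        ∃ S : Sylow 2 (Cfsg.PSU 3 F (2 ^ n)), Nonempty (Q ≃* ↥(S : Subgroup (Cfsg.PSU 3 F (2 ^ n))))) ∨
      (∃ (F : Type) (_ : Field F) (_ : Fintype F), Fintype.card F = 2 ^ n ∧
        ∃ S : Sylow 2 (Matrix.ProjectiveSpecialLinearGroup (Fin 3) F), Nonempty (Q ≃* ↥(S : Subgroup (Matrix.ProjectiveSpecialLinearGroup (Fin 3) F)))) := by
  have h4 : 4 ≤ 2 ^ n := Nat.pow_le_pow_right (show 0 < 2 by norm_num) hn
  have hne : C ≠ ⊥ := by
    rintro rfl
    have := hCE.2
    rw [Subgroup.card_bot] at this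
    omega
  have hcm : ∀ x, α (ρ x) = ρ (α x) := fun x => congrArg (fun f : MulAut Q => f x) hc.eq
  obtain ⟨K, i1, _, e, l, he, rfl, hact, hl⟩ := exists_singer_field C hCE.1.1 ρ
    (fun x hx => by rw [hC, hcm, (hC x).1 hx]) hne htr
  have : CharP K 2 := CharTwo.of_one_ne_zero_of_two_eq_zero one_ne_zero (by
    have := hCE.1.2 _ ⟨ofAdd 1, rfl⟩
    rw [← map_pow, map_eq_one_iff _ he, sq] at this
    rw [← one_add_one_eq_two]; exact this)
  have hK : Nat.card K = 2 ^ n :=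
    (Nat.card_congr (MonoidHom.ofInjective he).toEquiv).trans hCE.2
  have h : Setup l α ρ e := ⟨hQ, fun x => by
    rw [← MulAut.mul_apply, ← sq, ← hα, pow_orderOf_eq_one]; rfl, hcm,
    ⟨_, Nat.Even.sub_odd (by omega) (even_two.pow_of_ne_zero (by omega)) odd_one,
      hρ ▸ pow_orderOf_eq_one ρ⟩, he, fun x => (hC x).symm, hact, hl⟩
  have hs : ∃ s : K, s ≠ 0 ∧ s ≠ 1 := by
    obtain ⟨s, h1, h2⟩ := Cl.exists_sq_ne_one_of_four_le_card (F := K) (by omega)
    exact ⟨s, h1, fun e => h2 (by rw [e, one_pow])⟩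
  rcases h.recognition hs (fun h => hna ⟨⟨h⟩⟩) with ⟨⟨ε⟩⟩ | ⟨F, i2, i3, σ, _, hq, ⟨ε⟩⟩
  · have i4 := Fintype.ofFinite K
    obtain ⟨S⟩ : Nonempty (Sylow 2 (Matrix.ProjectiveSpecialLinearGroup (Fin 3) K)) := inferInstance
    obtain ⟨ε'⟩ := HQ.sylow_PSL hK S
    exact Or.inr ⟨K, i1, i4, by rw [← Nat.card_eq_fintype_card, hK], S, ⟨ε.trans ε'.symm⟩⟩
  · rw [hK] at hq
    obtain ⟨S⟩ : Nonempty (Sylow 2 (Cfsg.PSU 3 F (2 ^ n))) := inferInstance
    obtain ⟨ε'⟩ := sylow_PSU hq S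
    exact Or.inl ⟨F, i2, i3, by
      rw [← Nat.card_eq_fintype_card, hq.card, ← pow_mul, mul_comm, pow_mul]; rfl, S,
      ⟨ε.trans ε'.symm⟩⟩

end Cfsg.Agent.S3161
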