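import Mathlib
import Cfsg.Statements.S1141
import Cfsg.Agent.Cl.U3

set_option autoImplicit false
open Cfsg

namespace Cfsg.Agent.S1141

open Cfsg.Agent.Cl

theorem of_equiv {P Q : Type*} [Group P] [Group Q] (e : P ≃* Q) (h : IsSuzukiTwoGroup Q) :
    IsSuzukiTwoGroup P := by
  obtain ⟨h1, h2, ⟨x, y, h3⟩, ⟨a, b, h4, h5, h6, h7, h8⟩, K, h9, h10⟩ := h
  refine ⟨Finite.of_equiv _ e.symm.toEquiv, h2.of_equiv e.symm,
    ⟨e.symm x, e.symm y, by simpa only [← map_mul, e.symm.injective.ne_iff] using h3⟩,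
    ⟨e.symm a, e.symm b, e.symm.injective.ne h4, by simpa using h5, by rw [← map_mul, h6, map_one],
      by simpa using h7, by rw [← map_mul, h8, map_one]⟩,
    K.map (MulAut.congr e.symm).toMonoidHom,
    isCyclic_of_surjective _ ((MulAut.congr e.symm).toMonoidHom.subgroupMap_surjective K),
    fun x y hx hx' hy hy' => ?_⟩
  obtain ⟨k, hk, hk'⟩ := h10 (e x) (e y) (by simpa using hx) (by rw [← map_mul, hx', map_one])
    (by simpa using hy) (by rw [← map_mul, hy', map_one])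
  refine ⟨⟨_, k.1, k.2, rfl⟩, e.injective (by simpa using hk), ?_⟩
  rintro ⟨_, k', hk2, rfl⟩ h
  have := hk' ⟨k', hk2⟩ (e.symm.injective (by simpa using h))
  exact Subtype.ext (congrArg (MulAut.congr e.symm) (congrArg Subtype.val this))

theorem heis {F : Type*} [Field F] {σ : F →+* F} {q : ℕ} [CharP F 2] (hq : UField σ q)
    (h2 : q ≠ 2) : IsSuzukiTwoGroup (UHeis hq.invol) := by
  have := hq.finite
  have ht : ∀ c : F, c + σ c = 0 ↔ σ c = c := fun c => by
    rw [add_eq_zero_iff_neg_eq, CharTwo.neg_eq, eq_comm]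
  obtain ⟨a, h3, h4, h5⟩ := hq.exists_fixed_ne h2
  let K : Subgroup Fˣ := (Units.map σ.toMonoidHom).eqLocus (MonoidHom.id _)
  have hK : ∀ a : Fˣ, a ∈ K ↔ σ a = a := fun a => Units.ext_iff
  refine ⟨inferInstance, UHeis.isPGroup _ 2, UHeis.exists_not_commute _,
    ⟨UHeis.cen _ a ((ht a).2 h3), UHeis.cen _ 1 ((ht 1).2 (map_one σ)),
      fun e => h5 (congrArg UHeis.c e), mt UHeis.eq_one_iff.1 h4, UHeis.mul_self_eq_one_iff.2 rfl,
      mt UHeis.eq_one_iff.1 one_ne_zero, UHeis.mul_self_eq_one_iff.2 rfl⟩,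
    K.map (UHeis.torus _), isCyclic_of_surjective _ ((UHeis.torus _).subgroupMap_surjective K),
    fun x y hx hx' hy hy' => ?_⟩
  rw [UHeis.mul_self_eq_one_iff] at hx' hy'
  rw [Ne, UHeis.eq_one_iff] at hx hy
  obtain ⟨s, hs⟩ := (frobeniusEquiv F 2).surjective (y.c / x.c)
  rw [frobeniusEquiv_apply, frobenius_def] at hs
  have hs0 : s ≠ 0 := by
    rintro rfl
    simp [eq_comm, hx, hy] at hs
  have hs1 : σ s = s := frobenius_inj F 2 (by
    rw [frobenius_def, frobenius_def, ← map_pow, hs, map_div₀, (ht _).1 (UHeis.trace_c_of_b hx'),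
      (ht _).1 (UHeis.trace_c_of_b hy')])
  refine ⟨⟨_, Units.mk0 s hs0, (hK _).2 hs1, rfl⟩, UHeis.ext (by simp [hx', hy']) ?_, ?_⟩
  · simp only [UHeis.torus_c, Units.val_mk0, hs1, ← pow_two, hs, div_mul_cancel₀ _ hx]
  · rintro ⟨_, k, hk, rfl⟩ h
    refine Subtype.ext (congrArg (UHeis.torus hq.invol) (Units.ext (frobenius_inj F 2 ?_)))
    have := congrArg UHeis.c h
    rw [UHeis.torus_c, (hK k).1 hk] at this
    rw [frobenius_def, frobenius_def, Units.val_mk0, hs, ← this, mul_div_cancel_right₀ _ hx, pow_two]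


/-- Let `q = 2^n ≥ 4` and `|F| = q²`. A Sylow 2-subgroup `S` of `PSU₃(q)` has order `q³`, its centre has order `q`, and `S` is a Suzuki 2-group. -/
theorem result {F : Type*} [Field F] [Fintype F] {n : ℕ} (hn : 2 ≤ n)
    (hF : Fintype.card F = (2 ^ n) ^ 2) (S : Sylow 2 (Cfsg.PSU 3 F (2 ^ n))) :
    Nat.card S = (2 ^ n) ^ 3 ∧ Nat.card (Subgroup.center ↥(S : Subgroup (Cfsg.PSU 3 F (2 ^ n)))) = 2 ^ n ∧
      Cfsg.IsSuzukiTwoGroup ↥(S : Subgroup (Cfsg.PSU 3 F (2 ^ n))) := by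
  obtain ⟨σ, hq⟩ := exists_uField hF
  have : CharP F 2 := hq.charP rfl
  obtain ⟨e⟩ := hq.nonempty_sylow_PSU_three S
  refine ⟨by rw [Nat.card_congr e.toEquiv, UHeis.card hq],
    by rw [Nat.card_congr (Subgroup.centerCongr e).toEquiv, UHeis.card_center hq],
    of_equiv e (heis hq ?_)⟩
  exact (Nat.pow_lt_pow_right one_lt_two hn).ne'

end Cfsg.Agent.S1141
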