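import Cfsg.Statements.S1030
import Cfsg.Agent.Chev.Good
import Cfsg.Agent.Chev.RootElem
import Cfsg.Agent.Chev.TimSL2

set_option autoImplicit false
open Cfsg

namespace Cfsg.Agent.S1030

/-- There is a homomorphism `SL₂(F) → GL` with image `⟨X_r, X_{-r}⟩` sending `[[1,t],[0,1]]` to `x_r(t)` and `[[1,0],[t,1]]` to `x_{-r}(t)`. -/
theorem result {F : Type*} [Field F] (D : Cfsg.Lie.ChevalleyDatum) (hD : D ∈ [Cfsg.Lie.chevG2, Cfsg.Lie.chevB2, Cfsg.Lie.chevD4, Cfsg.Lie.chevF4, Cfsg.Lie.chevE6, Cfsg.Lie.chevE7, Cfsg.Lie.chevE8]) (r : ℕ) (hr : r < D.nroots) :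
    ∃ φ : Matrix.SpecialLinearGroup (Fin 2) F →* GL D.Idx F,
      φ.range = D.rootSubgroup F r ⊔ D.rootSubgroup F (D.neg r) ∧
      ∀ (g : Matrix.SpecialLinearGroup (Fin 2) F) (t : F),
        ((g : Matrix (Fin 2) (Fin 2) F) = !![1, t; 0, 1] → ((φ g : GL D.Idx F) : Matrix D.Idx D.Idx F) = D.x F r t) ∧
        ((g : Matrix (Fin 2) (Fin 2) F) = !![1, 0; t, 1] → ((φ g : GL D.Idx F) : Matrix D.Idx D.Idx F) = D.x F (D.neg r) t) := by
  have := Cfsg.Agent.Chev.good_of_mem hD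
  lift r to D.Rt using hr
  have hrel : Chev.Tim.SL2Rel (D.X F r) (D.X F (D.neg r)) := by
    refine ⟨D.X_add F r, D.X_add F _, fun t ht u => ?_, fun t ht u => ?_⟩
    · have h := D.nE_conj_X F r r ht u
      rw [D.refl_self, D.etaR_self, D.pairing_self] at h
      refine h.trans ?_
      congr 1
      rw [zpow_neg, zpow_ofNat]; push_cast; ring
    · have h := D.nE_conj_X F r (D.ng r) ht u
      rw [D.refl_ng_self, D.etaR_ng, D.etaR_self, D.pairing_ng_right, D.pairing_self] at h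
      refine h.trans ?_
      congr 1
      rw [neg_neg, zpow_ofNat]; push_cast; ring
  obtain ⟨φ, h1, h2⟩ := hrel.exists_hom fun t u ht hu => by
    have h := D.hE_mul F r ht hu
    simp only [Cfsg.Lie.ChevalleyDatum.hE, D.nE_neg] at h
    exact h
  refine ⟨φ, ?_, fun g t => ⟨fun h => ?_, fun h => ?_⟩⟩
  · rw [MonoidHom.range_eq_map, ← Chev.Tim.upper_sup_lower, Subgroup.map_sup]
    congr 1
    · ext g
      simp only [Subgroup.mem_map, Chev.Tim.mem_upperUnipotentSL2, D.mem_rootSubgroup_iff]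
      exact ⟨fun ⟨_, ⟨t, e⟩, e'⟩ => ⟨t, by rw [← e', e, h1]⟩, fun ⟨t, e⟩ => ⟨_, ⟨t, rfl⟩, by rw [h1, e]⟩⟩
    · ext g
      simp only [Subgroup.mem_map, Chev.Tim.mem_lowerUnipotentSL2, D.mem_rootSubgroup_iff]
      exact ⟨fun ⟨_, ⟨t, e⟩, e'⟩ => ⟨t, by rw [← e', e, h2]⟩, fun ⟨t, e⟩ => ⟨_, ⟨t, rfl⟩, by rw [h2, e]⟩⟩
  · rw [show g = GT.slUp t from Subtype.ext h, h1]; rfl
  · rw [show g = GT.slLo t from Subtype.ext h, h2]; rfl

end Cfsg.Agent.S1030
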