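import Cfsg.Statements.S2180
import Cfsg.Agent.Chev.C2Word
import Cfsg.Agent.Chev.Good
import Cfsg.Agent.Chev.ChevGen

set_option autoImplicit false
open Cfsg

namespace Cfsg.Agent.S2180

open Cfsg.Lie Cfsg.Lie.ChevalleyDatum Cfsg.Agent.Chev

set_option backward.isDefEq.respectTransparency false

/-- A root. -/
def rt (i : Fin 12) : chevG2.Rt := i

/-- A node. -/
def nd (i : Fin 2) : chevG2.Nd := i

theorem aux1 {F : Type*} [Field F] [CharP F 2] : chevG2.group F ⊓ Subgroup.centralizer {chevG2.X F (rt 11) 1} =
    chevG2.posUnipotent F ⊔ chevG2.rootSubgroup F 4 := by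
  rw [centralizer_root (θ := rt 11) (i₀ := nd 1) (by decide +kernel) (by decide +kernel) (fun r hr c => commute_top hr c 1)
    fun j h c => X_commute2 (by revert j; decide +kernel) c 1]
  refine le_antisymm (sup_le le_sup_left (LJ_le fun j hj t => ⟨Subgroup.mem_sup_left (X_mem_U (chevG2.sr_pos j) t),
    Subgroup.mem_sup_right ?_⟩)) (sup_le_sup_left (rootSubgroup_le_iff.2 fun t =>
      X_mem_LJ (r := rt 4) (by decide +kernel) t) _)
  have : (chevG2.ng (chevG2.sr j) : ℕ) = 4 := by revert j; decide +kernel
  rw [this]; exact chevG2.X_mem_rootSubgroup F _ t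

theorem aux2 {F : Type*} [Field F] [CharP F 2] : chevG2.group F ⊓ Subgroup.centralizer {chevG2.word F [9]} =
    chevG2.rootSubgroup F 9 ⊔ chevG2.rootSubgroup F 10 ⊔ chevG2.rootSubgroup F 11 ⊔ chevG2.rootSubgroup F 6 ⊔
      chevG2.rootSubgroup F 5 := by
  have hX := chevG2.X_mem_rootSubgroup F
  have key : ∀ r, chevG2.Cm2 r 9 [] → chevG2.rootSubgroup F r ≤
      chevG2.group F ⊓ Subgroup.centralizer {chevG2.word F [9]} := fun r h => rootSubgroup_le_iff.2 fun t =>
    ⟨chevG2.X_mem_group F r t, mem_centralizer_singleton.2 (commute_word (by simpa using h) t)⟩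
  refine le_antisymm (centralizer_word_le (c := [2, 3]) (m := 2) (M := [10, 11]) (J := {j | j = nd 1})
    (by decide +kernel) (by decide +kernel) (by decide +kernel) (by decide +kernel) (by decide +kernel) ?_
    (fun _ => 1) (by decide +kernel) (by decide +kernel) (by decide +kernel) ?_ (LJ_le ?_) ?_)
    (sup_le (sup_le (sup_le (sup_le (key _ (by decide +kernel)) (key _ (by decide +kernel)))
      (key _ (by decide +kernel))) (key _ (by decide +kernel))) (key _ (by decide +kernel)))
  · intro w hw h r hr
    obtain rfl : r = rt 9 := Fin.ext (List.mem_singleton.1 hr)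
    have h1 := weyl_pairing hw (rt 9) (rt 10)
    have h2 : ∀ a b : chevG2.Rt, (a : ℕ) ∈ [9] ++ [10, 11] →
        chevG2.pairing a b = chevG2.pairing (rt 9) (rt 10) → a = rt 9 := by decide +kernel
    exact h2 _ _ (h _ hr) h1
  · intro c h i hi
    have h1 := h 9 (by simp)
    rw [Finset.prod_eq_single (nd 0) (fun j _ hj => by
      rw [show chevG2.cartan j 9 = 0 by revert j; decide +kernel, zpow_zero]) (by simp),
      show chevG2.cartan (nd 0) 9 = 1 by decide +kernel, zpow_one] at h1
    rwa [show i = nd 0 by revert i; decide]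
  · rintro j rfl t
    exact ⟨Subgroup.mem_sup_left (Subgroup.mem_sup_right (hX 6 t)), Subgroup.mem_sup_right (hX 5 t)⟩
  · intro q hq hc
    rw [rootBN_Q_eq] at hq
    have h1 : q ∈ chevG2.XS F (chevG2.lset [7, 8, 9, 10, 11]) :=
      XS_mono' (fun r => by simp only [mem_lset, Set.mem_ofPred_eq]; revert r; decide +kernel) hq
    have h2 := kill_root (S' := [8, 9, 10, 11]) (T := [11]) (r := rt 7) (v := rt 10) (by decide +kernel)
      (by decide +kernel) (by decide +kernel) (by decide +kernel)
      (fun h => absurd (ConeOK.mem (c := [2, 3]) (m := 3) (by decide +kernel) (by decide +kernel) h) (by decide))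
      (fun c => by
        rw [word_cons, word_nil, mul_one]
        exact (conj_X_single (r := rt 7) (s := rt 9) (v := 10) (C := 3) (by decide +kernel)
          (by decide +kernel) (by decide +kernel) (by decide) c 1).trans (by rw [mul_one]; rfl)) h1 hc
    have h3 := kill_root (S' := [9, 10, 11]) (T := []) (r := rt 8) (v := rt 11) (by decide +kernel)
      (by decide +kernel) (by decide +kernel) (by decide +kernel)
      (fun h => absurd (ConeOK.mem (c := [2, 3]) (m := 3) (by decide +kernel) (by decide +kernel) h) (by decide))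
      (fun c => by
        rw [word_cons, word_nil, mul_one]
        exact (conj_X_single (r := rt 8) (s := rt 9) (v := 11) (C := 3) (by decide +kernel)
          (by decide +kernel) (by decide +kernel) (by decide) c 1).trans (by rw [mul_one]; rfl)) h2 hc
    refine Subgroup.mem_sup_left (Subgroup.mem_sup_left ((XS_le_iff.2 fun r hr t => ?_ :
      _ ≤ chevG2.rootSubgroup F 9 ⊔ chevG2.rootSubgroup F 10 ⊔ chevG2.rootSubgroup F 11) h3))
    simp only [mem_lset, List.mem_cons, List.not_mem_nil, or_false] at hr
    rcases hr with h | h | h <;> rw [h]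
    · exact Subgroup.mem_sup_left (Subgroup.mem_sup_left (hX 9 t))
    · exact Subgroup.mem_sup_left (Subgroup.mem_sup_right (hX 10 t))
    · exact Subgroup.mem_sup_right (hX 11 t)

/-- Centralizers of involutions in the Chevalley group G of type G₂ over a finite field F of characteristic two with at least four elements (this problem's root numbering for type G₂, from the Chevalley data module: a = p₁ short with index 7, b = p₂ long with index 6, −a = 4, −b = 5, 2a + b = 9, 3a + b = 10, 3a + 2b = 11; U generated by the positive root subgroups). For an element z of G with matrix x_{3a+2b}(1): the centralizer of z in G is generated by U and X_{−a}. For an element t of G with matrix x_{2a+b}(1): the centralizer of t in G is generated by X_{2a+b}, X_{3a+b}, X_{3a+2b}, X_b and X_{−b}. -/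
theorem result {F : Type*} [Field F] [Fintype F] [CharP F 2] (hF : 4 ≤ Fintype.card F) (z t : GL Cfsg.Lie.chevG2.Idx F) (hz : (z : Matrix Cfsg.Lie.chevG2.Idx Cfsg.Lie.chevG2.Idx F) = Cfsg.Lie.chevG2.x F 11 1) (ht : (t : Matrix Cfsg.Lie.chevG2.Idx Cfsg.Lie.chevG2.Idx F) = Cfsg.Lie.chevG2.x F 9 1) :
    Cfsg.Lie.chevG2.group F ⊓ Subgroup.centralizer {z} = Cfsg.Lie.chevG2.posUnipotent F ⊔ Cfsg.Lie.chevG2.rootSubgroup F 4 ∧
    Cfsg.Lie.chevG2.group F ⊓ Subgroup.centralizer {t} = Cfsg.Lie.chevG2.rootSubgroup F 9 ⊔ Cfsg.Lie.chevG2.rootSubgroup F 10 ⊔ Cfsg.Lie.chevG2.rootSubgroup F 11 ⊔ Cfsg.Lie.chevG2.rootSubgroup F 6 ⊔ Cfsg.Lie.chevG2.rootSubgroup F 5 := by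
  obtain rfl : z = Lie.chevG2.X F (rt 11) 1 := Units.ext hz
  obtain rfl : t = Lie.chevG2.word F [9] := Units.ext (ht.trans (mul_one _).symm)
  exact ⟨aux1, aux2⟩

end Cfsg.Agent.S2180
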