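import Mathlib
import Cfsg.Statements.S3280
import Cfsg.Agent.S3331
import Cfsg.Agent.S3278
import Cfsg.Agent.S0204
import Cfsg.Agent.S0201
import Cfsg.Agent.GW.Main
import Cfsg.Agent.GT.PGroupMaxClass
import Cfsg.Agent.Inv.QD
import Cfsg.Agent.Inv.Classes
import Cfsg.Agent.Inv.Counting
import Cfsg.Agent.Cl.PSL2Struct
import Cfsg.Agent.Cl.LinearIso

set_option autoImplicit false
open Cfsg

namespace Cfsg.Agent.S3280

open Subgroup Cfsg.Agent.Cl Cfsg.Agent.GT Cfsg.Agent.Inv

theorem psl_four {F : Type*} [Field F] [Finite F] (hF : Odd (Nat.card F))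
    {g : Matrix.ProjectiveSpecialLinearGroup (Fin 2) F} (hg : orderOf g = 4)
    (hc : Nat.card (centralizer {g}) = 4) : Nat.card F = 7 ∨ Nat.card F = 9 := by
  have h1 : g ≠ 1 := by rintro rfl; simp at hg
  obtain ⟨p, hp⟩ := CharP.exists F
  have : Fact p.Prime := ⟨CharP.char_is_prime F p⟩
  have ht : L2.tau (L2.emb g) ≠ 4 := fun h => by
    obtain ⟨x, hx⟩ := L2.exists_mem_uniS h
    have h2 := L2.orderOf_of_mem_uniS p hx h1
    exact absurd (h2.symm.trans hg ▸ this.out) (by norm_num)
  have h2 := L2.card_torS_mul_or ht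
  rw [← L2.centralizer_eq_torS_of_orderOf h1 (by omega), hc,
    Nat.gcd_eq_left (by obtain ⟨r, hr⟩ := hF; omega)] at h2
  omega

variable {G : Type*} [Group G] [Finite G]

theorem card_centralizer_equiv {H : Type*} [Group H] (e : G ≃* H) (w : G) :
    Nat.card (centralizer {e w}) = Nat.card (centralizer {w}) :=
  Nat.card_congr (e.toEquiv.subtypeEquiv fun a => by
    simp only [mem_centralizer_singleton_iff, MulEquiv.toEquiv_eq_coe, EquivLike.coe_coe,
      ← map_mul, e.injective.eq_iff]).symm

theorem card_inf_le (S : Subgroup G) {w : G} (hw : w ∈ S) :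
    Nat.card (centralizer {(⟨w, hw⟩ : S)}) ≤ Nat.card (centralizer {w}) :=
  Nat.card_le_card_of_injective (fun a => ⟨a.1.1, mem_centralizer_singleton_iff.2
    (congrArg Subtype.val (mem_centralizer_singleton_iff.1 a.2))⟩)
    fun _ _ h => Subtype.ext (Subtype.ext (by simpa using h))

variable [IsSimpleGroup G]

theorem not_comm (hG : ¬ IsCyclic G) : ¬ IsMulCommutative G := fun h => hG (by
  let _ : CommGroup G := { (inferInstance : Group G) with mul_comm := h.is_comm.comm }
  exact IsSimpleGroup.isCyclic)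

theorem order_four (hG : ¬ IsCyclic G) {w : G} (ho : orderOf w = 4)
    (hw : Nat.card (centralizer {w}) ≤ 4) :
    Nonempty (G ≃* ↥(alternatingGroup (Fin 6))) ∨ Nonempty (G ≃* ↥(alternatingGroup (Fin 7))) ∨
      (∃ (F : Type) (_ : Field F) (_ : Fintype F), Fintype.card F = 7 ∧
        Nonempty (G ≃* Matrix.ProjectiveSpecialLinearGroup (Fin 2) F)) := by
  have hna := not_comm hG
  have hz : zpowers w ≤ centralizer {w} := zpowers_le.2 (mem_centralizer_singleton_iff.2 rfl)
  have hw4 : Nat.card (centralizer {w}) = 4 :=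
    le_antisymm hw (by simpa [Nat.card_zpowers, ho] using card_le_of_le hz)
  obtain ⟨S, hS⟩ := (IsPGroup.of_card (p := 2) (n := 2) (G := zpowers w)
    (by rw [Nat.card_zpowers, ho]; rfl)).exists_le_sylow
  have hwS : w ∈ (S : Subgroup G) := hS (mem_zpowers w)
  have h4 : 4 < Nat.card (S : Subgroup G) := by
    by_contra h
    have h1 : zpowers w = S := eq_of_le_of_card_ge hS (by rw [Nat.card_zpowers, ho]; omega)
    have : IsCyclic (S : Subgroup G) := h1 ▸ inferInstance
    obtain ⟨E, hE⟩ := S0204.result hG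
    obtain ⟨T, hT⟩ := (IsPGroup.of_card (p := 2) (n := 2) hE.card_four).exists_le_sylow
    have : IsCyclic (T : Subgroup G) := isCyclic_of_surjective _ (S.equiv T).surjective
    exact IsKleinFour.not_isCyclic (isCyclic_of_le hT)
  obtain ⟨m, a, b, h⟩ := PG.exists_maxTwo_of_card_centralizer_le S.2 h4
    ((card_inf_le _ hwS).trans hw)
  rcases h.cases with e | ⟨⟨e⟩⟩ | ⟨-, h⟩
  · rcases GW.gw_simple hna ⟨S, _, Nat.le_self_pow (by omega) 2, e⟩ with
      ⟨F, _, _, hF, -, ⟨e⟩⟩ | h
    · rcases psl_four (F := F) (by rwa [Nat.card_eq_fintype_card]) (g := e w)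
        (by rw [e.orderOf_eq, ho]) (by rw [card_centralizer_equiv, hw4]) with h | h
      · exact Or.inr (Or.inr ⟨F, inferInstance, inferInstance,
          Nat.card_eq_fintype_card.symm.trans h, ⟨e⟩⟩)
      · obtain ⟨f⟩ := psl2_nine_equiv_alt h
        exact Or.inl ⟨e.trans f⟩
    · exact Or.inr (Or.inl h)
  · exfalso
    obtain ⟨n, rfl⟩ : ∃ n, m = n + 1 := ⟨m - 1, by have := h.one_le; omega⟩
    have hZ := S0201.result S n e fun N hN ho' => hN.eq_bot_or_eq_top.resolve_right fun h => by
      rw [h, card_top] at ho'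
      exact Nat.not_even_iff_odd.2 ho'
        (even_iff_two_dvd.2 ((by norm_num : 2 ∣ 4).trans (ho ▸ orderOf_dvd_natCard w)))
    rcases (inferInstance : (center G).Normal).eq_bot_or_eq_top with h | h
    · rw [h, card_bot] at hZ
      omega
    · exact hna ⟨⟨fun a b => (mem_center_iff.1 (h.ge (mem_top b)) a)⟩⟩
  · exfalso
    obtain ⟨t, ht, r, s, H⟩ := Fz.exists_mx_of_qd h
    have h2 : pResidual 2 G = ⊤ := Fz.no_index_two_iff.1 fun K hK => by
      rcases (normal_of_index_eq_two hK).eq_bot_or_eq_top with h | h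
      · rw [h, index_bot] at hK
        exact hG (isCyclic_of_prime_card hK)
      · rw [h, index_top] at hK
        omega
    have hc : IsConj (r (2 ^ (t - 1))) w := (H.qd_four_conj ht ho).elim id
      (H.qd_isConj_Q ht ((H.qd_pResidual_eq_top_iff ht).1 h2).2).trans
    have h1 : zpowers (r 1) ≤ centralizer {r (2 ^ (t - 1))} :=
      zpowers_le.2 (mem_centralizer_singleton_iff.2 (H.rr_comm _ _))
    have h3 := card_le_of_le h1
    rw [card_centralizer_eq_of_isConj hc, hw4, Nat.card_zpowers, H.orderOf_r_one] at h3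
    have := Nat.pow_le_pow_right two_pos (show 3 ≤ t + 1 by omega)
    omega

/-- A non-cyclic finite simple group containing an element whose centralizer has order at most 4 is isomorphic to the alternating group of degree 5, 6 or 7, or to PSL(2, 7). -/
theorem result {G : Type*} [Group G] [Finite G] [IsSimpleGroup G] (hG : ¬ IsCyclic G)
    (w : G) (hw : Nat.card ↥(Subgroup.centralizer ({w} : Set G)) ≤ 4) :
    Nonempty (G ≃* ↥(alternatingGroup (Fin 5))) ∨ Nonempty (G ≃* ↥(alternatingGroup (Fin 6))) ∨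
      Nonempty (G ≃* ↥(alternatingGroup (Fin 7))) ∨
      (∃ (F : Type) (_ : Field F) (_ : Fintype F), Fintype.card F = 7 ∧ Nonempty (G ≃* Matrix.ProjectiveSpecialLinearGroup (Fin 2) F)) := by
  have hna := not_comm hG
  obtain ⟨E, hE⟩ := S0204.result hG
  have h4 : 4 ∣ Nat.card G := hE.card_four ▸ card_subgroup_dvd_card E
  have hz : zpowers w ≤ centralizer {w} := zpowers_le.2 (mem_centralizer_singleton_iff.2 rfl)
  have hd : orderOf w ∣ Nat.card (centralizer {w}) := Nat.card_zpowers w ▸ card_dvd_of_le hz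
  have hpos : 0 < Nat.card (centralizer {w}) := Nat.card_pos
  have ho := Nat.le_of_dvd hpos hd
  have ho0 := orderOf_pos w
  obtain h | h | h | h : orderOf w = 1 ∨ orderOf w = 2 ∨ orderOf w = 3 ∨ orderOf w = 4 := by omega
  · exfalso
    rw [orderOf_eq_one_iff.1 h, show centralizer {(1 : G)} = ⊤ by
      ext; simp [mem_centralizer_singleton_iff], card_top] at hw
    have h1 : E = ⊤ := eq_top_of_le_card _ (hE.card_four ▸ hw)
    have := hE.isMulCommutative
    exact hna ⟨⟨fun a b => congrArg Subtype.val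
      (this.is_comm.comm ⟨a, h1 ▸ mem_top a⟩ ⟨b, h1 ▸ mem_top b⟩)⟩⟩
  · have hc : Nat.card (centralizer {w}) = 4 := by
      by_contra hc
      have h1 : zpowers w = centralizer {w} :=
        eq_of_le_of_card_ge hz (by rw [Nat.card_zpowers, h]; rw [h] at hd; omega)
      obtain ⟨S, hS⟩ := (IsPGroup.of_card (p := 2) (n := 1) (G := zpowers w)
        (by rw [Nat.card_zpowers, h]; rfl)).exists_le_sylow
      have : Nontrivial (S : Subgroup G) :=
        (nontrivial_iff_ne_bot _).2 (S.ne_bot_of_dvd_card ((by norm_num : 2 ∣ 4).trans h4))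
      obtain ⟨z, hz1⟩ := @exists_ne _ S.2.center_nontrivial 1
      have hzw : (z.1.1 : G) ∈ zpowers w := h1 ▸ mem_centralizer_singleton_iff.2
        (congrArg Subtype.val (mem_center_iff.1 z.2 ⟨w, hS (mem_zpowers w)⟩)).symm
      have h2 : w ∈ zpowers (z.1.1 : G) := (eq_of_le_of_card_ge (zpowers_le.2 hzw) (by
        have h2 : orderOf (z.1.1 : G) ≠ 1 := fun e =>
          hz1 (Subtype.ext (Subtype.ext (orderOf_eq_one_iff.1 e)))
        have := orderOf_pos (z.1.1 : G)
        rw [Nat.card_zpowers, Nat.card_zpowers, h]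
        omega)).ge (mem_zpowers w)
      have h3 : (S : Subgroup G) ≤ centralizer {w} := fun s hs => by
        obtain ⟨i, rfl⟩ := h2
        exact mem_centralizer_singleton_iff.2 (Commute.zpow_right
          (congrArg Subtype.val (mem_center_iff.1 z.2 ⟨s, hs⟩)) i)
      have h5 := card_le_of_le h3
      rw [← h1, Nat.card_zpowers, h] at h5
      have h6 := Nat.le_of_dvd Nat.card_pos (S.pow_dvd_card_of_pow_dvd_card (n := 2) h4)
      omega
    by_cases hK : ∀ x ∈ centralizer {w}, x * x = 1
    · exact Or.inl (S3278.result w h _ le_rfl (isKleinFour_of_card_of_sq hc hK)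
        (by rw [relIndex_self]; norm_num) (by rw [subgroupOf_self]; infer_instance))
    · push Not at hK
      obtain ⟨u, hu, hu2⟩ := hK
      have hu4 : orderOf u = 4 := Fz.orderOf_four_of (by
        have := pow_card_eq_one' (x := (⟨u, hu⟩ : centralizer {w}))
        rw [hc] at this
        exact congrArg Subtype.val this) hu2
      have h1 : zpowers u = centralizer {w} :=
        eq_of_le_of_card_ge (zpowers_le.2 hu) (by rw [Nat.card_zpowers, hu4, hc])
      refine Or.inr (order_four hG hu4 ((card_le_of_le fun x hx => ?_).trans hw))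
      obtain ⟨i, hi⟩ := h1.ge (hz (mem_zpowers w))
      rw [mem_centralizer_singleton_iff, ← hi]
      exact Commute.zpow_right (mem_centralizer_singleton_iff.1 hx) i
  · have h1 : zpowers w = centralizer {w} :=
      eq_of_le_of_card_ge hz (by rw [Nat.card_zpowers, h]; rw [h] at hd; omega)
    have hq : ∀ (N : Subgroup G) [N.Normal], N = ⊥ → Nonempty (G ≃* G ⧸ N) := by
      rintro _ _ rfl
      exact ⟨QuotientGroup.quotientBot.symm⟩
    rcases S3331.result (zpowers w) (by rw [Nat.card_zpowers, h]) (by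
      rw [zpowers_eq_closure, centralizer_closure, ← zpowers_eq_closure, h1]) with
      ⟨N, hN, -, h2, h3⟩ | ⟨N, hN, h2, -, ⟨e⟩⟩ | h2
    · exfalso
      rcases hN.eq_bot_or_eq_top with h5 | rfl
      · obtain ⟨f⟩ := hq N h5
        rw [Nat.card_congr f.toEquiv] at h4
        rcases h3 with h3 | ⟨⟨e⟩⟩
        · omega
        · rw [Nat.card_congr e.toEquiv, Nat.card_perm, Nat.card_fin] at h4
          norm_num [Nat.factorial] at h4
      · rw [card_top] at h2
        exact absurd (Nat.Coprime.coprime_dvd_left (h ▸ orderOf_dvd_natCard w) h2) (by norm_num)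
    · rcases hN.eq_bot_or_eq_top with h5 | rfl
      · obtain ⟨f⟩ := hq N h5
        exact Or.inl ⟨f.trans e⟩
      · exact (hna ⟨⟨fun a b => congrArg Subtype.val
          (h2.is_comm.comm ⟨a, mem_top a⟩ ⟨b, mem_top b⟩)⟩⟩).elim
    · exact Or.inr (Or.inr (Or.inr ⟨ZMod 7, inferInstance, inferInstance, ZMod.card 7, h2⟩))
  · exact Or.inr (order_four hG h hw)

end Cfsg.Agent.S3280
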