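import Cfsg.Statements.S2029
import Cfsg.Agent.Loc.KMSym
import Cfsg.Agent.GT.PGroupCritical
import Cfsg.Agent.GT.ThompsonFusionZJ

set_option autoImplicit false
set_option linter.unusedSectionVars false
open Cfsg

namespace Cfsg.Agent.S2029

open Subgroup Cfsg.Agent.GT Cfsg.Agent.Loc.KM
open scoped commutatorElement

section

variable {G : Type*} [Group G] [Finite G] {p : ℕ} [hp : Fact p.Prime]
  {A B B' C Q V W : Subgroup G} {t u z : G}

/-- `A` is elementary abelian of rank at least 3 and of the maximal 2-local rank. -/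
structure Max (p : ℕ) (A : Subgroup G) : Prop where
  ne : p ≠ 2
  elem : IsElementaryAbelian p A
  three : p ^ 3 ≤ Nat.card A
  bound : ∀ (D E : Subgroup G) (m : ℕ), D ≠ ⊥ → IsElementaryAbelian p D → IsElementaryAbelian 2 E →
    E ≤ centralizer (D : Set G) → 2 ^ (m + 1) ≤ Nat.card E → p ^ m * Nat.card D ≤ Nat.card A

theorem card_inf (hB : B ≤ A) (h1 : B.relIndex A = p) (h2 : B'.relIndex A = p) :
    Nat.card A ≤ p ^ 2 * Nat.card (B ⊓ B' : Subgroup G) := by
  rw [← PG.relIndex_mul_card (inf_le_left.trans hB : B ⊓ B' ≤ A)]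
  exact Nat.mul_le_mul_right _ (relIndex_inf_le.trans (by rw [h1, h2, sq]))

theorem Max.inf_ne (h : Max p A) (hB : B ≤ A) (h1 : B.relIndex A = p) (h2 : B'.relIndex A = p) :
    B ⊓ B' ≠ ⊥ := fun e => by
  have := h.three.trans (card_inf hB h1 h2)
  rw [e, card_bot, mul_one] at this
  exact absurd ((Nat.pow_le_pow_iff_right hp.1.one_lt).1 this) (by norm_num)

theorem Max.ne_bot (h : Max p A) : A ≠ ⊥ := fun e => by
  have := h.three
  rw [e, card_bot] at this
  exact absurd this (not_le.2 (Nat.one_lt_pow (by norm_num) hp.1.one_lt))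

theorem Max.four_le (h : Max p A) (hW : IsPGroup 2 W) (h0 : W ≠ ⊥)
    (hA : A ≤ normalizer (W : Set G)) (hc : W ⊓ centralizer (A : Set G) = ⊥) : 4 ≤ Nat.card W := by
  obtain ⟨k, hk⟩ := hW.exists_card_eq
  have h1 := card_modEq_card_inf_centralizer h.elem.isPGroup hA
  rw [hc, card_bot, hk] at h1
  rcases k with _ | _ | k
  · exact absurd (eq_bot_of_card_eq _ hk) h0
  · exact absurd (Nat.le_of_dvd one_pos ((Nat.modEq_iff_dvd' (by norm_num)).1 h1.symm))
      (not_le.2 hp.1.one_lt)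
  · rw [hk, pow_succ, pow_succ]; have := Nat.one_le_two_pow (n := k); omega

theorem Max.exists_W (h : Max p A) (hV : IsElementaryAbelian 2 V) (hA : A ≤ normalizer (V : Set G))
    (hn : ¬ V ≤ centralizer (A : Set G)) : ∃ B ≤ A, B.relIndex A = p ∧ ∃ W : Subgroup G,
      W ≤ V ⊓ centralizer (B : Set G) ∧ W ⊓ centralizer (A : Set G) = ⊥ ∧ 4 ≤ Nat.card W := by
  obtain ⟨B, hB, h1, h2⟩ : ∃ B ≤ A, B.relIndex A = p ∧
      ¬ V ⊓ centralizer (B : Set G) ≤ centralizer (A : Set G) := by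
    by_contra! hc
    exact hn (CopAct.le_of_hyperplane_centralizer_le h.elem h.ne_bot hA
      (not_dvd h.ne hV.isPGroup) hc)
  have h3 := CopAct.le_normalizer_inf_centralizer_of_isMulCommutative h.elem.1 hB hA
  have h4 := CopAct.commutator_le_of_le_normalizer h3
  have h5 := CopAct.commutator_inf_centralizer_eq_bot (hV.mono inf_le_left).1 h3
    (cop h.ne h.elem.isPGroup (hV.isPGroup.to_le inf_le_left))
  exact ⟨B, hB, h1, _, h4, h5, h.four_le (hV.isPGroup.to_le (h4.trans inf_le_left))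
    (fun e => h2 (le_centralizer_iff.1 (CopAct.commutator_eq_bot_iff.1 e)))
    (le_normalizer_commutator h3 le_normalizer) h5⟩

theorem Max.no_eight (h : Max p A) (hB : B ≤ A) (h1 : B.relIndex A = p)
    (hW : IsElementaryAbelian 2 W) (hWB : W ≤ centralizer (B : Set G))
    (hc : W ⊓ centralizer (A : Set G) = ⊥) (h4 : 4 ≤ Nat.card W) (hu : u ^ 2 = 1) (hu1 : u ≠ 1)
    (huA : u ∈ centralizer (A : Set G)) (huW : u ∈ centralizer (W : Set G)) : False := by
  have hE := hW.sup_zpowers hu huW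
  have h2 := mul_card_le hE.isPGroup (lt_of_le_of_ne le_sup_left fun e =>
    hu1 (hc.le ⟨e.ge (mem_sup_right (mem_zpowers u)), huA⟩))
  have h3 := h.bound B _ 2 (fun e => h.inf_ne hB h1 h1 (by simp [e])) (h.elem.mono hB) hE
    (sup_le hWB (zpowers_le.2 (centralizer_anti hB huA))) (by omega)
  rw [← PG.relIndex_mul_card hB, h1] at h3
  have := Nat.le_of_mul_le_mul_right h3 Nat.card_pos
  have := hp.1.one_lt
  nlinarith

theorem Max.struct (h : Max p A) (hQ : IsPGroup 2 Q) (h0 : Q ≠ ⊥) (hA : A ≤ normalizer (Q : Set G))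
    (hf : A ⊓ centralizer (Q : Set G) = ⊥) : ∃ z, orderOf z = 2 ∧ A ≤ centralizer ({z} : Set G) ∧
      ∀ V ≤ Q, IsElementaryAbelian 2 V → A ≤ normalizer (V : Set G) → V ≤ zpowers z := by
  have om : ∀ X : Subgroup G, IsPGroup 2 X → X ≠ ⊥ → A ≤ normalizer (X : Set G) →
      ∃ Z : Subgroup G, Z ≤ X ⊓ centralizer (X : Set G) ∧ Z ≠ ⊥ ∧ IsElementaryAbelian 2 Z ∧
        A ≤ normalizer (Z : Set G) := fun X hX hX0 hAX =>
    ⟨omegaOne 2 (X ⊓ centralizer (X : Set G)), PG.omegaOne_le _,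
      PG.omegaOne_ne_bot (hX.to_le inf_le_left) (th_inf_center_ne_bot hX le_rfl le_normalizer hX0),
      PG.isElementaryAbelian_omegaOne (Crit.comm_center X), (CopAct.le_normalizer_inf hAX
        (CopAct.le_normalizer_centralizer hAX)).trans (PG.normalizer_le_normalizer_omegaOne _)⟩
  obtain ⟨Z, hZQ, hZ0, hZ, hAZ⟩ := om Q hQ h0 hA
  have hZA : Z ≤ centralizer (A : Set G) := by
    by_contra hn
    obtain ⟨B, hB, h1, W, hWZ, hc, h4⟩ := h.exists_W hZ hAZ hn
    have hW := hZ.mono (hWZ.trans inf_le_left)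
    have hWQ := (hWZ.trans inf_le_left).trans (hZQ.trans inf_le_right)
    obtain ⟨B', hB', h2, h3⟩ : ∃ B' ≤ A, B'.relIndex A = p ∧
        ¬ Q ⊓ centralizer (B' : Set G) ≤ centralizer (B : Set G) := by
      by_contra! hc
      have := CopAct.le_of_hyperplane_centralizer_le h.elem h.ne_bot hA (not_dvd h.ne hQ) hc
      exact h.inf_ne hB h1 h1 (le_bot_iff.1 (hf ▸ le_inf (inf_le_left.trans hB)
        (inf_le_left.trans (le_centralizer_iff.1 this))))
    obtain ⟨V, hVQ, hV0, hV, hAV⟩ := om (Q ⊓ centralizer (B' : Set G)) (hQ.to_le inf_le_left)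
      (fun e => h3 (by rw [e]; exact bot_le))
      (CopAct.le_normalizer_inf_centralizer_of_isMulCommutative h.elem.1 hB' hA)
    have hVW : V ≤ centralizer (W : Set G) :=
      (hVQ.trans (inf_le_left.trans inf_le_left)).trans (le_centralizer_iff.1 hWQ)
    have hVA : V ⊓ centralizer (A : Set G) = ⊥ := eq_bot_iff.2 fun u hu => by_contra fun hu1 =>
      h.no_eight hB h1 hW (hWZ.trans inf_le_right) hc h4 (hV.2 u hu.1) hu1 hu.2 (hVW hu.1)
    have hAB : B ⊔ B' = A := by
      have h5 := mul_card_le (h.elem.isPGroup.to_le (sup_le hB hB')) (lt_of_le_of_ne le_sup_right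
        fun e => h3 (inf_le_right.trans (centralizer_anti (le_sup_left.trans e.ge))))
      exact eq_of_le_of_card_ge (sup_le hB hB') (by rwa [← PG.relIndex_mul_card hB', h2])
    have h6 := CopAct.card_sup_of_inf_eq_bot (le_normalizer_of_le_centralizer hVW) (by
      rw [eq_bot_iff, ← hc, ← hAB, centralizer_sup]
      exact le_inf inf_le_left (inf_le_inf (hWZ.trans inf_le_right)
        (hVQ.trans (inf_le_left.trans inf_le_right))))
    have h7 := h.four_le hV.isPGroup hV0 hAV hVA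
    have h8 := (h.bound (B ⊓ B') _ 3 (h.inf_ne hB h1 h2) (h.elem.mono (inf_le_left.trans hB))
      (hW.sup hV hVW) (sup_le ((hWZ.trans inf_le_right).trans (centralizer_anti inf_le_left))
        ((hVQ.trans (inf_le_left.trans inf_le_right)).trans (centralizer_anti inf_le_right)))
      (by rw [h6]; exact le_trans (by norm_num) (Nat.mul_le_mul h4 h7))).trans (card_inf hB h1 h2)
    exact absurd ((Nat.pow_le_pow_iff_right hp.1.one_lt).1
      (Nat.le_of_mul_le_mul_right h8 Nat.card_pos)) (by norm_num)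
  obtain ⟨⟨z, hz⟩, hz1⟩ := ne_bot_iff_exists_ne_one.1 hZ0
  have hz1' : z ≠ 1 := fun e => hz1 (Subtype.ext e)
  have hzo := hZ.orderOf_eq hz hz1'
  refine ⟨z, hzo, le_centralizer_singleton_iff.2 (hZA hz), fun V hVQ hV hAV => ?_⟩
  have hzV : z ∈ centralizer (V : Set G) := centralizer_anti hVQ (hZQ hz).2
  have hVA : V ≤ centralizer (A : Set G) := by
    by_contra hn
    obtain ⟨B, hB, h1, W, hWV, hc, h4⟩ := h.exists_W hV hAV hn
    exact h.no_eight hB h1 (hV.mono (hWV.trans inf_le_left)) (hWV.trans inf_le_right) hc h4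
      (hZ.2 z hz) hz1' (hZA hz) (centralizer_anti (hWV.trans inf_le_left) hzV)
  by_contra hn
  have hE := hV.sup_zpowers (hZ.2 z hz) hzV
  have h2 := mul_card_le hE.isPGroup (lt_of_le_of_ne le_sup_right fun e =>
    hn (le_sup_left.trans e.ge))
  rw [Nat.card_zpowers, hzo] at h2
  have h3 := h.bound A _ 1 h.ne_bot h.elem hE (sup_le hVA (zpowers_le.2 (hZA hz))) (by omega)
  have := hp.1.one_lt
  have : 0 < Nat.card A := Nat.card_pos
  nlinarith

omit hp in
theorem inf_centralizer_le {q : ℕ} {H : Subgroup G}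
    (h : centralizer (pCore q H : Set H) ≤ pCore q H) :
    H ⊓ centralizer (pCoreOf q H : Set G) ≤ pCoreOf q H := by
  have := map_mono (f := H.subtype) h
  rwa [map_centralizer_subtype] at this

theorem faithful (hp2 : p ≠ 2) (hG : IsCharacteristicTwoType G) {T : Subgroup G}
    (hT : IsPGroup 2 T) (h0 : T ≠ ⊥) (hA : IsPGroup p A) (hAT : A ≤ normalizer (T : Set G)) :
    A ⊓ centralizer (pCoreOf 2 (normalizer (T : Set G)) : Set G) = ⊥ :=
  eq_bot_of_card_eq _ ((Nat.coprime_self _).1 (cop hp2 (hA.to_le inf_le_left)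
    ((isPGroup_pCoreOf 2 _).to_le ((inf_le_inf_right _ hAT).trans
      (inf_centralizer_le (hG.2 T hT h0))))))

theorem Max.exists_crit (h : Max p A) (hG : IsCharacteristicTwoType G) (ht : orderOf t = 2)
    (hA : A ≤ centralizer ({t} : Set G)) : ∃ C, Crit A t C := by
  have ht2 : t ^ 2 = 1 := ht ▸ pow_orderOf_eq_one t
  have ht1 : t ≠ 1 := fun e => by simp [e] at ht
  have hT := IsElementaryAbelian.zpowers ht2
  have hCN : centralizer ({t} : Set G) ≤ normalizer (zpowers t : Set G) :=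
    le_normalizer_of_le_centralizer (centralizer_zpowers t).ge
  set H := normalizer (zpowers t : Set G)
  set Q := pCoreOf 2 H
  have hQ : IsPGroup 2 Q := isPGroup_pCoreOf 2 H
  have hf := faithful h.ne hG hT.isPGroup (by simpa using ht1) h.elem.isPGroup (hA.trans hCN)
  have hTQ : zpowers t ≤ Q := le_pCoreOf le_normalizer le_rfl hT.isPGroup
  have hHQ : H ≤ normalizer (Q : Set G) := le_normalizer_pCoreOf H
  have hHt : H ≤ centralizer ({t} : Set G) := fun g hg => by
    rcases GW.eq_or_eq_of_mem_zpowers (sq t ▸ ht2)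
      (conj_mem_of_mem_normalizer hg (mem_zpowers t)) with e | e
    · exact absurd (by simpa using e) ht1
    · exact mem_centralizer_singleton_iff.2 (mul_inv_eq_iff_eq_mul.1 e)
  obtain ⟨z, hz, -, hV⟩ := h.struct hQ (fun e => ht1 (by simpa [e] using hTQ))
    ((hA.trans hCN).trans hHQ) hf
  have hzt : zpowers z = zpowers t := (eq_of_le_of_card_ge (hV _ hTQ hT (hA.trans hCN))
    (by rw [Nat.card_zpowers, Nat.card_zpowers, hz, ht])).symm
  rw [hzt] at hV
  obtain ⟨C₀, hC⟩ := PG.exists_isCritical hQ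
  have := hC.char
  set C := C₀.map Q.subtype
  have hCQ : C ≤ Q := map_subtype_le _
  have hHC : H ≤ normalizer (C : Set G) := CopAct.le_normalizer_map_subtype_of_characteristic hHQ C₀
  have hc : ∀ x : Q, x ∈ centralizer (C₀ : Set Q) → (x : G) ∈ centralizer (C : Set G) := by
    rintro x hx _ ⟨y, hy, rfl⟩
    exact congrArg Subtype.val (hx y hy)
  have hself : Q ⊓ centralizer (C : Set G) ≤ C := fun x hx => ⟨⟨x, hx.1⟩, hC.centralizer_le
    fun y hy => Subtype.ext (hx.2 y ⟨y, hy, rfl⟩), rfl⟩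
  have hCt := hCQ.trans ((pCoreOf_le H).trans hHt)
  have hsq : ∀ x ∈ C, x ^ 2 ∈ centralizer (C : Set G) := by
    rintro _ ⟨x, hx, rfl⟩
    exact hc _ (hC.pow_mem x hx)
  refine ⟨C, ht, hQ.to_le hCQ, hCN.trans hHC,
    hself ⟨hTQ (mem_zpowers t), le_centralizer_singleton_iff.1 hCt⟩, hCt, hsq, ?_, hA,
    fun V hV' => hV V (hV'.trans hCQ), eq_bot_iff.2 (le_trans (le_inf inf_le_left ?_) hf.le)⟩
  · intro x hx y hy
    have h1 : ⁅x, y⁆ ∈ C ⊓ centralizer (C : Set G) := by
      refine ⟨mul_mem (mul_mem (mul_mem hx hy) (C.inv_mem hx)) (C.inv_mem hy), ?_⟩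
      obtain ⟨x, hx, rfl⟩ := hx
      obtain ⟨y, -, rfl⟩ := hy
      exact hc _ (hC.commutator_mem x hx y)
    refine hV _ ((PG.omegaOne_le _).trans (inf_le_left.trans hCQ))
      (PG.isElementaryAbelian_omegaOne (Crit.comm_center C))
      ((CopAct.le_normalizer_inf ((hA.trans hCN).trans hHC) (CopAct.le_normalizer_centralizer
        ((hA.trans hCN).trans hHC))).trans (PG.normalizer_le_normalizer_omegaOne _))
      (subset_closure ⟨h1, ?_⟩)
    have h2 := h1.2 x hx
    have h3 := hsq x hx y hy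
    calc ⁅x, y⁆ ^ 2 = (x * ⁅x, y⁆ * x⁻¹) * ⁅x, y⁆ := by rw [h2, sq]; group
      _ = (x ^ 2 * y) * (x ^ 2)⁻¹ * y⁻¹ := by rw [commutatorElement_def, sq]; group
      _ = 1 := by rw [← h3]; group
  · exact CopAct.thompson_times (hQ.to_le hCQ) (Nat.coprime_two_right.2
      (odd_card h.ne (h.elem.isPGroup.to_le inf_le_left))) hQ (le_centralizer_iff.1 inf_le_right)
      (hCQ.trans le_normalizer) (inf_le_left.trans ((hA.trans hCN).trans hHQ))
      (hself.trans (le_centralizer_iff.1 inf_le_right))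

/-- `[C_C(B), A]` contains a quaternion group. -/
theorem exists_quat (h : Max p A) (hC : Crit A z C) (hB : B ≤ A)
    (hn : ¬ C ⊓ centralizer (B : Set G) ≤ centralizer (A : Set G)) :
    ∃ i ∈ ⁅C ⊓ centralizer (B : Set G), A⁆, ∃ j ∈ ⁅C ⊓ centralizer (B : Set G), A⁆,
      i * i = z ∧ j * j = z ∧ i * j = z * (j * i) := by
  have h3 := CopAct.le_normalizer_inf_centralizer_of_isMulCommutative h.elem.1 hB
    (hC.le.trans hC.norm)
  have hcop := cop h.ne h.elem.isPGroup (hC.two.to_le (inf_le_left (b := centralizer (B : Set G))))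
  set R := ⁅C ⊓ centralizer (B : Set G), A⁆
  have hRC : R ≤ C := (CopAct.commutator_le_of_le_normalizer h3).trans inf_le_left
  have hAR : A ≤ normalizer (R : Set G) := le_normalizer_commutator h3 le_normalizer
  have hRA : R ⊓ centralizer (A : Set G) ≤ zpowers z :=
    (CopAct.commutator_inf_centralizer_le' h3 hcop).trans
      (commutator_le.2 fun x hx y hy => hC.comm x (hRC hx) y (hRC hy))
  have hsq : ∀ x ∈ R, x * x = 1 ∨ x * x = z := fun x hx =>
    GW.eq_or_eq_of_mem_zpowers hC.mul_self (hRA ⟨mul_mem hx hx, le_centralizer_iff.1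
      (hC.le_centralizer h.ne h.elem.isPGroup inf_le_left (Crit.comm_center C)
        (hC.le.trans hC.norm_center)) ⟨mul_mem (hRC hx) (hRC hx), sq x ▸ hC.sq x (hRC hx)⟩⟩)
  by_contra! hc
  let M := closure {y | y ∈ R ∧ y * y = z}
  have hMR : M ≤ R := (closure_le _).2 fun _ hy => hy.1
  have hMc : M ≤ centralizer (M : Set G) := by
    refine (closure_le _).2 fun y hy => le_centralizer_singleton_iff.1 ((closure_le _).2
      fun x hx => mem_centralizer_singleton_iff.2 ?_)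
    rcases GW.eq_or_eq_of_mem_zpowers hC.mul_self (hC.comm x (hRC hx.1) y (hRC hy.1)) with e | e
    · exact commutatorElement_eq_one_iff_mul_comm.1 e
    · exact absurd (by rw [← e, commutatorElement_def]; group) (hc x hx.1 y hy.1 hx.2 hy.2)
  have hAM : A ≤ normalizer (M : Set G) := fun a ha => mem_normalizer_of_map_conj_le (by
    rw [MonoidHom.map_closure, closure_le]
    rintro _ ⟨y, hy, rfl⟩
    refine subset_closure ⟨conj_mem_of_mem_normalizer (hAR ha) hy.1, ?_⟩
    change a * y * a⁻¹ * (a * y * a⁻¹) = z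
    rw [conj_mul, hy.2, mem_centralizer_singleton_iff.1 (hC.le ha), mul_inv_cancel_right])
  have hMz : M ≤ zpowers z := (le_inf hMR (le_centralizer_iff.1 (hC.le_centralizer h.ne
    h.elem.isPGroup (hMR.trans hRC) (comm_of_le hMc) hAM))).trans hRA
  have h1 : ∀ x ∈ R, x * x = 1 := fun x hx => (hsq x hx).elim id fun e => by
    rcases GW.eq_or_eq_of_mem_zpowers hC.mul_self (hMz (subset_closure ⟨hx, e⟩)) with e' | e'
    · rw [e', one_mul]
    · rw [e', hC.mul_self]
  have hRc : R ≤ centralizer (R : Set G) := fun y hy x hx => by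
    have e := h1 _ (mul_mem hx hy)
    rw [eq_inv_of_mul_eq_one_left e, mul_inv_rev, ← eq_inv_of_mul_eq_one_left (h1 x hx),
      ← eq_inv_of_mul_eq_one_left (h1 y hy)]
  exact hn (le_centralizer_iff.1 (CopAct.le_centralizer_of_commutator_commutator_eq_bot h3 hcop
    (CopAct.commutator_eq_bot_iff.2 (hC.le_centralizer h.ne h.elem.isPGroup hRC (comm_of_le hRc)
      hAR))))

theorem commute_of_ne (h : Max p A) (hC : Crit A z C) (hB : B ≤ A) (hB' : B' ≤ A)
    (h2 : B'.relIndex A = p) (hne : ¬ B ≤ B') : ⁅C ⊓ centralizer (B : Set G), A⁆ ≤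
      centralizer ((⁅C ⊓ centralizer (B' : Set G), A⁆ : Subgroup G) : Set G) := by
  have hle : ∀ B ≤ A, ⁅C ⊓ centralizer (B : Set G), A⁆ ≤ C ⊓ centralizer (B : Set G) :=
    fun B hB => CopAct.commutator_le_of_le_normalizer
      (CopAct.le_normalizer_inf_centralizer_of_isMulCommutative h.elem.1 hB (hC.le.trans hC.norm))
  have hAB : B ⊔ B' = A := by
    have h5 := mul_card_le (h.elem.isPGroup.to_le (sup_le hB hB')) (lt_of_le_of_ne le_sup_right
      fun e => hne (le_sup_left.trans e.ge))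
    exact eq_of_le_of_card_ge (sup_le hB hB') (by rwa [← PG.relIndex_mul_card hB', h2])
  have h3 : ⁅C ⊓ centralizer (B' : Set G), A⁆ = ⁅B, C ⊓ centralizer (B' : Set G)⁆ := by
    rw [commutator_comm, ← commutator_sup_eq_of_le_centralizer (A := B) (B := B')
      (le_centralizer_iff.1 inf_le_right) (le_normalizer_of_le_centralizer
        (hB'.trans (h.elem.le_centralizer.trans (centralizer_anti hB)))), hAB]
  rw [← CopAct.commutator_eq_bot_iff, h3, eq_bot_iff]
  refine three_subgroups (le_trans (commutator_mono (commutator_le.2 fun x hx y hy =>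
    hC.comm x hx.1 y (hle B hB hy).1) le_rfl) (CopAct.commutator_eq_bot_iff.2 ?_).le) ?_
  · rw [centralizer_zpowers]; exact hB.trans hC.le
  · rw [CopAct.commutator_eq_bot_iff.2 (le_centralizer_iff.1 ((hle B hB).trans inf_le_right)),
      commutator_bot_left]

end

/-- Let p be an odd prime and G a finite group that is both of local characteristic p (p divides its order and every p-local subgroup N satisfies C_N(O_p(N)) ≤ O_p(N)) and of characteristic 2 type (even order and every 2-local subgroup M satisfies C_M(O_2(M)) ≤ O_2(M)). Then every 2-local subgroup of G has p-rank at most 2. -/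
theorem result {G : Type*} [Group G] [Finite G] (p : ℕ) [Fact p.Prime] (hp : p ≠ 2) (hGp : Cfsg.IsOfLocalCharacteristic p G) (hG2 : Cfsg.IsCharacteristicTwoType G) : Cfsg.TwoLocalPRankLE p 2 G := by
  have hp' : p.Prime := Fact.out
  by_contra hc
  obtain ⟨A, ⟨hA, T, hT, hT0, hAT⟩, hmax⟩ := Set.exists_max_image
    {A : Subgroup G | IsElementaryAbelian p A ∧ ∃ T : Subgroup G, IsPGroup 2 T ∧ T ≠ ⊥ ∧
      A ≤ normalizer (T : Set G)} (fun A => Nat.card A) (Set.toFinite _) (by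
      by_contra he
      exact hc fun H ⟨T, h1, h2, _⟩ => absurd ⟨⊥, .bot, T, h1, h2, bot_le⟩ he)
  have h3 : p ^ 3 ≤ Nat.card A := by
    by_contra h
    refine hc fun H ⟨T, h1, h2, e⟩ => by_contra fun hn => h ?_
    obtain ⟨A', h4, h5, h6⟩ := PG.not_pRankLE_subgroup_iff.1 hn
    exact h6 ▸ hmax A' ⟨h5, T, h1, h2, e ▸ h4⟩
  have hbd : ∀ (V : Subgroup G) (t : G), IsElementaryAbelian p V → t ^ 2 = 1 → t ≠ 1 →
      Nat.card (V ⊓ centralizer ({t} : Set G) : Subgroup G) ≤ Nat.card A := fun V t hV h1 h2 =>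
    hmax _ ⟨hV.mono inf_le_left, zpowers t, (IsElementaryAbelian.zpowers h1).isPGroup,
      by simpa using h2, inf_le_right.trans
        (le_normalizer_of_le_centralizer (centralizer_zpowers t).ge)⟩
  have hV : ∀ D E : Subgroup G, D ≠ ⊥ → IsElementaryAbelian p D → IsElementaryAbelian 2 E →
      E ≤ centralizer (D : Set G) → ∃ V : Subgroup G, IsElementaryAbelian p V ∧
        E ≤ normalizer (V : Set G) ∧ E ⊓ centralizer (V : Set G) = ⊥ ∧
        Nat.card D ≤ Nat.card (V ⊓ centralizer (E : Set G) : Subgroup G) := fun D E h0 hD hE h => by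
    have hEN := h.trans (centralizer_le_normalizer _)
    obtain ⟨V, h1, -, h2, h4, h5⟩ := exists_faithful hp
      (isPGroup_pCoreOf p (normalizer (D : Set G))) hE (hEN.trans (le_normalizer_pCoreOf _))
      (eq_bot_of_card_eq _ ((Nat.coprime_self _).1 (cop hp ((isPGroup_pCoreOf p _).to_le
        ((inf_le_inf_right _ hEN).trans (inf_centralizer_le (hGp.2 D hD.isPGroup h0))))
        (hE.isPGroup.to_le inf_le_left))))
      (le_pCoreOf le_normalizer le_rfl hD.isPGroup) hD h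
    exact ⟨V, h2, h4, h5, card_le_of_le (le_inf h1 (le_centralizer_iff.1 h))⟩
  have hM : Max p A := ⟨hp, hA, h3, fun D E m h0 hD hE h hm => by
    obtain ⟨V, h1, h2, h4, h5⟩ := hV D E h0 hD hE h
    obtain ⟨t, ht, ht1, h6⟩ := exists_invol hp h1.isPGroup m hE h2 h4 hm
    exact (Nat.mul_le_mul_left _ h5).trans (h6.trans (hbd V t h1 (hE.2 t ht) ht1))⟩
  obtain ⟨z, hz, hAz, -⟩ := hM.struct (isPGroup_pCoreOf 2 (normalizer (T : Set G)))
    (fun e => hT0 (le_bot_iff.1 (e ▸ le_pCoreOf le_normalizer le_rfl hT)))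
    (hAT.trans (le_normalizer_pCoreOf _)) (faithful hp hG2 hT hT0 hA.isPGroup hAT)
  obtain ⟨C, hC⟩ := hM.exists_crit hG2 hz hAz
  have hyp : ∀ D ≤ A, D ≠ ⊥ → ∃ B ≤ A, B.relIndex A = p ∧ ¬ D ≤ B ∧
      ¬ C ⊓ centralizer (B : Set G) ≤ centralizer (A : Set G) := fun D hD h0 => by
    by_contra! hc
    refine h0 (le_bot_iff.1 (hC.faith ▸ le_inf hD (le_centralizer_iff.1
      (CopAct.le_of_hyperplane_centralizer_le hA hM.ne_bot (hC.le.trans hC.norm)
        (not_dvd hp hC.two) fun B h1 h2 => ?_))))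
    by_cases h : D ≤ B
    · exact inf_le_right.trans (centralizer_anti h)
    · exact (hc B h1 h2 h).trans (centralizer_anti hD)
  obtain ⟨B₁, a1, a2, -, a4⟩ := hyp A le_rfl hM.ne_bot
  obtain ⟨B₂, b1, b2, b3, b4⟩ := hyp B₁ a1 fun e => hM.inf_ne a1 a2 a2 (by simp [e])
  obtain ⟨B₃, c1, c2, c3, c4⟩ := hyp (B₁ ⊓ B₂) (inf_le_left.trans a1) (hM.inf_ne a1 a2 b2)
  obtain ⟨i₁, hi₁, j₁, hj₁, d1, d2, d3⟩ := exists_quat hM hC a1 a4
  obtain ⟨i₂, hi₂, j₂, hj₂, e1, e2, e3⟩ := exists_quat hM hC b1 b4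
  obtain ⟨i₃, hi₃, j₃, hj₃, f1, f2, f3⟩ := exists_quat hM hC c1 c4
  have c12 := commute_of_ne hM hC a1 b1 b2 b3
  have c13 := commute_of_ne hM hC a1 c1 c2 fun e => c3 (inf_le_left.trans e)
  have c23 := commute_of_ne hM hC b1 c1 c2 fun e => c3 (inf_le_right.trans e)
  have hle : ∀ B ≤ A, ⁅C ⊓ centralizer (B : Set G), A⁆ ≤ C ⊓ centralizer (B : Set G) :=
    fun B hB => CopAct.commutator_le_of_le_normalizer
      (CopAct.le_normalizer_inf_centralizer_of_isMulCommutative hA.1 hB (hC.le.trans hC.norm))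
  have hzc : ∀ x ∈ C, x * z = z * x := fun x hx => mem_centralizer_singleton_iff.1 (hC.cen hx)
  have hzz := hC.mul_self
  have hprod : ∀ x ∈ ⁅C ⊓ centralizer (B₁ : Set G), A⁆, ∀ y ∈ ⁅C ⊓ centralizer (B₂ : Set G), A⁆,
      x * y ∈ C ⊓ centralizer ((B₁ ⊓ B₂ : Subgroup G) : Set G) ⊓
        centralizer ((⁅C ⊓ centralizer (B₃ : Set G), A⁆ : Subgroup G) : Set G) := fun x hx y hy =>
    mul_mem ⟨inf_le_inf_left _ (centralizer_anti inf_le_left) (hle _ a1 hx), c13 hx⟩
      ⟨inf_le_inf_left _ (centralizer_anti inf_le_right) (hle _ b1 hy), c23 hy⟩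
  have hsq : ∀ x ∈ ⁅C ⊓ centralizer (B₁ : Set G), A⁆, ∀ y ∈ ⁅C ⊓ centralizer (B₂ : Set G), A⁆,
      x * x = z → y * y = z → (x * y) ^ 2 = 1 := fun x hx y hy h1 h2 => by
    rw [sq, mul_assoc, ← mul_assoc y, c12 hx y hy, mul_assoc, h2, ← mul_assoc, h1, hzz]
  have hne : ∀ x y : G, x * y = z * (y * x) → x * y ≠ y * x := fun x y h1 h2 =>
    hC.ne_one (by rwa [h2, eq_comm, mul_eq_right] at h1)
  have hE0 : IsElementaryAbelian 2 (zpowers z) := .zpowers (by rw [sq, hzz])
  have hE1 := hE0.sup_zpowers (hsq _ hi₁ _ hi₂ d1 e1) (by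
    rw [centralizer_zpowers]; exact hC.cen (hprod _ hi₁ _ hi₂).1.1)
  have hE := hE1.sup_zpowers (hsq _ hj₁ _ hj₂ d2 e2) (by
    rw [centralizer_sup, centralizer_zpowers, centralizer_zpowers]
    refine ⟨hC.cen (hprod _ hj₁ _ hj₂).1.1, mem_centralizer_singleton_iff.2 ?_⟩
    calc j₁ * j₂ * (i₁ * i₂) = (z * z) * (j₁ * (j₂ * i₁) * i₂) := by rw [hzz]; group
      _ = z * (j₁ * i₁) * (z * (j₂ * i₂)) := by
        rw [c12 hi₁ j₂ hj₂, ← mul_assoc (z * (j₁ * i₁)), mul_assoc z (j₁ * i₁) z,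
          hzc _ (mul_mem (hle _ a1 hj₁).1 (hle _ a1 hi₁).1)]; group
      _ = i₁ * (j₁ * i₂) * j₂ := by rw [← d3, ← e3]; group
      _ = i₁ * i₂ * (j₁ * j₂) := by rw [← c12 hj₁ i₂ hi₂]; group)
  set E := zpowers z ⊔ zpowers (i₁ * i₂) ⊔ zpowers (j₁ * j₂)
  have g1 := mul_card_le hE1.isPGroup (lt_of_le_of_ne le_sup_left fun e => hne _ _ d3 (by
    have := hC.zpowers_le (e.ge (mem_sup_right (mem_zpowers _)))
    have h := this.2 j₁ (hle _ a1 hj₁).1
    rw [mul_assoc, c12 hj₁ i₂ hi₂, ← mul_assoc, ← mul_assoc] at h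
    exact (mul_right_cancel h).symm))
  have g2 := mul_card_le hE.isPGroup (lt_of_le_of_ne le_sup_left fun e => hne _ _ d3 (by
    have h1 : zpowers z ⊔ zpowers (i₁ * i₂) ≤ centralizer ({i₁} : Set G) :=
      sup_le (zpowers_le.2 (mem_centralizer_singleton_iff.2 (hzc _ (hle _ a1 hi₁).1).symm))
        (zpowers_le.2 (mem_centralizer_singleton_iff.2 (by
          rw [mul_assoc, c12 hi₁ i₂ hi₂])))
    have h := mem_centralizer_singleton_iff.1 (h1 (e.ge (mem_sup_right (mem_zpowers _))))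
    rw [mul_assoc, c12 hi₁ j₂ hj₂, ← mul_assoc, ← mul_assoc] at h
    exact (mul_right_cancel h).symm))
  rw [Nat.card_zpowers, hz] at g1
  have hEle : E ≤ C ⊓ centralizer ((B₁ ⊓ B₂ : Subgroup G) : Set G) ⊓
      centralizer ((⁅C ⊓ centralizer (B₃ : Set G), A⁆ : Subgroup G) : Set G) :=
    sup_le (sup_le (zpowers_le.2 ⟨⟨hC.mem, le_centralizer_singleton_iff.1
      ((inf_le_left.trans a1).trans hC.le)⟩, le_centralizer_singleton_iff.1
      (((hle _ c1).trans inf_le_left).trans hC.cen)⟩) (zpowers_le.2 (hprod _ hi₁ _ hi₂)))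
      (zpowers_le.2 (hprod _ hj₁ _ hj₂))
  have hzE : z ∈ E := mem_sup_left (mem_sup_left (mem_zpowers z))
  obtain ⟨V, h1, h2, h4, h5⟩ := hV (B₁ ⊓ B₂) E (hM.inf_ne a1 a2 b2)
    (hA.mono (inf_le_left.trans a1)) hE (hEle.trans (inf_le_left.trans inf_le_right))
  obtain ⟨B, hBE, k1, k2, k3⟩ := exists_step hp h1.isPGroup hE h2 h4 hzE hC.ne_one
  obtain ⟨t, ht, ht1, k4⟩ := exists_invol hp h1.isPGroup 1 (hE.mono hBE) (hBE.trans h2)
    (le_bot_iff.1 (h4 ▸ inf_le_inf_right _ hBE)) (by omega)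
  have ht2 := hE.2 t (hBE ht)
  have hcard : Nat.card (V ⊓ centralizer ({t} : Set G) : Subgroup G) = Nat.card A :=
    le_antisymm (hbd V t h1 ht2 ht1) ((card_inf a1 a2 b2).trans (le_trans (by
      rw [sq, mul_assoc, pow_one]
      exact Nat.mul_le_mul_left _ ((Nat.mul_le_mul_left _ h5).trans k3)) k4))
  have hM' : Max p (V ⊓ centralizer ({t} : Set G)) :=
    ⟨hp, h1.mono inf_le_left, hcard ▸ h3, hcard ▸ hM.bound⟩
  obtain ⟨C', hC'⟩ := hM'.exists_crit hG2 (orderOf_eq_prime ht2 ht1) inf_le_right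
  have hzt : z ∈ centralizer ({t} : Set G) :=
    mem_centralizer_singleton_iff.2 (hE.comm hzE (hBE ht))
  have hmem : ∀ x ∈ ⁅C ⊓ centralizer (B₃ : Set G), A⁆, x ∈ C ⊓ centralizer ({t} : Set G) :=
    fun x hx => ⟨(hle _ c1 hx).1, mem_centralizer_singleton_iff.2 ((hEle (hBE ht)).2 x hx)⟩
  refine hC.sym hp hC' hM'.elem.isPGroup (hEle (hBE ht)).1.1
    (inf_normalizer_le_normalizer_inf ⟨h2 hzE, le_normalizer hzt⟩)
    (fun e => k2 ((inf_le_inf_left _ (centralizer_le_centralizer_singleton ht)).trans e))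
    (hmem _ hi₃) (hmem _ hj₃) f1 f2 ?_
  calc i₃ * j₃ * (i₃ * j₃) = z * (j₃ * (i₃ * i₃) * j₃) := by nth_rw 1 [f3]; group
    _ = z := by rw [f1, hzc _ (hle _ c1 hj₃).1, mul_assoc z j₃, f2, hzz, mul_one]

end Cfsg.Agent.S2029
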