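import Mathlib
import Cfsg.Statements.S2934
import Cfsg.Agent.GT.PGroupCritical
import Cfsg.Agent.GT.PGroupExtraspecial
import Cfsg.Agent.GT.CoprimeActThms
import Cfsg.Agent.GT.TransferSL23
import Cfsg.Agent.Inv.QuatAut
import Cfsg.Agent.GT.PiGroups
import Cfsg.Agent.GT.CoprimeComm
-- import your own Cfsg.Agent.* helpers here

set_option autoImplicit false
open Cfsg

namespace Cfsg.Agent.S2934

open Subgroup GT GT.CopAct

theorem card_modEq_fixed {A W : Type*} [Group A] [Group W] [Finite W] {p : ℕ} [Fact p.Prime]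
    (hA : IsPGroup p A) (φ : A →* MulAut W) {U : Subgroup W} (hU : ActInv φ U) :
    Nat.card U ≡ Nat.card ↥(U ⊓ actFixed φ) [MOD p] := by
  letI : MulAction A U := MulAction.compHom U (subHom φ U hU)
  have h := hA.card_modEq_card_fixedPoints U
  have e : Nat.card (MulAction.fixedPoints A U) = Nat.card ↥(U ⊓ actFixed φ) :=
    Nat.card_congr
      { toFun := fun x => ⟨x.1.1, x.1.2, fun a => congrArg Subtype.val (x.2 a)⟩
        invFun := fun x => ⟨⟨x.1, x.2.1⟩, fun a => Subtype.ext (x.2.2 a)⟩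
        left_inv := fun _ => rfl
        right_inv := fun _ => rfl }
  rwa [e] at h

theorem inv_fixed {A W : Type*} [Group A] [Group W] {φ : A →* MulAut W} {U : Subgroup W}
    (hU : ActInv φ U) (h1 : ∀ x ∈ U, ∀ y ∈ U, orderOf x = 2 → orderOf y = 2 → x = y) {t : W}
    (ht : t ∈ U) (ho : orderOf t = 2) : t ∈ actFixed φ := fun a =>
  h1 _ (hU a t ht) t ht (by rw [MulEquiv.orderOf_eq]; exact ho) ho

theorem dich {A W : Type*} [Group A] [Finite A] [Group W] [Finite W] (hW : IsPGroup 2 W) {p : ℕ}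
    [hp : Fact p.Prime] (hp2 : p ≠ 2) (hA : IsPGroup p A) (φ : A →* MulAut W) {U : Subgroup W}
    (hU : ActInv φ U) (h1 : ∀ x ∈ U, ∀ y ∈ U, orderOf x = 2 → orderOf y = 2 → x = y) :
    U ≤ actFixed φ ∨ (Nat.card U = 8 ∧ ¬ IsMulCommutative U ∧ p = 3 ∧
      Nat.card ↥(U ⊓ actFixed φ) = 2) := by
  by_cases hle : U ≤ actFixed φ
  · exact Or.inl hle
  right
  have hr : PRankLE 2 1 U := Tr.pRankLE_one_of_unique_involution fun a b ha hb =>
    Subtype.ext (h1 a a.2 b b.2 (by rwa [Subgroup.orderOf_coe]) (by rwa [Subgroup.orderOf_coe]))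
  rcases Inv.QA.isPGroup_mulAut_or_quaternion (hW.to_subgroup U) hr with h | ⟨⟨e⟩⟩
  · exfalso
    apply hle
    intro u hu a
    obtain ⟨k, hk⟩ := hA a
    obtain ⟨l, hl⟩ := h (subHom φ U hU a)
    have h2 : subHom φ U hU a = 1 := by
      rw [← orderOf_eq_one_iff]
      have h3 : orderOf (subHom φ U hU a) ∣ p ^ k :=
        orderOf_dvd_of_pow_eq_one (by rw [← map_pow, hk, map_one])
      exact Nat.eq_one_of_dvd_coprimes
        (((Nat.coprime_primes hp.out Nat.prime_two).2 hp2).pow k l) h3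
        (orderOf_dvd_of_pow_eq_one hl)
    have := coe_subHom_apply φ U hU a ⟨u, hu⟩
    rw [h2] at this
    exact this.symm
  · have h8 : Nat.card U = 8 := by
      rw [Nat.card_congr e.toEquiv, Nat.card_eq_fintype_card, QuaternionGroup.card]
    have hm := card_modEq_fixed hA φ hU
    have hlt : Nat.card ↥(U ⊓ actFixed φ) < 8 := h8 ▸ card_lt_of_lt
      (lt_of_le_of_ne inf_le_left fun e => hle (inf_eq_left.1 e))
    have hd : Nat.card ↥(U ⊓ actFixed φ) ∣ 8 := h8 ▸ card_dvd_of_le inf_le_left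
    obtain ⟨t, ht⟩ := exists_prime_orderOf_dvd_card' (G := U) 2 (by rw [h8]; norm_num)
    have ht' : orderOf (t : W) = 2 := by rwa [Subgroup.orderOf_coe]
    have h2 : 2 ∣ Nat.card ↥(U ⊓ actFixed φ) :=
      ht' ▸ orderOf_dvd_natCard _ (show (t : W) ∈ U ⊓ actFixed φ from
        ⟨t.2, inv_fixed hU h1 t.2 ht'⟩)
    rw [h8] at hm
    generalize Nat.card ↥(U ⊓ actFixed φ) = c at *
    have hdv := (Nat.modEq_iff_dvd' hlt.le).1 hm.symm
    have hc : c = 2 ∨ c = 4 := by
      interval_cases c <;> simp_all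
    refine ⟨h8, fun hc => ?_, ?_⟩
    · have := hc.is_comm.comm (e.symm (.a 1)) (e.symm (.xa 0))
      rw [← map_mul, ← map_mul] at this
      exact absurd (e.symm.injective this) (by decide)
    · rcases hc with rfl | rfl
      · refine ⟨?_, rfl⟩
        rcases (Nat.Prime.dvd_mul hp.out).1 (show p ∣ 2 * 3 from hdv) with h | h
        · exact absurd ((Nat.prime_dvd_prime_iff_eq hp.out Nat.prime_two).1 h) hp2
        · exact (Nat.prime_dvd_prime_iff_eq hp.out Nat.prime_three).1 h
      · exact absurd ((Nat.prime_dvd_prime_iff_eq hp.out Nat.prime_two).1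
          (hp.out.dvd_of_dvd_pow (show p ∣ 2 ^ 2 from hdv))) hp2

theorem index_le {A W : Type*} [Group A] [Finite A] [Group W] [Finite W] (hW : IsPGroup 2 W)
    (hA : IsPGroup 3 A) (φ : A →* MulAut W) {U : Subgroup W}
    (hU : ActInv φ U) (h1 : ∀ x ∈ U, ∀ y ∈ U, orderOf x = 2 → orderOf y = 2 → x = y)
    (h8 : Nat.card U = 8) : (subHom φ U hU).ker.index ≤ 3 := by
  haveI : Fact (Nat.Prime 3) := ⟨Nat.prime_three⟩
  letI : MulAction A U := MulAction.compHom U (subHom φ U hU)
  obtain ⟨x, hx⟩ : ∃ x : U, ¬ orderOf x ∣ 2 := by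
    by_contra hcon
    push Not at hcon
    obtain ⟨t, ht⟩ := exists_prime_orderOf_dvd_card' (G := U) 2 (by rw [h8]; norm_num)
    have : (⊤ : Subgroup U) ≤ zpowers t := by
      intro y _
      rcases (Nat.dvd_prime Nat.prime_two).1 (hcon y) with h | h
      · rw [orderOf_eq_one_iff.1 h]; exact one_mem _
      · rw [show y = t from Subtype.ext (h1 y y.2 t t.2 (by rwa [Subgroup.orderOf_coe])
          (by rwa [Subgroup.orderOf_coe]))]
        exact mem_zpowers _
    have h2 := card_le_of_le this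
    rw [card_top, Nat.card_zpowers, h8, ht] at h2
    omega
  have hK : MulAction.stabilizer A x ≤ (subHom φ U hU).ker := by
    rcases dich hW (by norm_num) (hA.to_subgroup (MulAction.stabilizer A x))
      (φ.comp (MulAction.stabilizer A x).subtype) (U := U) (fun a u hu => hU a u hu) h1 with h | h
    · intro a ha
      rw [MonoidHom.mem_ker]
      ext u
      exact h u.2 ⟨a, ha⟩
    · exfalso
      apply hx
      rw [← h.2.2.2, ← Subgroup.orderOf_coe]
      exact orderOf_dvd_natCard _ ⟨x.2, fun a => congrArg Subtype.val a.2⟩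
  have h2 : (MulAction.stabilizer A x).index ≤ 8 := by
    rw [MulAction.index_stabilizer, ← h8]
    exact Set.ncard_le_card _
  obtain ⟨k, hk⟩ := hA.index (MulAction.stabilizer A x)
  have h3 : (MulAction.stabilizer A x).index ≤ 3 := by
    rw [hk] at h2 ⊢
    have : k < 2 := (Nat.pow_lt_pow_iff_right (by norm_num : 1 < 3)).1 (by omega)
    interval_cases k <;> norm_num
  exact le_trans (index_antitone hK) h3

theorem card_biSup_le {W : Type*} [Group W] [Finite W] {C : Subgroup W} (hC : Nat.card C = 2)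
    (S : Finset (Subgroup W)) (h : ∀ U ∈ S, U.Normal ∧ C ≤ U ∧ Nat.card U ≤ 8) :
    Nat.card ↥(C ⊔ S.sup id) ≤ 2 * 4 ^ S.card := by
  classical
  induction S using Finset.induction_on with
  | empty => simp [hC]
  | insert U S hU ih =>
    have h1 := ih fun V hV => h V (Finset.mem_insert_of_mem hV)
    obtain ⟨hn, hle, h8⟩ := h U (Finset.mem_insert_self _ _)
    have h2 := GT.card_sup_mul_card_inf (C ⊔ S.sup id) U
    have h3 : 2 ≤ Nat.card ↥((C ⊔ S.sup id) ⊓ U) := hC ▸ card_le_of_le (le_inf le_sup_left hle)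
    rw [Finset.sup_insert, Finset.card_insert_of_notMem hU, id, sup_comm U, ← sup_assoc, pow_succ]
    have h4 := Nat.mul_le_mul h1 h8
    nlinarith


/-- Let p be an odd prime, W a finite 2-group and E a non-cyclic abelian p-subgroup of Aut(W) such that, for every nontrivial e ∈ E, the fixed points of e in W contain at most one involution. Then E has order 9, W is extraspecial of order 2⁵, 2⁷ or 2⁹, and the common fixed points of E in W form exactly the centre Z(W). -/
theorem result {W : Type*} [Group W] [Finite W] (hW : IsPGroup 2 W) {p : ℕ} [Fact p.Prime] (hp : p ≠ 2) (E : Subgroup (MulAut W)) (hE : IsPGroup p ↥E) (hab : IsMulCommutative ↥E) (hnc : ¬ IsCyclic ↥E) (hfix : ∀ e ∈ E, e ≠ 1 → ∀ x y : W, orderOf x = 2 → orderOf y = 2 → e x = x → e y = y → x = y) : Nat.card ↥E = 9 ∧ Cfsg.IsExtraspecial 2 W ∧ (Nat.card W = 2 ^ 5 ∨ Nat.card W = 2 ^ 7 ∨ Nat.card W = 2 ^ 9) ∧ {x : W | ∀ e ∈ E, e x = x} = (Subgroup.center W : Set W) := by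
  classical
  let F : E → Subgroup W := fun e => actFixed (zpowers (e : MulAut W)).subtype
  have hF : ∀ e x, x ∈ F e ↔ (e : MulAut W) x = x := fun e x => mem_actFixed_zpowers
  have hFi : ∀ e, ActInv E.subtype (F e) := by
    intro e a u hu
    rw [hF] at hu ⊢
    have := congrArg (fun g : E => (g : MulAut W) u) (hab.is_comm.comm e a)
    simpa [hu] using this
  have hF1 : ∀ e, e ≠ 1 → ∀ x ∈ F e, ∀ y ∈ F e, orderOf x = 2 → orderOf y = 2 → x = y :=
    fun e he x hx y hy h1 h2 => hfix e e.2 (fun h => he (Subtype.ext h)) x y h1 h2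
      ((hF e x).1 hx) ((hF e y).1 hy)
  set C := actFixed E.subtype with hCdef
  have hCF : ∀ e, C ≤ F e := fun e x hx => (hF e x).2 (hx e)
  have hcop2 : (Nat.card E).Coprime 2 := by
    obtain ⟨k, hk⟩ := hE.exists_card_eq
    rw [hk]
    exact ((Nat.coprime_primes Fact.out Nat.prime_two).2 hp).pow_left k
  have hcop : ∀ U : Subgroup W, (Nat.card E).Coprime (Nat.card U) := fun U =>
    PG.coprime_card_of_isPGroup (hW.to_subgroup U) hcop2
  have hgen : ∀ U H : Subgroup W, ActInv E.subtype U → (∀ e, e ≠ 1 → U ⊓ F e ≤ H) → U ≤ H :=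
    fun U H hU h => act_le_of_fixed_elt hab hnc hU (hcop U) fun a ha u hu hf =>
      h a ha ⟨hu, (hF a u).2 hf⟩
  have hne : ∀ e, e ≠ 1 → ¬ ⊤ ≤ F e := fun e he h => he (Subtype.ext (MulEquiv.ext fun x =>
    (hF e x).1 (h (mem_top x))))
  have hex : ∀ H : Subgroup W, ¬ ⊤ ≤ H → ∃ e, e ≠ 1 ∧ ¬ F e ≤ H := by
    intro H hH
    by_contra hcon
    push Not at hcon
    exact hH (hgen ⊤ H (actInv_top _) fun e he => inf_le_right.trans (hcon e he))
  have hd := fun e (he : e ≠ 1) => dich hW hp hE E.subtype (hFi e) (hF1 e he)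
  haveI : Nontrivial E := by
    by_contra hcon
    rw [not_nontrivial_iff_subsingleton] at hcon
    exact hnc inferInstance
  obtain ⟨e₀, he₀⟩ := exists_ne (1 : E)
  obtain ⟨e₁, he₁, h₁⟩ := hex C fun h => hne e₀ he₀ (h.trans (hCF e₀))
  obtain ⟨h8, -, rfl, hC⟩ := (hd e₁ he₁).resolve_left h₁
  rw [inf_eq_right.2 (hCF e₁)] at hC
  obtain ⟨e₂, he₂, h₂⟩ := hex (F e₁) (hne e₁ he₁)
  obtain ⟨h8', -, -, -⟩ := (hd e₂ he₂).resolve_left fun h => h₂ (h.trans (hCF e₁))
  have hle8 : ∀ e, e ≠ 1 → Nat.card (F e) ≤ 8 := by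
    intro e he
    rcases hd e he with h | h
    · exact le_trans (card_le_of_le h) (by rw [hC]; norm_num)
    · exact h.1.le
  have h9 : Nat.card E = 9 := by
    have k1 := index_le hW hE E.subtype (hFi e₁) (hF1 e₁ he₁) h8
    have k2 := index_le hW hE E.subtype (hFi e₂) (hF1 e₂ he₂) h8'
    have k3 : (subHom E.subtype _ (hFi e₁)).ker ⊓ (subHom E.subtype _ (hFi e₂)).ker = ⊥ := by
      rw [eq_bot_iff]
      rintro e ⟨a1, a2⟩
      by_contra he
      have b1 : F e₁ ≤ F e := fun u hu => (hF e u).2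
        (congrArg (fun g : MulAut (F e₁) => (g ⟨u, hu⟩ : W)) a1)
      have b2 : F e₂ ≤ F e := fun u hu => (hF e u).2
        (congrArg (fun g : MulAut (F e₂) => (g ⟨u, hu⟩ : W)) a2)
      have b3 : F e₁ = F e := eq_of_le_of_card_ge b1 (h8 ▸ hle8 e he)
      exact h₂ (b3 ▸ b2)
    have k4 := index_inf_le (H := (subHom E.subtype _ (hFi e₁)).ker)
      (K := (subHom E.subtype _ (hFi e₂)).ker)
    rw [k3, index_bot] at k4
    have k5 : Nat.card E ≤ 9 := le_trans k4 (Nat.mul_le_mul k1 k2)
    obtain ⟨k, hk⟩ := hE.exists_card_eq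
    rw [hk] at k5 ⊢
    have : k < 3 := (Nat.pow_lt_pow_iff_right (by norm_num : 1 < 3)).1 (by omega)
    interval_cases k
    · exact absurd (isCyclic_of_card_dvd_prime (p := 3) (by rw [hk]; norm_num)) hnc
    · exact absurd (isCyclic_of_card_dvd_prime (p := 3) (by rw [hk]; norm_num)) hnc
    · norm_num
  have hcomm : actComm E.subtype ⊤ = ⊤ := by
    have a1 := actComm_top_sup_actFixed (φ := E.subtype)
      (PG.coprime_card_of_isPGroup hW hcop2) (Or.inr (by
        haveI := hW.isNilpotent; infer_instance))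
    have a2 : actComm E.subtype (F e₁) ≠ ⊥ := fun h => h₁ (actComm_eq_bot_iff.1 h)
    obtain ⟨k, hk⟩ := (hW.to_subgroup (actComm E.subtype (F e₁))).exists_card_eq
    obtain ⟨t, ht⟩ := exists_prime_orderOf_dvd_card' (G := actComm E.subtype (F e₁)) 2 (by
      rw [hk]
      refine dvd_pow_self 2 fun h0 => a2 (card_eq_one.1 ?_)
      rw [hk, h0, pow_zero])
    have ht' : orderOf (t : W) = 2 := by rwa [Subgroup.orderOf_coe]
    have a3 := inv_fixed (hFi e₁) (hF1 e₁ he₁) ((hFi e₁).actComm_le t.2) ht'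
    have a4 : zpowers (t : W) = C :=
      eq_of_le_of_card_ge (zpowers_le.2 a3) (by rw [hC, Nat.card_zpowers, ht'])
    rw [← hCdef, ← a4, sup_eq_left.2 (zpowers_le.2 (actComm_mono _ le_top t.2))] at a1
    exact a1
  obtain ⟨hsp, hZ⟩ := PG.isSpecial_of_act_trivial_on_char_abelian hW hcop2 hcomm (by
    intro H hH hc
    refine hgen H _ (actInv_of_characteristic _ H) fun e he => ?_
    rcases dich hW hp hE E.subtype ((actInv_of_characteristic _ H).inf (hFi e))
      (fun x hx y hy => hF1 e he x hx.2 y hy.2) with h | h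
    · exact h
    · exact absurd (isMulCommutative_of_le' hc inf_le_left) h.2.1)
  have hes : IsExtraspecial 2 W := ⟨hsp, by rw [hZ]; exact hC⟩
  refine ⟨h9, hes, ?_, ?_⟩
  · obtain ⟨n, -, hn⟩ := hes.exists_card_eq
    have lo : 8 < Nat.card W := by
      rw [← h8, ← card_top (G := W)]
      exact card_lt_of_lt (lt_of_le_of_ne le_top fun h => hne e₁ he₁ h.ge)
    haveI := Fintype.ofFinite E
    let S := (Finset.univ.erase (1 : E)).image F
    have hS : 2 * S.card ≤ 8 := by
      have := Finset.mul_card_image_le_card (f := F) (Finset.univ.erase (1 : E)) 2 (by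
        intro b hb
        obtain ⟨e, he, rfl⟩ := Finset.mem_image.1 hb
        have he1 := (Finset.mem_erase.1 he).1
        have hi : e ≠ e⁻¹ := by
          intro h
          have h3 : orderOf e ∣ 2 := orderOf_dvd_of_pow_eq_one (by
            rw [sq]; nth_rewrite 2 [h]; exact mul_inv_cancel e)
          exact he1 (orderOf_eq_one_iff.1
            (Nat.eq_one_of_dvd_coprimes hcop2 (orderOf_dvd_natCard e) h3))
        rw [← Finset.card_pair hi]
        apply Finset.card_le_card
        intro x hx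
        rw [Finset.mem_filter]
        rcases Finset.mem_insert.1 hx with rfl | hx
        · exact ⟨he, rfl⟩
        · rw [Finset.mem_singleton.1 hx]
          refine ⟨by simpa using he1, ?_⟩
          ext w
          rw [hF, hF]
          simp only [InvMemClass.coe_inv, MulAut.inv_apply]
          rw [MulEquiv.symm_apply_eq, eq_comm])
      rw [Finset.card_erase_of_mem (Finset.mem_univ _), Finset.card_univ,
        ← Nat.card_eq_fintype_card, h9] at this
      exact this
    have hi := card_biSup_le hC S (by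
      intro U hU
      obtain ⟨e, he, rfl⟩ := Finset.mem_image.1 hU
      refine ⟨?_, hCF e, hle8 e (Finset.mem_erase.1 he).1⟩
      exact Normal.of_commutator_le W (hsp.commutator_le_center.trans (hZ.le.trans (hCF e))))
    have ht : ⊤ ≤ C ⊔ S.sup id := hgen ⊤ _ (actInv_top _) fun e he =>
      inf_le_right.trans (le_sup_of_le_right (Finset.le_sup (f := id)
        (Finset.mem_image_of_mem F (by simpa using he))))
    have h5 := card_le_of_le ht
    rw [card_top] at h5
    have h6 : 4 ^ S.card ≤ 4 ^ 4 := Nat.pow_le_pow_right (by norm_num) (by omega)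
    have h7 : 2 ^ (2 * n + 1) ≤ 2 ^ 9 := by omega
    have h10 := (Nat.pow_le_pow_iff_right (by norm_num)).1 h7
    have h11 := (Nat.pow_lt_pow_iff_right (by norm_num : 1 < 2)).1
      (show 2 ^ 3 < 2 ^ (2 * n + 1) by omega)
    rw [hn]
    have : n = 2 ∨ n = 3 ∨ n = 4 := by omega
    rcases this with rfl | rfl | rfl <;> simp
  · rw [hZ]
    ext x
    exact ⟨fun h a => h a a.2, fun h a ha => h ⟨a, ha⟩⟩

end Cfsg.Agent.S2934
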