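import Mathlib
import Cfsg.Statements.S4878
import Cfsg.Agent.Ch.KPGrp
-- import your own Cfsg.Agent.* helpers here

set_option autoImplicit false
open Cfsg

namespace Cfsg.Agent.S4878

section

open Subgroup Ch Ch.KT GT.Frob
open scoped commutatorElement

theorem sq_check : ∀ c < 121, ∀ d < 121, 120 % c ≠ 0 ∨ 120 * c ≠ d ^ 2 ∨ c = 30 ∨ c = 120 := by
  decide +kernel

theorem eleven {G : Type*} [Group G] [Finite G] [hp : Fact (Nat.Prime 11)] (hs : IsPSolvable 11 G)
    (h : OneCl 11 G) (h0 : pPrimeCore 11 G ≠ ⊥)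
    (f : G →* Matrix.SpecialLinearGroup (Fin 2) (ZMod 5)) (hf : Function.Surjective f)
    (hK : pPrimeCore 11 G ≤ f.ker) (hc : ∀ a ∈ f.ker, ∀ b ∈ f.ker, ⁅a, b⁆ ∈ pPrimeCore 11 G)
    (hn : Nat.card f.ker = Nat.card (pPrimeCore 11 G) * 121) : 11 ≤ kp 11 G := by
  by_contra hk
  have h1 := GT.not_dvd_card_pPrimeCore (G := G) hp.out
  have h2 := linI_normal_of_le_centralizer hs
  have := GT.pPrimeCore_characteristic (G := G) (p := 11)
  generalize pPrimeCore 11 G = K at *
  have h3 : f.ker.index = 120 := by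
    rw [index_ker, MonoidHom.range_eq_top.2 hf, card_top, Perm.card_sl_two_five]
  have h4 : ∀ x ∈ K, ¬ 11 ∣ orderOf x := fun x hx e => h1 (e.trans (orderOf_dvd_natCard K hx))
  have h5 : ∀ x ∈ K, ∀ y ∈ K, x ≠ 1 → y ≠ 1 → IsConj x y := fun x hx y hy a b => by
    by_contra hc
    have := k_add_le (p := 11) f hf (by rw [Perm.card_sl_two_five]; norm_num) (ι := Bool)
      (fun i => cond i x y) (by rintro (_ | _) <;> assumption)
      (by rintro (_ | _); exacts [hK hy, hK hx]) (by rintro (_ | _); exacts [h4 y hy, h4 x hx])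
      (by rintro (_ | _) (_ | _) e; exacts [rfl, absurd e.symm hc, absurd e hc, rfl])
    rw [k_sl, Nat.card_eq_fintype_card (α := Bool), Fintype.card_bool] at this
    omega
  obtain ⟨q, hq, hqK⟩ := Nat.exists_prime_and_dvd (mt card_eq_one.1 h0)
  have : Fact q.Prime := ⟨hq⟩
  have hE := elemAb_of_conj hqK h5
  obtain ⟨P⟩ : Nonempty (Sylow 11 G) := inferInstance
  have hG : Nat.card G = Nat.card K * 121 * 120 := by rw [← hn, ← h3, card_mul_index]
  have hPf : (P : Subgroup G) ≤ f.ker := h.le (hn ▸ Dvd.dvd.mul_left (by norm_num) _) P.isPGroup'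
  have hP : Nat.card (P : Subgroup G) = 121 := by
    obtain ⟨k, hk⟩ := P.isPGroup'.exists_card_eq
    refine Nat.dvd_antisymm ?_ (P.pow_dvd_card_of_pow_dvd_card (n := 2)
      (hG ▸ (Dvd.intro_left _ rfl).mul_right _))
    have := card_dvd_of_le hPf
    rw [hn, hk] at this
    exact hk ▸ (((Nat.Prime.coprime_iff_not_dvd hp.out).2 h1).pow_left k).dvd_of_dvd_mul_left this
  have hd : Disjoint (P : Subgroup G) K := disjoint_of_coprime_natCard (by
    rw [hP]; exact ((Nat.Prime.coprime_iff_not_dvd hp.out).2 h1).pow_left 2)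
  have hPe : ∀ x ∈ (P : Subgroup G), x ^ 11 = 1 := fun x hx => by
    by_cases e : x = 1
    · rw [e, one_pow]
    obtain ⟨y, hy⟩ := exists_prime_orderOf_dvd_card' (G := G) 11
      (hG ▸ (Dvd.dvd.mul_left (by norm_num) _).mul_right _)
    rw [← hy, FG.PC.orderOf_eq_of_isConj (h y x (fun e => by simp [e] at hy) e ⟨1, hy⟩
      (by simpa using IsPGroup.iff_orderOf.1 P.isPGroup' ⟨x, hx⟩)), pow_orderOf_eq_one]
  have hPC : (P : Subgroup G) ≤ centralizer (K : Set G) := by
    obtain ⟨ρ, hρ⟩ := exists_rho hE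
    have hker : ρ.ker = centralizer (K : Set G) := by
      ext g
      refine ⟨fun hg v hv => (mul_inv_eq_iff_eq_mul.1 ((hρ g (GT.EAV.mk hE v hv)).symm.trans
        (congrArg GT.EAV.val (DFunLike.congr_fun hg _)))).symm, fun hg => LinearEquiv.ext fun x =>
          GT.EAV.ext ((hρ g x).trans (mul_inv_eq_iff_eq_mul.2 (hg _ x.val_mem).symm))⟩
    have : Nontrivial (GT.EAV hE) := (nontrivial_iff_ne_bot K).2 h0
    let A := f.ker.map ρ.rangeRestrict
    have : A.Normal := Normal.map inferInstance _ ρ.rangeRestrict_surjective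
    have : IsMulCommutative A := ⟨⟨by
      rintro ⟨_, a, ha, rfl⟩ ⟨_, b, hb, rfl⟩
      refine Subtype.ext (commutatorElement_eq_one_iff_mul_comm.1 (Subtype.ext ?_))
      have := hE.1
      exact (map_commutatorElement ρ a b).symm.trans (hker.ge (le_centralizer K (hc a ha b hb)))⟩⟩
    have hA := ((fieldOn_of_comm (ρ := ρ.range.subtype) (fun x y hx hy => by
      obtain ⟨g, hg⟩ := isConj_iff.1 (h5 _ x.val_mem _ y.val_mem (mt GT.EAV.val_eq_one_iff.1 hx)
        (mt GT.EAV.val_eq_one_iff.1 hy))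
      exact ⟨⟨_, g, rfl⟩, GT.EAV.ext ((hρ g x).trans hg)⟩) A).exists_card
        ρ.range.subtype_injective).1
    have hB : IsCyclic ((P : Subgroup G).map ρ.rangeRestrict) :=
      isCyclic_of_le (map_mono hPf : _ ≤ A)
    have h6 : Nat.card ((P : Subgroup G).map ρ.rangeRestrict) ∣ 11 := by
      rw [← IsCyclic.exponent_eq_card, Monoid.exponent_dvd_iff_forall_pow_eq_one]
      rintro ⟨_, x, hx, rfl⟩
      exact Subtype.ext ((map_pow _ x 11).symm.trans (by rw [hPe x hx, map_one]; rfl))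
    rw [← relIndex_ker, MonoidHom.ker_rangeRestrict, hker] at h6
    have h7 := FG.card_eq_relIndex_mul_card_inf (centralizer (K : Set G)) P
    refine h.le (Dvd.dvd.trans ?_ (card_dvd_of_le (inf_le_left (b := (P : Subgroup G)))))
      P.isPGroup'
    rcases (Nat.dvd_prime hp.out).1 h6 with e | e <;> rw [e] at h7 <;> omega
  have := h2 P (fun a ha b hb => commutatorElement_eq_one_iff_mul_comm.1 (disjoint_def.1 hd
    (mul_mem (mul_mem (mul_mem ha hb) (inv_mem ha)) (inv_mem hb)) (hc a (hPf ha) b (hPf hb))))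
    (le_centralizer_iff.1 hPC)
  have hX : Nat.card (G ⧸ (P : Subgroup G)) = Nat.card K * 120 := by
    have := (P : Subgroup G).card_mul_index
    rw [hP, hG, index_eq_card] at this
    omega
  have h6 := k_le_kp (p := 11) (QuotientGroup.mk' (P : Subgroup G)) (QuotientGroup.mk'_surjective _)
    P.not_dvd_index
  obtain ⟨d, hd⟩ := exists_sq_of_k_le (QuotientGroup.lift (P : Subgroup G) f hPf)
    (QuotientGroup.lift_surjective_of_surjective _ _ hf _) (by rw [k_sl]; omega)
  rw [hX, Perm.card_sl_two_five] at hd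
  have h7 : f.ker ≤ centralizer (K : Set G) := by
    have := hE.1
    refine inf_eq_left.1 (eq_of_le_of_card_ge inf_le_left (Nat.le_of_dvd Nat.card_pos ?_))
    rw [hn]
    exact (((Nat.Prime.coprime_iff_not_dvd hp.out).2 h1).pow_left 2).symm.mul_dvd_of_dvd_of_dvd
      (card_dvd_of_le (le_inf hK (le_centralizer K))) 
      ((hP.trans rfl).symm.dvd.trans (card_dvd_of_le (le_inf hPf hPC)))
  obtain ⟨⟨k, hk⟩, hk1⟩ := ne_bot_iff_exists_ne_one.1 h0
  replace hk1 : k ≠ 1 := fun e => hk1 (Subtype.ext e)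
  have h8 := FG.ncard_isConj_eq_index k
  rw [show {y | IsConj k y} = (K : Set G) \ {1} from Set.ext fun y => ⟨fun hy => by
    obtain ⟨c, rfl⟩ := isConj_iff.1 hy
    exact ⟨Normal.conj_mem inferInstance k hk c, by simpa using hk1⟩,
    fun hy => h5 k hk y hy.1 hk1 hy.2⟩, Set.ncard_sdiff_singleton_of_mem K.one_mem] at h8
  change Nat.card K - 1 = _ at h8
  have h9 : Nat.card K - 1 ∣ 120 := h8 ▸ h3 ▸ index_dvd_of_le
    (h7.trans (centralizer_le (Set.singleton_subset_iff.2 hk)))
  have h10 := Nat.le_of_dvd (by norm_num) h9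
  have h11 : 0 < Nat.card K := Nat.card_pos
  rcases sq_check (Nat.card K - 1) (by omega) d (by
    by_contra hc
    have := Nat.pow_le_pow_left (not_lt.1 hc) 2
    omega) with e | e | e | e
  · exact e (Nat.mod_eq_zero_of_dvd h9)
  · omega
  · have : Fact (Nat.Prime 31) := ⟨by norm_num⟩
    have : IsCyclic K := isCyclic_of_prime_card (p := 31) (by omega)
    have h12 := map_mono (f := f) (Perm.RankOne.commutator_le_centralizer_of_isCyclic K)
    rw [_root_.commutator_def, map_commutator, map_top_of_surjective f hf, ← _root_.commutator_def,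
      sl2_five_isPerfect.commutator_eq_top, top_le_iff] at h12
    have h13 := comap_map_eq_self h7
    rw [h12, comap_top] at h13
    rw [top_le_iff.1 (h13.le.trans (centralizer_le (Set.singleton_subset_iff.2 hk))), index_top]
      at h8
    omega
  · omega

end

/-- Let p be a prime and G a finite p-solvable group of order divisible by p in which all non-identity p-elements are conjugate. Then G has at least p conjugacy classes of p-regular elements; or G has exactly p − 1 of them and is isomorphic to the one-dimensional affine group over the field with p elements; or p = 11, G has exactly 9 of them, G has order 121·120 and G is a Frobenius group whose complement is isomorphic to SL(2,5). -/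
theorem result {G : Type*} [Group G] [Finite G] (p : ℕ) [Fact p.Prime] (hsolv : Cfsg.IsPSolvable p G) (hdiv : p ∣ Nat.card G) (hconj : ∀ x y : G, x ≠ 1 → y ≠ 1 → (∃ k : ℕ, orderOf x = p ^ k) → (∃ k : ℕ, orderOf y = p ^ k) → IsConj x y) : p ≤ Nat.card {c : ConjClasses G // ∃ g : G, ConjClasses.mk g = c ∧ ¬ p ∣ orderOf g} ∨ (Nat.card {c : ConjClasses G // ∃ g : G, ConjClasses.mk g = c ∧ ¬ p ∣ orderOf g} = p - 1 ∧ Nonempty (G ≃* ↥(Cfsg.affineGroup (ZMod p)))) ∨ (p = 11 ∧ Nat.card {c : ConjClasses G // ∃ g : G, ConjClasses.mk g = c ∧ ¬ p ∣ orderOf g} = 9 ∧ (Nat.card G = 121 * 120 ∧ ∃ H : Subgroup G, Cfsg.IsFrobeniusComplement H ∧ Nonempty (↥H ≃* Matrix.SpecialLinearGroup (Fin 2) (ZMod 5)))) := by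
  have hp : Fact p.Prime := inferInstance
  change p ≤ Ch.KT.kp p G ∨ (Ch.KT.kp p G = p - 1 ∧ _) ∨ (_ ∧ Ch.KT.kp p G = 9 ∧ _)
  by_cases h0 : pPrimeCore p G = ⊥
  · obtain ⟨V, H, _, hV, hH, h1, h2⟩ := Ch.KT.core hsolv hdiv hconj h0
    have h3 := le_antisymm (Ch.KT.kp_le hV.isPGroup hH h1) (Ch.KT.k_le_kp
      (hH.symm.QuotientMulEquiv.toMonoidHom.comp (QuotientGroup.mk' V))
      (hH.symm.QuotientMulEquiv.surjective.comp (QuotientGroup.mk'_surjective V)) h1)
    rw [h3]
    rcases h2 with a | a | ⟨a1, a2, a3, ⟨e⟩⟩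
    · exact Or.inl a
    · exact Or.inr (Or.inl a)
    · refine Or.inr (Or.inr ⟨a1, by rw [FG.card_conjClasses_congr e, Ch.KT.k_sl], ?_, H, a3, ⟨e⟩⟩)
      rw [← hH.card_mul_card, a2, Nat.card_congr e.toEquiv, Perm.card_sl_two_five]
  left
  have := GT.pPrimeCore_characteristic (G := G) (p := p)
  have h1 := GT.not_dvd_card_pPrimeCore (G := G) hp.out
  let π := QuotientGroup.mk' (pPrimeCore p G)
  have hπ : Function.Surjective π := QuotientGroup.mk'_surjective _
  obtain ⟨V, H, _, hV, hH, h2, h3⟩ := Ch.KT.core (hsolv.quotient (pPrimeCore p G)) (by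
    rw [← (pPrimeCore p G).card_mul_index] at hdiv
    exact (hp.out.dvd_mul.1 hdiv).resolve_left h1) (Ch.KT.OneCl.of_surjective hconj hπ)
    GT.pPrimeCore_quotient_pPrimeCore
  let f : G →* H := (hH.symm.QuotientMulEquiv.toMonoidHom.comp (QuotientGroup.mk' V)).comp π
  have hf : Function.Surjective f :=
    (hH.symm.QuotientMulEquiv.surjective.comp (QuotientGroup.mk'_surjective V)).comp hπ
  have hker : f.ker = V.comap π := by
    rw [← MonoidHom.comap_ker, MonoidHom.ker_comp_of_injective _ _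
      hH.symm.QuotientMulEquiv.injective, QuotientGroup.ker_mk']
  have hK : pPrimeCore p G ≤ f.ker := fun x hx => by
    rw [hker, Subgroup.mem_comap, show π x = 1 from (QuotientGroup.eq_one_iff x).2 hx]
    exact one_mem _
  obtain ⟨⟨k, hk⟩, hk1⟩ := Subgroup.ne_bot_iff_exists_ne_one.1 h0
  have h4 := Ch.KT.k_add_le f hf h2 (ι := Unit) (fun _ => k) (fun _ e => hk1 (Subtype.ext e))
    (fun _ => hK hk) (fun _ e => h1 (e.trans (Subgroup.orderOf_dvd_natCard _ hk))) fun _ _ _ => rfl
  rw [Nat.card_unique (α := Unit)] at h4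
  rcases h3 with a | a | ⟨rfl, a2, -, ⟨e⟩⟩
  · omega
  · omega
  have h5 : (e.toMonoidHom.comp f).ker = V.comap π :=
    (MonoidHom.ker_comp_of_injective _ _ e.injective).trans hker
  refine eleven hsolv hconj h0 (e.toMonoidHom.comp f) (e.surjective.comp hf) (h5 ▸ hker ▸ hK)
    (fun a ha b hb => ?_) ?_
  · rw [h5] at ha hb
    rw [← QuotientGroup.eq_one_iff]
    exact (map_commutatorElement π a b).trans
      (commutatorElement_eq_one_iff_mul_comm.2 (hV.comm ha hb))
  · have h6 := FG.card_eq_relIndex_mul_card_inf π.ker (V.comap π)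
    rw [Subgroup.relIndex_ker, Subgroup.map_comap_eq_self_of_surjective hπ, a2,
      QuotientGroup.ker_mk', inf_of_le_left (hker ▸ hK)] at h6
    rw [h5, h6, mul_comm]

end Cfsg.Agent.S4878
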