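import Mathlib
import Cfsg.Statements.S2205
import Cfsg.Agent.Perm.DblF

set_option autoImplicit false
open Cfsg

namespace Cfsg.Agent.S2205

/-- A finite group acting faithfully and 2-transitively on a set with p² + 1 points, p a prime, is doubly primitive — a point stabilizer acts primitively on the remaining p² points — unless p = 2 and the group is the Frobenius group of order 20. -/
theorem result {G Ω : Type*} [Group G] [Finite G] [Fintype Ω] [MulAction G Ω] [FaithfulSMul G Ω] (p : ℕ) (hp : p.Prime) (hΩ : Fintype.card Ω = p ^ 2 + 1) (h2 : MulAction.IsMultiplyPretransitive G Ω 2) (a : Ω) :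
    MulAction.IsPreprimitive ↥(MulAction.stabilizer G a) ↥(SubMulAction.ofStabilizer G a) ∨ (p = 2 ∧ Nat.card G = 20) := by
  classical
  have : Fact p.Prime := ⟨hp⟩
  have hΩ' : Nat.card Ω = p ^ 2 + 1 := by rw [Nat.card_eq_fintype_card, hΩ]
  by_contra hcon
  rw [not_or] at hcon
  obtain ⟨hnp, hne⟩ := hcon
  have htr : MulAction.IsPretransitive ↥(MulAction.stabilizer G a) ↥(SubMulAction.ofStabilizer G a) := by
    rw [Cfsg.Agent.Perm.stab_isPretransitive_iff]
    intro x hx y hy
    exact Cfsg.Agent.Perm.exists_smul_eq_two h2 (Ne.symm hx) (Ne.symm hy)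
  have hex : ∃ B : Set ↥(SubMulAction.ofStabilizer G a),
      (∀ (g : ↥(MulAction.stabilizer G a)), ∀ x ∈ B, g • x ∈ B → ∀ y ∈ B, g • y ∈ B) ∧
      ¬ B.Subsingleton ∧ B ≠ Set.univ := by
    by_contra h
    apply hnp
    apply Cfsg.Agent.Perm.isPreprimitive_of_block
    intro B hB
    by_contra h1
    rw [not_or] at h1
    exact h ⟨B, hB, h1.1, h1.2⟩
  obtain ⟨B, hB, hB1, hB2⟩ := hex
  have hcard : Nat.card ↥(SubMulAction.ofStabilizer G a) = p ^ 2 := by
    have := SubMulAction.nat_card_ofStabilizer_add_one_eq G a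
    omega
  have hBc : B.ncard = p := by
    have h1 := (Cfsg.Agent.Perm.isBlock_iff_forall.2 hB).ncard_dvd_card
      (Set.not_subsingleton_iff.1 hB1).nonempty
    rw [hcard, Nat.dvd_prime_pow hp] at h1
    obtain ⟨i, hi, e⟩ := h1
    interval_cases i
    · exact absurd (by
        rw [pow_zero, Set.ncard_eq_one] at e
        obtain ⟨x, rfl⟩ := e
        exact Set.subsingleton_singleton) hB1
    · simpa using e
    · exact absurd (by rw [Set.eq_univ_iff_ncard, e, hcard]) hB2
  have hblk : Cfsg.Agent.Perm.Dbl.Blk G p a (Subtype.val '' B) :=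
    { notMem := by
        rintro ⟨x, -, e⟩
        exact x.2 e
      card := by rw [Set.ncard_image_of_injective _ Subtype.val_injective, hBc]
      blk := by
        rintro g hg _ ⟨x, hx, rfl⟩ ⟨x', hx', e⟩ _ ⟨y, hy, rfl⟩
        have h1 : (⟨g, hg⟩ : MulAction.stabilizer G a) • x = x' := Subtype.ext e.symm
        exact ⟨_, hB ⟨g, hg⟩ x hx (h1 ▸ hx') y hy, rfl⟩ }
  by_cases hp2 : p = 2
  · subst hp2
    exact hne ⟨rfl, Cfsg.Agent.Perm.Dbl.card_of_blk_two hΩ' h2 hblk⟩
  · exact Cfsg.Agent.Perm.Dbl.false_of_blk hp2 hΩ' h2 hblk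

end Cfsg.Agent.S2205
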