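import Mathlib
import Cfsg.Statements.S1895
import Cfsg.Agent.GT.PGroupCritical
import Cfsg.Agent.GT.PGroupAlperin
import Cfsg.Agent.GT.PGroupCyclicNormal
import Cfsg.Agent.GT.HallTools
import Cfsg.Agent.GT.Conj
import Cfsg.Agent.S3771
-- import your own Cfsg.Agent.* helpers here

set_option autoImplicit false
open Cfsg

namespace Cfsg.Agent.S1895

open Subgroup Cfsg.Agent.GT Cfsg.Agent.GT.PG
open scoped commutatorElement

universe u

theorem exists_char {p : ℕ} [hp : Fact p.Prime] (hp2 : p ≠ 2) (P : Type u) [Group P] [Finite P] :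
    IsPGroup p P → Nontrivial P → PRankLE p 2 P →
      ∃ U : Subgroup P, U.Characteristic ∧ U ≠ ⊤ ∧ U.index ≤ p ^ 2 := by
  refine card_induction (P := fun P _ _ => IsPGroup p P → Nontrivial P → PRankLE p 2 P →
    ∃ U : Subgroup P, U.Characteristic ∧ U ≠ ⊤ ∧ U.index ≤ p ^ 2) (fun P _ _ ih hP _ hr => ?_) P
  have hodd := hp.out.odd_of_ne_two hp2
  have hZ := isElementaryAbelian_omegaOne (p := p) (A := center P) inferInstance
  have hm : ∀ x, x ∈ omegaOne p (center P) ↔ x ∈ center P ∧ x ^ p = 1 :=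
    fun x => mem_omegaOne_iff inferInstance
  have hZ1 : omegaOne p (center P) ≠ ⊥ := omegaOne_ne_bot (hP.to_subgroup _)
    ((center P).nontrivial_iff_ne_bot.1 hP.center_nontrivial)
  have hZc := omegaOne_le (p := p) (center P)
  generalize hZd : omegaOne p (center P) = Z at hZ hm hZ1 hZc
  have : Z.Characteristic := hZd ▸ inferInstance
  by_cases hA : ∀ x : P, x ^ p = 1 → x ∈ center P
  · by_cases h1 : Z = ⊤
    · exact ⟨⊥, inferInstance, bot_ne_top, by rw [index_bot, ← card_top, ← h1]; exact hr.card_le hZ⟩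
    obtain ⟨U, hU, h2, h3⟩ := ih (P ⧸ Z) (card_quotient_lt hZ1) (hP.to_quotient Z)
      (QuotientGroup.nontrivial_iff.2 h1) (pRankLE_iff.2 fun E hE => by
        have h2 : ∀ x ∈ E.comap (QuotientGroup.mk' Z), x ^ p ∈ Z := fun x hx =>
          (QuotientGroup.eq_one_iff _).1 (hE.2 _ hx)
        have h3 : ⁅E.comap (QuotientGroup.mk' Z), E.comap (QuotientGroup.mk' Z)⁆ ≤ Z := by
          rw [commutator_le_iff_map_mk', map_comap_mk']
          exact commutator_eq_bot_iff_le_centralizer.2 hE.le_centralizer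
        have h4 := hZc.trans (center_le_centralizer (E.comap (QuotientGroup.mk' Z) : Set P))
        let φ : E.comap (QuotientGroup.mk' Z) →* P := MonoidHom.mk' (fun x => (x : P) ^ p)
          fun x y => CopAct.mul_pow_of_class_two hodd (h3.trans h4)
            (fun x hx => h4 (h2 x hx)) x.2 y.2
        have h5 : φ.ker = Z.subgroupOf _ := Subgroup.ext fun x =>
          ⟨fun h => (hm _).2 ⟨hA _ h, h⟩, fun h => ((hm _).1 h).2⟩
        have h6 := index_ker φ
        have h7 := relIndex_ker (E.comap (QuotientGroup.mk' Z)) (QuotientGroup.mk' Z)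
        rw [QuotientGroup.ker_mk', map_comap_mk', relIndex, ← h5, h6] at h7
        exact h7.ge.trans ((card_le_of_le (by rintro _ ⟨x, rfl⟩; exact h2 x x.2)).trans
          (hr.card_le hZ)))
    exact ⟨U.comap (QuotientGroup.mk' Z), .comap_quotient_mk hU, fun e => h2 (by
      rw [← map_comap_mk' U, e, map_top_of_surjective _ (QuotientGroup.mk'_surjective Z)]),
      by rwa [index_comap_of_surjective _ (QuotientGroup.mk'_surjective Z)]⟩
  push Not at hA
  obtain ⟨x, hx, hx'⟩ := hA
  have h1 : Nat.card Z = p := by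
    obtain ⟨k, hk⟩ := hZ.card_eq_pow
    have h2 := hr.card_le (hZ.sup_zpowers hx fun z hz => (mem_center_iff.1 (hZc hz) x).symm)
    rw [card_sup_zpowers hp.out (le_normalizer_of_normal (mem_top x)) (fun h => hx' (hZc h))
      (hx ▸ one_mem _), hk, ← pow_succ', Nat.pow_le_pow_iff_right hp.out.one_lt] at h2
    have h3 : k ≠ 0 := fun e => hZ1 (card_eq_one.1 (by rw [hk, e, pow_zero]))
    rw [hk, show k = 1 by omega, pow_one]
  obtain ⟨E, hEn, hE, hEc⟩ := exists_normal_elementary_sq_of_odd hp2 hP fun h =>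
    hx' (mem_center_iff.2 fun y => (IsCyclic.commGroup.mul_comm y x))
  have h2 : Z ≤ E := by
    obtain ⟨z, hz, h2, h3, h4⟩ := exists_mem_center_of_normal hP E fun e => by
      rw [e, card_bot] at hEc
      exact (Nat.one_lt_pow two_ne_zero hp.out.one_lt).ne hEc
    rw [← eq_of_le_of_card_eq (zpowers_le.2 ((hm z).2 ⟨h2, h4⟩)) (by
      rw [Nat.card_zpowers, h1, orderOf_eq_prime h4 h3])]
    exact zpowers_le.2 hz
  have h3 : ⁅E, (⊤ : Subgroup P)⁆ ≤ Z := (commutator_le_of_relIndex_prime hE.isPGroup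
    (hP.to_subgroup ⊤) le_normalizer_of_normal le_normalizer_of_normal h2 (by
      have := relIndex_mul_card h2
      rw [h1, hEc, pow_two] at this
      exact Nat.eq_of_mul_eq_mul_right hp.out.pos this)).1
  have h4 : ⁅(⊤ : Subgroup P), omegaOne p (omegaCenterMod p Z)⁆ ≤ Z := by
    rw [commutator_comm]
    exact commutator_le.2 fun a ha g _ => (mem_omegaCenterMod.1 (omegaOne_le _ ha)).2 g
  have h5 : E ≤ omegaOne p (omegaCenterMod p Z) := hE.le_omegaOne fun e he =>
    mem_omegaCenterMod.2 ⟨hE.2 e he ▸ one_mem _,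
      fun g => h3 (commutator_mem_commutator he (mem_top g))⟩
  have h6 := S3771.result (hP.to_subgroup (omegaOne p (omegaCenterMod p Z))) (hr.subgroup _)
    fun y => Subtype.ext (pow_eq_one_of_mem_omegaOne_of_class_two hodd (commutator_le.2
      fun a ha g _ => (hZc.trans (center_le_centralizer _)) ((mem_omegaCenterMod.1 ha).2 g)) y.2)
  obtain ⟨s, hs⟩ := relIndex_eq_pow_of_isPGroup
    (hP.to_subgroup (omegaOne p (omegaCenterMod p Z))) Z
  have h7 := relIndex_centralizer_le_pow (hP.to_subgroup _) (h2.trans h5)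
    (le_centralizer_iff.1 (hZc.trans (center_le_centralizer _))) h4 hs
  rw [← relIndex_mul_card (h2.trans h5), hs, h1, ← pow_succ,
    Nat.pow_le_pow_iff_right hp.out.one_lt] at h6
  refine ⟨_, characteristic_centralizer (omegaOne p (omegaCenterMod p Z)), fun e => ?_, ?_⟩
  · have h8 := card_le_of_le (show E ≤ Z from fun y hy => (hm y).2
      ⟨(h5.trans (centralizer_eq_top_iff_subset.1 e)) hy, hE.2 y hy⟩)
    rw [h1, hEc] at h8
    exact h8.not_gt (by nlinarith [hp.out.one_lt])
  · rw [relIndex_top_right, h1] at h7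
    exact h7.trans (Nat.pow_le_pow_right hp.out.pos (by omega))


/-- Let p be an odd prime and G a finite p-solvable group with no elementary abelian subgroup of order p³. Then every chief factor H/K of G (H, K normal in G with no normal subgroup of G strictly between them) whose order is a power of p has order p or p². -/
theorem result {G : Type*} [Group G] [Finite G] {p : ℕ} [Fact p.Prime] (hp : p ≠ 2)
    (hG : Cfsg.IsPSolvable p G) (hr : Cfsg.PRankLE p 2 G)
    (H K : Subgroup G) [H.Normal] [K.Normal] (hKH : K < H) (hpow : ∃ n : ℕ, K.relIndex H = p ^ n)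
    (hchief : ∀ L : Subgroup G, L.Normal → K ≤ L → L ≤ H → L = K ∨ L = H) :
    K.relIndex H = p ∨ K.relIndex H = p ^ 2 := by
  obtain ⟨n, hn⟩ := hpow
  obtain ⟨P₀⟩ : Nonempty (Sylow p H) := inferInstance
  have h1 : K ⊔ (P₀ : Subgroup H).map H.subtype = H := HT.sup_eq_of_coprime_relIndex hKH.le
    (map_subtype_le _) (by
      rw [hn, relIndex, subgroupOf, comap_map_eq_self_of_injective H.subtype_injective]
      exact ((Nat.Prime.coprime_iff_not_dvd Fact.out).2 P₀.not_dvd_index).pow_left _)
  obtain ⟨P, -, ⟨hP, h2, h3⟩, hmin⟩ := exists_minimal_le (P := fun P : Subgroup G =>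
    IsPGroup p P ∧ K ⊔ P = H ∧ K ⊔ normalizer (P : Set G) = ⊤) ⟨P₀.isPGroup'.map _, h1, by
      rw [eq_top_iff, ← P₀.normalizer_sup_eq_top]
      exact sup_le le_sup_right (h1.ge.trans (sup_le_sup_left le_normalizer _))⟩
  obtain ⟨U, hU, h4, h5⟩ := exists_char hp P hP (P.nontrivial_iff_ne_bot.2 fun e =>
    hKH.ne (by rw [← h2, e, sup_bot_eq])) (hr.subgroup P)
  have h6 := CopAct.le_normalizer_map_subtype_of_characteristic (le_refl (normalizer (P : Set G))) U
  have h7 := (hchief (K ⊔ U.map P.subtype) (normal_of_sup_eq_top h3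
    (le_sup_left.trans le_normalizer) (CopAct.le_normalizer_sup le_normalizer_of_normal h6))
    le_sup_left (h2 ▸ sup_le_sup_left (map_subtype_le _) _)).resolve_right fun e =>
      h4 (map_injective P.subtype_injective ((hmin _ ⟨hP.to_le (map_subtype_le _), e,
        eq_top_iff.2 (h3.ge.trans (sup_le_sup_left h6 _))⟩ (map_subtype_le _)).trans
          (by rw [← MonoidHom.range_eq_map, range_subtype])))
  have h8 : K.relIndex H ≤ U.index := by
    rw [← h2, relIndex_sup_left]
    exact index_antitone (map_le_iff_le_comap.1 (le_sup_right.trans h7.le))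
  have h9 : n ≠ 0 := fun e => hKH.not_ge (relIndex_eq_one.1 (by rw [hn, e, pow_zero]))
  have h10 := (Nat.pow_le_pow_iff_right (Fact.out : p.Prime).one_lt).1 (hn ▸ h8.trans h5)
  rw [hn]
  rcases (show n = 1 ∨ n = 2 by omega) with e | e <;> simp [e]

end Cfsg.Agent.S1895
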