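import Mathlib
import Cfsg.Statements.S3888
import Cfsg.Agent.FG.RankTwo3
import Cfsg.Agent.FT.BG4_5
import Cfsg.Agent.S0128
import Cfsg.Agent.S0639
import Cfsg.Agent.S3771

set_option autoImplicit false
open Cfsg

namespace Cfsg.Agent.S3888

section aux

open Subgroup Cfsg.Agent.GT Cfsg.Agent.FG
open scoped commutatorElement

theorem caseA {G : Type*} [Group G] [Finite G] {p : ℕ} [hp : Fact p.Prime] (hp2 : p ≠ 2) (n : ℕ)
    (hG : Nat.card G = p ^ n) (hrk : PRankLE p 2 G) (E : Subgroup G) [E.Normal]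
    (hE : Nat.card E = p ^ 3) (hEp : ∀ x ∈ E, x ^ p = 1) :
    (3 ≤ n ∧ ∃ x y z : G, Subgroup.closure ({x, y, z} : Set G) = ⊤ ∧ x ^ p = 1 ∧ y ^ p = 1 ∧
        z ^ p ^ (n - 2) = 1 ∧ x * z = z * x ∧ y * z = z * y ∧ x⁻¹ * y * x = y * z ^ p ^ (n - 3)) ∨
    (4 ≤ n ∧ ∃ (s : ℕ) (x y z : G), (s = 1 ∨ ¬ IsSquare (s : ZMod p)) ∧
        Subgroup.closure ({x, y, z} : Set G) = ⊤ ∧ x ^ p = 1 ∧ y ^ p = 1 ∧ z ^ p ^ (n - 2) = 1 ∧
        y * z = z * y ∧ x⁻¹ * y * x = y * z ^ (s * p ^ (n - 3)) ∧ x⁻¹ * z * x = y * z) := by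
  have hP : IsPGroup p G := IsPGroup.of_card hG
  haveI := hP.isNilpotent
  have hp1 := hp.out.one_lt
  have hpow : ∀ {a b : ℕ}, a < b → p ^ a < p ^ b := fun h => Nat.pow_lt_pow_right hp1 h
  have hlt : ∀ {A B : Subgroup G}, A ≤ B → Nat.card A < Nat.card B → ∃ y ∈ B, y ∉ A :=
    fun hAB hc => SetLike.exists_of_lt (lt_of_le_of_ne hAB (by rintro rfl; omega))
  have hsup : ∀ {A B : Subgroup G}, A ≤ B → Nat.card B = p * Nat.card A → ∀ y ∈ B, y ∉ A →
      A ⊔ zpowers y = B := fun hAB hc y hy hyA =>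
    S3806.eq_sup_of_card hAB hc hy hyA (hP.to_subgroup _)
  obtain ⟨Z, hZn, hZE, hZ⟩ := PG.exists_normal_le_card_eq_pow hP E (k := 1)
    (by rw [hE]; exact (hpow (by norm_num)).le)
  rw [pow_one] at hZ
  have hcZ : ∀ w ∈ Z, ∀ g, Commute g w := fun w hw =>
    PG.commute_of_mem_center (PG.le_center_of_card_prime hp.out Z hZ hw)
  obtain ⟨V, hVn, hZV, hVE, hV, hVc⟩ := PG.exists_normal_card_eq_mul hP Z E
    (lt_of_le_of_ne hZE (by
      rintro rfl
      have := hpow (show 1 < 3 by norm_num)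
      rw [pow_one] at this; omega))
  rw [hZ] at hV
  have hEV : Nat.card E = p * Nat.card V := by rw [hE, hV]; ring
  have hVlt : Nat.card V < Nat.card E := by
    rw [hE, hV, ← sq]; exact hpow (by norm_num)
  obtain ⟨K, -, -, hKE, hK, hEc⟩ := PG.exists_normal_card_eq_mul hP V E
    (lt_of_le_of_ne hVE (by rintro rfl; omega))
  rw [PG.eq_of_le_of_card_le hKE (by rw [hK, hEV])] at hEc
  clear hK hKE K
  set A := centralizer (V : Set G) with hA
  have hcV : ∀ v ∈ V, v ∉ Z → ∀ g, Commute v g → g ∈ A := by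
    intro v hv hvZ g hg
    rw [hA, ← hsup hZV (by rw [hV, hZ]) v hv hvZ, PG.centralizer_sup_zpowers]
    exact ⟨mem_centralizer_iff.2 fun w hw => (hcZ w hw g).symm.eq,
      mem_centralizer_singleton_iff.2 hg.symm.eq⟩
  have hVA : V ≤ A := fun w hw => by
    by_cases hwZ : w ∈ Z
    · exact mem_centralizer_iff.2 fun g _ => (hcZ w hwZ g).eq
    · exact hcV w hw hwZ w (Commute.refl w)
  have hΩ : ∀ a ∈ A, a ^ p = 1 → a ∈ V := by
    intro a ha hap
    by_contra haV
    have h1 := hrk (V ⊔ zpowers a) (PG.isMulCommutative_sup_zpowers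
      (PG.isMulCommutative_iff_le_centralizer.2 hVA) ha) fun g hg => by
        rw [PG.mem_sup_zpowers_of_mem_normalizer (by rw [normalizer_eq_top]; trivial)] at hg
        obtain ⟨v, hv, i, rfl⟩ := hg
        have hc : Commute v a := mem_centralizer_iff.1 ha v hv
        rw [(hc.zpow_right i).mul_pow, hEp v (hVE hv), ← zpow_natCast, zpow_comm, zpow_natCast,
          hap]
        simp
    rw [PG.card_sup_zpowers hp.out (by rw [normalizer_eq_top]; trivial) haV (hap ▸ one_mem _),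
      ← hEV, hE] at h1
    exact absurd (hpow (show 2 < 3 by norm_num)) (not_lt.2 h1)
  obtain ⟨x, hxE, hxV⟩ := hlt hVE hVlt
  have hxA : x ∉ A := fun e => hxV (hΩ x e (hEp x hxE))
  have key : ∀ w ∈ V, Commute w x → w ∈ Z := fun w hw hc => by
    by_contra hwZ
    exact hxA (hcV w hw hwZ x hc)
  obtain ⟨v, hv, hvZ⟩ := hlt hZV (by rw [hV, hZ]; nlinarith)
  have hAi : A.index = p := by
    have h1 := PG.relIndex_centralizer_le (H := ⊤) (B := Z) (x := v) fun g _ => by
      rw [← commutatorElement_inv]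
      exact inv_mem (hVc (commutator_mem_commutator hv (mem_top g)))
    rw [relIndex_top_right, hZ] at h1
    have h2 : A.index ≤ p := by
      refine le_trans (Nat.le_of_dvd (Nat.pos_of_ne_zero index_ne_zero_of_finite)
        (index_dvd_of_le fun g hg => hcV v hv hvZ g ?_)) h1
      exact (mem_centralizer_singleton_iff.1 hg).symm
    obtain ⟨k, hk⟩ := hP.index A
    have h3 : A.index ≠ 1 := fun e => hxA (index_eq_one.1 e ▸ mem_top x)
    rw [hk] at h2 h3 ⊢
    have : k ≤ 1 := (Nat.pow_le_pow_iff_right hp1).1 (by simpa using h2)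
    interval_cases k
    · simp at h3
    · simp
  have hfV : ∀ a : G, a⁻¹ * x⁻¹ * a * x ∈ V := fun a => by
    have := inv_mem (hEc (commutator_mem_commutator (inv_mem hxE) (mem_top a⁻¹)))
    rw [commutatorElement_inv, commutatorElement_def, inv_inv, inv_inv] at this
    exact this
  have hfZ : ∀ a ∈ V, a⁻¹ * x⁻¹ * a * x ∈ Z := fun a ha => by
    have := hVc (commutator_mem_commutator (inv_mem ha) (mem_top x⁻¹))
    rw [commutatorElement_def, inv_inv, inv_inv] at this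
    exact this
  let f : A →* G := MonoidHom.mk' (fun a => (a : G)⁻¹ * x⁻¹ * a * x) fun a b => by
    have e := mem_centralizer_iff.1 b.2 _ (hfV a)
    simp only [Subgroup.coe_mul]
    calc _ = (b : G)⁻¹ * ((a : G)⁻¹ * x⁻¹ * a * x * b) * ((b : G)⁻¹ * x⁻¹ * b * x) := by group
      _ = _ := by rw [e]; group
  have hf : ∀ a : A, f a = (a : G)⁻¹ * x⁻¹ * a * x := fun a => rfl
  have hf1 : ∀ a : G, a⁻¹ * x⁻¹ * a * x = 1 ↔ Commute a x := fun a => by
    rw [← Commute.inv_inv_iff, ← commutatorElement_eq_one_iff_commute, commutatorElement_def,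
      inv_inv, inv_inv]
  have hZgen : ∀ w ∈ Z, w ≠ 1 → zpowers w = Z := fun w hw hw1 => by
    simpa using hsup (A := ⊥) bot_le (by simp [hZ]) w hw hw1
  have hZR : ∀ w ∈ Z, ∃ y ∈ V, y⁻¹ * x⁻¹ * y * x = w := by
    intro w hw
    rw [← hZgen _ (hfZ v hv) fun e => hvZ (key v hv ((hf1 v).1 e))] at hw
    obtain ⟨k, rfl⟩ := hw
    exact ⟨v ^ k, zpow_mem hv k, map_zpow f ⟨v, hVA hv⟩ k⟩
  set C := A ⊓ centralizer {x} with hC
  have hZC : Z ≤ C := fun w hw =>
    ⟨hVA (hZV hw), mem_centralizer_singleton_iff.2 (hcZ w hw x).symm.eq⟩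
  have hCA : Nat.card A = Nat.card C * Nat.card f.range := by
    rw [← f.ker.card_mul_index, index_ker, ← card_subtype A f.ker]
    congr 3
    ext g
    constructor
    · rintro ⟨a, ha, rfl⟩
      exact ⟨a.2, mem_centralizer_singleton_iff.2 ((hf1 a).1 ha).eq⟩
    · rintro ⟨h1, h2⟩
      exact ⟨⟨g, h1⟩, (hf1 g).2 (mem_centralizer_singleton_iff.1 h2), rfl⟩
  have hAn : p * Nat.card A = p ^ n := by rw [← hG, ← A.index_mul_card, hAi]
  have hodd : ∀ B : Subgroup G, Odd (Nat.card B) := fun B => by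
    obtain ⟨k, hk⟩ := PG.card_eq_pow_of_isPGroup (hP.to_subgroup B)
    rw [hk]; exact (hp.out.odd_of_ne_two hp2).pow
  -- the common end of the two cases
  have fin : ∀ B : Subgroup G, B ≤ A → Z ≤ B → (∀ w ∈ B, w ∈ V → w ∈ Z) →
      Nat.card A = p * Nat.card B → 3 ≤ n ∧ ∃ z, zpowers z = B ∧ z ^ p ^ (n - 2) = 1 ∧
        zpowers (z ^ p ^ (n - 3)) = Z ∧ ∀ x' y : G, x' ∉ A → y ∈ V → y ∉ Z →
          Subgroup.closure ({x', y, z} : Set G) = ⊤ := by
    intro B hBA hZB hBV hB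
    obtain ⟨z, hz, ho⟩ := PG.exists_orderOf_eq_of_isCyclic
      (FT.odd_pgroup_cyclic_of_Ohm1_le (hP.to_subgroup B) (hodd B) hZ.le
        fun w hw hwp => hBV w hw (hΩ w (hBA hw) hwp))
    obtain ⟨k, hk⟩ := PG.card_eq_pow_of_isPGroup (hP.to_subgroup B)
    have hk1 : 1 ≤ k := by
      have := card_le_of_le hZB
      rw [hZ, hk] at this
      exact (Nat.pow_le_pow_iff_right hp1).1 (by simpa using this)
    obtain ⟨k, rfl⟩ : ∃ j, k = j + 1 := ⟨k - 1, by omega⟩
    have hn : n = k + 3 := by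
      rw [hB, hk] at hAn
      exact Nat.pow_right_injective hp1 (by simp only; rw [← hAn]; ring)
    subst hn
    have h1 : z ^ p ^ (k + 1) = 1 := by rw [← hk, ← ho]; exact pow_orderOf_eq_one z
    have hzB : z ∈ B := hz ▸ mem_zpowers z
    refine ⟨by omega, z, hz, h1, hZgen _ (hBV _ (pow_mem hzB _) (hΩ _ (hBA (pow_mem hzB _))
      (by rw [← pow_mul, ← pow_succ]; exact h1))) fun e => ?_, fun x' y hx' hy hyZ => ?_⟩
    · have := orderOf_dvd_of_pow_eq_one e
      rw [ho, hk] at this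
      exact absurd (Nat.le_of_dvd (pow_pos hp.out.pos _) this) (not_le.2 (hpow (by omega)))
    · rw [eq_top_iff, ← PG.sup_zpowers_eq_top_of_index_prime hp.out hAi hx',
        ← hsup hBA hB y (hVA hy) (fun e => hyZ (hBV y e hy)), ← hz]
      refine sup_le (sup_le ?_ ?_) ?_ <;> exact zpowers_le.2 (subset_closure (by simp))
  by_cases hR : f.range ≤ Z
  · have hR' : f.range = Z := le_antisymm hR fun w hw => by
      obtain ⟨y, hy, e⟩ := hZR w hw
      exact ⟨⟨y, hVA hy⟩, e⟩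
    obtain ⟨h3, z, hz, h1, h2, h4⟩ := fin C inf_le_left hZC
      (fun w hw hwV => key w hwV (mem_centralizer_singleton_iff.1 hw.2))
      (by rw [hCA, hR', hZ, mul_comm])
    obtain ⟨y, hy, e⟩ := hZR _ (h2 ▸ mem_zpowers _)
    have hzC : z ∈ C := hz ▸ mem_zpowers z
    refine .inl ⟨h3, x, y, z, h4 x y hxA hy fun hyZ => ?_, hEp x hxE, hEp y (hVE hy), h1,
      (mem_centralizer_singleton_iff.1 hzC.2).symm, mem_centralizer_iff.1 hzC.1 y hy,
      by rw [← e]; group⟩
    rw [(hf1 y).2 (hcZ y hyZ x).symm] at e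
    rw [← e, zpowers_one_eq_bot] at h2
    rw [← h2] at hZ
    simp only [card_bot] at hZ
    omega
  · obtain ⟨_, ⟨a, rfl⟩, ha⟩ := SetLike.not_le_iff_exists.1 hR
    have hR' : f.range = V := by
      refine le_antisymm (by rintro _ ⟨b, rfl⟩; exact hfV b) ?_
      rw [← hsup hZV (by rw [hV, hZ]) _ (hfV a) ha]
      refine sup_le (fun w hw => ?_) (zpowers_le.2 ⟨a, rfl⟩)
      obtain ⟨y, hy, e⟩ := hZR w hw
      exact ⟨⟨y, hVA hy⟩, e⟩
    have hCE : C = centralizer (E : Set G) := by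
      rw [← hsup hVE hEV x hxE hxV, PG.centralizer_sup_zpowers]
    haveI : C.Normal := by rw [hCE]; infer_instance
    have haC : (a : G) ∉ C := fun e =>
      ha (by rw [hf, (hf1 a).2 (mem_centralizer_singleton_iff.1 e.2)]; exact one_mem _)
    have hap : (a : G) ^ p ∈ C := ⟨pow_mem a.2 p, mem_centralizer_singleton_iff.2
      ((hf1 _).1 ((map_pow f a p).trans (hEp _ (hVE (hfV a))))).eq⟩
    have hB := PG.card_sup_zpowers hp.out (by rw [normalizer_eq_top]; trivial) haC hap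
    have hBA : C ⊔ zpowers (a : G) ≤ A := sup_le inf_le_left (zpowers_le.2 a.2)
    have hgen : ∀ w : A, f w ∈ Z → ¬ C ⊔ zpowers (a : G) ≤ C ⊔ zpowers (w : G) := by
      intro w hw hle
      have := hle (mem_sup_right (mem_zpowers (a : G)))
      rw [PG.mem_sup_zpowers_of_mem_normalizer (by rw [normalizer_eq_top]; trivial)] at this
      obtain ⟨c, hc, i, e⟩ := this
      apply ha
      have e' : a = ⟨c, hc.1⟩ * w ^ i := Subtype.ext e.symm
      rw [e', map_mul, map_zpow, hf, (hf1 c).2 (mem_centralizer_singleton_iff.1 hc.2), one_mul]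
      exact zpow_mem hw i
    obtain ⟨h3, z, hz, h1, h2, h4⟩ := fin (C ⊔ zpowers (a : G)) hBA (hZC.trans le_sup_left)
      (fun w hw hwV => by
        by_contra hwZ
        exact hgen ⟨w, hVA hwV⟩ (hfZ w hwV) (hsup le_sup_left hB w hw fun e =>
          hwZ (key w hwV (mem_centralizer_singleton_iff.1 e.2))).ge)
      (by rw [hCA, hR', hV, hB]; ring)
    have hzA : z ∈ A := hBA (hz ▸ mem_zpowers z)
    set y := z⁻¹ * x⁻¹ * z * x with hy
    have hyV : y ∈ V := hfV z
    have hyZ : y ∉ Z := fun e => hgen ⟨z, hzA⟩ e (hz ▸ le_sup_right)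
    have h4n : 4 ≤ n := by
      have h5 := card_le_of_le hZC
      rw [hCA, hR', hV] at hAn
      rw [← Nat.pow_le_pow_iff_right hp1, ← hAn]
      calc p ^ 4 = p * (p * (p * p)) := by ring
        _ ≤ _ := by rw [hZ] at h5; gcongr
    set z0 := z ^ p ^ (n - 3) with hz0
    have hz0Z : z0 ∈ Z := h2 ▸ mem_zpowers _
    have hz0p : z0 ^ p = 1 := hEp _ (hZE hz0Z)
    obtain ⟨t, ht⟩ : ∃ t : ℕ, z0 ^ t = y⁻¹ * x⁻¹ * y * x := by
      have := hfZ y hyV
      rw [← h2] at this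
      exact mem_powers_iff_mem_zpowers.2 this
    have hyx : x⁻¹ * y * x = y * z0 ^ t := by rw [ht]; group
    have hyz : Commute y z := mem_centralizer_iff.1 hzA y hyV
    refine .inr ⟨h4n, ?_⟩
    by_cases hsq : IsSquare (t : ZMod p)
    swap
    · exact ⟨t, x, y, z, .inr hsq, h4 x y hxA hyV hyZ, hEp x hxE, hEp y (hVE hyV), h1, hyz.eq,
        by rw [hyx, mul_comm t, pow_mul], by rw [hyz.eq, hy]; group⟩
    obtain ⟨r, hr⟩ := hsq
    have hr0 : r ≠ 0 := by
      rintro rfl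
      rw [mul_zero, ZMod.natCast_eq_zero_iff] at hr
      obtain ⟨j, rfl⟩ := hr
      rw [pow_mul, hz0p, one_pow] at ht
      exact hyZ (key y hyV ((hf1 y).1 ht.symm))
    set i := (r⁻¹).val with hi
    have hti : t * i * i ≡ 1 [MOD p] := by
      rw [← ZMod.natCast_eq_natCast_iff]
      push_cast
      rw [hi, ZMod.natCast_zmod_val, hr]
      field_simp
    have hpi : ¬ p ∣ i := fun e => by
      have := (Nat.modEq_zero_iff_dvd.2 (e.mul_left (t * i))).symm.trans hti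
      exact hp1.ne' (Nat.dvd_one.1 ((Nat.modEq_iff_dvd' zero_le_one).1 this))
    have e1 : ∀ j : ℕ, (x ^ j)⁻¹ * y * x ^ j = y * z0 ^ (t * j) := fun j => by
      induction j with
      | zero => simp
      | succ j ih =>
        rw [show (x ^ (j + 1))⁻¹ * y * x ^ (j + 1) = x⁻¹ * ((x ^ j)⁻¹ * y * x ^ j) * x by group,
          ih, mul_assoc, mul_assoc, ← ((hcZ _ hz0Z x).pow_right _).eq, ← mul_assoc, ← mul_assoc,
          hyx, mul_assoc, ← pow_add]
        congr 2; ring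
    have e2 : ∀ j : ℕ, ∃ w ∈ Z, (x ^ j)⁻¹ * z * x ^ j = z * (y ^ j * w) := fun j => by
      induction j with
      | zero => exact ⟨1, one_mem _, by simp⟩
      | succ j ih =>
        obtain ⟨w, hw, ih⟩ := ih
        refine ⟨(z0 ^ t) ^ j * w, mul_mem (pow_mem (pow_mem hz0Z _) _) hw, ?_⟩
        rw [show (x ^ (j + 1))⁻¹ * z * x ^ (j + 1) = x⁻¹ * ((x ^ j)⁻¹ * z * x ^ j) * x by group,
          ih, show x⁻¹ * (z * (y ^ j * w)) * x = z * y * (x⁻¹ * y * x⁻¹⁻¹) ^ j * (x⁻¹ * (w * x))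
            by rw [conj_pow, hy]; group, ← (hcZ w hw x).eq, inv_inv, hyx,
          ((hcZ _ hz0Z y).pow_right t).mul_pow]
        group
    obtain ⟨w, hw, e3⟩ := e2 i
    have hwV : y ^ i * w ∈ V := mul_mem (pow_mem hyV i) (hZV hw)
    have hc : Commute (y ^ i * w) z := mem_centralizer_iff.1 hzA _ hwV
    refine ⟨1, x ^ i, y ^ i * w, z, .inl rfl, h4 _ _ (fun e => hpi ?_) hwV fun e => hpi ?_,
      hEp _ (pow_mem hxE i), hEp _ (hVE hwV), h1, hc.eq, ?_, by rw [e3, hc.eq]⟩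
    · exact_mod_cast (PG.zpow_mem_iff_of_pow_prime_mem hp.out hxA
        (hEp x hxE ▸ one_mem _) i).1 (by exact_mod_cast e)
    · exact_mod_cast (PG.zpow_mem_iff_of_pow_prime_mem hp.out hyZ
        (hEp y (hVE hyV) ▸ one_mem _) i).1 (by exact_mod_cast (mul_mem_cancel_right hw).1 e)
    · rw [one_mul, show (x ^ i)⁻¹ * (y ^ i * w) * x ^ i =
        ((x ^ i)⁻¹ * y * (x ^ i)⁻¹⁻¹) ^ i * ((x ^ i)⁻¹ * (w * x ^ i)) by rw [conj_pow]; group,
        ← (hcZ w hw (x ^ i)).eq, inv_inv, e1, ((hcZ _ hz0Z y).pow_right _).mul_pow, ← pow_mul,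
        (pow_eq_pow_of_modEq hti hz0p), pow_one, inv_mul_cancel_left, mul_assoc, mul_assoc,
        (hcZ w hw z0).eq]

end aux

open Subgroup Cfsg.Agent.GT Cfsg.Agent.FG in
open scoped commutatorElement in
/-- The classification of the p-groups of rank at most two for odd p. Let p be an odd prime and G a group of order p^n with no elementary abelian subgroup of order p³. Then one of the following holds: G is metacyclic; n ≥ 3 and G is generated by elements x, y, z with x^p = y^p = z^(p^(n−2)) = 1, z commuting with x and y, and x⁻¹yx = y z^(p^(n−3)); n ≥ 4 and G is generated by elements x, y, z with x^p = y^p = z^(p^(n−2)) = 1, yz = zy, x⁻¹yx = y z^(s p^(n−3)) and x⁻¹zx = yz, where s = 1 or s is a quadratic non-residue modulo p; or p = 3 and G has maximal class (nilpotency class n − 1). -/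
theorem result {G : Type*} [Group G] [Finite G] {p : ℕ} [Fact p.Prime] (hp : p ≠ 2) (n : ℕ) (hG : Nat.card G = p ^ n)
    (hrk : Cfsg.PRankLE p 2 G) :
    Cfsg.IsMetacyclic G ∨
    (3 ≤ n ∧ ∃ x y z : G, Subgroup.closure ({x, y, z} : Set G) = ⊤ ∧ x ^ p = 1 ∧ y ^ p = 1 ∧ z ^ p ^ (n - 2) = 1 ∧
        x * z = z * x ∧ y * z = z * y ∧ x⁻¹ * y * x = y * z ^ p ^ (n - 3)) ∨
    (4 ≤ n ∧ ∃ (s : ℕ) (x y z : G), (s = 1 ∨ ¬ IsSquare (s : ZMod p)) ∧ Subgroup.closure ({x, y, z} : Set G) = ⊤ ∧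
        x ^ p = 1 ∧ y ^ p = 1 ∧ z ^ p ^ (n - 2) = 1 ∧ y * z = z * y ∧ x⁻¹ * y * x = y * z ^ (s * p ^ (n - 3)) ∧
        x⁻¹ * z * x = y * z) ∨
    (p = 3 ∧ 2 ≤ n ∧ (⊤ : Subgroup G).lowerCentralSeries (n - 2) ≠ ⊥) := by
  have hP : IsPGroup p G := IsPGroup.of_card hG
  have hp1 := (Fact.out : p.Prime).one_lt
  by_cases hE : ∃ E : Subgroup G, E.Normal ∧ (∀ x ∈ E, x ^ p = 1) ∧ p ^ 2 < Nat.card E
  · obtain ⟨E, hEn, hEp, hE⟩ := hE
    have h1 := S3771.result (hP.to_subgroup E) (hrk.subgroup E)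
      fun x => Subtype.ext (hEp x x.2)
    obtain ⟨k, hk⟩ := PG.card_eq_pow_of_isPGroup (hP.to_subgroup E)
    rw [hk, Nat.pow_lt_pow_iff_right hp1] at hE
    rw [hk, Nat.pow_le_pow_iff_right hp1] at h1
    obtain rfl : k = 3 := by omega
    rcases caseA hp n hG hrk E hk hEp with h | h
    · exact .inr (.inl h)
    · exact .inr (.inr (.inl h))
  push Not at hE
  by_cases h3 : p = 3
  · subst h3
    rcases R2.H3.metacyclic_or_maxClass n G hG hE with h | ⟨m, rfl, h⟩
    · exact .inl h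
    · refine .inr (.inr (.inr ⟨rfl, by omega, fun e => ?_⟩))
      haveI := hP.isNilpotent
      have := Subgroup.lowerCentralSeries_eq_bot_iff_nilpotencyClass_le.1 e
      omega
  have hp3 : 3 < p := by omega
  refine .inl (S0639.result hp3 hP (hE _ ?_ fun x hx => S0128.result hp3 hP
    (fun E hE => hrk E hE.1 hE.2) x (closure_mono (fun y hy => hy.2) hx)))
  refine ⟨fun x hx g => ?_⟩
  induction hx using closure_induction with
  | mem y hy => exact subset_closure ⟨mem_top _, by rw [conj_pow, hy.2]; simp⟩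
  | one => simp
  | mul a b _ _ ha hb => simpa [conj_mul] using mul_mem ha hb
  | inv a _ ha => simpa [mul_assoc] using inv_mem ha

end Cfsg.Agent.S3888
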