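import Cfsg.Statements.S5269
import Cfsg.Agent.MxE.Main
import Cfsg.Agent.MxE.Mod
import Cfsg.Agent.MxE.Max

set_option autoImplicit false
open Cfsg

namespace Cfsg.Agent.S5269

open Subgroup Cfsg.FusionSystem Cfsg.Agent.MxE Cfsg.Agent.GT Cfsg.Agent.Fus

theorem card_centralizer_le_of_surjective {A B : Type*} [Group A] [Group B] [Finite A]
    (θ : A →* B) (hθ : Function.Surjective θ) (x : A) :
    Nat.card (centralizer {θ x}) ≤ Nat.card (centralizer {x}) := by
  refine le_trans (le_of_eq ?_) (PG.card_centralizer_mk_le θ.ker x)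
  let e := QuotientGroup.quotientKerEquivOfSurjective θ hθ
  have he : e (x : A ⧸ θ.ker) = θ x := rfl
  refine (Nat.card_congr (e.toEquiv.subtypeEquiv fun y => ?_)).symm
  rw [mem_centralizer_singleton_iff, mem_centralizer_singleton_iff, ← he, MulEquiv.toEquiv_eq_coe,
    MulEquiv.coe_toEquiv, ← map_mul, ← map_mul, e.apply_eq_iff_eq]

theorem not_sq_dvd {Ω : Type*} [Group Ω] {S E : Subgroup Ω} [Finite S] {p : ℕ} [Fact p.Prime]
    (hp : 5 ≤ p) (hS : IsPGroup p S) {n : ℕ} (hn : Nat.card S = p ^ (n + 3))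
    (hc : Group.nilpotencyClass S = n + 2) {F : FusionSystem S} (hF : F.IsSaturated p)
    (hE : F.IsEssential p E) (hEn : (E.subgroupOf S).Normal) :
    ¬ p ^ 2 ∣ (E.subgroupOf S).index := fun hi => by
  have hp1 : p.Prime := Fact.out
  obtain ⟨H, _, _, T, V, _, θ, hθ, -, hV, hle, hel, hC, M, hM⟩ := exists_model hS hF hE
  have hN : S ≤ normalizerIn S E :=
    le_inf le_rfl ((normal_subgroupOf_iff_le_normalizer hE.le).1 hEn)
  let θ' : S →* (T : Subgroup H) := θ.comp (inclusion hN)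
  have hθ' : Function.Surjective θ' := fun y => by
    obtain ⟨x, rfl⟩ := hθ y
    exact ⟨⟨x, x.2.1⟩, rfl⟩
  have hidx : V.relIndex (T : Subgroup H) = (E.subgroupOf S).index := by
    rw [relIndex, ← index_comap_of_surjective _ hθ']
    congr 1
    ext x
    exact hV (inclusion hN x)
  obtain ⟨a, ha⟩ := T.isPGroup'.exists_card_eq
  obtain ⟨b, hb⟩ := (T.isPGroup'.to_le hle).exists_card_eq
  have hb1 : b ≠ 0 := by
    rintro rfl
    have hV0 : V = ⊥ := card_eq_one.1 (by simpa using hb)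
    have htop : (⊤ : Subgroup H) ≤ V := fun g _ => hC fun y hy => by
      rw [hV0] at hy
      obtain rfl : y = 1 := hy
      simp
    rw [← hidx, relIndex_eq_one.2 (le_top.trans htop)] at hi
    exact absurd (Nat.le_of_dvd one_pos hi) (by nlinarith)
  have ha3 : 3 ≤ a := by
    have h1 := card_mul_index (V.subgroupOf (T : Subgroup H))
    rw [Nat.card_congr (subgroupOfEquivOfLe hle).toEquiv, hb, ha] at h1
    have h2 : p ^ (b + 2) ∣ p ^ a := by
      rw [← h1, pow_add]
      exact Nat.mul_dvd_mul_left _ (hi.trans (dvd_of_eq hidx.symm))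
    have := (Nat.pow_dvd_pow_iff_le_right hp1.one_lt).1 h2
    omega
  obtain ⟨r, rfl⟩ : ∃ r, a = r + 3 := ⟨a - 3, by omega⟩
  have : Nontrivial S := Finite.one_lt_card_iff_nontrivial.1
    (hn ▸ Nat.one_lt_pow (by omega) hp1.one_lt)
  obtain ⟨x, -, hx1, hx⟩ := FG.MxC.exists_uniform hn hc (M := ⊥) bot_ne_top
  have hcl : Group.nilpotencyClass (T : Subgroup H) = r + 1 + 1 :=
    PG.nilpotencyClass_eq_of_card_centralizer_le (n := r + 1) ha (x := θ' x)
      ((card_centralizer_le_of_surjective θ' hθ' x).trans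
        (FG.MxC.card_centralizer_eq hn hc hx1 hx).le)
  exact no_normal hp T ha hcl hel hle hC (hidx ▸ hi) hM

/-- Let p ≥ 5 be a prime, S a finite p-group of maximal class of order p^n with n ≥ 4, F a saturated fusion system over S, and E an F-essential subgroup that is normal in S. Then E has index p in S; moreover E is the two-step centralizer Γ₁ = C_S([S,S]/γ₄(S)) or E = C_S(Z₂(S)), unless S has order p^4 and E is extraspecial of order p³ and exponent p. -/
theorem result {Ω : Type*} [Group Ω] {S : Subgroup Ω} [Finite S] (p : ℕ) [Fact p.Prime] (hS : IsPGroup p ↥S) (n : ℕ) (hn : Nat.card S = p ^ n) (h4 : 4 ≤ n) (hmax : Subgroup.lowerCentralSeries S (n - 2) ≠ ⊥) (F : Cfsg.FusionSystem S) (hF : F.IsSaturated p) (hp : 5 ≤ p) (Γ₁ : Subgroup Ω) (hΓ₁ : ∀ x : Ω, x ∈ Γ₁ ↔ x ∈ S ∧ ∀ y ∈ Subgroup.lowerCentralSeries S 1, x * y * x⁻¹ * y⁻¹ ∈ Subgroup.lowerCentralSeries S 3) (E : Subgroup Ω) (hE : F.IsEssential p E) (hEn : (E.subgroupOf S).Normal) : (E.subgroupOf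 S).index = p ∧ (E = Γ₁ ∨ E = (S ⊓ Subgroup.centralizer (((Subgroup.upperCentralSeries ↥S 2).map S.subtype) : Set Ω)) ∨ (n = 4 ∧ Nat.card ↥E = p ^ 3 ∧ Cfsg.IsExtraspecial p ↥E ∧ Monoid.exponent ↥E = p)) := by
  have hp1 : p.Prime := Fact.out
  obtain ⟨m, rfl, hn', hc⟩ := FG.MxC.nilpotencyClass_of_lcs hn (by omega) hmax
  have hi : (E.subgroupOf S).index = p := by
    obtain ⟨r, hr⟩ := hS.index (E.subgroupOf S)
    have h1 := not_sq_dvd hp hS hn' hc hF hE hEn
    rw [hr, Nat.pow_dvd_pow_iff_le_right hp1.one_lt] at h1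
    obtain rfl | rfl : r = 0 ∨ r = 1 := by omega
    · exact absurd (subgroupOf_eq_top.1 (index_eq_one.1 (by simpa using hr)))
        (hF.lt_of_isEssential hS hE).2
    · simpa using hr
  refine ⟨hi, ?_⟩
  rw [eq_map_C_one hΓ₁, eq_map_C_last hn' hc (by omega)]
  rcases of_index_eq hp hn' hc (by omega) hF hE hi with h | h | ⟨h1, h2⟩
  · exact .inl h
  · exact .inr (.inl h)
  · exact .inr (.inr ⟨by omega, h2⟩)

end Cfsg.Agent.S5269
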