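import Mathlib
import Cfsg.Statements.S4040
import Cfsg.Agent.GT.NilpotentMaximal
import Cfsg.Agent.GT.Thompson
import Cfsg.Agent.S0108

set_option autoImplicit false
open Cfsg

namespace Cfsg.Agent.S4040

theorem aux {G : Type*} [Group G] [Finite G] {M : Subgroup G} (hM : IsCoatom M)
    (hc : M.normalCore = ⊥) [Group.IsNilpotent M] (hodd : Odd (Nat.card M)) :
    Group.IsSolvable G := by
  have hco := GT.NM.coprime_index hM hc
  obtain ⟨N, hNn, hN⟩ := GT.Tr.exists_normal_complement_of_forall_prime M hco fun p hp hd => by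
    have := Fact.mk hp
    obtain ⟨S, hS⟩ := GT.NM.exists_sylow hM hc hd
    have hp2 : p ≠ 2 := by
      rintro rfl
      exact (Nat.not_even_iff_odd.2 hodd) (even_iff_two_dvd.2 hd)
    have hS0 : (S : Subgroup G) ≠ ⊥ := hS ▸ GT.NM.pCoreOf_ne_bot hp hd
    have hSM : (S : Subgroup G) ≤ M := hS ▸ GT.pCoreOf_le M
    have hMS : M ≤ Subgroup.normalizer ((S : Subgroup G) : Set G) :=
      hS ▸ GT.le_normalizer_pCoreOf M
    refine (S0108.result hp2 S).2 ⟨?_, ?_⟩
    · rw [GT.thompsonSubgroupOf_eq, GT.NM.normalizer_eq hM hc ((GT.thJ_le p _).trans hSM)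
        (GT.thJ_ne_bot dvd_rfl S.2 hS0) (hMS.trans (GT.normalizer_le_normalizer_thJ p _))]
      exact GT.Tr.hasNormalPComplement_of_isNilpotent inferInstance
    · have := S.2.isNilpotent
      have hZ : (S : Subgroup G) ⊓ Subgroup.centralizer ((S : Subgroup G) : Set G) ≠ ⊥ := by
        obtain ⟨n, hn⟩ := GT.PG.exists_iterCommutator_eq_bot_of_isNilpotent (S := (S : Subgroup G))
          le_rfl le_rfl
        exact GT.PG.inf_centralizer_ne_bot_of_iterCommutator hn Subgroup.le_normalizer hS0
      have h1 := GT.NM.normalizer_eq hM hc (inf_le_left.trans hSM) hZ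
        (GT.PG.le_normalizer_inf hMS (GT.PG.le_normalizer_centralizer hMS))
      have h2 := (GT.PG.centralizer_le_normalizer' _).trans h1.le
      exact GT.Tr.hasNormalPComplement_of_isNilpotent (GT.isNilpotent_of_le h2)
  exact GT.NM.isSolvable_of_complement hM hco hN

/-- A finite group possessing a maximal subgroup that is nilpotent of odd order is solvable. -/
theorem result {G : Type*} [Group G] [Finite G]
    (M : Subgroup G) (hmax : IsCoatom M) (hnil : Group.IsNilpotent M) (hodd : Odd (Nat.card M)) :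
    Group.IsSolvable G := by

  have := GT.isNilpotent_map M (QuotientGroup.mk' M.normalCore)
  have := aux (GT.SS.isCoatom_map_mk' hmax (Subgroup.normalCore_le M))
    (GT.NM.normalCore_map_eq_bot M) (hodd.of_dvd_nat (Subgroup.card_map_dvd _ _))
  exact GT.NM.isSolvable_of_quotient_normalCore M

end Cfsg.Agent.S4040
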