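import Mathlib
-- Template for statement S0999 (row 999; see /opt/grader/pristine/manifest.json for weights).
-- Copy to Cfsg/Agent/S0999.lean and replace the sorry. The statement below is byte-identical to the frozen
-- statement Cfsg.CfsgFrozen.S0999 (Cfsg/Statements/S0999.lean; the theorem Cfsg.brauer_reynolds_large_prime_divisor);
-- the grader kernel-checks Cfsg.Agent.S0999.result against that frozen type. Keep the theorem IN THIS FILE
-- (a `result` declared elsewhere and merely imported here is not credited); helpers may live anywhere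
-- under Cfsg/Agent/.
import Cfsg.Statements.S0999
import Cfsg.Agent.Blk.OneBR4

set_option autoImplicit false
set_option linter.style.haveILetI false
set_option linter.unusedVariables false
open Cfsg

namespace Cfsg.Agent.S0999


/-- Let G be a non-cyclic finite simple group and p a prime divisor of its order with p^3 > |G|. Then p > 3 and G is isomorphic to the projective special linear group of dimension 2 over the field with p elements, or p - 1 is a power of 2 and G is isomorphic to that group over the field with p - 1 elements. -/
theorem result {G : Type*} [Group G] [Finite G] [IsSimpleGroup G] (hG : ¬ IsCyclic G) (p : ℕ) (hp : p.Prime) (hdvd : p ∣ Nat.card G) (hbig : Nat.card G < p ^ 3) : (∃ (F : Type) (_ : Field F) (_ : Fintype F), Fintype.card F = p ∧ 3 < p ∧ Nonempty (G ≃* Matrix.ProjectiveSpecialLinearGroup (Fin 2) F)) ∨ (∃ (m : ℕ) (F : Type) (_ : Field F) (_ : Fintype F), Fintype.card F = 2 ^ m ∧ p = 2 ^ m + 1 ∧ 3 < p ∧ Nonempty (G ≃* Matrix.ProjectiveSpecialLinearGroup (Fin 2) F)) := by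
  open Cfsg.Agent.Blk.One in
  haveI := Fintype.ofFinite G
  haveI := Fact.mk hp
  obtain ⟨P⟩ : Nonempty (Sylow p G) := inferInstance
  have h1 : ¬ IsMulCommutative G := fun h =>
    hG (@IsSimpleGroup.isCyclic G { ‹Group G› with mul_comm := h.1.1 } _)
  have hperf := perfect_of_simple h1
  have hP : ¬ (P : Subgroup G).Normal := fun hn => by
    rcases hn.eq_bot_or_eq_top with h | h
    · exact P.ne_bot_of_dvd_card hdvd h
    · have h2 : IsPGroup p G := (h ▸ P.isPGroup').of_equiv Subgroup.topEquiv
      haveI := h2.isNilpotent
      exact h1 ⟨⟨IsSimpleGroup.comm_iff_isSolvable.2 inferInstance⟩⟩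
  obtain ⟨S, -⟩ := exists_setup P (card_sylow_eq_of_lt hdvd hbig P hP)
  obtain ⟨n, h⟩ := S.exists_index_N
  exact (S.br_core hperf (pPrimeCore_eq_bot_of_simple hdvd) h
    (S.not_rep_of_card hperf hbig h)).psl (MulEquiv.refl _)

end Cfsg.Agent.S0999
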