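import Cfsg.Statements.S3420
import Cfsg.Agent.Perm.PrimeGraph
import Cfsg.Agent.Perm.SpecSym
import Cfsg.Agent.Sym.PrimeCycle
import Cfsg.Agent.Sym.Order
import Cfsg.Agent.GT.CharSimple
import Cfsg.Agent.GT.Conj

set_option autoImplicit false
open Cfsg

namespace Cfsg.Agent.S3420

open Subgroup Cfsg.Agent.GT Cfsg.Agent.Perm Cfsg.Agent.Perm.PG

theorem adj_of_card_prime {G : Type*} [Group G] [Finite G] {P : Subgroup G} {p q : ℕ}
    (hp : p.Prime) (hq : q.Prime) (hpq : p ≠ q) (hP : Nat.card P = p) (hd : ¬ q ∣ p - 1)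
    (hN : q ∣ Nat.card (normalizer (P : Set G))) : ∃ x : G, orderOf x = p * q := by
  have := Fact.mk hp
  have := Fact.mk hq
  obtain ⟨y, hy⟩ := exists_prime_orderOf_dvd_card' q hN
  have hc : IsCyclic P := isCyclic_of_prime_card hP
  have h1 : P.normalizerMonoidHom y = 1 := by
    have h2 : orderOf (P.normalizerMonoidHom y) ∣ q := hy ▸ orderOf_map_dvd _ y
    have h3 := orderOf_dvd_natCard (P.normalizerMonoidHom y)
    rw [IsCyclic.card_mulAut, hP, Nat.totient_prime hp] at h3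
    rcases (Nat.dvd_prime hq).1 h2 with h | h
    · exact orderOf_eq_one_iff.1 h
    · exact absurd (h ▸ h3) hd
  obtain ⟨x, hx⟩ := exists_prime_orderOf_dvd_card' (G := P) p (hP ▸ dvd_rfl)
  have h4 : (y : G) * x * (y : G)⁻¹ = x := congrArg Subtype.val (DFunLike.congr_fun h1 x)
  refine exists_orderOf_of_commute (x := (x : G)) (y := (y : G)) ?_ ?_ ?_
    ((Nat.coprime_primes hp hq).2 hpq)
  · exact (mul_inv_eq_iff_eq_mul.1 h4).symm
  · rw [Subgroup.orderOf_coe, hx]
  · rw [Subgroup.orderOf_coe, hy]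

theorem card_eq_prime {G : Type*} [Group G] [Finite G] {P : Subgroup G} {p : ℕ} (hp : p.Prime)
    (hP : IsPGroup p P) (hne : P ≠ ⊥) (h2 : ¬ p * p ∣ Nat.card G) : Nat.card P = p := by
  have := Fact.mk hp
  obtain ⟨k, hk⟩ := IsPGroup.iff_card.1 hP
  rcases k with _ | _ | k
  · exact absurd (card_eq_one.1 hk) hne
  · simpa using hk
  · refine absurd (Dvd.dvd.trans ?_ (card_subgroup_dvd_card P)) h2
    rw [hk]
    exact ⟨p ^ k, by ring⟩

theorem adj_of_normal {G : Type*} [Group G] [Finite G] (N : Subgroup G) [N.Normal] {p q : ℕ}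
    (hp : p.Prime) (hq : q.Prime) (hpq : p ≠ q) (h1 : p ∣ Nat.card N) (h2 : ¬ p * p ∣ Nat.card G)
    (hd : ¬ q ∣ p - 1) (hN : q ∣ N.index) : ∃ x : G, orderOf x = p * q := by
  obtain ⟨P, -, hP, hne, hs⟩ := exists_frattini N hp h1
  refine adj_of_card_prime hp hq hpq (card_eq_prime hp hP hne h2) hd (hN.trans ?_)
  rw [← relIndex_eq_index_of_sup hs le_rfl]
  exact relIndex_dvd_card _ _

theorem card_alt (n : ℕ) (hn : 2 ≤ n) :
    2 * Nat.card (alternatingGroup (Fin n)) = n.factorial := by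
  have : Nontrivial (Fin n) := Fin.nontrivial_iff_two_le.2 hn
  rw [Nat.card_eq_fintype_card, two_mul_card_alternatingGroup, Fintype.card_perm, Fintype.card_fin]

theorem dvd_alt {n p : ℕ} (hp : p.Prime) (h2 : p ≠ 2) (h : p ≤ n) :
    p ∣ Nat.card (alternatingGroup (Fin n)) := by
  have h1 : p ∣ 2 * Nat.card (alternatingGroup (Fin n)) := by
    rw [card_alt n (hp.two_le.trans h)]
    exact (hp.dvd_factorial).2 h
  exact ((Nat.Prime.dvd_mul hp).1 h1).resolve_left fun h3 =>
    h2 ((Nat.prime_dvd_prime_iff_eq hp Nat.prime_two).1 h3)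

theorem not_pow_dvd_alt {n p k : ℕ} (hp : p.Prime) (hn : 2 ≤ n) (h : n < p * p) (hk : n < k * p) :
    ¬ p ^ k ∣ Nat.card (alternatingGroup (Fin n)) := by
  intro h1
  have h2 : p ^ k ∣ n.factorial := card_alt n hn ▸ h1.mul_left 2
  rw [hp.pow_dvd_iff_le_factorization (Nat.factorial_ne_zero n),
    Sym.factorization_factorial_of_lt_sq hp h] at h2
  have := (Nat.le_div_iff_mul_le hp.pos).1 h2
  omega

theorem not_adj {G : Type*} [Group G] {n p q : ℕ}
    (hspec : Set.range (orderOf : G → ℕ) = Set.range (orderOf : ↥(alternatingGroup (Fin n)) → ℕ))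
    (hp : p.Prime) (hq : q.Prime) (hpq : p ≠ q) (h : n < p + q) : ¬ ∃ x : G, orderOf x = p * q := by
  intro hx
  obtain ⟨y, hy⟩ : p * q ∈ Set.range (orderOf : ↥(alternatingGroup (Fin n)) → ℕ) := hspec ▸ hx
  have := spec_add_le_of_orderOf_eq_mul (σ := (y : Equiv.Perm (Fin n))) hp hq hpq
    (by rw [Subgroup.orderOf_coe, hy])
  rw [Fintype.card_fin] at this
  omega

theorem two_primes {n : ℕ} (hn : 11 ≤ n) :
    ∃ p q : ℕ, p.Prime ∧ q.Prime ∧ n < 2 * p ∧ p < q ∧ q ≤ n := by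
  by_cases h : 17 ≤ n
  · obtain ⟨p, q, h1, h2, h3, h4, h5⟩ := Sym.exists_two_primes h
    exact ⟨p, q, h1, h2, h3, by omega, h5⟩
  by_cases h : n ≤ 13
  · exact ⟨7, 11, by norm_num, by norm_num, by omega, by omega, hn⟩
  · exact ⟨11, 13, by norm_num, by norm_num, by omega, by omega, by omega⟩

/-- Let n ≥ 11 and let G be a finite group with the same order and the same set of element orders as the alternating group of degree n. Then G has normal subgroups N < H such that H/N is a non-abelian simple group whose order is divisible by every prime p with n/2 < p ≤ n. -/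
theorem result {G : Type*} [Group G] [Finite G] (n : ℕ) (hn : 11 ≤ n)
    (hcard : Nat.card G = Nat.card ↥(alternatingGroup (Fin n)))
    (hspec : Set.range (orderOf : G → ℕ) = Set.range (orderOf : ↥(alternatingGroup (Fin n)) → ℕ)) :
    ∃ (N H : Subgroup G) (_ : N.Normal), H.Normal ∧ N < H ∧
      IsSimpleGroup (↥H ⧸ N.subgroupOf H) ∧ ¬ IsMulCommutative (↥H ⧸ N.subgroupOf H) ∧
      ∀ p : ℕ, p.Prime → n < 2 * p → p ≤ n → p ∣ Nat.card (↥H ⧸ N.subgroupOf H) := by
  classical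
  have hsq : ∀ p : ℕ, p.Prime → n < 2 * p → ¬ p * p ∣ Nat.card G := fun p hp h => by
    rw [hcard, ← sq]
    exact not_pow_dvd_alt hp (by omega) (by nlinarith) h
  have hdv : ∀ p : ℕ, p.Prime → n < 2 * p → p ≤ n → p ∣ Nat.card G := fun p hp h h' =>
    hcard ▸ dvd_alt hp (by omega) h'
  have key : ∀ (N : Subgroup G) [N.Normal] (p q : ℕ), p.Prime → n < 2 * p → p ≤ n → q.Prime →
      n < 2 * q → q ≤ n → p ∣ Nat.card N → q ∣ Nat.card N := by
    intro N _ p q hp h1 h2 hq h3 h4 h5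
    by_cases hpq : p = q
    · exact hpq ▸ h5
    have h6 := hdv q hq h3 h4
    rw [← N.card_mul_index] at h6
    refine ((Nat.Prime.dvd_mul hq).1 h6).resolve_right fun h7 => ?_
    refine not_adj hspec hp hq hpq (by omega) (adj_of_normal N hp hq hpq h5 (hsq p hp h1) ?_ h7)
    rintro ⟨c, hc⟩
    have h8 := hp.eq_two_or_odd
    have h9 := hq.eq_two_or_odd
    rcases c with _ | _ | c
    · have := hp.two_le
      omega
    · omega
    · nlinarith [Nat.sub_le p 1, Nat.zero_le (q * c)]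
  obtain ⟨p, q, hp, hq, h1, h2, h3⟩ := two_primes hn
  obtain ⟨H, ⟨hH, hpH⟩, hmin⟩ := exists_minimal_of_wellFoundedLT
    (fun H : Subgroup G => H.Normal ∧ p ∣ Nat.card H)
    ⟨⊤, inferInstance, by rw [card_top]; exact hdv p hp h1 (by omega)⟩
  have hne : (⊥ : Subgroup G) < H := bot_lt_iff_ne_bot.2 fun h => by
    rw [h, card_bot] at hpH
    exact hp.one_lt.ne' (Nat.dvd_one.1 hpH)
  obtain ⟨N, hN, -⟩ := exists_isChiefFactor_below hne
  have hNn := hN.2.2.1
  have hall : ∀ r : ℕ, r.Prime → n < 2 * r → r ≤ n → r ∣ Nat.card (H ⧸ N.subgroupOf H) := by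
    intro r hr h4 h5
    have h6 := key H p r hp h1 (by omega) hr h4 h5 hpH
    rw [card_eq_card_quotient_mul_card_subgroup (N.subgroupOf H),
      Nat.card_congr (subgroupOfEquivOfLe hN.1.le).toEquiv] at h6
    refine ((Nat.Prime.dvd_mul hr).1 h6).resolve_right fun h7 => ?_
    exact hN.1.not_ge (hmin ⟨hNn, key N r p hr h4 h5 hp h1 (by omega) h7⟩ hN.1.le)
  obtain ⟨T, _, hT, k, hk, ⟨e⟩⟩ := hN.isMinNormal_map.exists_mulEquiv_pow
  let e' := (quotientSubgroupOfEquivMap H N).trans e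
  have hc : Nat.card (H ⧸ N.subgroupOf H) = Nat.card T ^ k := by
    rw [Nat.card_congr e'.toEquiv, Nat.card_fun, Nat.card_eq_fintype_card (α := Fin k),
      Fintype.card_fin]
  have hk1 : k = 1 := by
    by_contra h4
    have h5 := hall p hp h1 (by omega)
    rw [hc] at h5
    have h6 : p * p ∣ Nat.card T ^ k := by
      rw [← sq]
      exact (pow_dvd_pow_of_dvd (hp.dvd_of_dvd_pow h5) 2).trans (pow_dvd_pow _ (by omega))
    rw [← hc] at h6
    exact hsq p hp h1 ((h6.trans (card_quotient_dvd_card _)).trans (card_subgroup_dvd_card H))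
  subst hk1
  have hs : IsSimpleGroup (H ⧸ N.subgroupOf H) :=
    (e'.trans (MulEquiv.funUnique (Fin 1) T)).isSimpleGroup
  refine ⟨N, H, hNn, hH, hN.1, hs, fun hc => ?_, hall⟩
  have h4 : (Nat.card (H ⧸ N.subgroupOf H)).Prime := by
    let _ : CommGroup (H ⧸ N.subgroupOf H) := { mul_comm := hc.is_comm.comm }
    exact IsSimpleGroup.prime_card
  have h5 := (Nat.prime_dvd_prime_iff_eq hp h4).1 (hall p hp h1 (by omega))
  have h6 := (Nat.prime_dvd_prime_iff_eq hq h4).1 (hall q hq (by omega) h3)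
  omega

end Cfsg.Agent.S3420
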