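import Mathlib
-- Template for statement S1235 (row 1235; see /opt/grader/pristine/manifest.json for weights).
-- Copy to Cfsg/Agent/S1235.lean and replace the sorry. The statement below is byte-identical to the frozen
-- statement Cfsg.CfsgFrozen.S1235 (Cfsg/Statements/S1235.lean; the theorem Cfsg.harada_dihedral_by_four_group_centralizer_sylow);
-- the grader kernel-checks Cfsg.Agent.S1235.result against that frozen type. Keep the theorem IN THIS FILE
-- (a `result` declared elsewhere and merely imported here is not credited); helpers may live anywhere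
-- under Cfsg/Agent/.
import Cfsg.Statements.S1235
import Cfsg.Agent.Inv.SecRank
import Cfsg.Agent.Inv.SylowTools
import Cfsg.Agent.FG.TwoMax
import Cfsg.Agent.FG.Metacyclic
-- import your own Cfsg.Agent.* helpers here

set_option autoImplicit false
open Cfsg

namespace Cfsg.Agent.S1235

open Cfsg.Agent.Inv Cfsg.Agent.Inv.Fz Subgroup
open Cfsg.Agent.Inv.Sec

section
variable {S : Type*} [Group S] [Finite S]

/-- An elementary abelian `T` of order 16 is the centralizer of each involution of a four-group. -/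
structure H16 (T B : Subgroup S) : Prop where
  two : IsPGroup 2 S
  el : Cfsg.IsElementaryAbelian 2 T
  card : Nat.card T = 16
  le : B ≤ T
  cardB : Nat.card B = 4
  cen : ∀ b ∈ B, b ≠ 1 → centralizer {b} = T

theorem cen_disj {T B E : Subgroup S} (hc : ∀ b ∈ B, b ≠ 1 → centralizer {b} = T) (hB : B ≤ E)
    {n : S} (hn : n ∉ T) : Nat.card (E ⊓ centralizer {n} : Subgroup S) * Nat.card B ≤ Nat.card E :=
  card_mul_le_of_disjoint inf_le_left hB (eq_bot_iff.2 fun b hb => by_contra fun h =>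
    hn (hc b hb.2 h ▸ mem_cen.2 (mem_cen.1 hb.1.2).symm))

namespace H16
variable {T B : Subgroup S} (h : H16 T B)
include h

theorem card_cen {n : S} (hn : n ∉ T) : Nat.card (T ⊓ centralizer {n} : Subgroup S) ≤ 4 := by
  have := cen_disj h.cen h.le hn
  rw [h.card, h.cardB] at this
  omega

theorem rel_le : T.relIndex (normalizer (T : Set S)) ≤ 4 := by
  have : Fact (Nat.Prime 2) := ⟨Nat.prime_two⟩
  obtain ⟨M, -, hMT, hM, hN⟩ := GT.PG.exists_invariant_relIndex_eq (N := ⊥) (h.two.to_subgroup T)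
    (h.two.to_subgroup _) le_rfl (le_normalizer_of_normal' _ _)
    (bot_lt_iff_ne_bot.2 fun e => by simpa [e] using h.card)
  have h8 : Nat.card M = 8 := by
    have := GT.PG.relIndex_mul_card hMT
    rw [hM, h.card] at this; omega
  obtain ⟨b, hb, hb1⟩ : ∃ b ∈ M ⊓ B, b ≠ 1 := by
    by_contra h'
    push Not at h'
    have := card_mul_le_of_disjoint hMT h.le (eq_bot_iff.2 h')
    rw [h8, h.card, h.cardB] at this; omega
  refine relIndex_le_of_lt h.two 2 ((relIndex_lt_card (fun n => n * b * n⁻¹)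
    (fun n hn => conj_mem_of_normalizer (hN hn) hb.1)
    (fun _ _ _ _ e => h.cen b hb.2 hb1 ▸ fib_conj e) (one_mem M) fun n _ e => hb1 ?_).trans_eq h8)
  simpa using e

theorem le_norm {K H : Subgroup S} (hK : K ≤ H) (hs : Sq K H) (hH : H ≤ normalizer (T : Set S)) :
    K.relIndex H ≤ 16 := by
  by_cases h1 : H ≤ T
  · exact (relIndex_le_card_of_le K h1).trans h.card.le
  obtain ⟨t, ht, htT⟩ := SetLike.not_le_iff_exists.1 h1
  rw [hs.split hK hH]
  exact Nat.mul_le_mul ((hs.act ht (hH ht)).trans (h.card_cen htT))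
    (((relIndex_le_left le_sup_right H).trans (relIndex_le_right T hH)).trans h.rel_le)

theorem sec : Cfsg.SectionalPRankLE 2 4 S := by
  have : Fact (Nat.Prime 2) := ⟨Nat.prime_two⟩
  refine sec_of_sq fun K H hK hs => ?_
  set N := normalizer (T : Set S) with hN
  by_cases hH : H ≤ N
  · exact h.le_norm hK hs hH
  obtain ⟨g, -, hgN, hg⟩ := ST.exists_mem_normalizer_of_lt (h.two.to_subgroup ⊤) (D := N) le_top
    fun e => hH (le_top.trans e)
  set F := cj g T with hF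
  have hTN : T ≤ N := le_normalizer
  have hcN : ∀ {x}, x ∈ normalizer (N : Set S) → cj x T ≤ N := fun hx => cj_eq_iff.2 hx ▸ cj_mono hTN
  have hNF : N ≤ normalizer (F : Set S) := by rw [hF, ← cj_normalizer, ← hN, cj_eq_iff.2 hg]
  have hcE : ∀ {X : Subgroup S} (x), Cfsg.IsElementaryAbelian 2 X →
    Cfsg.IsElementaryAbelian 2 (cj x X) := fun x hX => hX.map _
  have hFe := hcE g h.el
  have hF16 : Nat.card F = 16 := (card_cj _ _).trans h.card
  have hFT : ¬ F ≤ T := fun e => hgN (cj_eq_iff.1 (cj_eq_of_le e))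
  have hY : ∀ f ∈ F, T ⊓ F ≤ T ⊓ centralizer {f} := fun f hf x hx =>
    ⟨hx.1, mem_cen.2 (hFe.comm hx.2 hf)⟩
  have hN64 : Nat.card N ≤ 64 := by
    have := GT.PG.relIndex_mul_card hTN
    have h5 : T.relIndex N ≤ 4 := h.rel_le
    rw [h.card] at this; omega
  have h1 := GT.PG.card_sup_mul_card_inf (hTN.trans hNF)
  have h2 := card_le_of_le (sup_le hTN (hcN hg))
  obtain ⟨f₀, hf₀, hf₀T⟩ := SetLike.not_le_iff_exists.1 hFT
  have h3 := (card_le_of_le (hY f₀ hf₀)).trans (h.card_cen hf₀T)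
  rw [h.card, hF16] at h1
  have hY4 : Nat.card (T ⊓ F : Subgroup S) = 4 := by nlinarith
  have hTF : T ⊔ F = N := eq_of_le_of_card_ge (sup_le hTN (hcN hg)) (by rw [hY4] at h1; omega)
  have hsq : ∀ x ∈ N, x * x ∈ T ⊓ F ∧ (x * x = 1 → x ∈ T ∨ x ∈ F) := fun x hx => by
    obtain ⟨t, ht, f, hf, rfl⟩ := (mem_sup_iff_of_le_normalizer (hTN.trans hNF)).1 (hTF ▸ hx)
    have e1 : t * t = 1 := by rw [← sq]; exact h.el.2 t ht
    have e2 : f * f = 1 := by rw [← sq]; exact hFe.2 f hf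
    refine ⟨⟨?_, ?_⟩, fun e => ?_⟩
    · have : t * f * (t * f) = t * (f * t * f⁻¹) := by rw [inv_of_mul_self e2]; group
      exact this ▸ mul_mem ht (conj_mem_of_normalizer (hcN hg hf) ht)
    · have : t * f * (t * f) = t * f * t⁻¹ * f := by rw [inv_of_mul_self e1]; group
      exact this ▸ mul_mem (conj_mem_of_normalizer (hNF (hTN ht)) hf) hf
    by_cases hfT : f ∈ T
    · exact Or.inl (mul_mem ht hfT)
    have := eq_of_le_of_card_ge (hY f hf) (hY4 ▸ h.card_cen hfT)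
    exact Or.inr (mul_mem (this.ge ⟨ht, mem_cen.2 ((commute_iff_mul_sq e1 e2).2 e).eq⟩).2 hf)
  have hin : ∀ X ≤ N, Cfsg.IsElementaryAbelian 2 X → X ≤ T ∨ X ≤ F := fun X hX hXe =>
    le_or_le_of_forall fun x hx => (hsq x (hX hx)).2 (by rw [← sq]; exact hXe.2 x hx)
  have hin' : ∀ X ≤ N, Cfsg.IsElementaryAbelian 2 X → Nat.card X = 16 → X = T ∨ X = F :=
    fun X hX hXe hc => (hin X hX hXe).imp (fun e => eq_of_le_of_card_ge e (by rw [hc, h.card]))
      fun e => eq_of_le_of_card_ge e (by rw [hc, hF16])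
  have hsw : ∀ x ∈ normalizer (N : Set S), x ∉ N → cj x T = F ∧ cj x F = T := fun x hx hxN => by
    have e1 := (hin' _ (hcN hx) (hcE x h.el) ((card_cj _ _).trans h.card)).resolve_left
      fun e => hxN (cj_eq_iff.1 e)
    refine ⟨e1, (hin' _ (cj_eq_iff.2 hx ▸ cj_mono (hcN hg)) (hcE x hFe)
      ((card_cj _ _).trans hF16)).resolve_right fun e => hFT (cj_inj.1 (e.trans e1.symm)).le⟩
  have hinv : ∀ x ∈ normalizer (N : Set S), x ∉ N → ∀ X ≤ N, Cfsg.IsElementaryAbelian 2 X →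
      cj x X = X → X ≤ T ⊓ F := fun x hx hxN X hX hXe e => by
    obtain ⟨e1, e2⟩ := hsw x hx hxN
    rcases hin X hX hXe with h' | h'
    · exact le_inf h' (e ▸ e1 ▸ cj_mono h')
    · exact le_inf (e ▸ e2 ▸ cj_mono h') h'
  have hrel : N.relIndex (normalizer (N : Set S)) = 2 :=
    relIndex_eq_two_iff_exists_notMem_and.2 ⟨g, hg, hgN, fun x hx => or_iff_not_imp_right.2
      fun hx' => cj_eq_iff.1 (by rw [← cj_cj, ← hF, (hsw x hx hx').2])⟩
  have hall : ∀ X ≤ normalizer (N : Set S), Cfsg.IsElementaryAbelian 2 X → Nat.card X = 16 →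
      X ≤ N := fun X hX hXe hc => by
    by_contra h'
    obtain ⟨x, hx, hxN⟩ := SetLike.not_le_iff_exists.1 h'
    have e1 := card_le_of_le (hinv x (hX hx) hxN (N ⊓ X) inf_le_left (hXe.mono inf_le_right)
      (cj_eq_of_mem_centralizer (centralizer_le inf_le_right (hXe.le_centralizer hx))))
    have e2 := GT.PG.relIndex_mul_card_inf N X
    have e3 := relIndex_le_right N hX
    rw [hrel] at e3
    nlinarith
  have htop : normalizer (N : Set S) = ⊤ := by
    by_contra h'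
    obtain ⟨x, -, hxN, hx⟩ := ST.exists_mem_normalizer_of_lt (h.two.to_subgroup ⊤)
      (D := normalizer (N : Set S)) le_top fun e => h' (top_le_iff.1 e)
    refine hxN (cj_eq_iff.1 (cj_eq_of_le ?_))
    rw [← hTF, cj_sup, hTF]
    exact sup_le (hall _ (cj_eq_iff.2 hx ▸ cj_mono (hTN.trans le_normalizer)) (hcE x h.el)
      ((card_cj _ _).trans h.card)) (hall _ (cj_eq_iff.2 hx ▸ cj_mono ((hcN hg).trans le_normalizer))
      (hcE x hFe) ((card_cj _ _).trans hF16))
  have hxN : ∀ x, x ∈ normalizer (N : Set S) := fun x => htop ▸ mem_top x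
  have hs1 : Sq (K ⊓ (H ⊓ N)) (H ⊓ N) := (hs.mono le_rfl inf_le_left).inf
  rw [hs.split hK fun x _ => hxN x, ← inf_relIndex_right K]
  by_cases hKN : K ≤ N
  swap
  · obtain ⟨k, hk, hkN⟩ := SetLike.not_le_iff_exists.1 hKN
    rw [relIndex_eq_one.2 (show H ≤ K ⊔ N from ?_), mul_one]
    · exact h.le_norm inf_le_right hs1 inf_le_right
    rw [htop, relIndex_top_right] at hrel
    exact le_top.trans ((GT.PG.sup_zpowers_eq_top_of_index_prime Nat.prime_two hrel hkN).ge.trans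
      (sup_le le_sup_right ((zpowers_le.2 hk).trans le_sup_left)))
  refine Nat.mul_le_mul (n₂ := 8) (m₂ := 2) ?_ (((relIndex_le_left le_sup_right H).trans
    (relIndex_le_right N fun x _ => hxN x)).trans hrel.le)
  obtain ⟨x, hx, hxN'⟩ := SetLike.not_le_iff_exists.1 hH
  have hYn : (T ⊓ F).Normal := normalizer_eq_top_iff.1 (eq_top_iff.2 fun y _ => cj_eq_iff.1 (by
    by_cases hy : y ∈ N
    · rw [cj_inf, cj_eq_iff.2 hy, cj_eq_iff.2 (hNF hy)]
    · rw [cj_inf, (hsw y (hxN y) hy).1, (hsw y (hxN y) hy).2, inf_comm]))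
  by_cases hc : H ⊓ N ⊓ (T ⊓ F) = T ⊓ F ∧ K ⊓ (H ⊓ N) ⊓ (T ⊓ F) = ⊥
  · have e1 : ∀ y ∈ H ⊓ N, y ^ 2 = 1 := fun y hy => by
      rw [sq]; exact mem_bot.1 (hc.2 ▸ mem_inf.2 ⟨hs1 y hy, (hsq y hy.2).1⟩)
    refine (relIndex_le_card_of_le _ (hinv x (hxN x) hxN' _ inf_le_right ⟨?_, e1⟩ ?_)).trans
      (by omega)
    · exact GT.PG.isMulCommutative_iff_forall.2 fun a ha b hb => ((commute_iff_mul_sq
        (by rw [← sq, e1 a ha]) (by rw [← sq, e1 b hb])).2 (by rw [← sq, e1 _ (mul_mem ha hb)])).eq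
    · rw [cj_inf, cj_eq_of_mem hx, cj_eq_iff.2 (hxN x)]
  rw [hs1.split (C := T ⊓ F) inf_le_right (le_normalizer_of_normal' _ _)]
  refine Nat.mul_le_mul (n₂ := 2) (m₂ := 4)
    (relIndex_le_half (h.two.to_subgroup _) inf_le_right hY4 hc) ?_
  set π := QuotientGroup.mk' (T ⊓ F)
  have hker : π.ker = T ⊓ F := QuotientGroup.ker_mk' _
  refine (relIndex_sup_le_map π hker _ _).trans ((relIndex_le_act (t := π x) ?_ ?_).trans ?_)
  · rintro _ ⟨y, hy, rfl⟩
    exact ⟨x * y * x⁻¹, mem_inf.2 ⟨mul_mem (mul_mem hx hy.1) (inv_mem hx),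
      conj_mem_of_normalizer (hxN x) hy.2⟩, by simp⟩
  · rintro _ ⟨y, hy, rfl⟩
    refine ⟨x * y * x⁻¹ * y⁻¹, mem_inf.2 ⟨hs.comm hx hy.1, mem_inf.2 ⟨hK (hs.comm hx hy.1),
      hKN (hs.comm hx hy.1)⟩⟩, by simp⟩
  have e1 := card_mul_le_of_disjoint (A := (H ⊓ N).map π ⊓ centralizer {π x}) (E := N.map π)
    (inf_le_left.trans (map_mono inf_le_right)) (map_mono hTN) (eq_bot_iff.2 (by
      rintro _ ⟨⟨-, hy1⟩, y, hy, rfl⟩
      have e2 : x * y * x⁻¹ * y⁻¹ ∈ π.ker := by
        rw [MonoidHom.mem_ker, map_mul, map_mul, map_mul, ← mem_cen.1 hy1]; simp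
      rw [hker] at e2
      have e3 : x * y * x⁻¹ ∈ T := (mul_mem_cancel_right (inv_mem hy)).1 e2.1
      rw [mem_bot, ← MonoidHom.mem_ker, hker]
      exact ⟨hy, conj_mem_cj.1 ((hsw x (hxN x) hxN').2.symm ▸ e3)⟩))
  rw [← relIndex_ker, ← relIndex_ker, hker] at e1
  have e2 := GT.PG.relIndex_mul_card (inf_le_left : T ⊓ F ≤ T)
  have e3 := GT.PG.relIndex_mul_card (inf_le_left.trans hTN : T ⊓ F ≤ N)
  rw [hY4] at e2 e3
  rw [h.card] at e2
  rw [show (T ⊓ F).relIndex T = 4 by omega] at e1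
  omega

end H16

theorem aux (hS : IsPGroup 2 S) {T D B : Subgroup S} (hprod : Cfsg.IsInternalDirectProduct D B T)
    (hD : (∃ m : ℕ, 2 ≤ m ∧ Nonempty (D ≃* DihedralGroup m)) ∨ Cfsg.IsQuasiDihedral D)
    (hB : IsKleinFour B) (hc : ∀ b ∈ B, b ≠ 1 → centralizer {b} = T) :
    Cfsg.SectionalPRankLE 2 4 S := by
  have : Fact (Nat.Prime 2) := ⟨Nat.prime_two⟩
  obtain ⟨hDT, hBT, hcm, hdisj, hsup⟩ := hprod
  have hBe : Cfsg.IsElementaryAbelian 2 B := ⟨GT.PG.isMulCommutative_iff_forall.2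
    fun a ha b hb => klein_comm hB ha hb, fun a ha => by rw [sq, klein_mul_self hB ha]⟩
  have hBD : B ≤ centralizer (D : Set S) := fun b hb a ha => hcm a ha b hb
  have hBN := hBD.trans (centralizer_le_normalizer _)
  have hcard : Nat.card T = 4 * Nat.card D := by
    rw [← hsup, sup_comm, GT.PG.card_sup_of_inf_eq_bot hBN (inf_comm D B ▸ hdisj), hB.card_four]
  obtain hD | ⟨m, a, b, hM⟩ : IsKleinFour D ∨ ∃ m a b, GT.PG.MaxTwo (G := D) m a b := by
    rcases hD with ⟨m, hm, ⟨e⟩⟩ | hD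
    · obtain ⟨t, rfl⟩ := exists_eq_two_pow_of_dihedral (hS.to_subgroup D) hm e
      rcases t with _ | t
      · exact Or.inl (isKleinFour_of_equiv e.symm (inferInstanceAs (IsKleinFour (DihedralGroup 2))))
      · obtain ⟨a, b, h, -⟩ := GT.PG.exists_maxTwo_of_dihedral (by omega) e
        exact Or.inr ⟨_, a, b, h⟩
    · obtain ⟨m, a, b, -, h, -⟩ := GT.PG.exists_maxTwo_of_isQuasiDihedral hD
      exact Or.inr ⟨_, a, b, h⟩
  · have hDe : Cfsg.IsElementaryAbelian 2 D := ⟨GT.PG.isMulCommutative_iff_forall.2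
      fun a ha b hb => klein_comm hD ha hb, fun a ha => by rw [sq, klein_mul_self hD ha]⟩
    exact H16.sec ⟨hS, hsup ▸ hDe.sup hBe hBD, by rw [hcard, hD.card_four], hBT, hB.card_four, hc⟩
  by_cases hT : T = ⊤
  · refine sec_of_sq fun K H hK hs => ?_
    have h1 := FG.TM.sectional_of_isMetacyclic (hS.to_subgroup D)
      (FG.TM.isMetacyclic_iff.2 ⟨a, b, hM.normal, hM.sup_eq_top⟩)
    rw [hs.split hK (C := D) (le_top.trans (hT.symm.trans hsup.symm).le |>.trans
      (sup_le le_normalizer hBN))]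
    refine Nat.mul_le_mul (n₂ := 4) (m₂ := 4)
      ((hs.mono le_rfl inf_le_left).le_of_sec h1 inf_le_right)
      (((relIndex_le_left le_sup_right H).trans (relIndex_le_right D (hT ▸ le_top : H ≤ T))).trans ?_)
    have := GT.PG.relIndex_mul_card hDT
    rw [hcard] at this
    exact (Nat.eq_of_mul_eq_mul_right Nat.card_pos this).le
  exfalso
  obtain ⟨n, -, hnT, hn2, hn, -⟩ := GT.PG.exists_step (N := T) (M := ⊤) (H := ⊥) (hS.to_subgroup _)
    (hS.to_subgroup _) bot_le bot_le (lt_top_iff_ne_top.2 hT)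
  set z : S := ((a ^ 2 ^ m : D) : S)
  have hz2 : z ^ 2 = 1 := congrArg Subtype.val hM.z_sq
  have hzB : z ∈ centralizer (B : Set S) := fun c hc => (hcm _ (a ^ 2 ^ m).2 c hc).symm
  have hE := hBe.sup_zpowers hz2 hzB
  have hE8 : Nat.card (B ⊔ zpowers z : Subgroup S) = 8 := by
    rw [GT.PG.card_sup_zpowers Nat.prime_two (centralizer_le_normalizer _ hzB)
      (fun h => hM.z_ne_one (Subtype.ext (mem_bot.1 (hdisj ▸ mem_inf.2 ⟨(a ^ 2 ^ m).2, h⟩))))
      (hz2 ▸ one_mem _), hB.card_four]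
  have hcen : ∀ x, x ∈ centralizer (T : Set S) ↔ x ∈ centralizer (D : Set S) ⊓ centralizer (B : Set S) :=
    fun x => by
      rw [← hsup]
      refine ⟨fun h => ⟨fun y hy => h y (mem_sup_left hy), fun y hy => h y (mem_sup_right hy)⟩, fun h => ?_⟩
      exact le_centralizer_iff.1 (sup_le (le_centralizer_iff.1 (zpowers_le.2 h.1))
        (le_centralizer_iff.1 (zpowers_le.2 h.2))) (mem_zpowers x)
  have hEq : B ⊔ zpowers z = T ⊓ centralizer (T : Set S) := by
    refine le_antisymm (sup_le (le_inf hBT fun c hc' => (hcen c).2 ⟨hBD hc', hBe.le_centralizer hc'⟩)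
      (zpowers_le.2 ⟨hDT (a ^ 2 ^ m).2, (hcen _).2 ⟨fun d hd =>
        congrArg Subtype.val (mem_center_iff.1 hM.z_mem_center ⟨d, hd⟩), hzB⟩⟩)) fun x hx => ?_
    obtain ⟨c, hc', d, hd, rfl⟩ := (mem_sup_iff_of_le_normalizer hBN).1
      (sup_comm D B ▸ hsup ▸ hx.1 : x ∈ B ⊔ D)
    have h1 : d ∈ centralizer (D : Set S) := (mul_mem_cancel_left (hBD hc')).1 ((hcen _).1 hx.2).1
    refine mul_mem (mem_sup_left hc') (mem_sup_right ?_)
    rcases (hM.mem_center_iff (g := ⟨d, hd⟩)).1 (mem_center_iff.2 fun g => Subtype.ext (h1 g g.2))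
      with e | e
    · rw [show d = 1 from congrArg Subtype.val e]; exact one_mem _
    · rw [show d = z from congrArg Subtype.val e]; exact mem_zpowers _
  have h1 := cen_disj hc (le_sup_left : B ≤ B ⊔ zpowers z) hnT
  have h2 := card_le_sq hE (t := n) (cj_eq_iff.1 (by
      rw [hEq, cj_inf, cj_centralizer, cj_eq_iff.2 hn]))
    (fun y hy => ((hEq.le hy).2 _ (sq n ▸ hn2)).symm)
  rw [hE8] at h1 h2
  rw [hB.card_four] at h1
  nlinarith

end


/-- Let G be a finite group, x an involution and T ≤ G a Sylow 2-subgroup of C_G(x) (T ≤ C_G(x) with |C_G(x) : T| odd) which is the internal direct product of a subgroup D that is dihedral (of order ≥ 4) or quasi-dihedral and a Klein four-subgroup B. Suppose that for every involution b ∈ B, T ≤ C_G(b) with |C_G(b) : T| odd. Then every section of G has 2-rank at most 4. -/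
theorem result {G : Type*} [Group G] [Finite G] (x : G) (hx : orderOf x = 2) (T D B : Subgroup G) (hT : IsPGroup 2 T) (hTx : T ≤ Subgroup.centralizer ({x} : Set G)) (hTxi : Odd (T.relIndex (Subgroup.centralizer ({x} : Set G)))) (hprod : Cfsg.IsInternalDirectProduct D B T) (hD : (∃ m : ℕ, 2 ≤ m ∧ Nonempty (D ≃* DihedralGroup m)) ∨ Cfsg.IsQuasiDihedral D) (hB : IsKleinFour B) (hTb : ∀ b ∈ B, orderOf b = 2 → T ≤ Subgroup.centralizer ({b} : Set G) ∧ Odd (T.relIndex (Subgroup.centralizer ({b} : Set G)))) : Cfsg.SectionalPRankLE 2 4 G := by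
  have : Fact (Nat.Prime 2) := ⟨Nat.prime_two⟩
  obtain ⟨S, hS⟩ := hT.exists_le_sylow
  obtain ⟨h1, h2, h3, h4, h5⟩ := hprod
  have e := subgroupOfEquivOfLe (h1.trans hS)
  refine sec_of_sylow S (aux S.isPGroup' (T := T.subgroupOf S) (D := D.subgroupOf S)
    (B := B.subgroupOf S) ⟨comap_mono h1, comap_mono h2, fun a ha b hb => Subtype.ext (h3 _ ha _ hb),
      ?_, ?_⟩ (hD.imp (fun ⟨m, hm, ⟨e'⟩⟩ => ⟨m, hm, ⟨e.trans e'⟩⟩) (isQuasiDihedral_of_equiv e.symm))
    (isKleinFour_of_equiv (subgroupOfEquivOfLe (h2.trans hS)).symm hB) fun b hb hb1 => ?_)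
  · rw [subgroupOf, subgroupOf, ← comap_inf, h4]; exact bot_subgroupOf _
  · rw [← subgroupOf_sup (h1.trans hS) (h2.trans hS), h5]
  obtain ⟨h6, h7⟩ := hTb b hb (orderOf_two_of (klein_mul_self hB hb) fun e => hb1 (Subtype.ext e))
  have h8 := (isSylIn_of_not_dvd h6 hT (Nat.two_dvd_ne_zero.2 (Nat.odd_iff.1 h7))).eq_of_le
    (S.isPGroup'.to_inf_left) inf_le_right (le_inf hS h6)
  ext y
  rw [mem_subgroupOf, ← h8, mem_cen, mem_inf, mem_cen, Subtype.ext_iff]
  simp

end Cfsg.Agent.S1235
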