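import Mathlib
import Cfsg.Agent.Perm.HalfTrans
import Cfsg.Agent.S3380
import Cfsg.Statements.S3371

set_option autoImplicit false
open Cfsg

namespace Cfsg.Agent.S3371

open Perm.HT

theorem no_fix {p : ℕ} [Fact p.Prime] {σ : Equiv.Perm (Fin p)} (h : orderOf σ = p) (i : Fin p) :
    σ i ≠ i := by
  have h1 := Equiv.Perm.isCycle_of_prime_order'' (σ := σ) (by simpa using Fact.out) (by simpa)
  have h2 : σ.support = Finset.univ := Finset.eq_univ_of_card _ (by simp [← h1.orderOf, h])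
  exact Equiv.Perm.mem_support.1 (h2 ▸ Finset.mem_univ i)

theorem t0_case {q : ℕ} [Fact q.Prime] {V : Type*} [AddCommGroup V] [Module (ZMod q) V]
    {G : Type*} [Group G] (ρ : G →* (V ≃ₗ[ZMod q] V)) (b : Module.Basis (Fin 2) (ZMod q) V)
    (hT : ∀ a : ZMod q, a ≠ 0 → ∃ g, ρ g (b 0) = a • b 1 ∧ ρ g (b 1) = a⁻¹ • b 0)
    (hK : ∃ k, ρ k (b 0) = b 0 ∧ ρ k (b 1) = -b 1)
    (hS : ∀ g, ρ g (b 0) = b 0 → ρ g (ρ g (b 1)) = b 1)
    (hD : ∀ g, (∃ a c : ZMod q, ρ g (b 0) = a • b 0 ∧ ρ g (b 1) = c • b 1) ∨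
      ∃ a c : ZMod q, ρ g (b 0) = a • b 1 ∧ ρ g (b 1) = c • b 0)
    (f : (Fin 2 → ZMod q) ≃ₗ[ZMod q] (Fin 2 → ZMod q)) :
    (∃ g : G, f = b.equivFun.symm.trans ((ρ g).trans b.equivFun)) ↔
      ∃ a s : ZMod q, a ≠ 0 ∧ (s = 1 ∨ s = -1) ∧
        ((∀ v, f v = ![a * v 0, s * a⁻¹ * v 1]) ∨ (∀ v, f v = ![s * a⁻¹ * v 1, a * v 0])) := by
  have e1 : ∀ g (a c : ZMod q), ρ g (b 0) = a • b 0 → ρ g (b 1) = c • b 1 → ∀ v,
      b.equivFun.symm.trans ((ρ g).trans b.equivFun) v = ![a * v 0, c * v 1] := by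
    intro g a c h1 h2 v
    ext i
    fin_cases i <;> simp [h1, h2, mul_comm]
  have e2 : ∀ g (a c : ZMod q), ρ g (b 0) = a • b 1 → ρ g (b 1) = c • b 0 → ∀ v,
      b.equivFun.symm.trans ((ρ g).trans b.equivFun) v = ![c * v 1, a * v 0] := by
    intro g a c h1 h2 v
    ext i
    fin_cases i <;> simp [h1, h2, mul_comm]
  obtain ⟨t, ht0, ht1⟩ := hT 1 one_ne_zero
  obtain ⟨k, hk0, hk1⟩ := hK
  rw [one_smul] at ht0
  rw [inv_one, one_smul] at ht1
  have hne : ∀ g (a : ZMod q) i j, ρ g (b i) = a • b j → a ≠ 0 := by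
    rintro g a i j h rfl
    exact b.ne_zero i (by simpa using h)
  have key : ∀ g (a c : ZMod q), ρ g (b 0) = a • b 1 → ρ g (b 1) = c • b 0 →
      ∃ s : ZMod q, (s = 1 ∨ s = -1) ∧ c = s * a⁻¹ := by
    intro g a c h1 h2
    have ha := hne _ _ _ _ h1
    obtain ⟨u, hu0, hu1⟩ := hT a ha
    have h3 := hS (u * g) (by rw [rmul, h1, map_smul, hu1, smul_smul, mul_inv_cancel₀ ha, one_smul])
    simp only [rmul, h2, map_smul, hu0, smul_smul] at h3
    refine ⟨c * a, mul_self_eq_one_iff.1 ?_, by rw [mul_inv_cancel_right₀ ha]⟩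
    have := congrArg (fun x => b.repr x 1) h3
    simpa [mul_assoc] using this
  constructor
  · rintro ⟨g, rfl⟩
    rcases hD g with ⟨a, c, h1, h2⟩ | ⟨a, c, h1, h2⟩
    · obtain ⟨s, hs, rfl⟩ := key (t * g) a c (by rw [rmul, h1, map_smul, ht0])
        (by rw [rmul, h2, map_smul, ht1])
      exact ⟨a, s, hne _ _ _ _ h1, hs, Or.inl (e1 g _ _ h1 h2)⟩
    · obtain ⟨s, hs, rfl⟩ := key g a c h1 h2
      exact ⟨a, s, hne _ _ _ _ h1, hs, Or.inr (e2 g _ _ h1 h2)⟩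
  · rintro ⟨a, s, ha, hs, hf⟩
    obtain ⟨u, hu0, hu1⟩ : ∃ u, ρ u (b 0) = a • b 1 ∧ ρ u (b 1) = (s * a⁻¹) • b 0 := by
      obtain ⟨u, hu0, hu1⟩ := hT a ha
      rcases hs with rfl | rfl
      · exact ⟨u, hu0, by rw [hu1, one_mul]⟩
      · exact ⟨u * k, by rw [rmul, hk0, hu0], by rw [rmul, hk1, map_neg, hu1]; simp⟩
    rcases hf with hf | hf
    · exact ⟨t * u, LinearEquiv.ext fun v => (hf v).trans (e1 _ _ _
        (by rw [rmul, hu0, map_smul, ht1]) (by rw [rmul, hu1, map_smul, ht0]) v).symm⟩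
    · exact ⟨u, LinearEquiv.ext fun v => (hf v).trans (e2 _ _ _ hu0 hu1 v).symm⟩


/-- Let q be a prime, V a non-trivial finite vector space over the field with q elements, and G a finite p-group (p prime) acting faithfully and linearly on V such that all G-orbits on the non-zero vectors have the same size. Then one of the following holds: G is cyclic or generalized quaternion and acts semiregularly on the non-zero vectors; or V has q² elements with q = 2^m − 1 and G is dihedral of order 2^(m+1) or semidihedral of order 2^(m+2); or V has q² elements with q = 2^m + 1 and, in suitable coordinates V = F_q², G is exactly the group of maps (x, y) ↦ (a x, ± a⁻¹ y) and (x, y) ↦ (± a⁻¹ y, a x) with a ≠ 0; or V has 81 elements (q = 3) and G is a 2-group. -/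
theorem result (q : ℕ) [Fact q.Prime] {V : Type*} [AddCommGroup V] [Module (ZMod q) V] [Finite V] [Nontrivial V]
    {G : Type*} [Group G] [Finite G] (p : ℕ) [Fact p.Prime] (hG : IsPGroup p G)
    (ρ : G →* (V ≃ₗ[ZMod q] V)) (hρ : Function.Injective ρ)
    (hhalf : ∀ v w : V, v ≠ 0 → w ≠ 0 → Nat.card {u : V | ∃ g : G, ρ g v = u} = Nat.card {u : V | ∃ g : G, ρ g w = u}) :
    ((IsCyclic G ∨ ∃ n : ℕ, Nonempty (G ≃* QuaternionGroup n)) ∧ ∀ v : V, v ≠ 0 → ∀ g : G, ρ g v = v → g = 1) ∨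
    (Nat.card V = q ^ 2 ∧ ∃ m : ℕ, q = 2 ^ m - 1 ∧
      (Nonempty (G ≃* DihedralGroup (2 ^ m)) ∨ (Cfsg.IsQuasiDihedral G ∧ Nat.card G = 2 ^ (m + 2)))) ∨
    (Nat.card V = q ^ 2 ∧ (∃ m : ℕ, q = 2 ^ m + 1) ∧
      ∃ e : V ≃ₗ[ZMod q] (Fin 2 → ZMod q), ∀ f : (Fin 2 → ZMod q) ≃ₗ[ZMod q] (Fin 2 → ZMod q),
        (∃ g : G, f = e.symm.trans ((ρ g).trans e)) ↔
        ∃ a s : ZMod q, a ≠ 0 ∧ (s = 1 ∨ s = -1) ∧
          ((∀ v, f v = ![a * v 0, s * a⁻¹ * v 1]) ∨ (∀ v, f v = ![s * a⁻¹ * v 1, a * v 0]))) ∨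
    (Nat.card V = 81 ∧ q = 3 ∧ p = 2) := by
  have hp : p.Prime := Fact.out
  have hq : q.Prime := Fact.out
  have hst : ∀ v w : V, v ≠ 0 → w ≠ 0 → Nat.card (St ρ v) = Nat.card (St ρ w) :=
    fun v w => card_St_eq hhalf
  by_cases hne : ∃ v : V, v ≠ 0 ∧ St ρ v = ⊥
  · obtain ⟨v₀, hv₀, h0⟩ := hne
    have h1 : ∀ v : V, v ≠ 0 → ∀ g : G, ρ g v = v → g = 1 := fun v hv g hg => by
      have := hst v v₀ hv hv₀
      rw [h0, Subgroup.card_bot, Subgroup.card_eq_one] at this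
      exact Subgroup.mem_bot.1 (this ▸ hg : g ∈ (⊥ : Subgroup G))
    let _ := DistribMulAction.compHom V ρ
    exact Or.inl ⟨((GT.Frob.hasFpfAction_of_distribMulAction (A := G) V fun a ha v h =>
      by_contra fun hv => ha (h1 v hv a h)).isCyclic_or_quaternion hG).imp_right
        fun ⟨_, _, h⟩ => ⟨_, h⟩, h1⟩
  push Not at hne
  right
  have hpq := ne_char hρ hst hne hG
  obtain ⟨n, hn⟩ := IsPGroup.iff_card.1 hG
  have hirr := irr hρ hst hne (fun h => hpq ((Nat.prime_dvd_prime_iff_eq hq hp).1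
    (hq.dvd_of_dvd_pow (hn ▸ (ZMod.natCast_eq_zero_iff _ _).1 h))).symm)
  obtain ⟨v₀, hv₀⟩ := exists_ne (0 : V)
  have hna : ¬ IsMulCommutative G := fun h => hne v₀ hv₀ (eq_bot_iff.2 fun g hg => by_contra
    fun h1 => hv₀ (eq_zero_of_central hρ hirr h1
      (Subgroup.mem_center_iff.2 fun x => h.is_comm.comm x g) hg))
  have h2 : ∀ g : G, g ≠ 1 → g ^ 4 = 1 → IsPGroup 2 G := fun g h1 h4 => by
    obtain ⟨k, hk⟩ := (IsPGroup.iff_orderOf.1 hG) g
    have h5 : p ∣ 2 ^ 2 := (hk ▸ dvd_pow_self p (by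
      rintro rfl; exact h1 (orderOf_eq_one_iff.1 hk))).trans (orderOf_dvd_of_pow_eq_one h4)
    exact (Nat.prime_dvd_prime_iff_eq hp Nat.prime_two).1 (hp.dvd_of_dvd_pow h5) ▸ hG
  by_cases hM : ∃ (m : ℕ) (a b : G), GT.PG.MaxTwo m a b
  · obtain ⟨m, a, b, h⟩ := hM
    exact Or.inl (maxTwo_case hρ hirr hne h)
  right
  obtain ⟨H, W, hH, hW, hI, hHW, hK, hσ⟩ := S3380.result q p hG ρ hρ hirr
    (fun h => hna inferInstance)
    (fun n ⟨e⟩ => hM ((GT.PG.exists_maxTwo_of_quaternion'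
      (h2 (e.symm (.xa 0)) (by simp [← QuaternionGroup.a_zero])
        (by rw [← map_pow, QuaternionGroup.xa_pow_four, map_one])) hna e).imp
          fun _ ⟨a, b, _, h, _⟩ => ⟨a, b, h⟩))
    (fun n ⟨e⟩ => hM ((GT.PG.exists_maxTwo_of_dihedral'
      (h2 (e.symm (.sr 0)) (by simp [← DihedralGroup.r_zero]) (by
        rw [← map_pow, orderOf_dvd_iff_pow_eq_one.1 (by rw [DihedralGroup.orderOf_sr]; norm_num),
          map_one])) hna e).imp fun _ ⟨a, b, _, h, _⟩ => ⟨a, b, h⟩))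
    (fun h => let ⟨m, a, b, _, h, _⟩ := GT.PG.exists_maxTwo_of_isQuasiDihedral h; hM ⟨m, a, b, h⟩)
  have hdis : ∀ {i j}, i ≠ j → ∀ x ∈ W i, x ∈ W j → x = 0 := fun h =>
    Submodule.disjoint_def.1 (hI.pairwiseDisjoint h)
  have hidx : ∀ {i j k l} {w w' u u' : V}, i ≠ j → w ∈ W i → w ≠ 0 → w' ∈ W j → u ∈ W k →
      u' ∈ W l → u + u' = w + w' → k = i ∨ l = i := by
    intro i j k l w w' u u' hij hw hw0 hw' hu hu' e
    by_contra hc
    push Not at hc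
    have hle : ∀ {m}, m ≠ i → W m ≤ ⨆ (j) (_ : j ≠ i), W j := fun {m} hm => le_iSup₂_of_le m hm le_rfl
    refine hw0 (Submodule.disjoint_def.1 (hI i) w hw ?_)
    rw [← sub_eq_iff_eq_add.2 e]
    exact sub_mem (add_mem (hle hc.1 hu) (hle hc.2 hu')) (hle hij.symm hw')
  have hfix : ∀ {i j} {w w' : V}, i ≠ j → w ∈ W i → w ≠ 0 → w' ∈ W j → w' ≠ 0 → ∀ g,
      ρ g (w + w') = w + w' → (ρ g w = w ∧ ρ g w' = w') ∨
        (p = 2 ∧ g ∉ H ∧ ρ g w = w' ∧ ρ g w' = w) := by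
    intro i j w w' hij hw hw0 hw' hw0' g hg
    rw [map_add] at hg
    by_cases hgH : g ∈ H
    · have : ρ g w = w := sub_eq_zero.1 (hdis hij _ (sub_mem (hHW g hgH i w hw) hw) (by
        rw [show ρ g w - w = w' - ρ g w' by rw [sub_eq_sub_iff_add_eq_add, hg, add_comm]]
        exact sub_mem hw' (hHW g hgH j w' hw')))
      exact Or.inl ⟨this, by rwa [this, add_right_inj] at hg⟩
    · obtain ⟨σ, hσ1, hσ2⟩ := hσ g hgH
      have h3 : ρ g w ∈ W (σ i) := hσ2 i ▸ Submodule.mem_map_of_mem hw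
      have h4 : ρ g w' ∈ W (σ j) := hσ2 j ▸ Submodule.mem_map_of_mem hw'
      have h5 := (hidx hij hw hw0 hw' h3 h4 hg).resolve_left (no_fix hσ1 i)
      have h6 := (hidx hij.symm hw' hw0' hw h3 h4 (hg.trans (add_comm _ _))).resolve_right
        (no_fix hσ1 j)
      rw [h5] at h4
      rw [h6] at h3
      have : ρ g w = w' := sub_eq_zero.1 (hdis hij.symm _ (sub_mem h3 hw') (by
        rw [show ρ g w - w' = w - ρ g w' by rw [sub_eq_sub_iff_add_eq_add, hg]]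
        exact sub_mem hw h4))
      refine Or.inr ⟨by_contra fun h => no_fix (σ := σ ^ 2) ?_ i (by simp [sq, h5, h6]), hgH, this,
        by rwa [this, add_comm w, add_right_inj] at hg⟩
      rw [(Nat.Coprime.orderOf_pow (hσ1.symm ▸ (Nat.coprime_primes hp Nat.prime_two).2 h)), hσ1]
  obtain ⟨i, hi⟩ : ∃ i, W i ≠ ⊥ := by
    by_contra hc
    push Not at hc
    exact bot_ne_top ((iSup_eq_bot.2 hc).symm.trans hW)
  obtain ⟨k, hkH, hk1, hk⟩ := hK i
  obtain ⟨j, w₁, hw₁, hkw⟩ : ∃ j, ∃ w ∈ W j, ρ k w ≠ w := by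
    by_contra hc
    push Not at hc
    refine hk1 (hρ (LinearEquiv.ext fun v => ?_))
    have : iSup W ≤ LinearMap.eqLocus (ρ k).toLinearMap LinearMap.id := iSup_le fun j w hw => hc j w hw
    simpa using this (hW ▸ Submodule.mem_top (x := v))
  have hij : i ≠ j := by rintro rfl; exact hkw (hk _ hw₁)
  have hw₁0 : w₁ ≠ 0 := by rintro rfl; simp at hkw
  have hsw : ∀ w ∈ W i, w ≠ 0 → p = 2 ∧ ∃ g ∉ H, ρ g w = w₁ ∧ ρ g w₁ = w := fun w hw hw0 => by
    by_contra hc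
    refine hkw (St_le_of_disjoint hst (hI.pairwiseDisjoint hij) hw hw0 hw₁ (fun g hg => ?_) (hk w hw))
    exact ((hfix hij hw hw0 hw₁ hw₁0 g hg).resolve_right fun h => hc ⟨h.1, g, h.2⟩).1
  obtain ⟨w₀, hw₀, hw₀0⟩ := (W i).exists_mem_ne_zero_of_ne_bot hi
  obtain ⟨rfl, t, htH, ht0, ht1⟩ := hsw w₀ hw₀ hw₀0
  have hall : ∀ l, l = i ∨ l = j := (by decide : ∀ i j : Fin 2, i ≠ j → ∀ l, l = i ∨ l = j) i j hij
  have hswap : ∀ g ∉ H, (W i).map (ρ g : V →ₗ[ZMod q] V) = W j ∧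
      (W j).map (ρ g : V →ₗ[ZMod q] V) = W i := fun g hg => by
    obtain ⟨σ, hσ1, hσ2⟩ := hσ g hg
    rw [hσ2, hσ2, (hall (σ i)).resolve_left (no_fix hσ1 i), (hall (σ j)).resolve_right (no_fix hσ1 j)]
    exact ⟨rfl, rfl⟩
  have hc : IsCompl (W i) (W j) := ⟨hI.pairwiseDisjoint hij, codisjoint_iff.2 (eq_top_iff.2
    (hW.ge.trans (iSup_le fun l => (hall l).elim (· ▸ le_sup_left) (· ▸ le_sup_right))))⟩
  have hcj : Nat.card (W j) = Nat.card (W i) :=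
    (Nat.card_congr ((ρ t).ofSubmodules _ _ (hswap t htH).1).toEquiv).symm
  have hV : Nat.card V = Nat.card (W i) ^ 2 := by
    rw [← Nat.card_congr (Submodule.prodEquivOfIsCompl _ _ hc).toEquiv, Nat.card_prod, hcj, sq]
  let φ := res H (W i) fun h hh => hHW h hh i
  have htr : ∀ v w : W i, v ≠ 0 → w ≠ 0 → ∃ g : φ.range, φ.range.subtype g v = w := by
    intro v w hv hw
    obtain ⟨-, g, hg, h1, -⟩ := hsw v v.2 (by simpa using hv)
    obtain ⟨-, g', hg', -, h3⟩ := hsw w w.2 (by simpa using hw)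
    exact ⟨⟨_, ⟨g' * g, (Subgroup.mul_mem_iff_of_index_two hH).2 (by tauto)⟩, rfl⟩,
      Subtype.ext (by change ρ (g' * g) v = w; rw [rmul, h1, h3])⟩
  haveI : Finite φ.range := Finite.of_surjective _ φ.rangeRestrict_surjective
  haveI : Nontrivial (W i) := Submodule.nontrivial_iff_ne_bot.2 hi
  haveI : Nontrivial φ.range := by
    obtain ⟨g, hg⟩ := htr ⟨w₀, hw₀⟩ (-⟨w₀, hw₀⟩) (by simpa) (by simpa)
    refine ⟨g, 1, ?_⟩
    rintro rfl
    have h3 : (2 : ZMod q) • w₀ = 0 := by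
      rw [two_smul, ← eq_neg_iff_add_eq_zero]
      simpa using congrArg Subtype.val hg
    exact hpq ((Nat.prime_dvd_prime_iff_eq hq Nat.prime_two).1 ((ZMod.natCast_eq_zero_iff 2 q).1
      (by simpa [hw₀0] using h3))).symm
  rcases S3370.result q 2 ((hG.to_subgroup H).of_surjective _ φ.rangeRestrict_surjective)
    φ.range.subtype Subtype.val_injective htr with h | ⟨-, h3, ⟨m, hm, -⟩, -⟩ | ⟨-, h3, h4, -⟩
  · exact absurd h.1.symm hpq
  swap
  · exact Or.inr ⟨by rw [hV, h4]; norm_num, h3, rfl⟩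
  have hsp : ∀ {l} {w : V}, Nat.card (W l) = q → w ∈ W l → w ≠ 0 → ∀ x ∈ W l,
      ∃ c : ZMod q, x = c • w := by
    intro l w h hw hw0 x hx
    have h4 := Module.natCard_eq_pow_finrank (K := ZMod q) (V := W l)
    rw [Nat.card_zmod, h] at h4
    obtain ⟨c, hc⟩ := (finrank_eq_one_iff_of_nonzero' (⟨w, hw⟩ : W l) (by simpa)).1
      (Nat.pow_right_injective hq.two_le (h4.symm.trans (pow_one q).symm)) ⟨x, hx⟩
    exact ⟨c, (congrArg Subtype.val hc).symm⟩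
  have hs0 := hsp h3 hw₀ hw₀0
  have hs1 := hsp (hcj.trans h3) hw₁ hw₁0
  have hli : LinearIndependent (ZMod q) ![w₀, w₁] := LinearIndependent.pair_iff.2 fun s t h => by
    have h4 := hdis hij (s • w₀) ((W i).smul_mem s hw₀)
      (eq_neg_of_add_eq_zero_left h ▸ neg_mem ((W j).smul_mem t hw₁))
    rw [h4, zero_add] at h
    exact ⟨(smul_eq_zero.1 h4).resolve_right hw₀0, (smul_eq_zero.1 h).resolve_right hw₁0⟩
  let b := Module.Basis.mk hli (fun v _ => by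
    obtain ⟨x, hx, y, hy, rfl⟩ := Submodule.mem_sup.1 (hc.sup_eq_top ▸ Submodule.mem_top (x := v))
    obtain ⟨c, rfl⟩ := hs0 x hx
    obtain ⟨d, rfl⟩ := hs1 y hy
    exact add_mem (Submodule.smul_mem _ _ (Submodule.subset_span ⟨0, rfl⟩))
      (Submodule.smul_mem _ _ (Submodule.subset_span ⟨1, rfl⟩)))
  have hb0 : b 0 = w₀ := Module.Basis.mk_apply _ _ _
  have hb1 : b 1 = w₁ := Module.Basis.mk_apply _ _ _
  have hext : ∀ g g', ρ g w₀ = ρ g' w₀ → ρ g w₁ = ρ g' w₁ → g = g' := fun g g' h1 h2 =>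
    hρ (b.ext' (Fin.forall_fin_two.2 ⟨by rwa [hb0], by rwa [hb1]⟩))
  have hw01 : w₀ + w₁ ≠ 0 := fun h => one_ne_zero (LinearIndependent.pair_iff.1 hli 1 1 (by simpa)).1
  have hS : ∀ g, ρ g w₀ = w₀ → ρ g (ρ g w₁) = w₁ := fun g hg => by
    have h4 : Nat.card (St ρ (w₀ + w₁)) ≤ 2 := by
      refine (Set.ncard_le_ncard (t := {1, t}) (fun g hg => ?_)).trans
        ((Set.ncard_insert_le _ _).trans (by simp))
      rcases hfix hij hw₀ hw₀0 hw₁ hw₁0 g hg with h | h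
      · exact Or.inl (hext _ _ (by simpa using h.1) (by simpa using h.2))
      · exact Or.inr (hext _ _ (h.2.2.1.trans ht0.symm) (h.2.2.2.trans ht1.symm))
    have h5 := (Subgroup.one_lt_card_iff_ne_bot _).2 (hne _ hw₀0)
    have h6 := congrArg Subtype.val (pow_card_eq_one' (x := (⟨g, hg⟩ : St ρ w₀)))
    rw [← hst _ _ hw₀0 hw01] at h4
    rw [show Nat.card (St ρ w₀) = 2 by omega] at h6
    rw [← rmul, ← sq, show g ^ 2 = 1 from h6]
    simp
  refine Or.inl ⟨by rw [hV, h3], ⟨m, hm⟩, b.equivFun, t0_case ρ b ?_ ?_ ?_ ?_⟩ <;>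
    simp only [hb0, hb1]
  · intro a ha
    obtain ⟨-, g, -, h4, h5⟩ := hsw (a⁻¹ • w₀) ((W i).smul_mem _ hw₀) (by simp [ha, hw₀0])
    exact ⟨g, by rw [← h4, map_smul, smul_inv_smul₀ ha], h5⟩
  · obtain ⟨c, hc⟩ := hs1 _ (hHW k hkH j w₁ hw₁)
    have h4 := hS k (hk _ hw₀)
    rw [hc, map_smul, hc, smul_smul, ← sub_eq_zero, ← one_smul (ZMod q) w₁, smul_smul, ← sub_smul,
      smul_eq_zero, sub_eq_zero, mul_one, mul_self_eq_one_iff] at h4
    rcases h4 with (rfl | rfl) | h4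
    · exact absurd (by simpa using hc) hkw
    · exact ⟨k, hk _ hw₀, by simpa using hc⟩
    · exact absurd h4 hw₁0
  · exact hS
  · intro g
    by_cases hg : g ∈ H
    · obtain ⟨a, ha⟩ := hs0 _ (hHW g hg i _ hw₀)
      obtain ⟨c, hc⟩ := hs1 _ (hHW g hg j _ hw₁)
      exact Or.inl ⟨a, c, ha, hc⟩
    · obtain ⟨a, ha⟩ := hs1 _ ((hswap g hg).1 ▸ Submodule.mem_map_of_mem hw₀)
      obtain ⟨c, hc⟩ := hs0 _ ((hswap g hg).2 ▸ Submodule.mem_map_of_mem hw₁)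
      exact Or.inr ⟨a, c, ha, hc⟩

end Cfsg.Agent.S3371
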