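import Cfsg.Statements.S2037
import Cfsg.Agent.Spor.MX.MathieuGen

set_option autoImplicit false
open Cfsg

namespace Cfsg.Agent.S2037

open Cfsg.Agent.Spor Cfsg.Agent.Spor.MX

/-- The Schur multiplier of the Mathieu group M₂₃ (the stabiliser of a point in the automorphism group of the length-24 binary code) is trivial; here the Schur multiplier is described through stem extensions, as in the definitions: surjective homomorphisms onto the group from a finite group, whose kernel is central in that finite group and contained in that finite group's commutator subgroup. -/
theorem result : Cfsg.HasCyclicSchurMultiplier ↥Cfsg.Spor.M23 1 := by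
  obtain ⟨g, ht, hg⟩ := m23_gen
  exact cyclic_top (cyclic_of_bounds hg.2.2 [(2, 7, 0), (3, 2, 0)] [5, 7, 11, 23] (by decide +kernel)
    (forall_mem_cons' (hg.not_dvd 2 1 (m23_l2 hg.2.1) (by decide +kernel))
      (forall_mem_cons' (hg.not_dvd 3 1 (m23_l3 hg.2.1) (by decide +kernel))
      forall_mem_nil'))
    (one_dvd _))

end Cfsg.Agent.S2037
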