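import Cfsg.Statements.S2048
import Cfsg.Agent.Spor.MX.SuzGen
import Cfsg.Agent.Spor.MX.SuzCov

set_option autoImplicit false
open Cfsg

namespace Cfsg.Agent.S2048

open Cfsg.Agent.Spor Cfsg.Agent.Spor.MX

/-- The Schur multiplier of the Suzuki sporadic group (the finitely presented group of the definitions) is cyclic of order 6; here the Schur multiplier is described through stem extensions, as in the definitions: surjective homomorphisms onto the group from a finite group, whose kernel is central in that finite group and contained in that finite group's commutator subgroup. -/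
theorem result : Cfsg.HasCyclicSchurMultiplier Cfsg.Spor.Suz 6 := by
  exact cyclic_top (cyclic_of_bounds suz_gen.2.2 [(2, 13, 1), (3, 7, 1), (5, 2, 0)] [7, 11, 13] (by decide +kernel)
    (forall_mem_cons' (suz_gen.not_dvd 2 2 (suz_l4 suz_gen.2.1) (by decide +kernel))
      (forall_mem_cons' (suz_gen.not_dvd 3 2 (suz_l9 suz_gen.2.1) (by decide +kernel))
      (forall_mem_cons' (suz_gen.not_dvd 5 1 (suz_l5 suz_gen.2.1) (by decide +kernel))
      forall_mem_nil')))
    (Nat.Coprime.mul_dvd_of_dvd_of_dvd (m := 2) (n := 3) (by norm_num)
      (suz2_cover suz_gen (commute_of_base suz_tabs suz_base (by decide +kernel)))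
      (suz3_cover suz_gen (commute_of_base suz_tabs suz_base (by decide +kernel)))))

end Cfsg.Agent.S2048
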