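import Mathlib
import Cfsg.Statements.S3149
import Cfsg.Agent.Std.Cover
import Cfsg.Agent.Std.RuF
import Cfsg.Agent.Spor.Ru.Main
import Cfsg.Agent.S2051
import Cfsg.Agent.S2077

set_option autoImplicit false
open Cfsg

namespace Cfsg.Agent.S3149

open scoped commutatorElement in
open Cfsg.Spor Cfsg.Agent.Spor.MRu Cfsg.Agent.Std Subgroup in
/-- Let G be a finite group with no nontrivial normal subgroup of odd order and A a standard subgroup of G which is a double cover of the Rudvalis group (the centre of A has order 2 and A modulo its centre is isomorphic to the Rudvalis group). If the centralizer of A in G has cyclic Sylow 2-subgroups, then A is normal in G. -/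
theorem result {G : Type*} [Group G] [Finite G] (hO : Cfsg.oddCore G = ⊥) (A : Subgroup G) (hA : Cfsg.IsStandardSubgroup A)
    (hZ : Nat.card ↥(Subgroup.center ↥A) = 2) (hAX : Cfsg.Spor.IsoRu (↥A ⧸ Subgroup.center ↥A))
    (hR : ∀ R : Sylow 2 ↥(Subgroup.centralizer (A : Set G)), IsCyclic ↥(R : Subgroup ↥(Subgroup.centralizer (A : Set G)))) : A.Normal := by
  obtain ⟨e⟩ := hAX
  have := hA.1.1
  obtain ⟨z, h, hz⟩ := exists_cyc hA hR hZ (inner_of_out e S2077.result)
  let σ : A →* Ru := e.toMonoidHom.comp (QuotientGroup.mk' _)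
  have hs : Function.Surjective σ := e.surjective.comp (QuotientGroup.mk'_surjective _)
  have hk : σ.ker = center A := by
    ext x; simp [σ]
  have : Group.IsPerfect Ru := Group.IsPerfect.ofSurjective hs
  obtain ⟨η, hη⟩ := Ch.exists_lift_of_cover S2051.result (Ch.isStemExtension_of_isPerfect hs hk.le)
    (by rw [hk, hZ]; simp) (QuotientGroup.mk'_surjective (center fourRu)) (QuotientGroup.ker_mk' _).le
  have h0 : ∀ x, σ x = η x := fun x => (DFunLike.congr_fun hη x).symm
  have hD : commutator fourRu ≤ η.range := by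
    rw [commutator_def, commutator_le]
    have h1 : ∀ x : fourRu, ∃ a, ∃ c ∈ center fourRu, x = η a * c := fun x => by
      obtain ⟨a, ha⟩ := hs x
      exact ⟨a, _, QuotientGroup.eq.1 ((h0 a).symm.trans ha), by group⟩
    intro x _ y _
    obtain ⟨a, c, hc, rfl⟩ := h1 x
    obtain ⟨b, d, hd, rfl⟩ := h1 y
    refine ⟨⁅a, b⁆, ?_⟩
    rw [map_commutatorElement, commutatorElement_def, commutatorElement_def]
    calc _ = η a * (c * (η b * d) * c⁻¹) * (d⁻¹ * (η a)⁻¹) * (η b)⁻¹ := by
          rw [← mem_center_iff.1 hc]; group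
      _ = _ := by rw [← mem_center_iff.1 (inv_mem hd)]; group
  have h2 : iota ^ 2 ≠ 1 := fun e => by
    have := orderOf_dvd_of_pow_eq_one e
    rw [orderOf_iota] at this; omega
  have h3 : η z = iota ^ 2 := by
    obtain ⟨a, ha⟩ := hD Ru.sq_mem
    have : a ∈ σ.ker := by
      rw [MonoidHom.mem_ker, h0, ha, QuotientGroup.eq_one_iff, center_eq]; exact npow_mem_zpowers _ _
    rcases (hz a).1 (hk ▸ this) with rfl | rfl
    · exact absurd (ha.symm.trans (map_one η)) h2
    · exact ha
  have hi : Function.Injective η := (injective_iff_map_eq_one η).2 fun a ha => by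
    have : a ∈ σ.ker := by rw [MonoidHom.mem_ker, h0, ha]; rfl
    exact ((hz a).1 (hk ▸ this)).resolve_right fun e => h2 (by rw [← h3, ← e, ha])
  have hc : Nat.card η.range = 291852288000 := by
    rw [← Nat.card_congr (MonoidHom.ofInjective hi).toEquiv, card_eq_card_quotient_mul_card_subgroup (center A),
      Nat.card_congr e.toEquiv, card, hZ]
  refine h.normal_of_fourth hO (fun b hb e => Ru.pow_four_ne hD hc ⟨⟨b, hb⟩, rfl⟩ ?_) fun a ha a1 a2 a3 => ?_
  · rw [← map_pow, ← h3]; exact congrArg η (Subtype.ext e)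
  obtain ⟨⟨_, ⟨b, rfl⟩, b1⟩, U, u0, u1, u2, u3, u4⟩ := Ru.involution hD hc (a := η ⟨a, ha⟩) ⟨_, rfl⟩
    (fun e => a1 (congrArg Subtype.val (hi (e.trans (map_one η).symm))))
    (fun e => a2 (congrArg Subtype.val (hi (e.trans h3.symm))))
    (by rw [← map_mul, ← map_one η]; exact congrArg η (Subtype.ext a3))
  refine ⟨⟨b, congrArg Subtype.val (hi ((map_pow η b 4).trans b1))⟩, (U.comap η).map A.subtype, map_subtype_le _,
    (u1.comap_of_injective η hi).map _, ⟨z, by rwa [← h3] at u2, rfl⟩, ?_, fun c hc h => ?_⟩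
  · rintro _ ⟨u, hu, rfl⟩
    exact congrArg Subtype.val (hi (a₁ := ⟨a, ha⟩ * u) (a₂ := u * ⟨a, ha⟩) (by rw [map_mul, map_mul, u3 _ hu]))
  · have := u4 _ ⟨⟨c, hc⟩, rfl⟩ fun u hu => by
      obtain ⟨u, rfl⟩ := u0 hu
      rw [← map_mul, ← map_mul]
      exact congrArg η (Subtype.ext (h u ⟨u, hu, rfl⟩))
    rw [← h3, ← map_mul, ← map_mul] at this
    exact ⟨fun e => this.1 (congrArg η (Subtype.ext e)), fun e => this.2 (congrArg η (Subtype.ext e))⟩

end Cfsg.Agent.S3149
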