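import Cfsg.Statements.S1822
import Cfsg.Agent.QT.XiB
-- import your own Cfsg.Agent.* helpers here

set_option autoImplicit false
open Cfsg

namespace Cfsg.Agent.S1822

open Cfsg.Agent.GT Cfsg.Agent.Loc Cfsg.Agent.Loc.Mss Cfsg.Agent.QT Subgroup
open scoped commutatorElement

theorem xiD {G : Type*} [Group G] [Finite G] {X T : Subgroup G} (hX : X ∈ Xi T) :
    ∃ p, XiD p X T (twoPhiCore X) ∧ pCoreOf 2 X ≤ twoPhiCore X := by
  obtain ⟨h1, h2, -, ⟨p, hp, hp2, h3⟩, h4⟩ := hX
  have := Fact.mk hp
  rw [oddGenerated_eq_pResidualOf] at h1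
  set π := QuotientGroup.mk' (pCore 2 X)
  have hπ : Function.Surjective π := QuotientGroup.mk'_surjective _
  set F := frattini (X ⧸ pCore 2 X)
  have hΦ : twoPhiCore X = (F.comap π).map X.subtype := rfl
  have hc : (F.comap π).Characteristic := Characteristic.comap_quotient_mk inferInstance
  have hn : 𝐍[X] ≤ 𝐍[twoPhiCore X] := normalizer_le_normalizer_map_subtype X _
  have hle : twoPhiCore X ≤ X := map_subtype_le _
  have hO : pCoreOf 2 X ≤ twoPhiCore X := map_mono fun x hx => by
    rw [mem_comap, (QuotientGroup.eq_one_iff x).2 hx |> (show π x = 1 from ·)]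
    exact one_mem _
  have hQ : IsPGroup p (X ⧸ pCore 2 X) := h3.elim (fun a => .of_card a.1) fun a => .of_card a.1
  have hi : F.index = p ^ 2 ∧ Nat.card F ∣ p := by
    have a0 := F.card_mul_index
    rcases h3 with a | a
    · have a1 : F = ⊥ := (PG.frattini_eq_bot_iff hQ).2 a.2
      rw [a1, index_bot, card_bot]
      exact ⟨a.1, one_dvd _⟩
    · have a1 := PG.sq_dvd_index_frattini_of_not_isCyclic hQ fun _ => a.2 inferInstance
      obtain ⟨n, hn3, hn'⟩ := (Nat.dvd_prime_pow hp).1 (a.1 ▸ F.index_dvd_card)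
      have a2 : 2 ≤ n := (Nat.pow_dvd_pow_iff_le_right hp.one_lt).1 (hn' ▸ a1)
      rw [hn', a.1] at a0
      rcases (by omega : n = 2 ∨ n = 3) with rfl | rfl
      · rw [pow_succ' p 2] at a0
        exact ⟨hn', (Nat.eq_of_mul_eq_mul_right (pow_pos hp.pos 2) a0).dvd⟩
      · exact (a.2 ((PG.frattini_eq_bot_iff hQ).1 (card_eq_one.1
          (Nat.eq_of_mul_eq_mul_right (pow_pos hp.pos 3) (a0.trans (one_mul _).symm)))).1).elim
  refine ⟨p, ⟨hp, hp2, h1, h2, hle, h2.trans hn, ?_, fun x hx => ⟨⟨x, hx⟩ ^ p, ?_, rfl⟩, ?_, ?_,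
    fun Y a1 a2 a3 => ?_⟩, hO⟩
  · refine commutator_le.2 fun a ha b hb => ⟨⁅(⟨a, ha⟩ : X), ⟨b, hb⟩⁆, ?_, rfl⟩
    change π _ ∈ F
    rw [map_commutatorElement]
    exact PG.commutator_le_frattini hQ (commutator_mem_commutator (mem_top _) (mem_top _))
  · change π _ ∈ F
    rw [map_pow]
    exact PG.pow_mem_frattini hQ _
  · rw [relIndex, hΦ, subgroupOf, comap_map_eq_self_of_injective X.subtype_injective,
      index_comap_of_surjective _ hπ, hi.1]
  · obtain ⟨k, hk⟩ := IsPGroup.iff_card.1 (isPGroup_pCore (G := X) 2)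
    refine ⟨k, ?_⟩
    rw [hΦ, card_map_of_injective X.subtype_injective, card_comap_of_surjective _ hπ,
      QuotientGroup.ker_mk', hk, mul_comm]
    exact Nat.mul_dvd_mul_left _ hi.2
  · rcases h4 (twoPhiCore X ⊔ Y) le_sup_left (sup_le hle a1) (norm_sup (h2.trans hn) a3) with b | b
    · exact Or.inl (le_sup_right.trans b.le)
    · refine Or.inr (le_antisymm a1 ?_)
      have b1 : F.comap π ⊔ Y.subgroupOf X = ⊤ := map_injective X.subtype_injective (by
        rw [Subgroup.map_sup, map_subgroupOf_eq_of_le a1, map_subtype_top]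
        exact b)
      have b2 : (Y.subgroupOf X).map π = ⊤ := frattini_nongenerating (by
        have := congrArg (map π) b1
        rwa [Subgroup.map_sup, map_comap_eq_self_of_surjective hπ F, map_top_of_surjective _ hπ,
          sup_comm] at this)
      have b3 := congrArg (map X.subtype) (congrArg (comap π) b2)
      rw [comap_map_eq, QuotientGroup.ker_mk', comap_top, Subgroup.map_sup,
        map_subgroupOf_eq_of_le a1, map_subtype_top] at b3
      rw [← h1]
      exact res_le_of_le_sup ((pCoreOf_le X).trans a2) (pg_core X) b3.ge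

/-- Solvable uniqueness groups in a simple QTKE-group. Let G be a non-abelian finite simple QTKE-group, T a Sylow 2-subgroup of G, and X a member of Ξ*(G, T): X = O²(X) is T-invariant with O₂(XT) ≠ 1, X/O₂(X) is elementary abelian of order p² or extraspecial of order p³ for an odd prime p, T is irreducible on the Frattini quotient of X/O₂(X), and XT lies in no ⟨L, T⟩ with L ∈ ℒ(G, T) and L/O₂(L) quasisimple. Then N_G(X) is the unique maximal 2-local subgroup of G containing XT, so that XT is a uniqueness subgroup. -/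
theorem result {G : Type*} [Group G] [Finite G] [IsSimpleGroup G]
    (hG : ¬ IsMulCommutative G) (hQ : Cfsg.IsQTKE G) (T : Sylow 2 G) (X : Subgroup G)
    (hX : X ∈ Cfsg.XiStar (T : Subgroup G)) :
    Cfsg.maxTwoLocalsContaining (X ⊔ (T : Subgroup G)) = {Subgroup.normalizer (X : Set G)} := by
  obtain ⟨p, hD, hO⟩ := xiD hX.1
  refine maxTwoLocals_eq hQ T ⟨hX.1.2.2.1, le_sup_right⟩ (fun e => hD.not_le (e.le.trans bot_le))
    le_sup_left fun H hH => ?_
  have hT : (T : Subgroup G) ≤ H := le_sup_right.trans hH.2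
  have hXH : X ≤ H := le_sup_left.trans hH.2
  have hD1 := hD.subgroupOf hXH hT
  set π := QuotientGroup.mk' (pCore 2 H)
  have hπ : Function.Surjective π := QuotientGroup.mk'_surjective _
  have hk : π.ker ≤ (T : Subgroup G).subgroupOf H := by
    rw [QuotientGroup.ker_mk']
    exact map_le_iff_le_comap.1 (Syl.of_sylow_le T hT).core_le
  have hkp : IsPGroup 2 π.ker := by
    rw [QuotientGroup.ker_mk']
    exact isPGroup_pCore 2
  have hD2 := hD1.map π (by
    refine le_trans ?_ (comap_mono hO)
    rw [← map_le_iff_le_comap]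
    refine le_pCoreOf ?_ ?_ ((hkp.to_inf_right).map _)
    · exact map_le_iff_le_comap.2 inf_le_left
    · have := map_norm_le H.subtype (norm_inf (X := X.subgroupOf H) le_normalizer
        (norm_normal _ π.ker))
      rwa [map_subgroupOf_eq_of_le hXH] at this)
  rcases hD2.normal_or (sqt_quot (sqt_of_calH hQ hH.1))
    (Inv.KG.isKGroup_quotient (kgroup_of_calH hG hQ hH.1) _) pCore_quotient_pCore with a | ⟨K, a, b⟩
  · have a1 := norm_res (p := 2) (norm_normal ⊤ (((X.subgroupOf H).map π).comap π))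
    rw [comap_map_eq, res_sup_eq (hk.trans hD1.norm) hkp, hD1.res, norm_subgroupOf hXH] at a1
    exact fun x hx => a1 (mem_top (⟨x, hx⟩ : H))
  · exfalso
    obtain ⟨L, hL, rfl⟩ := exists_calC_map π hπ isSolvable_ker_two (calC_of_isComponent a)
    obtain ⟨e⟩ := nonempty_quot_equiv hL.2.2.1
    have e1 := L.equivMapOfInjective _ H.subtype_injective
    refine hX.2 _ ((cc_map_iff.2 hL).mem_calL T ⟨hH.1, hT⟩) ((a.isQuasisimple.of_mulEquiv
      e.symm).of_mulEquiv (QuotientGroup.congr _ _ e1 (map_pCore_equiv e1))) (sup_le ?_ le_sup_right)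
    have b1 : (X.subgroupOf H).map π ≤ (L ⊔ (T : Subgroup G).subgroupOf H).map π := by
      rw [Subgroup.map_sup]
      exact b.trans ((ncl_mono le_sup_right le_rfl).trans (ncl_le_self le_sup_left))
    rw [Subgroup.map_le_map_iff, sup_assoc, sup_eq_left.2 hk] at b1
    have b2 := map_mono (f := H.subtype) b1
    rwa [Subgroup.map_sup, map_subgroupOf_eq_of_le hXH, map_subgroupOf_eq_of_le hT] at b2

end Cfsg.Agent.S1822
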