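import Mathlib
import Cfsg.Statements.S1820
import Cfsg.Agent.QT.CComp
import Cfsg.Agent.QT.CharTwo
import Cfsg.Agent.QT.KFam
import Cfsg.Agent.Loc.TechSchreier
import Cfsg.Agent.Inv.KGroup

set_option autoImplicit false
open Cfsg

namespace Cfsg.Agent.S1820

open Subgroup Cfsg.Agent.GT Cfsg.Agent.QT

theorem core_eq {H : Type*} [Group H] [Finite H] (hS : IsStronglyQuasithin H) (hK : IsKGroup H) :
    sSup (calC H) = perfectCore H := by
  have hP : ⁅perfectCore H, perfectCore H⁆ = perfectCore H := perfect_sSup fun _ h => h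
  refine le_antisymm (sSup_le fun L hL => le_sSup hL.2.1) ?_
  have hπ := QuotientGroup.mk'_surjective (rad H)
  refine perfect_le_of_le_sup (isSubnormal_sSup fun L hL => hL.2.2.1) (perfect_sSup fun L hL => hL.2.1)
    isSolvable_ker_rad hP (Subgroup.map_le_map_iff.1 ((Loc.perfect_le_layer_of_schreier (fun K h => ?_)
      (perfect_map hP _) (fun K h => ?_) ?_).trans (layer_le fun K h => ?_)))
  · obtain ⟨L, hL, rfl⟩ := exists_calC_map _ hπ isSolvable_ker_rad (calC_of_isComponent h)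
    have := h.2.isSimpleGroup_quotient
    have hφ : Function.Surjective ((QuotientGroup.mk' (center _)).comp
        ((QuotientGroup.mk' (rad H)).subgroupMap L)) :=
      (QuotientGroup.mk'_surjective _).comp (MonoidHom.subgroupMap_surjective _ L)
    exact ((kfam h.2.not_isMulCommutative_quotient (Inv.KG.known_of_surjective hK L _ hφ
      h.2.not_isMulCommutative_quotient)).1 (calC_cover hS hL h.2.not_isMulCommutative_quotient _ hφ)).1
  · obtain ⟨L, hL, rfl⟩ := exists_calC_map _ hπ isSolvable_ker_rad (calC_of_isComponent h)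
    refine (map_mono ?_).trans (le_normalizer_map _)
    rcases calC_normal_or hS hL with h1 | ⟨h1, -⟩
    · rw [normalizer_eq_top]
      exact le_top
    · have := normal_of_index_eq_two h1
      refine perfect_le_of_isSolvable_quotient hP ?_
      have := (IsPGroup.of_card (G := H ⧸ normalizer (L : Set H)) (p := 2) (n := 1) h1).isNilpotent
      infer_instance
  · rw [le_bot_iff.1 ((le_rad (Normal.isSubnormal fitting_normal) inferInstance).trans rad_quotient.le),
      le_centralizer_iff]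
    exact bot_le
  · obtain ⟨L, hL, rfl⟩ := exists_calC_map _ hπ isSolvable_ker_rad (calC_of_isComponent h)
    exact map_mono (le_sSup hL)

/-- The structure of the 𝒞-components of subgroups with nontrivial 2-core in a simple QTKE-group. Let G be a non-abelian finite simple QTKE-group and H a subgroup of G with O₂(H) ≠ 1. Then (1) the 𝒞-components of H (the minimal nontrivial perfect subnormal subgroups of H) generate H^∞, the largest perfect subgroup of H; (2) for distinct 𝒞-components L₁, L₂ of H one has [L₁, L₂] ≤ O₂(L₁) ∩ O₂(L₂) ≤ O₂(H); and (3) each 𝒞-component L of H is either normal in H, or has exactly two conjugates under H and L/O₂(L) is isomorphic to L₂(2ⁿ), to a Suzuki group, to L₂(p) for an odd prime p, or to the first Janko group J₁. -/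
theorem result {G : Type*} [Group G] [Finite G] [IsSimpleGroup G]
    (hG : ¬ IsMulCommutative G) (hQ : Cfsg.IsQTKE G) (H : Subgroup G) (hH : H ∈ Cfsg.calH G) :
    sSup (Cfsg.calC ↥H) = Cfsg.perfectCore ↥H ∧
    (∀ L₁ ∈ Cfsg.calC ↥H, ∀ L₂ ∈ Cfsg.calC ↥H, L₁ ≠ L₂ →
        ⁅L₁, L₂⁆ ≤ (Cfsg.pCore 2 ↥L₁).map L₁.subtype ⊓ (Cfsg.pCore 2 ↥L₂).map L₂.subtype ∧
        (Cfsg.pCore 2 ↥L₁).map L₁.subtype ⊓ (Cfsg.pCore 2 ↥L₂).map L₂.subtype ≤ Cfsg.pCore 2 ↥H) ∧
    (∀ L ∈ Cfsg.calC ↥H, L.Normal ∨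
        ((Subgroup.normalizer (L : Set ↥H)).index = 2 ∧
          ((∃ (F : Type) (_ : Field F) (_ : Fintype F), CharP F 2 ∧
              Nonempty (↥L ⧸ Cfsg.pCore 2 ↥L ≃* Matrix.ProjectiveSpecialLinearGroup (Fin 2) F)) ∨
            Cfsg.Lie.IsoSuzuki (↥L ⧸ Cfsg.pCore 2 ↥L) ∨
            (∃ (F : Type) (_ : Field F) (_ : Fintype F), (Fintype.card F).Prime ∧ Fintype.card F ≠ 2 ∧
              Nonempty (↥L ⧸ Cfsg.pCore 2 ↥L ≃* Matrix.ProjectiveSpecialLinearGroup (Fin 2) F)) ∨
            Cfsg.Spor.IsoJ1 (↥L ⧸ Cfsg.pCore 2 ↥L)))) := by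
  have hS := sqt_of_calH hQ hH
  have hK := kgroup_of_calH hG hQ hH
  refine ⟨core_eq hS hK, fun L₁ h₁ L₂ h₂ hne => ?_, fun L hL => (calC_normal_or hS hL).imp_right fun h => ?_⟩
  · have e₁ := pCoreOf_eq_inf_of_isSubnormal (p := 2) h₁.2.2.1
    have e₂ := pCoreOf_eq_inf_of_isSubnormal (p := 2) h₂.2.2.1
    have h3 := calC_comm hS h₁ h₂ hne
    have h4 := calC_comm_le_inf h₁ h₂
    exact ⟨le_inf (e₁.ge.trans' (le_inf h3 (h4.trans inf_le_left))) (e₂.ge.trans' (le_inf h3 (h4.trans inf_le_right))),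
      inf_le_left.trans (e₁.le.trans inf_le_left)⟩
  · have := h.2.1
    exact ⟨h.1, ((kfam h.2.2.1 (hK L _ this h.2.2.1)).2 h.2.2.2).1⟩

end Cfsg.Agent.S1820
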