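import Cfsg.Statements.S1821
import Cfsg.Agent.QT.CAmb
import Cfsg.Agent.S1820
-- import your own Cfsg.Agent.* helpers here

set_option autoImplicit false
open Cfsg

namespace Cfsg.Agent.S1821

open Cfsg.Agent.GT Cfsg.Agent.Loc Cfsg.Agent.Loc.Mss Cfsg.Agent.QT Subgroup

/-- Nonsolvable uniqueness groups in a simple QTKE-group. Let G be a non-abelian finite simple QTKE-group, T a Sylow 2-subgroup of G, and L a maximal member of ℒ(G, T) (so L is a 𝒞-component of ⟨L, T⟩, T is Sylow in ⟨L, T⟩ and O₂(⟨L, T⟩) ≠ 1, and L is maximal among such subgroups). Then (1) L is a 𝒞-component of every subgroup H of G with O₂(H) ≠ 1 containing ⟨L, T⟩; (2) F*(L) = O₂(L); and (3) N_G(⟨L^T⟩) is the unique maximal 2-local subgroup of G containing ⟨L, T⟩, so that ⟨L, T⟩ is a uniqueness subgroup. -/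
theorem result {G : Type*} [Group G] [Finite G] [IsSimpleGroup G]
    (hG : ¬ IsMulCommutative G) (hQ : Cfsg.IsQTKE G) (T : Sylow 2 G) (L : Subgroup G)
    (hL : L ∈ Cfsg.calLMax (T : Subgroup G)) :
    (∀ H ∈ Cfsg.calHOver (L ⊔ (T : Subgroup G)), L.subgroupOf H ∈ Cfsg.calC ↥H) ∧
    Cfsg.generalizedFittingSubgroup ↥L = Cfsg.pCore 2 ↥L ∧
    Cfsg.maxTwoLocalsContaining (L ⊔ (T : Subgroup G)) =
      {Subgroup.normalizer (Cfsg.conjClosure L (T : Subgroup G) : Set G)} := by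
  have hU : CC L (L ⊔ T) := (cc_iff le_sup_left).1 hL.1.1
  have hUH : L ⊔ (T : Subgroup G) ∈ calHOver (T : Subgroup G) := ⟨hL.1.2.2, le_sup_right⟩
  have h1 : ∀ H ∈ calHOver (L ⊔ (T : Subgroup G)), CC L H := fun H hH => by
    have hT : (T : Subgroup G) ≤ H := le_sup_right.trans hH.2
    obtain ⟨S, hS, -⟩ := (Syl.of_sylow_le T hT).exists_sylow
    have a1 := hU.subgroupOf hH.2
    rw [subgroupOf_sup (le_sup_left.trans hH.2) hT, ← hS] at a1
    obtain ⟨K, hK, a2⟩ := a1.exists_ge S (S1820.result hG hQ H hH.1).1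
    have a3 := cc_map_iff.2 hK
    rwa [hL.2 _ (a3.mem_calL T ⟨hH.1, hT⟩)
      ((subgroupOf_le_iff (le_sup_left.trans hH.2)).1 a2)] at a3
  refine ⟨fun H hH => (h1 H hH).calC, (genFitting_eq_pCore_iff Nat.prime_two).2 (chP_iff.2
    ((chP_of_even hQ.2.2 T hUH.1 hUH.2).of_subnormal hU.sub)), ?_⟩
  refine maxTwoLocals_eq hQ T (Y := ncl T L) hUH (fun e => hU.ne (le_bot_iff.1
    ((le_ncl _ _).trans e.le))) (ncl_le_iff.2 fun g hg =>
      cj_le_of_mem le_sup_left (mem_sup_right hg)) fun H hH => ?_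
  have hT : (T : Subgroup G) ≤ H := le_sup_right.trans hH.2
  have a1 : pResidualOf 2 H ≤ 𝐍[L] := by
    refine res_le_of_pow fun x hx => ⟨1, ?_⟩
    have a2 : (⟨x, hx⟩ : H) ^ 2 ∈ 𝐍[L.subgroupOf H] := by
      rcases calC_normal_or (sqt_of_calH hQ hH.1) (h1 H hH).calC with h | h
      · exact norm_normal ⊤ _ (mem_top _)
      · exact sq_mem_of_index_two h.1 _
    rw [norm_subgroupOf (h1 H hH).le] at a2
    exact a2
  refine (Syl.of_sylow_le T hT).le_of_res_le (norm_of_forall_cj_le fun g hg => ?_) (le_norm_ncl _ _)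
  rw [cj_le_iff_le_inv]
  refine ncl_le_iff.2 fun t ht => ?_
  rw [← cj_le_iff_le_inv, cj_cj, show g * t = t * (t⁻¹ * g * t) by group, ← cj_cj,
    cj_of_norm (a1 (conj_mem_of_norm' (le_norm_res H (hT ht)) hg))]
  exact cj_le_ncl L ht

end Cfsg.Agent.S1821
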