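import Mathlib
import Cfsg.Agent.Inv.G168Sub
import Cfsg.Statements.S1003

set_option autoImplicit false
open Cfsg

namespace Cfsg.Agent.S1003

open Cfsg.Agent.Inv.G168

/-- A simple group of order 168 has exactly 21 Sylow 2-subgroups, 28 Sylow 3-subgroups and 8 Sylow 7-subgroups. -/
theorem result {G : Type*} [Group G] [Finite G] [IsSimpleGroup G] (h : Nat.card G = 168) : Nat.card (Sylow 2 G) = 21 ∧ Nat.card (Sylow 3 G) = 28 ∧ Nat.card (Sylow 7 G) = 8 := by
  obtain ⟨e⟩ := exists_equiv h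
  have : Fact (Nat.Prime 2) := ⟨Nat.prime_two⟩
  have : Fact (Nat.Prime 3) := ⟨Nat.prime_three⟩
  have : Fact (Nat.Prime 7) := ⟨by norm_num⟩
  have h2 := card_sylow e (p := 2) P2 (by rw [card_P2, fact_two]; norm_num)
  have h3 := card_sylow e (p := 3) P3 (by rw [card_P3, fact_three]; norm_num)
  have h7 := card_sylow e (p := 7) P7 (by rw [card_P7, fact_seven]; norm_num)
  rw [norm_P2, card_P2] at h2
  rw [norm_P3, card_S3] at h3
  rw [norm_P7, card_B] at h7
  omega

end Cfsg.Agent.S1003
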