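import Mathlib
import Cfsg.Statements.S3861
import Cfsg.Agent.FG.H92Basic
import Cfsg.Agent.FG.RealSylow

set_option autoImplicit false
open Cfsg

namespace Cfsg.Agent.S3861

section aux

open Subgroup Cfsg.Agent.GT Cfsg.Agent.FG Cfsg.Agent.FG.H92
open scoped commutatorElement



end aux

open Subgroup Cfsg.Agent.GT Cfsg.Agent.FG Cfsg.Agent.FG.H92 in
open scoped commutatorElement in
/-- A finite group G has no non-identity element of odd order that is conjugate to its inverse if and only if the Sylow 2-subgroups of G are normal. -/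
theorem result {G : Type*} [Group G] [Finite G] (P : Sylow 2 G) : (∀ x : G, x ≠ 1 → Odd (orderOf x) → ¬ IsConj x x⁻¹) ↔ (P : Subgroup G).Normal := by
  constructor
  · intro h
    rw [CI.sylow_two_eq_pCore_of_no_inverted (fun t x _ hx ht => by
      by_contra h1
      exact h x h1 hx (isConj_iff.2 ⟨t, ht⟩)) P]
    infer_instance
  · intro hn x hx1 hx hc
    obtain ⟨g, hg⟩ := isConj_iff.1 hc
    obtain ⟨t, -, ht, ht2⟩ := CI.exists_two_elt_inverts hg
    have htP : t ∈ (P : Subgroup G) :=
      mem_sylow_of_mem_normalizer P ht (le_normalizer_of_normal (mem_top t))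
    have h1 : x⁻¹ * x⁻¹ ∈ (P : Subgroup G) := by
      have := (P : Subgroup G).mul_mem htP (hn.conj_mem _ ((P : Subgroup G).inv_mem htP) x)
      have e : t * (x * t⁻¹ * x⁻¹) = (t * x * t⁻¹) * x⁻¹ := by group
      rwa [e, ht2] at this
    have h2 : x ^ 2 ∈ (P : Subgroup G) := by
      rw [← inv_mem_iff, pow_two, mul_inv_rev]; exact h1
    have h3 : (orderOf x).Coprime 2 := Nat.coprime_two_right.2 hx
    have h4 : x ∈ (P : Subgroup G) := by
      have : x ∈ zpowers (x ^ 2) := by rw [mem_zpowers_pow_iff]; exact h3.symm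
      exact zpowers_le_of_mem h2 this
    exact hx1 (Tr.eq_one_of_coprime_of_isPGroup P.isPGroup' h4 h3)

end Cfsg.Agent.S3861
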