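import Mathlib
import Cfsg.Statements.S3863
import Cfsg.Agent.Inv.Counting

set_option autoImplicit false
open Cfsg

namespace Cfsg.Agent.S3863

/-- Let x be an element of the finite group G that is conjugate to its inverse. Then some 2-element conjugates x to its inverse; if the conjugacy class of x has odd size then x ^ 2 = 1; and x lies in, and is conjugate to its inverse inside, every normal subgroup of odd index. -/
theorem result {G : Type*} [Group G] [Finite G] (x : G) (hx : IsConj x x⁻¹) : (∃ t : G, (∃ j : ℕ, orderOf t = 2 ^ j) ∧ t * x * t⁻¹ = x⁻¹) ∧ (Odd (Subgroup.centralizer ({x} : Set G)).index → x ^ 2 = 1) ∧ ∀ (N : Subgroup G) [N.Normal], Odd N.index → ∃ hxN : x ∈ N, IsConj (⟨x, hxN⟩ : N) (⟨x, hxN⟩ : N)⁻¹ := by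
  refine ⟨Inv.exists_two_element_inverts hx, ?_, ?_⟩
  · intro hodd
    by_contra h
    rw [pow_two] at h
    have h1 := Subgroup.relIndex_dvd_index_of_le (Inv.centralizer_le_extCentralizer x)
    rw [Inv.relIndex_extCentralizer hx h] at h1
    exact (Nat.not_even_iff_odd.2 hodd) (even_iff_two_dvd.2 h1)
  · intro N _ hodd
    obtain ⟨t, ⟨j, hj⟩, ht⟩ := Inv.exists_two_element_inverts hx
    have key : ∀ (y : G) (k : ℕ), y ^ 2 ^ k ∈ N → y ∈ N := by
      intro y k hy
      rw [← QuotientGroup.eq_one_iff] at hy ⊢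
      have h1 : orderOf (y : G ⧸ N) ∣ 2 ^ k := orderOf_dvd_of_pow_eq_one (by simpa using hy)
      have h2 : Odd (orderOf (y : G ⧸ N)) := hodd.of_dvd_nat (orderOf_dvd_natCard _)
      exact orderOf_eq_one_iff.1 (((Nat.coprime_two_right.2 h2).pow_right k).eq_one_of_dvd h1)
    have htN : t ∈ N := key t j (by rw [← hj, pow_orderOf_eq_one]; exact one_mem _)
    have hxN : x ∈ N := by
      apply key x 1
      have h1 : x * t⁻¹ * x⁻¹ * t ∈ N := mul_mem (‹N.Normal›.conj_mem _ (inv_mem htN) x) htN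
      have h2 : x * t⁻¹ * x⁻¹ * t = x ^ 2 ^ 1 := by
        rw [← ht, pow_one, pow_two]; group
      exact h2 ▸ h1
    exact ⟨hxN, isConj_iff.2 ⟨⟨t, htN⟩, Subtype.ext ht⟩⟩

end Cfsg.Agent.S3863
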