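import Mathlib
import Cfsg.Statements.S0160
import Cfsg.Agent.Ch.FrobeniusSchur
import Cfsg.Agent.Ch.BrauerPerm

set_option autoImplicit false
open Cfsg

namespace Cfsg.Agent.S0160

/-- A finite group has as many real-valued irreducible complex characters as conjugacy classes closed under taking inverses. -/
theorem result {G : Type*} [Group G] [Finite G] : Nat.card {χ : Cfsg.IrrCharacter G // ∀ g : G, ((χ : G → ℂ) g).im = 0} = Nat.card {C : ConjClasses G // ∀ g : G, ConjClasses.mk g = C → IsConj g g⁻¹} := by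
  let τ : ConjClasses G → ConjClasses G := Quotient.map' (fun g : G => g⁻¹) (by
    intro a b hab
    obtain ⟨c, hc⟩ := isConj_iff.mp hab
    exact isConj_iff.mpr ⟨c, by rw [← hc]; group⟩)
  have hτ : ∀ g : G, τ (ConjClasses.mk g) = ConjClasses.mk g⁻¹ := fun g => rfl
  have h := Ch.card_fixed_irr_eq_card_fixed_classes (G := G)
    (fun χ => ⟨fun g => (starRingEnd ℂ) ((χ : G → ℂ) g), χ.2.complexConj⟩) τ (by
      intro χ g g' hg
      rw [hτ, ConjClasses.mk_eq_mk_iff_isConj] at hg
      simp only
      rw [χ.2.isCharacter.conj_apply, χ.2.isClassFunction.eq_of_isConj hg])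
  convert h using 4 with χ C
  · rw [Ch.FS.real_iff, Subtype.ext_iff, eq_comm]
  · obtain ⟨g, rfl⟩ := ConjClasses.mk_surjective C
    rw [hτ, ConjClasses.mk_eq_mk_iff_isConj]
    constructor
    · intro h; exact (h g rfl).symm
    · intro h x hx
      rw [ConjClasses.mk_eq_mk_iff_isConj] at hx
      obtain ⟨c, hc⟩ := isConj_iff.mp hx
      refine hx.trans (h.symm.trans (isConj_iff.mpr ⟨c⁻¹, ?_⟩))
      rw [← hc]; group

end Cfsg.Agent.S0160
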