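import Mathlib
import Cfsg.Statements.S0224
import Cfsg.Agent.Inv.SE

set_option autoImplicit false
open Cfsg

namespace Cfsg.Agent.S0224

/-- Let H be a proper subgroup of even order of the finite group G. Then H is strongly embedded if and only if each involution of H fixes exactly one point (namely the coset H) in the action of G on the cosets of H. -/
theorem result {G : Type*} [Group G] [Finite G] (H : Subgroup G) (hH : H ≠ ⊤) (heven : Even (Nat.card H)) : Cfsg.IsStronglyEmbedded H ↔ ∀ t ∈ H, orderOf t = 2 → Nat.card {c : G ⧸ H // t • c = c} = 1 := by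
  rw [Inv.isStronglyEmbedded_iff]
  have key : ∀ t ∈ H, (Nat.card {c : G ⧸ H // t • c = c} = 1 ↔ ∀ g : G, g * t * g⁻¹ ∈ H → g ∈ H) := by
    intro t ht
    rw [← Inv.forall_conj_inv_iff, ← Inv.existsUnique_fixed_coset_iff ht, Nat.card_eq_one_iff_exists]
    constructor
    · rintro ⟨⟨c, hc⟩, h⟩
      exact ⟨c, hc, fun d hd => congrArg Subtype.val (h ⟨d, hd⟩)⟩
    · rintro ⟨c, hc, h⟩
      exact ⟨⟨c, hc⟩, fun ⟨d, hd⟩ => Subtype.ext (h d hd)⟩
  constructor
  · rintro ⟨-, -, h⟩ t ht h2
    exact (key t ht).2 (h t ht h2)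
  · intro h
    exact ⟨hH, heven, fun t ht h2 => (key t ht).1 (h t ht h2)⟩

end Cfsg.Agent.S0224
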