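import Cfsg.Statements.S0344
import Cfsg.Agent.Perm.ZassField
import Cfsg.Agent.Perm.ZassSharp

set_option autoImplicit false
open Cfsg

namespace Cfsg.Agent.S0344

open Cfsg.Agent.Perm.Zass in

/-- A finite simple Zassenhaus group with a two-point stabiliser of even order is isomorphic to `PSL₂(F)` for a finite
field `F` with more than three elements. -/
theorem result {G Ω : Type*} [Group G] [Finite G] [MulAction G Ω] [Finite Ω]
    (hZ : Cfsg.IsZassenhausGroup G Ω) [IsSimpleGroup G]
    {a b : Ω} (hab : a ≠ b) (heven : Even (Nat.card ↥(MulAction.stabilizer G a ⊓ MulAction.stabilizer G b))) :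
    ∃ (F : Type) (_ : Field F) (_ : Fintype F), 3 < Fintype.card F ∧ Nonempty (G ≃* Matrix.ProjectiveSpecialLinearGroup (Fin 2) F) := by
  have hT := hZ.isZT
  obtain ⟨H, hH⟩ := hT.exists_isKer a
  obtain ⟨t, ht, hta, htb⟩ := hT.exists_swap hab
  have h1 := hH.card_add_one hT
  have h2 := hH.two_mul_of_simple hT hab heven
  have h3 := hZ.one_lt_card_stab2 hab
  obtain ⟨F, _, _, hF, h⟩ := hH.exists_iso hT hab h2.le ht hta htb fun x hx =>
    hT.inverts_of_even hab heven (by omega) hta htb hx
  obtain ⟨h4, -⟩ | ⟨-, -, h6⟩ := h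
  · omega
  exact ⟨F, inferInstance, inferInstance, by omega, h6⟩

end Cfsg.Agent.S0344
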