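import Cfsg.Statements.S0345
import Cfsg.Agent.Perm.ZassSharp

set_option autoImplicit false
open Cfsg

namespace Cfsg.Agent.S0345

open Cfsg.Agent.Perm.Zass in

/-- In a finite simple Zassenhaus group the stabiliser `H` of two points `a ≠ b` is cyclic, and some involution
interchanging `a` and `b` inverts every element of `H`. -/
theorem result {G Ω : Type*} [Group G] [Finite G] [MulAction G Ω] [Finite Ω]
    (hZ : Cfsg.IsZassenhausGroup G Ω) [IsSimpleGroup G]
    {a b : Ω} (hab : a ≠ b) :
    IsCyclic ↥(MulAction.stabilizer G a ⊓ MulAction.stabilizer G b) ∧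
      ∃ v : G, orderOf v = 2 ∧ v • a = b ∧ v • b = a ∧ ∀ h ∈ MulAction.stabilizer G a ⊓ MulAction.stabilizer G b, v * h * v⁻¹ = h⁻¹ := by
  have hT := hZ.isZT
  obtain ⟨H, hH⟩ := hT.exists_isKer a
  obtain ⟨t, ht, hta, htb⟩ := hT.exists_swap hab
  have hinv : ∀ h ∈ MulAction.stabilizer G a ⊓ MulAction.stabilizer G b, t * h * t⁻¹ = h⁻¹ := by
    rcases Nat.even_or_odd (Nat.card ↥(MulAction.stabilizer G a ⊓ MulAction.stabilizer G b)) with he | he
    · have h1 := hH.card_add_one hT
      have h2 := hH.two_mul_of_simple hT hab he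
      exact fun x hx => hT.inverts_of_even hab he (by omega) hta htb hx
    · exact hT.inverts_of_simple hab he hta htb
  exact ⟨hT.isCyclic_of_inverts hab hinv, t, orderOf_eq_two_iff'.mpr
    ⟨ht, fun e => hab (by rw [← hta, e, one_smul])⟩, hta, htb, hinv⟩

end Cfsg.Agent.S0345
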