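import Cfsg.Statements.S0346
import Cfsg.Agent.Perm.ZassFeit

set_option autoImplicit false
open Cfsg

namespace Cfsg.Agent.S0346

/-- The number of points of a finite simple Zassenhaus group is `p^k + 1` for some prime power `p^k` (the regular normal
subgroup of a point stabiliser is a `p`-group). -/
theorem result {G Ω : Type*} [Group G] [Finite G] [MulAction G Ω] [Fintype Ω]
    (hZ : Cfsg.IsZassenhausGroup G Ω) [IsSimpleGroup G] :
    IsPrimePow (Fintype.card Ω - 1) := by
  have hT := hZ.isZT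
  have := Fintype.ofFinite G
  obtain ⟨a⟩ := hT.nonempty
  obtain ⟨b, hb⟩ := hT.exists_ne a
  obtain ⟨H, hH⟩ := hT.exists_isKer a
  have hc := hH.card_add_one hT
  have h1 := (Subgroup.one_lt_card_iff_ne_bot H).mpr (hH.ne_bot hT)
  have : ∃ p : ℕ, p.Prime ∧ IsPGroup p H := by
    rcases Nat.even_or_odd (Nat.card ↥(MulAction.stabilizer G a ⊓ MulAction.stabilizer G b)) with he | he
    · have h2 := hT.card_le_of_even hb.symm he
      obtain ⟨p, f, hp, -, h3⟩ := hH.exists_prime_of_le hT hb (by omega)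
      exact ⟨p, hp, IsPGroup.of_card h3⟩
    · exact hH.isPGroup_of_inverts hT hb.symm he
        (fun s hsa hsb => hT.inverts_of_simple hb.symm he hsa hsb) (hZ.one_lt_card_stab2 hb.symm)
  obtain ⟨p, hp, hP⟩ := this
  have := Fact.mk hp
  obtain ⟨n, hn⟩ := hP.exists_card_eq
  rw [← Nat.card_eq_fintype_card, ← hc, Nat.add_sub_cancel, hn]
  exact ⟨p, n, hp.prime, Nat.pos_of_ne_zero fun e => by simp [hn, e] at h1, rfl⟩

end Cfsg.Agent.S0346
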