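import Cfsg.Statements.S0347
import Cfsg.Agent.Perm.ZassOdd

set_option autoImplicit false
open Cfsg

namespace Cfsg.Agent.S0347

/-- If in a finite simple Zassenhaus group the stabiliser of a point `x` has a normal `2`-subgroup `U` which is
non-abelian and acts regularly on the points other than `x`, then the group is simple of Suzuki order (order-level
predicate `IsSuzuki`). -/
theorem result {G Ω : Type*} [Group G] [Finite G] [MulAction G Ω] [Finite Ω]
    (hZ : Cfsg.IsZassenhausGroup G Ω) [IsSimpleGroup G]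
    (x : Ω) (U : Subgroup G) (hUle : U ≤ MulAction.stabilizer G x) (hUn : (U.subgroupOf (MulAction.stabilizer G x)).Normal)
    (hU2 : IsPGroup 2 U) (hUna : ∃ u v : U, u * v ≠ v * u)
    (hreg : ∀ y z : Ω, y ≠ x → z ≠ x → ∃! u : U, (u : G) • y = z) :
    Cfsg.IsSuzuki G := by
  have hT := hZ.isZT
  have hH := hT.isKer_of_reg hUle hreg
  obtain ⟨b, hb⟩ := hT.exists_ne x
  obtain ⟨u, v, huv⟩ := hUna
  obtain ⟨n, hn⟩ := hU2.exists_card_eq
  have hodd : Odd (Nat.card Ω) := by
    have h1 := (Subgroup.one_lt_card_iff_ne_bot U).mpr (hH.ne_bot hT)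
    rw [← hH.card_add_one hT, hn]
    exact (Nat.even_pow.mpr ⟨even_two, by rintro rfl; omega⟩).add_one
  obtain ⟨F, _, m, _, -, -, -, -, ⟨e⟩⟩ := hH.exists_sz hT hb.symm (hT.odd_card_stab2 hodd hb.symm)
    (hZ.one_lt_card_stab2 hb.symm) hU2 ⟨u, u.2, v, v.2, fun e => huv (Subtype.ext e)⟩
  exact Perm.Zass.isSuzuki_of_isoSuzuki (Perm.Zass.isoSuzuki_of_equiv e)

end Cfsg.Agent.S0347
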