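import Mathlib
import Cfsg.Statements.S3889
import Cfsg.Agent.GT.PiGroups

set_option autoImplicit false
open Cfsg

namespace Cfsg.Agent.S3889

section aux

open Subgroup Cfsg.Agent.GT 
open scoped commutatorElement



end aux

open Subgroup Cfsg.Agent.GT  in
open scoped commutatorElement in
/-- A finite abelian group that is the union of a family of proper subgroups any two of which intersect trivially is elementary abelian: its exponent is a prime. -/
theorem result {G : Type*} [CommGroup G] [Finite G] (𝓑 : Set (Subgroup G)) (hprop : ∀ B ∈ 𝓑, B ≠ ⊤)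
    (hcov : ∀ g : G, ∃ B ∈ 𝓑, g ∈ B) (hdisj : ∀ B ∈ 𝓑, ∀ C ∈ 𝓑, B ≠ C → B ⊓ C = ⊥) :
    (Monoid.exponent G).Prime := by
  have key : ∀ B ∈ 𝓑, ∀ x ∈ B, x ≠ 1 → ∀ y, y ∉ B → orderOf x = orderOf y := by
    have k1 : ∀ B ∈ 𝓑, ∀ C ∈ 𝓑, ∀ x ∈ B, ∀ y ∈ C, y ∉ B → orderOf x ∣ orderOf y := by
      intro B hB C hC x hx y hy hyB
      obtain ⟨D, hD, hxy⟩ := hcov (x * y)
      have hDB : D ≠ B := by
        rintro rfl
        exact hyB (by simpa using D.mul_mem (D.inv_mem hx) hxy)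
      rw [orderOf_dvd_iff_pow_eq_one, ← mem_bot, ← hdisj D hD B hB hDB]
      refine ⟨?_, B.pow_mem hx _⟩
      have := D.pow_mem hxy (orderOf y)
      rwa [mul_pow, pow_orderOf_eq_one, mul_one] at this
    intro B hB x hx hx1 y hy
    obtain ⟨C, hC, hyC⟩ := hcov y
    refine Nat.dvd_antisymm (k1 B hB C hC x hx y hyC hy) (k1 C hC B hB y hyC x hx fun h => hx1 ?_)
    rw [← mem_bot, ← hdisj B hB C hC (fun h => hy (h ▸ hyC))]
    exact ⟨hx, h⟩
  have hex : ∀ B ∈ 𝓑, ∃ y, y ∉ B := fun B hB => by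
    by_contra h
    push Not at h
    exact hprop B hB (eq_top_iff.2 fun y _ => h y)
  obtain ⟨B0, hB0, -⟩ := hcov 1
  obtain ⟨y0, hy0⟩ := hex B0 hB0
  have : Nontrivial G := ⟨⟨y0, 1, fun h => hy0 (h ▸ B0.one_mem)⟩⟩
  obtain ⟨p, hp, hpd⟩ := exists_prime_dvd_card (G := G)
  have : Fact p.Prime := ⟨hp⟩
  obtain ⟨x, hx⟩ := exists_prime_orderOf_dvd_card' p hpd
  have hx1 : x ≠ 1 := by
    rintro rfl
    rw [orderOf_one] at hx
    exact hp.one_lt.ne hx
  obtain ⟨B, hB, hxB⟩ := hcov x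
  obtain ⟨y, hy⟩ := hex B hB
  have : Monoid.exponent G = p := by
    rw [Monoid.exponent_eq_prime_iff hp]
    intro g hg
    by_cases hgB : g ∈ B
    · rw [key B hB g hgB hg y hy, ← key B hB x hxB hx1 y hy, hx]
    · rw [← key B hB x hxB hx1 g hgB, hx]
  rwa [this]

end Cfsg.Agent.S3889
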