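import Mathlib
import Cfsg.Statements.S3890
import Cfsg.Agent.FG.H92Basic
import Cfsg.Agent.S3889
import Cfsg.Agent.GT.TransferEval

set_option autoImplicit false
open Cfsg

namespace Cfsg.Agent.S3890

section aux

open Subgroup Cfsg.Agent.GT Cfsg.Agent.FG Cfsg.Agent.FG.H92
open scoped commutatorElement

variable {G : Type*} [Group G] [Finite G] {p : ℕ} [hp : Fact p.Prime]

theorem le_cent_of_nilpotent (P : Sylow p G) (hab : IsMulCommutative (P : Subgroup G))
    {A : Subgroup G} (hA : Group.IsNilpotent A) {x : G} (hx : x ∈ A)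
    (hxo : ∃ k, orderOf x = p ^ k) : A ≤ centralizer ({x} : Set G) := by
  rw [← pCoreOf_sup_pPrimeCoreOf p A]
  have hxp : x ∈ pCoreOf p A :=
    le_pCoreOf_of_isNilpotent (zpowers_le_of_mem hx) (CI.isPGroup_zpowers hxo) (mem_zpowers x)
  refine sup_le (fun y hy => CI.mem_cent.2 ?_) (fun y hy => CI.mem_cent_commute.2 ?_)
  · obtain ⟨g, hg⟩ := Tr.exists_conj_le_sylow P (isPGroup_pCoreOf p A)
    have := comm_of_isMulCommutative hab (hg y hy) (hg x hxp)
    calc y * x = g⁻¹ * (g * y * g⁻¹ * (g * x * g⁻¹)) * g := by group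
      _ = x * y := by rw [this]; group
  · apply commute_of_coprime_of_isNilpotent (pPrimeCoreOf_le A hy) hx
    obtain ⟨k, hk⟩ := hxo
    rw [hk]
    exact Nat.Coprime.pow_right _ (Nat.Coprime.coprime_dvd_left
      (Subgroup.orderOf_dvd_natCard _ hy) (coprime_card_pPrimeCoreOf p A))

theorem core (hZ : Subgroup.center G = ⊥) (𝓐 : Finset (Subgroup G))
    (h𝓐 : ((∀ A ∈ 𝓐, A ≠ ⊤) ∧ (∀ g : G, ∃ A ∈ 𝓐, g ∈ A)) ∧ (∀ 𝓑 : Finset (Subgroup G), (∀ A ∈ 𝓑, A ≠ ⊤) ∧ (∀ g : G, ∃ A ∈ 𝓑, g ∈ A) → 𝓐.card ≤ 𝓑.card) ∧ (∀ A ∈ 𝓐, Group.IsNilpotent ↥A))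
    (P : Sylow p G) (hab : IsMulCommutative ↥(P : Subgroup G))
    (hnn : ¬ (P : Subgroup G).Normal)
    (hne : ¬ (IsElementaryAbelian p (P : Subgroup G) ∧ p < Nat.card ↥(P : Subgroup G))) :
    centralizer ((P : Subgroup G) : Set G) ∈ 𝓐 ∧
      (∀ M : Subgroup G, M ≠ ⊤ → centralizer ((P : Subgroup G) : Set G) ≤ M →
        M ≤ normalizer ((P : Subgroup G) : Set G)) ∧
      ∀ Q : Sylow p G, Q ≠ P → (P : Subgroup G) ⊓ Q = ⊥ := by
  obtain ⟨⟨h1, h2⟩, h3, h4⟩ := h𝓐
  have huniq : ∀ x : G, x ≠ 1 → (∃ k, orderOf x = p ^ k) → ∀ A ∈ 𝓐, ∀ B ∈ 𝓐, x ∈ A → x ∈ B →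
      A = B := by
    intro x hx1 hxo A hA B hB hxA hxB
    by_contra hAB
    have h5 := sup_le (le_cent_of_nilpotent P hab (h4 A hA) hxA hxo)
      (le_cent_of_nilpotent P hab (h4 B hB) hxB hxo)
    rw [sup_eq_top_of_minimal_cover 𝓐 h1 h2 h3 hA hB hAB, top_le_iff, CI.cent_eq_top_iff, hZ] at h5
    exact hx1 h5
  have hQ : ∀ Q : Sylow p G, IsMulCommutative (Q : Subgroup G) ∧
      centralizer ((Q : Subgroup G) : Set G) ∈ 𝓐 := by
    intro Q
    let e := (Sylow.equiv Q P).symm
    have hQab : IsMulCommutative (Q : Subgroup G) :=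
      ⟨⟨fun a b => e.symm.injective (by rw [map_mul, map_mul, hab.is_comm.comm])⟩⟩
    have hQ0 : (Q : Subgroup G) ≠ ⊥ := by
      intro h
      apply hnn
      have : (P : Subgroup G) = ⊥ := by
        rw [← card_eq_one, Nat.card_congr e.toEquiv, h, card_bot]
      rw [this]; infer_instance
    obtain ⟨x, hxQ, hx1⟩ := exists_ne_one_of_ne_bot hQ0
    obtain ⟨A, hA, hQA⟩ : ∃ A ∈ 𝓐, (Q : Subgroup G) ≤ A := by
      by_contra hcon
      push Not at hcon
      apply hne
      have hexp : (Monoid.exponent (Q : Subgroup G)).Prime := by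
        let _ : CommGroup (Q : Subgroup G) := { mul_comm := hQab.is_comm.comm }
        refine S3889.result ((fun A => A.subgroupOf Q) '' (𝓐 : Set (Subgroup G))) ?_ ?_ ?_
        · rintro _ ⟨A, hA, rfl⟩ h
          exact hcon A hA (subgroupOf_eq_top.1 h)
        · intro g
          obtain ⟨A, hA, hg⟩ := h2 g
          exact ⟨_, ⟨A, hA, rfl⟩, hg⟩
        · rintro _ ⟨A, hA, rfl⟩ _ ⟨B, hB, rfl⟩ hAB
          rw [eq_bot_iff_forall]
          intro y hy
          by_contra hy1
          exact hAB (congrArg (fun A : Subgroup G => A.subgroupOf Q) (huniq y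
            (fun h => hy1 (Subtype.ext h)) (CI.orderOf_of_mem Q.isPGroup' y.2) A hA B hB hy.1 hy.2))
      obtain ⟨n, hn⟩ := Q.isPGroup'.exists_card_eq
      have hexp2 : Monoid.exponent (Q : Subgroup G) = p := by
        have := Group.exponent_dvd_nat_card (G := (Q : Subgroup G))
        rw [hn] at this
        exact (Nat.prime_dvd_prime_iff_eq hexp hp.out).1 (hexp.dvd_of_dvd_pow this)
      refine ⟨⟨hab, fun a ha => ?_⟩, ?_⟩
      · have := Monoid.pow_exponent_eq_one (e ⟨a, ha⟩)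
        rw [hexp2, ← map_pow, MulEquiv.map_eq_one_iff] at this
        exact congrArg Subtype.val this
      · rw [Nat.card_congr e.toEquiv]
        by_contra hlt
        obtain ⟨A, hA, hxA⟩ := h2 x
        apply hcon A hA
        have h5 : Nat.card (zpowers x) = p := by
          rw [Nat.card_zpowers]
          have := Monoid.pow_exponent_eq_one (⟨x, hxQ⟩ : (Q : Subgroup G))
          rw [hexp2] at this
          exact orderOf_eq_prime (congrArg Subtype.val this) hx1
        rw [← Subgroup.eq_of_le_of_card_ge (zpowers_le_of_mem hxQ) (by omega)]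
        exact zpowers_le_of_mem hxA
    refine ⟨hQab, ?_⟩
    suffices centralizer ((Q : Subgroup G) : Set G) = A from this ▸ hA
    apply le_antisymm
    · intro c hc
      obtain ⟨a, ha, b, hb, hao, hbo, rfl⟩ := Tr.exists_pPart_mul_pPrimePart (p := p) c
      refine A.mul_mem (hQA (mem_sylow_of_mem_normalizer Q hao
        (centralizer_le_normalizer _ (zpowers_le_of_mem hc ha)))) ?_
      obtain ⟨B, hB, hxb⟩ := h2 (x * b)
      have hcomm : Commute x b := zpowers_le_of_mem hc hb x hxQ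
      obtain ⟨k, hk⟩ := CI.orderOf_of_mem Q.isPGroup' hxQ
      have hxB : x ∈ B := by
        have h5 := B.pow_mem hxb (orderOf b)
        rw [hcomm.mul_pow, pow_orderOf_eq_one, mul_one] at h5
        exact Tr.mem_of_pow_mem_of_coprime h5 (hk ▸ Nat.Coprime.pow_left _ hbo.symm)
      rw [huniq x hx1 ⟨k, hk⟩ A hA B hB (hQA hxQ) hxB]
      simpa using B.mul_mem (B.inv_mem hxB) hxb
    · intro a ha y hy
      exact (CI.mem_cent.1 (le_cent_of_nilpotent P hab (h4 A hA) (hQA hy)
        (CI.orderOf_of_mem Q.isPGroup' hy) ha)).symm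
  have heq : ∀ Q : Sylow p G, centralizer ((Q : Subgroup G) : Set G) =
      centralizer ((P : Subgroup G) : Set G) → Q = P := fun Q h =>
    sylow_eq_of_le (le_sylow_of_le_normalizer P Q.isPGroup'
      (((isMulCommutative_iff_le.1 (hQ Q).1).trans h.le).trans (centralizer_le_normalizer _)))
  refine ⟨(hQ P).2, fun M hM hCM m hm => ?_, fun Q hQP => ?_⟩
  · rw [← map_conj_eq_self_iff, ← coe_smul_sylow_eq_map_conj]
    congr 1
    apply heq
    by_contra h5
    apply hM
    rw [eq_top_iff, ← sup_eq_top_of_minimal_cover 𝓐 h1 h2 h3 (hQ _).2 (hQ P).2 h5]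
    refine sup_le ?_ hCM
    rw [coe_smul_sylow_eq_map_conj, centralizer_map_conj]
    exact map_conj_le_of_mem hCM hm
  · rw [eq_bot_iff_forall]
    intro x hx
    by_contra hx1
    exact hQP (heq Q (huniq x hx1 (CI.orderOf_of_mem P.isPGroup' hx.1) _ (hQ Q).2 _ (hQ P).2
      (isMulCommutative_iff_le.1 (hQ Q).1 hx.2) (isMulCommutative_iff_le.1 hab hx.1)))

theorem coatom {N C : Subgroup G} (hN : N ≠ ⊤) (hC : C ≤ N)
    (h : ∀ M : Subgroup G, M ≠ ⊤ → C ≤ M → M ≤ N) : IsCoatom N :=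
  ⟨hN, fun M hM => by
    by_contra h1
    exact hM.not_ge (h M h1 (hC.trans hM.le))⟩

end aux

open Subgroup Cfsg.Agent.GT Cfsg.Agent.FG Cfsg.Agent.FG.H92 in
open scoped commutatorElement in
/-- A cover of a group is a finite set of proper subgroups whose union is the whole group; it is minimal when no cover has fewer members, and nilpotent when all its members are nilpotent. Let G be a finite group with trivial center admitting a nilpotent minimal cover 𝓐, and let P be an abelian Sylow p-subgroup of G that is not normal. Then either P is elementary abelian of order greater than p, or P is a Sylow p-subgroup of some member A of 𝓐, the normalizer N of P is a maximal subgroup of G, N meets each of its conjugates by elements outside N in a subgroup of order prime to p, and the centralizer of P equals A. -/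
theorem result {G : Type*} [Group G] [Finite G] (hZ : Subgroup.center G = ⊥) (𝓐 : Finset (Subgroup G))
    (h𝓐 : ((∀ A ∈ 𝓐, A ≠ ⊤) ∧ (∀ g : G, ∃ A ∈ 𝓐, g ∈ A)) ∧ (∀ 𝓑 : Finset (Subgroup G), (∀ A ∈ 𝓑, A ≠ ⊤) ∧ (∀ g : G, ∃ A ∈ 𝓑, g ∈ A) → 𝓐.card ≤ 𝓑.card) ∧ (∀ A ∈ 𝓐, Group.IsNilpotent ↥A)) {p : ℕ} [Fact p.Prime] (P : Sylow p G) (hab : IsMulCommutative ↥(P : Subgroup G))
    (hnn : ¬ (P : Subgroup G).Normal) :
    (Cfsg.IsElementaryAbelian p (P : Subgroup G) ∧ p < Nat.card ↥(P : Subgroup G)) ∨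
    (∃ A ∈ 𝓐, (P : Subgroup G) ≤ A ∧ ¬ p ∣ ((P : Subgroup G).subgroupOf A).index ∧
      IsCoatom (Subgroup.normalizer ((P : Subgroup G) : Set G)) ∧
      (∀ g : G, g ∉ Subgroup.normalizer ((P : Subgroup G) : Set G) →
        ¬ p ∣ Nat.card ↥(Subgroup.normalizer ((P : Subgroup G) : Set G) ⊓
          (Subgroup.normalizer ((P : Subgroup G) : Set G)).map (MulAut.conj g).toMonoidHom)) ∧
      Subgroup.centralizer ((P : Subgroup G) : Set G) = A) := by
  by_cases hne : IsElementaryAbelian p (P : Subgroup G) ∧ p < Nat.card ↥(P : Subgroup G)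
  · exact Or.inl hne
  obtain ⟨h1, h2, h3⟩ := core hZ 𝓐 h𝓐 P hab hnn hne
  have h4 := isMulCommutative_iff_le.1 hab
  refine Or.inr ⟨_, h1, h4, ?_, coatom (fun h => hnn (normalizer_eq_top_iff.1 h))
    (centralizer_le_normalizer _) h2, fun g hg hd => ?_, rfl⟩
  · exact fun h => P.not_dvd_index (h.trans (relIndex_dvd_index_of_le h4))
  · obtain ⟨x, hx, hxo⟩ := exists_mem_orderOf_eq_prime Fact.out hd
    have h5 := h3 (g • P) (fun h => hg (by
      rw [← map_conj_eq_self_iff, ← coe_smul_sylow_eq_map_conj, h]))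
    have h6 : x ∈ (P : Subgroup G) ⊓ (g • P : Sylow p G) := by
      refine ⟨mem_sylow_of_mem_normalizer P ⟨1, by simpa using hxo⟩ hx.1,
        mem_sylow_of_mem_normalizer _ ⟨1, by simpa using hxo⟩ ?_⟩
      rw [coe_smul_sylow_eq_map_conj, normalizer_map_conj]
      exact hx.2
    rw [h5, mem_bot] at h6
    rw [h6, orderOf_one] at hxo
    exact (Fact.out : p.Prime).one_lt.ne hxo

end Cfsg.Agent.S3890
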