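import Mathlib
import Cfsg.Statements.S0460
import Cfsg.Agent.Spor.ON.Main
import Cfsg.Agent.Spor.Comp.Iso2
import Cfsg.Agent.Inv.J1Iso
import Cfsg.Agent.Spor.MX.MathieuGen
import Cfsg.Agent.Spor.MX.Glue3

set_option autoImplicit false
open Cfsg

namespace Cfsg.Agent.S0460

open Spor Spor.MON Function

/-- Words for the letters of `J₁`. -/
noncomputable def WJ : LT :=
  (.node (.node (.node (.leaf [nat_lit 7,nat_lit 4,nat_lit 3,nat_lit 6,nat_lit 2,nat_lit 3,nat_lit 5,nat_lit 4,nat_lit 3,nat_lit 7,nat_lit 5,nat_lit 2,nat_lit 3,nat_lit 2,nat_lit 4,nat_lit 6,nat_lit 3,nat_lit 2,nat_lit 3,nat_lit 5,nat_lit 4,nat_lit 3,nat_lit 2,nat_lit 3,nat_lit 2,nat_lit 4,nat_lit 3,nat_lit 2,nat_lit 1,nat_lit 5,nat_lit 3,nat_lit 2,nat_lit 5,nat_lit 1,nat_lit 5])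
  (.leaf [nat_lit 5,nat_lit 3,nat_lit 2,nat_lit 3,nat_lit 6,nat_lit 5,nat_lit 6,nat_lit 1,nat_lit 5,nat_lit 3,nat_lit 2,nat_lit 3,nat_lit 1,nat_lit 5]))
  (.leaf [nat_lit 7,nat_lit 4,nat_lit 2,nat_lit 6,nat_lit 5,nat_lit 4,nat_lit 3,nat_lit 6,nat_lit 2,nat_lit 1,nat_lit 5,nat_lit 3,nat_lit 2,nat_lit 5,nat_lit 1,nat_lit 4,nat_lit 3,nat_lit 2,nat_lit 3,nat_lit 5,nat_lit 0,nat_lit 4,nat_lit 2,nat_lit 3,nat_lit 2,nat_lit 4,nat_lit 5,nat_lit 3,nat_lit 2,nat_lit 1,nat_lit 3,nat_lit 6,nat_lit 3,nat_lit 7,nat_lit 5]))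
  (.node (.leaf [nat_lit 6,nat_lit 5,nat_lit 6,nat_lit 2,nat_lit 3,nat_lit 2,nat_lit 4,nat_lit 7,nat_lit 5,nat_lit 2,nat_lit 3,nat_lit 2,nat_lit 3,nat_lit 5,nat_lit 6,nat_lit 2,nat_lit 3,nat_lit 2,nat_lit 5])
  (.leaf [nat_lit 7,nat_lit 5,nat_lit 2,nat_lit 4,nat_lit 3,nat_lit 2,nat_lit 3,nat_lit 5,nat_lit 4,nat_lit 2,nat_lit 3,nat_lit 6,nat_lit 5,nat_lit 6,nat_lit 5,nat_lit 3,nat_lit 2,nat_lit 3,nat_lit 2,nat_lit 5,nat_lit 3,nat_lit 2,nat_lit 4,nat_lit 5,nat_lit 3,nat_lit 2,nat_lit 3,nat_lit 2,nat_lit 1,nat_lit 5,nat_lit 6])))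

/-- Words for the letters of `M₁₁`. -/
noncomputable def WM : LT :=
  (.node (.node (.leaf [nat_lit 2,nat_lit 3,nat_lit 7,nat_lit 5,nat_lit 3,nat_lit 2,nat_lit 4,nat_lit 2,nat_lit 6,nat_lit 5,nat_lit 2,nat_lit 3,nat_lit 2,nat_lit 3,nat_lit 5,nat_lit 7])
  (.leaf [nat_lit 0,nat_lit 6,nat_lit 5,nat_lit 2,nat_lit 4,nat_lit 6,nat_lit 3,nat_lit 2,nat_lit 4,nat_lit 6,nat_lit 3,nat_lit 2,nat_lit 3,nat_lit 5,nat_lit 7,nat_lit 4,nat_lit 5,nat_lit 3,nat_lit 2,nat_lit 3,nat_lit 4,nat_lit 2,nat_lit 5,nat_lit 3,nat_lit 2,nat_lit 4,nat_lit 2,nat_lit 3,nat_lit 2,nat_lit 5,nat_lit 3,nat_lit 2]))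
  (.leaf [nat_lit 6,nat_lit 5,nat_lit 7,nat_lit 3,nat_lit 2,nat_lit 4,nat_lit 6,nat_lit 3,nat_lit 2,nat_lit 3,nat_lit 5,nat_lit 6,nat_lit 3,nat_lit 0,nat_lit 2,nat_lit 1,nat_lit 5,nat_lit 7]))

theorem exists_sub {A B : Type*} [Group A] [Group B] [IsSimpleGroup A] (ψ : A →* B) (h : ψ.range ≠ ⊥) :
    ∃ K : Subgroup B, IsSimpleGroup K ∧ Nat.card K = Nat.card A := by
  have h1 : Injective ψ := (MonoidHom.ker_eq_bot_iff ψ).1 (ψ.normal_ker.eq_bot_or_eq_top.resolve_right fun h2 =>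
    h (eq_bot_iff.2 (by rintro _ ⟨a, rfl⟩; exact (h2 ▸ Subgroup.mem_top a : a ∈ ψ.ker))))
  exact ⟨ψ.range, (MonoidHom.ofInjective h1).symm.isSimpleGroup, Nat.card_congr (MonoidHom.ofInjective h1).symm.toEquiv⟩

theorem hom_j1 {G : Type*} [Group G] [Finite G] {k : ℕ → G} (h : ∀ w ∈ Inv.J1.W0 ++ Inv.J1.WA, evalW k w = 1) :
    ∃ ψ : Cfsg.Spor.J1 →* G, k 0 ∈ ψ.range := by
  have : Finite Cfsg.Spor.J1 := Nat.finite_of_card_ne_zero (by rw [MJ1.card_J1]; norm_num)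
  obtain ⟨g', h', htop⟩ := Inv.J1.j1_lets
  set D := genLt (fun x => (k x, g' x)) 5
  have h2 : Nat.card D ≤ 175560 := Inv.J1.card_le fun w hw => Prod.ext
    ((map_evalW (MonoidHom.fst G _) (fun x => (k x, g' x)) w).trans (h w hw))
    ((map_evalW (MonoidHom.snd G _) (fun x => (k x, g' x)) w).trans (h' w hw))
  let f : D →* Cfsg.Spor.J1 := (MonoidHom.snd _ _).comp D.subtype
  have h3 : Surjective f := by
    rw [← MonoidHom.range_eq_top, eq_top_iff, ← htop]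
    exact genLt_le fun x hx => ⟨⟨_, mem_genLt _ hx⟩, rfl⟩
  let F := MulEquiv.ofBijective f (h3.bijective_of_nat_card_le (MJ1.card_J1 ▸ h2))
  exact ⟨((MonoidHom.fst _ _).comp D.subtype).comp F.symm.toMonoidHom, F ⟨_, mem_genLt _ (x := 0) (by norm_num)⟩, by simp⟩

theorem ne_bot {A : Type*} [Group A] {ψ : A →* Cfsg.Spor.ON} {w : List ℕ} (h : evalW g w ∈ ψ.range)
    (hw : band (lettersLt 8 w) (!Nat.beq (traceP S w 0) 0) = true) :
    (phi.rangeRestrict.comp ψ).range ≠ ⊥ := fun h1 => by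
  obtain ⟨a, ha⟩ := h
  rw [band_iff] at hw
  refine tabs0.ne_one (finE_injOn _) hw.1 (i := 0) (by decide) (by simpa using hw.2) (phi_injective ?_)
  rw [← ha, map_one]
  exact congrArg Subtype.val (show phi.rangeRestrict (ψ a) = 1 from Subgroup.mem_bot.1 (h1 ▸ ⟨a, rfl⟩))

/-- The O'Nan group exists as a transitive permutation group of degree 122760: simple of order 460815505920, point stabiliser of order 3753792, and containing simple subgroups of orders 175560 and 7920. -/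
theorem result : ∃ H : Subgroup (Equiv.Perm (Fin 122760)), Cfsg.IsON H ∧ MulAction.IsPretransitive H (Fin 122760) ∧ Nat.card (MulAction.stabilizer H (0 : Fin 122760)) = 3753792 ∧ (∃ K : Subgroup H, Cfsg.IsJ1 K) ∧ (∃ K : Subgroup H, Cfsg.IsM11 K) := by
  let e := MonoidHom.ofInjective phi_injective
  refine ⟨phi.range, ⟨e.symm.isSimpleGroup, (Nat.card_congr e.symm.toEquiv).trans card⟩, ⟨fun i j => ?_⟩, ?_, ?_, ?_⟩
  · obtain ⟨a, ha⟩ := transitive i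
    obtain ⟨b, hb⟩ := transitive j
    exact ⟨e (b * a⁻¹), show (b * a⁻¹) • i = j by rw [← ha, mul_smul, inv_smul_smul, hb]⟩
  · rw [← card_H, ← levelH.stab, top_inf_eq]
    exact Nat.card_congr (e.toEquiv.subtypeEquiv fun a => Iff.rfl).symm
  · have h1 := tabs0.wordsT (ws := WJ) (r := 5) (by decide +kernel)
    obtain ⟨ψ, h2⟩ := hom_j1 (k := fun x => evalW g (WJ.get x)) fun w hw =>
      h1.eq_one_of_base (fun a _ => base a trivial) (by decide +kernel) 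
        ((allL_iff _ fun w => band (lettersLt 5 w) (fixesL _ w _)).1 (by decide +kernel) w hw)
    obtain ⟨K, h3, h4⟩ := exists_sub _ (ne_bot h2 (by decide +kernel))
    exact ⟨K, h3, h4.trans MJ1.card_J1⟩
  · obtain ⟨k, -, hk⟩ := MX.m11_gen
    obtain ⟨ψ, h2, -⟩ := hk.exists_hom (MX.m11_bnd (wp_rels _)) ((tabs0.wordsT (ws := WM) (r := 3)
      (by decide +kernel)).rels_of_base (fun a _ => base a trivial) (by decide +kernel) (by decide +kernel))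
    have := Dod.simple_SporM11
    have := (Subgroup.topEquiv (G := Cfsg.Spor.M11)).isSimpleGroup
    obtain ⟨K, h3, h4⟩ := exists_sub _ (ne_bot (h2 ▸ mem_genLt (fun x => evalW g (WM.get x)) (x := 0) (by decide))
      (by decide +kernel))
    exact ⟨K, h3, h4.trans hk.2.2⟩

end Cfsg.Agent.S0460
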