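import Mathlib
import Cfsg.Statements.S0518
import Cfsg.Agent.Loc.JCTransfer

set_option autoImplicit false
open Cfsg

namespace Cfsg.Agent.S0518

section
open Subgroup Cfsg.Agent.GT Cfsg.Agent.Loc Cfsg.Agent.Loc.Mss Cfsg.Agent.Loc.JC
variable {G : Type*} [Group G] [Finite G] {T K K' : Subgroup G}

omit [Finite G] in
theorem le_res (h : SF T K) : K ≤ pResidual 2 G :=
  h.uq.jc.res.ge.trans (res_le_iff.mpr fun _ _ hx => mem_pResidual hx)

theorem main (h : SF T K) (h' : SF T K') (hne : K ⊔ T ≠ K' ⊔ T)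
    (hc : Nat.card (K ⊔ T : Subgroup G) ≤ 48) (hc' : Nat.card (K' ⊔ T : Subgroup G) ≤ 48)
    (hG : ZN G) : IsMaximalTwoLocal ((K ⊔ T).subgroupOf (pResidual 2 G)) ∧
      Nonempty ((K ⊔ T).subgroupOf (pResidual 2 G) ≃* Equiv.Perm (Fin 4)) ∧
      Nat.card (T ⊓ pResidual 2 G : Subgroup G) = 8 := by
  have hD := h.dd_inf_res h' hne hc hc' hG
  have hK := le_res h
  have hW := (wOf_le K).trans hK
  have hW' := (wOf_le K').trans (le_res h')
  have e1 := h.sup_sup_eq h' hne hc hc'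
  have c1 := h.card_Q hc
  have c0 : 0 < Nat.card (dd T K) := Nat.card_pos
  have hC : 𝐂[wOf K] ⊓ pResidual 2 G ≤ wOf K := by
    refine (inf_le_inf_right _ ((le_inf ((cent_le_norm _).trans h.norm_wOf.le) le_rfl).trans
      ((h.uq.core_eq h.nrm).ge.trans (h.Q_eq hc).ge))).trans ?_
    rw [dedekind (norm_of_cent (cent_comm ((wOf_le K).trans (le_sup_left.trans h.le_cent_dd))))
      hW, hD, sup_bot_eq]
  have hN : 𝐍[(wOf K).subgroupOf (pResidual 2 G)] = (K ⊔ T).subgroupOf (pResidual 2 G) := by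
    rw [norm_subgroupOf hW, h.norm_wOf]
  have hp := (elem_wOf K).isPGroup
  refine ⟨⟨⟨_, hp.of_equiv (subgroupOfEquivOfLe hW).symm, fun e => h.uq.jc.wOf_ne_bot
    (by rw [← map_subgroupOf_eq_of_le hW, e, Subgroup.map_bot]), hN.symm⟩, ?_⟩, ?_, ?_⟩
  · rintro _ ⟨X, x1, x2, rfl⟩ hle
    refine le_antisymm ?_ hle
    have k1 : K ≤ 𝐍[X.map (pResidual 2 G).subtype] := by
      have := map_norm_le (pResidual 2 G).subtype ((comap_mono le_sup_left).trans hle)
      rwa [← subgroupOf, map_subgroupOf_eq_of_le hK] at this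
    have x3 : X.map (pResidual 2 G).subtype ≠ ⊥ := fun e =>
      x2 ((map_eq_bot_iff_of_injective _ (subtype_injective _)).mp e)
    obtain ⟨x, a, b, c, -⟩ := Am.exists_mem_omZ_of_normalized hp (x1.map _)
      ((wOf_le K).trans k1) x3
    have k2 : wOf K ≤ X.map (pResidual 2 G).subtype := ((h.uq.jc.irr inf_le_left
      (norm_inf (norm_wOf le_normalizer) k1)).resolve_left fun e => b (mem_bot.mp
        (e.le ⟨hC ⟨c, map_subtype_le X a⟩, a⟩))).ge.trans inf_le_right
    have k3 := (h.uq.jc.irr ((le_inf ((Am.omZ_le_centralizer 2 _).trans (cent_anti k2))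
      ((Am.omZ_le 2 _).trans (map_subtype_le X))).trans hC) (norm_omZ k1)).resolve_left
        (Am.omZ_ne_bot (x1.map _) x3)
    rw [← h.norm_wOf, ← k3]
    exact map_le_iff_le_comap.mp (norm_omZ (map_norm_le _ le_rfl))
  · have c2 := card_eq_mul_of_sup (X := K ⊔ T) (Y := K ⊔ (wOf K ⊔ wOf K'))
      (by rw [sup_assoc, e1]) (sup_le hK (sup_le hW hW')) (norm_of_cent h.le_cent_dd) hD
    have c3 := PG.relIndex_mul_card (pCoreOf_le (p := 2) (K ⊔ T))
    rw [h.uq.relIndex_core h.nrm, c1, c2] at c3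
    have l1 : wOf K ≤ (K ⊔ T) ⊓ pResidual 2 G := le_inf ((wOf_le K).trans le_sup_left) hW
    have := (normal_subgroupOf_iff_le_normalizer l1).mpr (inf_le_left.trans h.norm_wOf.ge)
    obtain ⟨e⟩ := Cub.perm_four_of ((wOf K).subgroupOf ((K ⊔ T) ⊓ pResidual 2 G))
      (hp.of_equiv (subgroupOfEquivOfLe l1).symm)
      (by rw [cent_subgroupOf l1]; exact fun x hx => hC ⟨hx, x.2.2⟩) ⊤
      (by rw [card_top]; nlinarith) (fun g => ⟨g, trivial, by simp⟩) fun z _ hz => by
        have k : (z : G) ∈ 𝐂[K] := mem_cent.mpr fun a ha => congrArg Subtype.val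
          (mem_center_iff.mp hz ⟨a, mem_sup_left ha, hK ha⟩)
        exact Subtype.ext (mem_bot.mp (h.uq.jc.wOf_inf_cent.le
          ⟨hC ⟨cent_anti (wOf_le K) k, z.2.2⟩, k⟩))
    rw [← inf_subgroupOf_right]
    exact ⟨(subgroupOfEquivOfLe inf_le_right).trans (topEquiv.symm.trans e)⟩
  · have c2 := card_eq_mul_of_sup e1 (sup_le hW hW')
      (le_sup_right.trans (norm_of_cent h.le_cent_dd)) hD
    have c3 := PG.relIndex_mul_card h.Q_le
    rw [h.idx, c1, c2] at c3
    nlinarith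

end

/-- Let G be a finite group of characteristic 2 type with trivial 2-core in which every 2-local subgroup is solvable
and, for every Sylow 2-subgroup S, the centralizer of the set of central involutions of S lies in the normalizer of S.
Then either G has a strongly embedded subgroup, or the subgroup generated by the elements of odd order has two distinct
maximal 2-local subgroups, each isomorphic to the symmetric group of degree 4, whose intersection has order 8. -/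
theorem result {G : Type*} [Group G] [Finite G]
    (hL : Cfsg.IsCharacteristicTwoType G) (hO : Cfsg.pCore 2 G = ⊥)
    (hN : ∀ N : Subgroup G, Cfsg.IsTwoLocal N → Group.IsSolvable N)
    (hZ : ∀ S : Sylow 2 G,
      Subgroup.centralizer {z : G | z ∈ (S : Subgroup G) ∧ z ^ 2 = 1 ∧ ∀ s ∈ (S : Subgroup G), s * z = z * s} ≤
        Subgroup.normalizer ((S : Subgroup G) : Set G))
    (H : Subgroup G) (hH : H = Subgroup.closure {g : G | Odd (orderOf g)}) :
    (∃ K : Subgroup G, Cfsg.IsStronglyEmbedded K) ∨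
      ∃ M₁ M₂ : Subgroup H, M₁ ≠ M₂ ∧ Cfsg.IsMaximalTwoLocal M₁ ∧ Cfsg.IsMaximalTwoLocal M₂ ∧
        Nonempty (M₁ ≃* Equiv.Perm (Fin 4)) ∧ Nonempty (M₂ ≃* Equiv.Perm (Fin 4)) ∧ Nat.card ↥(M₁ ⊓ M₂) = 8 := by
  open Subgroup Cfsg.Agent.GT Cfsg.Agent.Loc Cfsg.Agent.Loc.Mss Cfsg.Agent.Loc.JC in
  have hG : ZN G := ⟨hL, hN, fun S => le_trans (centralizer_le fun z hz =>
    Am.mem_omZ.mpr ⟨hz.1, mem_cent.mpr hz.2.2, hz.2.1⟩) (hZ S)⟩
  obtain rfl : H = pResidual 2 G := by
    rw [hH, pResidual]; simp only [Nat.coprime_two_right]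
  obtain ⟨S⟩ : Nonempty (Sylow 2 G) := inferInstance
  have hS : (S : Subgroup G) ≠ ⊥ := fun e => by
    have := (Syl.of_sylow S).eq_bot_iff.mp e
    rw [card_top, Nat.coprime_two_right] at this
    exact Nat.not_even_iff_odd.mpr this hL.1
  obtain ⟨M, m1, m2⟩ := exists_maxLocal (S.isPGroup'.to_le (thJ_le 2 _))
    (thJ_ne_bot dvd_rfl S.isPGroup' hS) le_rfl
  rcases (straddlingTwoSubgroups M).eq_empty_or_nonempty with h0 | h0
  · exact Or.inl ⟨M, (stronglyEmbedded_iff hO m1.1).mpr h0⟩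
  obtain ⟨T, hT⟩ := exists_mem_max h0
  obtain ⟨K, L, h, -⟩ := (mx_of_mem S ((thompsonSubgroupOf_eq 2 (S : Subgroup G)).symm ▸ m2)
    hT).exists_uq hG
  obtain ⟨K', L', h', hne⟩ := h.exists_other hG hO
  have k := h.sf h' hne hG
  have k' := h'.sf h hne.symm hG
  have c : Nat.card (K ⊔ T : Subgroup G) ≤ 48 := by
    rcases (h.amalgam h' hne hG).1.card with e | e <;> omega
  have c' : Nat.card (K' ⊔ T : Subgroup G) ≤ 48 := by
    rcases (h.amalgam h' hne hG).1.symm.card with e | e <;> omega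
  have n : K ⊔ T ≠ K' ⊔ T := fun e =>
    hne ((h.eq_sup' h' hne hG).trans (e.trans (h'.eq_sup' h hne.symm hG).symm))
  obtain ⟨a1, a2, a3⟩ := main k k' n c c' hG
  obtain ⟨b1, b2, -⟩ := main k' k n.symm c' c hG
  refine Or.inr ⟨_, _, fun e => h.not_le_of_ne h' hne fun x hx => h.sup_le ?_, a1, b1, a2, b2, ?_⟩
  · exact mem_subgroupOf.mp (e.ge (mem_subgroupOf.mpr (mem_sup_left hx) :
      (⟨x, le_res k' hx⟩ : pResidual 2 G) ∈ _))
  · rw [subgroupOf, subgroupOf, ← comap_inf, h.inf_eq h' hne hG, ← subgroupOf,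
      ← inf_subgroupOf_right, Nat.card_congr (subgroupOfEquivOfLe inf_le_right).toEquiv, a3]

end Cfsg.Agent.S0518
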