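import Mathlib
import Cfsg.Statements.S0608
import Cfsg.Agent.GT.ThompsonFactor

set_option autoImplicit false
open Cfsg

namespace Cfsg.Agent.S0608

open Subgroup Cfsg.Agent.GT
open scoped commutatorElement Pointwise

/-- With trivial p'-core, Thompson factorizability is equivalent to J(G) centralizing the subgroup generated by all Ω₁(Z(S)), S Sylow. -/
theorem result {G : Type*} [Group G] [Finite G] {p : ℕ} [Fact p.Prime] (hO : Cfsg.pPrimeCore p G = ⊥) : Cfsg.IsThompsonFactorizable p G ↔ Cfsg.thompsonSubgroup p G ≤ Subgroup.centralizer ((⨆ S : Sylow p G, Cfsg.omegaOne p (((S : Subgroup G)) ⊓ Subgroup.centralizer ((S : Subgroup G) : Set G)) : Subgroup G) : Set G) := by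
  rw [thompsonSubgroup_eq, thJ_top_eq_iSup]
  constructor
  · intro h
    refine iSup_le fun S => le_centralizer_iff.1 (iSup_le fun T => ?_)
    obtain ⟨g, rfl⟩ := MulAction.exists_smul_eq G S T
    obtain ⟨x, hx, c, hc, n, hn, h1⟩ := h S g⁻¹
    rw [hO, mem_bot] at hx
    rw [thompsonSubgroupOf_eq] at hn
    rw [th_omega_center_smul, Tr.map_conj_le_iff]
    intro z hz
    have h2 := th_mem_omega_center.1 hz
    have h3 := Tr.inv_conj_mem_of_mem_normalizer (normalizer_thJ_le_normalizer_thZ p _ hn)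
      (mem_thZ_of_mem_center h2.1 h2.2.1 h2.2.2)
    have h4 : g * z * g⁻¹ = n⁻¹ * z * n := by
      rw [← inv_inv g, h1, hx]
      calc (1 * c * n)⁻¹ * z * (1 * c * n)⁻¹⁻¹ = n⁻¹ * c⁻¹ * (z * c) * n := by group
        _ = n⁻¹ * z * n := by rw [hc z hz]; group
    rw [h4]
    exact thZ_le_centralizer p _ h3
  · intro h S g
    obtain ⟨c, hc, n, hn, h1⟩ := th_exists_mul_of_thZ_normal (V := thV p G) S
      ((le_iSup (fun S : Sylow p G => thJ p (S : Subgroup G)) S).trans h) g
    rw [thompsonSubgroupOf_eq]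
    exact ⟨1, one_mem _, c, centralizer_le (omega_center_le_thV S) hc, n, hn, by rw [one_mul, h1]⟩

end Cfsg.Agent.S0608
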