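import Mathlib
import Cfsg.Statements.S0647
import Cfsg.Agent.GT.Thompson

set_option autoImplicit false
open Cfsg

namespace Cfsg.Agent.S0647

open Subgroup Cfsg.Agent.GT
open scoped commutatorElement Pointwise

/-- For a nonempty family of maximal abelian subgroups of a finite group, the intersection of the family is the centre of the subgroup it generates, which is also the full centralizer of that subgroup. -/
theorem result {S : Type*} [Group S] [Finite S] (𝒜 : Set (Subgroup S)) (hne : 𝒜.Nonempty) (hab : ∀ A ∈ 𝒜, IsMulCommutative A) (hmax : ∀ A ∈ 𝒜, ∀ B : Subgroup S, IsMulCommutative B → A ≤ B → B = A) : sInf 𝒜 = sSup 𝒜 ⊓ Subgroup.centralizer ((sSup 𝒜 : Subgroup S) : Set S) ∧ sInf 𝒜 = Subgroup.centralizer ((sSup 𝒜 : Subgroup S) : Set S) := by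
  have h1 : sInf 𝒜 ≤ centralizer ((sSup 𝒜 : Subgroup S) : Set S) := by
    rw [le_centralizer_iff]
    refine sSup_le fun A hA => ?_
    intro a ha
    rw [mem_centralizer_iff]
    intro x hx
    exact th_comm_iff.1 (hab A hA) x (mem_sInf.1 hx A hA) a ha
  have h2 : centralizer ((sSup 𝒜 : Subgroup S) : Set S) ≤ sInf 𝒜 := by
    intro x hx
    rw [mem_sInf]
    intro A hA
    have hxA : zpowers x ≤ centralizer (A : Set S) :=
      (zpowers_le.2 hx).trans (centralizer_le (le_sSup hA))
    have := hmax A hA (A ⊔ zpowers x) (th_comm_sup (hab A hA) inferInstance hxA) le_sup_left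
    rw [← this]
    exact (le_sup_right : zpowers x ≤ _) (mem_zpowers x)
  obtain ⟨A, hA⟩ := hne
  refine ⟨le_antisymm (le_inf ((sInf_le hA).trans (le_sSup hA)) h1) (inf_le_right.trans h2),
    le_antisymm h1 h2⟩

end Cfsg.Agent.S0647
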