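import Mathlib
import Cfsg.Statements.S0650
import Cfsg.Agent.GT.ThompsonReplace

set_option autoImplicit false
open Cfsg

namespace Cfsg.Agent.S0650

open Subgroup Cfsg.Agent.GT
open scoped commutatorElement Pointwise

/-- The Glauberman replacement Theorem: from an abelian A ⊇ [B, B] not normalized by the normal subgroup B and a suitable b ∈ B one gets the abelian subgroup A* = (A ∩ b⁻¹Ab)[A, b] of the same order, containing [B, B], meeting B strictly more than A does but not containing B, mutually normalizing with A, with strictly larger normalizer containing b, and (p odd) of no larger exponent. -/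
theorem result {S : Type*} [Group S] [Finite S] {p : ℕ} [Fact p.Prime] (hS : IsPGroup p S) (B : Subgroup S) [B.Normal] (hB2 : p = 2 → IsMulCommutative B) (A : Subgroup S) (hA : IsMulCommutative A) (hBA : ⁅B, B⁆ ≤ A) (hnot : ¬ B ≤ Subgroup.normalizer (A : Set S)) (b : S) (hb : b ∈ B) (hbN : b ∈ Subgroup.normalizer ((Subgroup.normalizer (A : Set S)) : Set S)) (hbA : b ∉ Subgroup.normalizer (A : Set S)) : Nat.card ↥((A ⊓ A.map (MulAut.conj (b⁻¹)).toMonoidHom) ⊔ Subgroup.closure {g : S | ∃ a ∈ A, g = a * b⁻¹ * a⁻¹ * b}) = Nat.card A ∧ IsMulCommutative ↥((A ⊓ A.map (MulAut.conj (b⁻¹)).toMonoidHom) ⊔ Subgroup.closure {g : S | ∃ a ∈ A, g = a * b⁻¹ * a⁻¹ * b}) ∧ ⁅B, B⁆ ≤ ((A ⊓ A.map (MulAut.conj (b⁻¹)).toMonoidHom) ⊔ Subgroup.closure {g : S | ∃ a ∈ A, g = a * b⁻¹ * a⁻¹ * b}) ∧ A ⊓ B < ((A ⊓ A.map (MulAut.conj (b⁻¹)).toMonoidHom) ⊔ Subgroup.closure {g : S | ∃ a ∈ A, g = a * b⁻¹ * a⁻¹ * b}) ⊓ B ∧ ((A ⊓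 A.map (MulAut.conj (b⁻¹)).toMonoidHom) ⊔ Subgroup.closure {g : S | ∃ a ∈ A, g = a * b⁻¹ * a⁻¹ * b}) ⊓ B < B ∧ A ≤ Subgroup.normalizer (((A ⊓ A.map (MulAut.conj (b⁻¹)).toMonoidHom) ⊔ Subgroup.closure {g : S | ∃ a ∈ A, g = a * b⁻¹ * a⁻¹ * b} : Subgroup S) : Set S) ∧ ((A ⊓ A.map (MulAut.conj (b⁻¹)).toMonoidHom) ⊔ Subgroup.closure {g : S | ∃ a ∈ A, g = a * b⁻¹ * a⁻¹ * b}) ≤ Subgroup.normalizer (A : Set S) ∧ b ∈ Subgroup.normalizer (((A ⊓ A.map (MulAut.conj (b⁻¹)).toMonoidHom) ⊔ Subgroup.closure {g : S | ∃ a ∈ A, g = a * b⁻¹ * a⁻¹ * b} : Subgroup S) : Set S) ∧ Subgroup.normalizer (A : Set S) < Subgroup.normalizer (((A ⊓ A.map (MulAut.conj (b⁻¹)).toMonoidHom) ⊔ Subgroup.closure {g : S | ∃ a ∈ A, g = a * b⁻¹ * a⁻¹ * b} : Subgroup S) : Set S) ∧ (p ≠ 2 → Monoid.exponent ↥((A ⊓ A.map (MulAut.conj (b⁻¹)).toMonoidHom) ⊔ Subgroup.closure {g : S | ∃ a ∈ A, g = a * b⁻¹ * a⁻¹ * b}) ∣ Monoid.exponent A) := by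
  have hodd' : IsMulCommutative B ∨ ∀ w ∈ B, w ^ 2 = 1 → w = 1 := by
    by_cases h2 : p = 2
    · exact Or.inl (hB2 h2)
    · exact Or.inr (th_sq_eq_one_imp h2 (hS.to_subgroup B))
  have h : ThReplData A B b := thReplData_of_normalizer (S := ⊤) hA le_top
    le_normalizer_of_normal hBA hb (by rwa [top_inf_eq]) hodd'
  have hN : normalizer (A : Set S) ≤ normalizer (thRepl A b : Set S) := fun n hn =>
    h.mem_normalizer_repl_of hn (Tr.conj_mem_of_mem_normalizer hbN hn)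
      (le_normalizer_of_normal (K := ⊤) (mem_top n))
  refine ⟨h.card_repl, h.repl_comm, h.derived_le_repl, h.inf_lt hbA, h.repl_inf_lt hbA,
    h.le_normalizer_repl, h.repl_le_normalizer, h.mem_normalizer_repl,
    lt_of_le_of_ne hN fun he => hbA (he ▸ h.mem_normalizer_repl), fun hp => ?_⟩
  obtain ⟨k, hk⟩ := isPGroup_iff_exponent_eq_pow.1 (hS.to_subgroup A)
  have hodd : Odd (Monoid.exponent A) := by
    rw [hk]; exact ((Fact.out : p.Prime).odd_of_ne_two hp).pow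
  refine Monoid.exponent_dvd_of_forall_pow_eq_one fun x => Subtype.ext ?_
  refine h.repl_pow hodd (fun a ha => ?_) x x.2
  exact congrArg Subtype.val (Monoid.pow_exponent_eq_one (⟨a, ha⟩ : A))

end Cfsg.Agent.S0650
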