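import Mathlib
import Cfsg.Statements.S0655
import Cfsg.Agent.GT.Thompson

set_option autoImplicit false
open Cfsg

namespace Cfsg.Agent.S0655

open Subgroup Cfsg.Agent.GT
open scoped commutatorElement Pointwise

/-- In a p-group the intersection of all elementary abelian subgroups of largest order is the subgroup generated by the elements of order dividing p in the centre (equivalently the centralizer) of the elementary-version Thompson subgroup. -/
theorem result {S : Type*} [Group S] [Finite S] {p : ℕ} [Fact p.Prime] (hS : IsPGroup p S) : sInf (Cfsg.maxElementaryAbelianSubgroups p S) = Cfsg.omegaCenterThompson p S ∧ Cfsg.omegaCenterThompson p S = Cfsg.omegaOne p (Subgroup.centralizer (Cfsg.thompsonSubgroup p S : Set S)) := by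
  rw [omegaCenterThompson_eq, maxElementaryAbelianSubgroups_eq, thompsonSubgroup_eq]
  constructor
  · apply le_antisymm
    · intro x hx
      obtain ⟨A, hA⟩ := abFam_nonempty p (⊤ : Subgroup S)
      have hxp := abFam_pow hA x (mem_sInf.1 hx A hA)
      refine th_mem_omegaOne (mem_thZ_of_centralizer (mem_top x) ?_ hxp) hxp
      have : thJ p (⊤ : Subgroup S) ≤ centralizer {x} := by
        rw [thJ_le_iff]
        intro B hB b hb
        rw [mem_centralizer_singleton_iff]
        exact th_comm_iff.1 (abFam_comm hB) b hb x (mem_sInf.1 hx B hB)
      rw [mem_centralizer_iff]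
      intro y hy
      exact mem_centralizer_singleton_iff.1 (this hy)
    · exact le_sInf fun A hA => omegaOne_thZ_le_of_mem hA
  · apply le_antisymm
    · exact closure_mono fun x hx => ⟨thZ_le_centralizer _ _ hx.1, hx.2⟩
    · exact closure_mono fun x hx => ⟨mem_thZ_of_centralizer (mem_top x) hx.1 hx.2, hx.2⟩

end Cfsg.Agent.S0655
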