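import Mathlib
import Cfsg.Agent.Perm.RegularPlane
import Cfsg.Statements.S0691

set_option autoImplicit false
open Cfsg

namespace Cfsg.Agent.S0691

section aux

local instance factPrime : Fact (Nat.Prime 5) := ⟨by norm_num⟩

/-- The packed table. -/
def tab : ℕ := 0x40830821020811020821000410c30440c10430420420021031041041010c40830c00c30c30c40c30420c20010010010800c20020c0100000

/-- Table lookup. -/
def look (k : ℕ) (x y : ZMod 5) : ℕ := (tab >>> (18 * (5 * x.val + y.val) + k)) % 64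

theorem hA : ∀ x y : ZMod 5, ¬ (x = 0 ∧ y = 0) →
    (2 : ZMod 5) * (look 0 x y : ℕ) + (0 : ZMod 5) * (look 6 x y : ℕ) =
      (look 0 ((2 : ZMod 5) * x + (0 : ZMod 5) * y) ((0 : ZMod 5) * x + (-2 : ZMod 5) * y) : ℕ) ∧
    (0 : ZMod 5) * (look 0 x y : ℕ) + (-2 : ZMod 5) * (look 6 x y : ℕ) =
      (look 6 ((2 : ZMod 5) * x + (0 : ZMod 5) * y) ((0 : ZMod 5) * x + (-2 : ZMod 5) * y) : ℕ) := by
  decide +kernel

theorem hB : ∀ x y : ZMod 5, ¬ (x = 0 ∧ y = 0) →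
    (0 : ZMod 5) * (look 0 x y : ℕ) + (-1 : ZMod 5) * (look 6 x y : ℕ) =
      (look 0 ((0 : ZMod 5) * x + (-1 : ZMod 5) * y) ((1 : ZMod 5) * x + (0 : ZMod 5) * y) : ℕ) ∧
    (1 : ZMod 5) * (look 0 x y : ℕ) + (0 : ZMod 5) * (look 6 x y : ℕ) =
      (look 6 ((0 : ZMod 5) * x + (-1 : ZMod 5) * y) ((1 : ZMod 5) * x + (0 : ZMod 5) * y) : ℕ) := by
  decide +kernel

theorem hC : ∀ x y : ZMod 5, ¬ (x = 0 ∧ y = 0) →
    (1 : ZMod 5) * (look 0 x y : ℕ) + (2 : ZMod 5) * (look 6 x y : ℕ) =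
      (look 0 ((1 : ZMod 5) * x + (2 : ZMod 5) * y) ((1 : ZMod 5) * x + (-2 : ZMod 5) * y) : ℕ) ∧
    (1 : ZMod 5) * (look 0 x y : ℕ) + (-2 : ZMod 5) * (look 6 x y : ℕ) =
      (look 6 ((1 : ZMod 5) * x + (2 : ZMod 5) * y) ((1 : ZMod 5) * x + (-2 : ZMod 5) * y) : ℕ) := by
  decide +kernel

theorem hrank : ∀ x y : ZMod 5, ¬ (x = 0 ∧ y = 0) → (x = 1 ∧ y = 0) ∨
      look 12 ((2 : ZMod 5) * x + (0 : ZMod 5) * y) ((0 : ZMod 5) * x + (-2 : ZMod 5) * y) < look 12 x y ∨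
      look 12 ((0 : ZMod 5) * x + (-1 : ZMod 5) * y) ((1 : ZMod 5) * x + (0 : ZMod 5) * y) < look 12 x y ∨
      look 12 ((1 : ZMod 5) * x + (2 : ZMod 5) * y) ((1 : ZMod 5) * x + (-2 : ZMod 5) * y) < look 12 x y := by
  decide +kernel

theorem aux (A : Matrix.GeneralLinearGroup (Fin 2) (ZMod 5)) (B : Matrix.GeneralLinearGroup (Fin 2) (ZMod 5)) (C : Matrix.GeneralLinearGroup (Fin 2) (ZMod 5)) (hA : (A : Matrix (Fin 2) (Fin 2) (ZMod 5)) = !![2, 0; 0, -2]) (hB : (B : Matrix (Fin 2) (Fin 2) (ZMod 5)) = !![0, -1; 1, 0]) (hC : (C : Matrix (Fin 2) (Fin 2) (ZMod 5)) = !![1, 2; 1, -2]) : Nat.card (Subgroup.closure ({A, B, C} : Set (Matrix.GeneralLinearGroup (Fin 2) (ZMod 5)))) = 24 ∧ ∀ v w : Fin 2 → ZMod 5, v ≠ 0 → w ≠ 0 → ∃! h : Subgroup.closure ({A, B, C} : Set (Matrix.GeneralLinearGroup (Fin 2) (ZMod 5))), Matrix.mulVec ((h : Matrix.GeneralLinearGroup (Fin 2) (ZMod 5)) : Matrix (Fin 2)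 (Fin 2) (ZMod 5)) v = w := by
  have := Cfsg.Agent.Perm.regular_plane_of_tables ({A, B, C} : Set (Matrix.GeneralLinearGroup (Fin 2) (ZMod 5)))
    (fun x y => (look 0 x y : ℕ)) (fun x y => (look 6 x y : ℕ)) (look 12) (by decide +kernel)
    (by decide +kernel) ?_ ?_
  · rwa [ZMod.card] at this
  · rintro g (rfl | rfl | rfl)
    · rw [hA]
      exact Cfsg.Agent.S0691.hA
    · rw [hB]
      exact Cfsg.Agent.S0691.hB
    · rw [hC]
      exact Cfsg.Agent.S0691.hC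
  · intro x y hxy
    rcases hrank x y hxy with h | h | h | h
    · exact Or.inl h
    · exact Or.inr ⟨A, by simp, by rw [hA]; exact h⟩
    · exact Or.inr ⟨B, by simp, by rw [hB]; exact h⟩
    · exact Or.inr ⟨C, by simp, by rw [hC]; exact h⟩

end aux

/-- An exceptional sharply doubly transitive group of degree 5^2: the listed matrices generate a subgroup of GL(2,5) of order 24 acting regularly on the non-zero vectors. -/
theorem result (A : Matrix.GeneralLinearGroup (Fin 2) (ZMod 5)) (B : Matrix.GeneralLinearGroup (Fin 2) (ZMod 5)) (C : Matrix.GeneralLinearGroup (Fin 2) (ZMod 5)) (hA : (A : Matrix (Fin 2) (Fin 2) (ZMod 5)) = !![2, 0; 0, -2]) (hB : (B : Matrix (Fin 2) (Fin 2) (ZMod 5)) = !![0, -1; 1, 0]) (hC : (C : Matrix (Fin 2) (Fin 2) (ZMod 5)) = !![1, 2; 1, -2]) : Nat.card (Subgroup.closure ({A, B, C} : Set (Matrix.GeneralLinearGroup (Fin 2) (ZMod 5)))) = 24 ∧ ∀ v w : Fin 2 →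 ZMod 5, v ≠ 0 → w ≠ 0 → ∃! h : Subgroup.closure ({A, B, C} : Set (Matrix.GeneralLinearGroup (Fin 2) (ZMod 5))), Matrix.mulVec ((h : Matrix.GeneralLinearGroup (Fin 2) (ZMod 5)) : Matrix (Fin 2) (Fin 2) (ZMod 5)) v = w := by
  exact aux A B C hA hB hC

end Cfsg.Agent.S0691
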