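import Mathlib
import Cfsg.Agent.Perm.RegularPlane
import Cfsg.Statements.S0692

set_option autoImplicit false
open Cfsg

namespace Cfsg.Agent.S0692

section aux

local instance factPrime : Fact (Nat.Prime 11) := ⟨by norm_num⟩

/-- The packed table. -/
def tab : ℕ := 0x724a1810480042c51ca0851c21890080840851031012422801031ca0c92c62030ca2411480461450090822c20c728114510108730224a10818228b0c21461490c32c31090c62470081c120800400620320c10718024b1013041030421010cc10524828a1891c62881452811c52061852070803090c61811c608708424524814a2822052401060c70c530a1061862450481421491cb1c608a2052893071c91ca20008b1c42880c600518300a0c11c400b2052481cb2081c518c20910904c1c328908324428428504a24920b2490c60062851ca1852012850c820208810718718a0831c810724700324914824628610a00720a28508100100100120418704420a0c610910708a04824a1c61c50c0280000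

/-- Table lookup. -/
def look (k : ℕ) (x y : ZMod 11) : ℕ := (tab >>> (18 * (11 * x.val + y.val) + k)) % 64

theorem hA : ∀ x y : ZMod 11, ¬ (x = 0 ∧ y = 0) →
    (0 : ZMod 11) * (look 0 x y : ℕ) + (-1 : ZMod 11) * (look 6 x y : ℕ) =
      (look 0 ((0 : ZMod 11) * x + (-1 : ZMod 11) * y) ((1 : ZMod 11) * x + (0 : ZMod 11) * y) : ℕ) ∧
    (1 : ZMod 11) * (look 0 x y : ℕ) + (0 : ZMod 11) * (look 6 x y : ℕ) =
      (look 6 ((0 : ZMod 11) * x + (-1 : ZMod 11) * y) ((1 : ZMod 11) * x + (0 : ZMod 11) * y) : ℕ) := by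
  decide +kernel

theorem hB : ∀ x y : ZMod 11, ¬ (x = 0 ∧ y = 0) →
    (2 : ZMod 11) * (look 0 x y : ℕ) + (4 : ZMod 11) * (look 6 x y : ℕ) =
      (look 0 ((2 : ZMod 11) * x + (4 : ZMod 11) * y) ((1 : ZMod 11) * x + (-3 : ZMod 11) * y) : ℕ) ∧
    (1 : ZMod 11) * (look 0 x y : ℕ) + (-3 : ZMod 11) * (look 6 x y : ℕ) =
      (look 6 ((2 : ZMod 11) * x + (4 : ZMod 11) * y) ((1 : ZMod 11) * x + (-3 : ZMod 11) * y) : ℕ) := by
  decide +kernel

theorem hrank : ∀ x y : ZMod 11, ¬ (x = 0 ∧ y = 0) → (x = 1 ∧ y = 0) ∨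
      look 12 ((0 : ZMod 11) * x + (-1 : ZMod 11) * y) ((1 : ZMod 11) * x + (0 : ZMod 11) * y) < look 12 x y ∨
      look 12 ((2 : ZMod 11) * x + (4 : ZMod 11) * y) ((1 : ZMod 11) * x + (-3 : ZMod 11) * y) < look 12 x y := by
  decide +kernel

theorem aux (A : Matrix.GeneralLinearGroup (Fin 2) (ZMod 11)) (B : Matrix.GeneralLinearGroup (Fin 2) (ZMod 11)) (hA : (A : Matrix (Fin 2) (Fin 2) (ZMod 11)) = !![0, -1; 1, 0]) (hB : (B : Matrix (Fin 2) (Fin 2) (ZMod 11)) = !![2, 4; 1, -3]) : Nat.card (Subgroup.closure ({A, B} : Set (Matrix.GeneralLinearGroup (Fin 2) (ZMod 11)))) = 120 ∧ ∀ v w : Fin 2 → ZMod 11, v ≠ 0 → w ≠ 0 → ∃! h : Subgroup.closure ({A, B} : Set (Matrix.GeneralLinearGroup (Fin 2) (ZMod 11))), Matrix.mulVec ((h : Matrix.GeneralLinearGroup (Fin 2) (ZMod 11)) : Matrix (Fin 2) (Fin 2) (ZMod 11)) v = w := by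
  have := Cfsg.Agent.Perm.regular_plane_of_tables ({A, B} : Set (Matrix.GeneralLinearGroup (Fin 2) (ZMod 11)))
    (fun x y => (look 0 x y : ℕ)) (fun x y => (look 6 x y : ℕ)) (look 12) (by decide +kernel)
    (by decide +kernel) ?_ ?_
  · rwa [ZMod.card] at this
  · rintro g (rfl | rfl)
    · rw [hA]
      exact Cfsg.Agent.S0692.hA
    · rw [hB]
      exact Cfsg.Agent.S0692.hB
  · intro x y hxy
    rcases hrank x y hxy with h | h | h
    · exact Or.inl h
    · exact Or.inr ⟨A, by simp, by rw [hA]; exact h⟩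
    · exact Or.inr ⟨B, by simp, by rw [hB]; exact h⟩

end aux

/-- An exceptional sharply doubly transitive group of degree 11^2: the listed matrices generate a subgroup of GL(2,11) of order 120 acting regularly on the non-zero vectors. -/
theorem result (A : Matrix.GeneralLinearGroup (Fin 2) (ZMod 11)) (B : Matrix.GeneralLinearGroup (Fin 2) (ZMod 11)) (hA : (A : Matrix (Fin 2) (Fin 2) (ZMod 11)) = !![0, -1; 1, 0]) (hB : (B : Matrix (Fin 2) (Fin 2) (ZMod 11)) = !![2, 4; 1, -3]) : Nat.card (Subgroup.closure ({A, B} : Set (Matrix.GeneralLinearGroup (Fin 2) (ZMod 11)))) = 120 ∧ ∀ v w : Fin 2 → ZMod 11, v ≠ 0 → w ≠ 0 → ∃! h : Subgroup.closure ({A, B} : Set (Matrix.GeneralLinearGroup (Fin 2) (ZMod 11))), Matrix.mulVec ((h : Matrix.GeneralLinearGroup (Fin 2) (ZMod 11)) : Matrix (Fin 2) (Fin 2) (ZMod 11)) v = w := by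
  exact aux A B hA hB

end Cfsg.Agent.S0692
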