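import Cfsg.Statements.S0727
import Cfsg.Agent.Perm.ZassThree

set_option autoImplicit false
open Cfsg

namespace Cfsg.Agent.S0727

open Cfsg.Agent.Perm.Zass in

/-- A sharply triply transitive permutation group of degree `2^f + 1` is isomorphic to the projective general linear group of degree 2 over the field with `2^f` elements. -/
theorem result {α : Type*} [Fintype α] [DecidableEq α] {f : ℕ} (hf : 1 ≤ f) (hα : Fintype.card α = 2 ^ f + 1) (G : Subgroup (Equiv.Perm α)) (h3 : MulAction.IsMultiplyPretransitive G α 3) (hsharp : ∀ x : Fin 3 ↪ α, MulAction.stabilizer G x = ⊥) : ∃ (F : Type) (_ : Field F) (_ : Fintype F), Fintype.card F = 2 ^ f ∧ Nonempty (G ≃* Matrix.ProjGenLinGroup (Fin 2) F) := by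
  rw [← Nat.card_eq_fintype_card] at hα
  have h2 : 2 ∣ 2 ^ f := dvd_pow_self 2 (by omega)
  have h1 := Nat.le_of_dvd (by positivity) h2
  have hT := isZT_of_sharp h3 hsharp (by omega)
  obtain ⟨a⟩ := hT.nonempty
  obtain ⟨b, hb⟩ := hT.exists_ne a
  obtain ⟨H, hH⟩ := hT.exists_isKer a
  obtain ⟨t, ht, hta, htb⟩ := hT.exists_swap hb.symm
  have he := hH.card_of_three hT hb.symm h3
  have hc := hH.card_add_one hT
  obtain ⟨F, _, _, hF, h⟩ := hH.exists_iso hT hb.symm (by omega) ht hta htb fun x hx =>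
    hT.inverts_of_odd (Nat.odd_iff.mpr (by omega)) hb.symm ht hta htb hx
  obtain ⟨-, h4, -⟩ | ⟨h4, -⟩ := h
  · exact ⟨F, inferInstance, inferInstance, by omega, h4⟩
  · omega

end Cfsg.Agent.S0727
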