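import Cfsg.Statements.S0728
import Cfsg.Agent.Perm.ZassThree

set_option autoImplicit false
open Cfsg

namespace Cfsg.Agent.S0728

open Cfsg.Agent.Perm.Zass MulAction in

/-- In a sharply triply transitive group of even degree at least 6 (degree `q + 1`, `q` odd), a two-point stabiliser has at most one subgroup of order 3. -/
theorem result {α : Type*} [Fintype α] [DecidableEq α] (heven : Even (Fintype.card α)) (h6 : 6 ≤ Fintype.card α) (G : Subgroup (Equiv.Perm α)) (h3 : MulAction.IsMultiplyPretransitive G α 3) (hsharp : ∀ x : Fin 3 ↪ α, MulAction.stabilizer G x = ⊥) {a b : α} (hab : a ≠ b) (A B : Subgroup G) (hA : A ≤ MulAction.stabilizer G a ⊓ MulAction.stabilizer G b) (hB : B ≤ MulAction.stabilizer G a ⊓ MulAction.stabilizer G b) (hA3 : Nat.card A = 3) (hB3 : Nat.card B = 3) : A = B := by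
  rw [← Nat.card_eq_fintype_card] at heven h6
  have hT := isZT_of_sharp h3 hsharp (by omega)
  obtain ⟨H, hH⟩ := hT.exists_isKer a
  have he := hH.card_of_three hT hab h3
  have hc := hH.card_add_one hT
  rw [Nat.even_iff] at heven
  have hev : Even (Nat.card ↥(stabilizer G a ⊓ stabilizer G b)) := Nat.even_iff.mpr (by omega)
  obtain ⟨M, hM, hHM⟩ := hH.exists_index_two hT hab he hev
  have key : ∀ A : Subgroup G, Nat.card A = 3 → ∀ x ∈ A, x ^ 3 = 1 ∧ x ∈ M := fun A hA x hx => by
    have h1 := pow_card_eq_one_of_mem hx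
    rw [hA] at h1
    obtain ⟨k, hk⟩ := exists_sq_eq_of_odd (by decide) h1
    exact ⟨h1, hk ▸ Subgroup.mul_self_mem_of_index_two hM _⟩
  obtain ⟨⟨x, hx⟩, hx1⟩ := Subgroup.ne_bot_iff_exists_ne_one.mp
    ((Subgroup.one_lt_card_iff_ne_bot B).mp (by omega))
  refine Subgroup.eq_of_le_of_card_ge (fun y hy => ?_) (by omega)
  obtain ⟨k, hk⟩ := (hT.hasFpfAction hab).mem_zpowers_of_commute (x := ⟨x, hB hx⟩) (y := ⟨y, hA hy⟩)
    Nat.prime_three (fun e => hx1 (Subtype.ext (congrArg (Subgroup.subtype _) e)))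
    (Subtype.ext (key B hB3 x hx).1) (Subtype.ext (key A hA3 y hy).1)
    (Subtype.ext (hH.comm_of_index_two hT hab he hev hM hHM (hB hx) (key B hB3 x hx).2 (hA hy)
      (key A hA3 y hy).2))
  rw [show y = x ^ k from (congrArg (Subgroup.subtype _) hk).symm]
  exact B.zpow_mem hx k

end Cfsg.Agent.S0728
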