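import Cfsg.Statements.S0729
import Cfsg.Agent.Perm.ZassThree

set_option autoImplicit false
open Cfsg

namespace Cfsg.Agent.S0729

open Cfsg.Agent.Perm.Zass MulAction in

/-- In a sharply triply transitive group of even degree at least 6, the two-point stabiliser `H = G_{a,b}` has a normal subgroup of index 2 that is normalised by the element `s` interchanging `a, b` and fixing a third point `c`. -/
theorem result {α : Type*} [Fintype α] [DecidableEq α] (heven : Even (Fintype.card α)) (h6 : 6 ≤ Fintype.card α) (G : Subgroup (Equiv.Perm α)) (h3 : MulAction.IsMultiplyPretransitive G α 3) (hsharp : ∀ x : Fin 3 ↪ α, MulAction.stabilizer G x = ⊥) {a b c : α} (hab : a ≠ b) (hac : a ≠ c) (hbc : b ≠ c) (s : G) (hsa : s • a = b) (hsb : s • b = a) (hsc : s • c = c) : ∃ N : Subgroup G, N ≤ MulAction.stabilizer G a ⊓ MulAction.stabilizer G b ∧ (N.subgroupOf (MulAction.stabilizer G a ⊓ MulAction.stabilizer G b)).Normal ∧ N.relIndex (MulAction.stabilizer G a ⊓ MulAction.stabilizer G b) = 2 ∧ ∀ n ∈ N, s * n *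 s⁻¹ ∈ N := by
  rw [← Nat.card_eq_fintype_card] at heven h6
  have hT := isZT_of_sharp h3 hsharp (by omega)
  obtain ⟨H, hH⟩ := hT.exists_isKer a
  have he := hH.card_of_three hT hab h3
  have hc := hH.card_add_one hT
  rw [Nat.even_iff] at heven
  obtain ⟨M, hM, hHM⟩ := hH.exists_index_two hT hab he (Nat.even_iff.mpr (by omega))
  have hN := Subgroup.normal_of_index_eq_two hM
  refine ⟨stabilizer G a ⊓ stabilizer G b ⊓ M, inf_le_left, ?_, ?_, fun n hn =>
    ⟨swap_conj_mem hsa hsb hn.1, hN.conj_mem n hn.2 s⟩⟩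
  · rw [Subgroup.inf_subgroupOf_left]; infer_instance
  · have h1 := hH.index_mul_of_le hT hab hHM
    rw [Subgroup.inf_relIndex_left]
    refine ((Nat.dvd_prime Nat.prime_two).mp (hM ▸ Subgroup.relIndex_dvd_index_of_normal M _)).resolve_left
      fun e => ?_
    rw [Subgroup.relIndex_eq_one] at e
    have h2 := Nat.card_le_card_of_injective (fun x : ↥(stabilizer G a ⊓ stabilizer G b) =>
      (⟨⟨x, e x.2⟩, x.2⟩ : ↥(stabilizer M a ⊓ stabilizer M b)))
      fun x y h => Subtype.ext (congrArg (fun z => z.1.1) h)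
    rw [hM] at h1
    omega

end Cfsg.Agent.S0729
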