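import Cfsg.Statements.S0730
import Cfsg.Agent.Perm.ZassThree

set_option autoImplicit false
open Cfsg

namespace Cfsg.Agent.S0730

open Cfsg.Agent.Perm.Zass in

/-- A sharply triply transitive group of degree `p^f + 1`, `p` an odd prime and `f` odd, is isomorphic to the projective general linear group of degree 2 over the field with `p^f` elements (for even `f` there is a second, twisted, group). -/
theorem result {α : Type*} [Fintype α] [DecidableEq α] {p f : ℕ} (hp : p.Prime) (hp2 : p ≠ 2) (hfo : Odd f) (hα : Fintype.card α = p ^ f + 1) (G : Subgroup (Equiv.Perm α)) (h3 : MulAction.IsMultiplyPretransitive G α 3) (hsharp : ∀ x : Fin 3 ↪ α, MulAction.stabilizer G x = ⊥) : ∃ (F : Type) (_ : Field F) (_ : Fintype F), Fintype.card F = p ^ f ∧ Nonempty (G ≃* Matrix.ProjGenLinGroup (Fin 2) F) := by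
  rw [← Nat.card_eq_fintype_card] at hα
  have := Fact.mk hp
  have h1 : p ≤ p ^ f := Nat.le_self_pow hfo.pos.ne' p
  have h2 := hp.two_le
  have h4 := Nat.odd_iff.mp ((hp.odd_of_ne_two hp2).pow (n := f))
  have hT := isZT_of_sharp h3 hsharp (by omega)
  obtain ⟨a⟩ := hT.nonempty
  obtain ⟨b, hb⟩ := hT.exists_ne a
  obtain ⟨H, hH⟩ := hT.exists_isKer a
  have he := hH.card_of_three hT hb.symm h3
  have hc := hH.card_add_one hT
  obtain ⟨t, ht, hta, htb, hinv⟩ := hH.inverts_of_odd_exp hT hb.symm he (Nat.even_iff.mpr (by omega))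
    hfo (p := p) (by omega)
  obtain ⟨F, _, _, hF, h⟩ := hH.exists_iso hT hb.symm (by omega) ht hta htb hinv
  obtain ⟨-, h4, -⟩ | ⟨h4, -⟩ := h
  · exact ⟨F, inferInstance, inferInstance, by omega, h4⟩
  · omega

end Cfsg.Agent.S0730
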