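import Mathlib
import Cfsg.Agent.Perm.PrimeSucc
import Cfsg.Agent.Perm.AffCoord
import Cfsg.Agent.Perm.SharpTwo
import Cfsg.Agent.Perm.PrimeIndex
import Cfsg.Agent.GT.NearField
import Cfsg.Agent.Cl.Transport
import Cfsg.Agent.Cl.PSL2Class
import Cfsg.Agent.S0727
import Cfsg.Agent.S0730
import Cfsg.Agent.S0731
import Cfsg.Statements.S0732

set_option autoImplicit false
open Cfsg

namespace Cfsg.Agent.S0732

theorem arith {p q d : ℕ} (hp : p.Prime) (hp2 : p ≠ 2) (hd : d < p) (hq : Odd q) {r n : ℕ}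
    (hr : r.Prime) (hn : q = r ^ n) (h0 : 0 < d)
    (h : (p + 1) * p * d * 2 = q * (q - 1) * (q + 1)) : q = p ∧ 2 * d = p - 1 := by
  have h2 := hp.two_le
  have hodd := hp.odd_of_ne_two hp2
  have h3 : p ∣ q * (q - 1) * (q + 1) := h ▸ (((dvd_mul_left p _).mul_right _).mul_right _)
  have h4 : ∀ m, (m = q - 1 ∨ m = q + 1) → ¬ p ∣ m := by
    intro m hm hpm
    obtain ⟨k, rfl⟩ := hq
    have h5 : p * 2 ∣ m := (hodd.coprime_two_right).mul_dvd_of_dvd_of_dvd hpm (by omega)
    have h6 : 0 < k := by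
      rcases k with _ | k
      · simp at h
        omega
      · omega
    have h7 : p ≤ k + 1 := by
      have := Nat.le_of_dvd (by omega) h5
      omega
    obtain ⟨p, rfl⟩ : ∃ t, p = t + 1 := ⟨p - 1, by omega⟩
    rw [Nat.add_sub_cancel] at h
    have h8 : (p + 1 + 1) * (p + 1) * d * 2 ≤ (p + 1 + 1) * (p + 1) * p * 2 := by gcongr; omega
    have h9 : (2 * p + 1) * (2 * p) * (2 * p + 1 + 1) ≤ (2 * k + 1) * (2 * k) * (2 * k + 1 + 1) := by
      gcongr <;> omega
    have h10 : 0 < p * p * (p + 1) := by have : 0 < p := by omega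
                                         positivity
    nlinarith
  have h5 : p ∣ q := ((hp.dvd_mul.1 ((hp.dvd_mul.1 h3).resolve_right
    (h4 _ (Or.inr rfl)))).resolve_right (h4 _ (Or.inl rfl)))
  obtain rfl : p = r := (Nat.prime_dvd_prime_iff_eq hp hr).1 (hp.dvd_of_dvd_pow (hn ▸ h5))
  have h6 : q = p := by
    rcases n with _ | _ | n
    · rw [hn] at h5
      exact absurd (Nat.dvd_one.1 h5) hp.one_lt.ne'
    · simpa using hn
    exfalso
    have h7 : p * p ∣ p * ((p + 1) * d * 2) := by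
      rw [show p * ((p + 1) * d * 2) = (p + 1) * p * d * 2 by ring, h, hn, ← sq]
      exact ((pow_dvd_pow p (by omega)).mul_right _).mul_right _
    rcases hp.dvd_mul.1 (Nat.dvd_of_mul_dvd_mul_left hp.pos h7) with e | e
    · rcases hp.dvd_mul.1 e with e | e
      · exact hp.one_lt.ne' (Nat.dvd_one.1 ((Nat.dvd_add_right dvd_rfl).1 e))
      · exact absurd (Nat.le_of_dvd h0 e) (by omega)
    · exact hp2 ((Nat.prime_dvd_prime_iff_eq hp Nat.prime_two).1 e)
  subst h6
  exact ⟨rfl, Nat.eq_of_mul_eq_mul_left (show 0 < (q + 1) * q by positivity) (by linarith)⟩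


/-- A transitive permutation group on `p + 1` points (`p` prime) of order `(p+1) p d` with `d < p` is isomorphic to `PGL(2,p)` with `d = p - 1`, or to `PSL(2,p)` with `2d = p - 1`, or else `p + 1 = 2^q` for a prime `q`, `d = 1` or `d = q`, and the group is permutation-isomorphic to a group of semi-affine maps `x ↦ a φ(x) + b` of the field with `2^q` elements. -/
theorem result {α : Type*} [Fintype α] [DecidableEq α] {p d : ℕ} (hp : p.Prime) (hα : Fintype.card α = p + 1) (G : Subgroup (Equiv.Perm α)) [MulAction.IsPretransitive G α] (hG : Nat.card G = (p + 1) * p * d) (hd : d < p) : (d = p - 1 ∧ Nonempty (G ≃* Matrix.ProjGenLinGroup (Fin 2) (ZMod p))) ∨ (2 * d = p - 1 ∧ Nonempty (G ≃* Matrix.ProjectiveSpecialLinearGroup (Fin 2) (ZMod p))) ∨ (∃ q : ℕ, q.Prime ∧ p + 1 = 2 ^ q ∧ (d = 1 ∨ d = q) ∧ ∃ e : α ≃ GaloisField 2 q, ∀ g : G, (e.symm.trans (((g : Equiv.Perm α)).trans e)) ∈ Cfsg.semiaffineGroup (GaloisField 2 q)) := by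
  haveI : Fact p.Prime := ⟨hp⟩
  have hΩ : Nat.card α = p + 1 := Nat.card_eq_fintype_card.trans hα
  have hT := Perm.isZT_of_card_prime_succ hp hΩ hG hd
  have h2 := hp.two_le
  have h0 : 0 < d := Nat.pos_of_mul_pos_left (hG ▸ Nat.card_pos)
  have hs : ∀ t : Fin 3 ↪ α, MulAction.stabilizer G t = ⊥ :=
    Perm.sharp_three_iff.2 fun g a b c h1 h2 h3 => hT.three h1 h3 h2
  have hdesc : (p + 1).descFactorial 3 = (p + 1) * p * (p - 1) := by
    simp [Nat.descFactorial]
    ring
  by_cases hd1 : d = p - 1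
  · have h3 : MulAction.IsMultiplyPretransitive G α 3 :=
      Perm.isPretransitive_of_card_eq_of_semiregular (by
        rw [hG, Nat.card_eq_fintype_card, Fintype.card_embedding_eq, hα, Fintype.card_fin, hdesc,
          hd1]) fun g t h => Subgroup.mem_bot.1 (hs t ▸ h)
    have : ∃ (F : Type) (_ : Field F) (_ : Fintype F), Fintype.card F = p ^ 1 ∧
        Nonempty (G ≃* Matrix.ProjGenLinGroup (Fin 2) F) := by
      by_cases hp2 : p = 2
      · subst hp2
        exact S0727.result le_rfl hα G h3 hs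
      · exact S0730.result hp hp2 odd_one (by rw [hα, pow_one]) G h3 hs
    obtain ⟨F, _, _, hF, ⟨e⟩⟩ := this
    exact Or.inl ⟨hd1, ⟨e.trans (Cl.pglMapEquiv _ (ZMod.ringEquivOfPrime F hp
      (hF.trans (pow_one p))).symm)⟩⟩
  have hp2 : p ≠ 2 := by omega
  obtain ⟨a⟩ := hT.nonempty
  obtain ⟨b, hb⟩ := hT.exists_ne a
  obtain ⟨P, hPn, hP, hPi⟩ := Perm.exists_normal_card_prime hp hΩ hG hd a
  have hle := Subgroup.map_subtype_le P
  have hreg := fun y z => Perm.existsUnique_smul_eq_of_card_prime (y := y) (z := z) hp hΩ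
    ((Subgroup.card_map_of_injective (Subgroup.subtype_injective _)).trans hP) hle
  haveI := isCyclic_of_prime_card hP
  right
  by_cases hZ : IsZassenhausGroup G α
  · rcases S0731.result hZ a _ hle (by
      rwa [Subgroup.subgroupOf, Subgroup.comap_map_eq_self_of_injective
        (Subgroup.subtype_injective _)]) inferInstance hreg with ⟨h3, -⟩ | ⟨K, _, _, hK, ⟨e⟩⟩
    · have := Perm.descFactorial_dvd_card h3 (by omega)
      rw [hΩ, hdesc, hG, Nat.mul_dvd_mul_iff_left (by positivity)] at this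
      have := Nat.le_of_dvd h0 this
      omega
    · have h4 := Cl.L2.card_PSL_two (F := K) (Ring.two_ne_zero hK)
      rw [← Nat.card_congr e.toEquiv, hG, Nat.card_eq_fintype_card] at h4
      obtain ⟨n, hr, hn⟩ := FiniteField.card K (ringChar K)
      obtain ⟨h5, h6⟩ := arith hp hp2 hd (Nat.odd_iff.2 (FiniteField.odd_card_of_char_ne_two hK))
        hr hn h0 h4
      exact Or.inl ⟨h6, ⟨e.trans (Cl.pslMapEquiv _ (ZMod.ringEquivOfPrime K hp h5).symm)⟩⟩
  right
  obtain ⟨M, r, _, hr, hM, _⟩ : ∃ (M : Subgroup G) (r : ℕ), M.Normal ∧ r.Prime ∧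
      IsElementaryAbelian r M ∧ MulAction.IsPretransitive M α := by
    by_cases hf : ∃ g : G, g ≠ 1 ∧ ∃ a b : α, a ≠ b ∧ g • a = a ∧ g • b = b
    · by_contra hc
      refine hZ ⟨inferInstance, hT.isMultiplyPretransitive, fun g a b c => hT.three, hf,
        fun N _ hN => ⟨a, fun e => ?_⟩⟩
      obtain ⟨h3, r, hr, h4⟩ := Perm.elementary_of_regular_normal hT.isMultiplyPretransitive N e
      exact hc ⟨N, r, ‹_›, hr, ⟨h3, h4⟩, hN⟩
    · obtain ⟨M, r, hr, -, h3, h4, -, h5, h6, -⟩ := Perm.exists_kernel_of_sharp_two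
        hT.isMultiplyPretransitive (fun g a b hab ha hb => by_contra fun e =>
          hf ⟨g, e, a, b, hab, ha, hb⟩) (by omega)
      exact ⟨M, r, h3, hr, ⟨h4, h5⟩, h6⟩
  haveI : Fact r.Prime := ⟨hr⟩
  obtain ⟨V, _, _, e, ρ, he, hρ, -, hker⟩ := Perm.exists_affine_coord hM a
  haveI : Finite V := Finite.of_equiv _ e
  haveI : Nontrivial V := ⟨e b, e a, e.injective.ne hb⟩
  have hV : Nat.card V = p + 1 := by rw [← Nat.card_congr e, hΩ]
  obtain rfl : r = 2 := by
    have h3 : 2 ∣ r ^ Module.finrank (ZMod r) V := by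
      rw [Module.natCard_eq_pow_finrank (K := ZMod r), Nat.card_zmod] at hV
      rw [hV]
      exact (hp.odd_of_ne_two hp2).add_one.two_dvd
    exact ((Nat.prime_dvd_prime_iff_eq Nat.prime_two hr).1 (Nat.prime_two.dvd_of_dvd_pow h3)).symm
  let ρ₀ := ρ.comp (MulAction.stabilizer G a).subtype
  have hρ₀ : ∀ (g : MulAction.stabilizer G a) v, ρ₀ g v = e ((g : G) • e.symm v) := fun g v => by
    rw [hρ, g.2, he, add_zero, e.apply_symm_apply]
    rfl
  have hinj : Function.Injective ρ₀ := (injective_iff_map_eq_one _).2 fun g hg =>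
    Subtype.ext (Perm.eq_one_of_smul_eq (X := α) fun x => e.injective (by
      simpa [hg] using (hρ₀ g (e x)).symm))
  have htr : ∀ v w : V, v ≠ 0 → w ≠ 0 → ∃ g ∈ P, ρ₀ g v = w := fun v w hv hw => by
    obtain ⟨⟨_, u, hu, rfl⟩, h3, -⟩ := hreg (e.symm v) (e.symm w)
      (fun h => hv (by rw [← he, ← h, e.apply_symm_apply]))
      fun h => hw (by rw [← he, ← h, e.apply_symm_apply])
    exact ⟨u, hu, (hρ₀ u v).trans (e.eq_symm_apply.1 h3)⟩
  have hI : GT.Frob.IrrOn ρ₀ P := fun W hW => by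
    refine or_iff_not_imp_left.2 fun h3 => eq_top_iff.2 fun w _ => ?_
    obtain ⟨v, hv, hv0⟩ := W.exists_mem_ne_zero_of_ne_bot h3
    by_cases hw : w = 0
    · exact hw ▸ W.zero_mem
    obtain ⟨g, hg, rfl⟩ := htr v w hv0 hw
    exact hW g hg v hv
  obtain ⟨n, f, hn, hf⟩ := hI.exists_semilinear
  have hn' : n.Prime := Nat.Prime.of_mersenne (by
    rwa [mersenne, ← hn, hV, Nat.add_sub_cancel])
  refine ⟨n, hn', hV.symm.trans hn, ?_, e.trans f.toEquiv, fun g => ?_⟩
  · obtain ⟨-, k, l, -, -, h3, -, h4, -⟩ := (GT.Frob.fieldOn_of_comm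
      (fun v w hv hw => (htr v w hv hw).imp fun _ h => h.2) P).exists_card hinj
    have h5 : Subgroup.centralizer (P : Set (MulAction.stabilizer G a)) = P := by
      refine le_antisymm (fun g hg => ?_) (Subgroup.le_centralizer P)
      obtain ⟨⟨_, u, hu, rfl⟩, h5, -⟩ := hreg b ((g : G) • b) hb
        fun h => hb (smul_left_cancel (g : G) (h.trans g.2.symm))
      have h6 := Perm.eq_one_of_commute_of_reg hb hreg (u⁻¹ * g).2 (by
        rw [Subgroup.coe_mul, mul_smul, ← h5]
        exact inv_smul_smul _ _) (by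
          rintro _ ⟨v, hv, rfl⟩
          exact congrArg Subtype.val
            (mul_mem (inv_mem (Subgroup.le_centralizer P hu)) hg v hv))
      rw [← inv_mul_eq_one.1 (Subtype.ext h6 : u⁻¹ * g = 1)]
      exact hu
    rw [h5, Subgroup.normalizer_eq_top, Subgroup.relIndex_top_right, hPi] at h4
    rw [hn, ← pow_mul] at h3
    exact (Nat.dvd_prime hn').1 (h4.trans ⟨l, Nat.pow_right_injective le_rfl h3⟩)
  · obtain ⟨m, hm, s, hs, hg⟩ := Perm.exists_mem_mul_stabilizer M a g
    obtain ⟨c, σ, hc⟩ := hf ⟨s, hs⟩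
    refine ⟨c, f (e (g • a)), σ, fun x => ?_⟩
    have := hc (f.symm x)
    rw [f.apply_symm_apply] at this
    rw [← this, ← map_add]
    change f (e (g • e.symm (f.symm x))) = f (ρ s (f.symm x) + _)
    rw [hρ, e.apply_symm_apply, show ρ g = ρ s by rw [hg, map_mul, (hker m).2 hm, one_mul]]

end Cfsg.Agent.S0732
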