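import Cfsg.Statements.S0739
import Cfsg.Agent.Perm.ZassCyc

set_option autoImplicit false
open Cfsg

namespace Cfsg.Agent.S0739

open Cfsg.Agent.Perm.Zass MulAction

/-- In a finite Zassenhaus group whose two-point stabiliser `H = G_{a,b}` has odd order `d`, and which has no normal `q`-complement for any prime `q ∣ d`, `H` is cyclic, `C_G(H) = H`, and every element swapping `a` and `b` inverts each element of `H`. -/
theorem result {G Ω : Type*} [Group G] [Finite G] [MulAction G Ω] [Fintype Ω] (hZ : Cfsg.IsZassenhausGroup G Ω) {a b : Ω} (hab : a ≠ b) (hodd : Odd (Nat.card ↥(MulAction.stabilizer G a ⊓ MulAction.stabilizer G b))) (hnil : ∀ q : ℕ, q.Prime → q ∣ Nat.card ↥(MulAction.stabilizer G a ⊓ MulAction.stabilizer G b) → ¬ ∃ N : Subgroup G, N.Normal ∧ N.index = q ^ (Nat.card G).factorization q) : IsCyclic ↥(MulAction.stabilizer G a ⊓ MulAction.stabilizer G b) ∧ Subgroup.centralizer ((MulAction.stabilizer G a ⊓ MulAction.stabilizer G b : Subgroup G) : Set G) = MulAction.stabilizer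 G a ⊓ MulAction.stabilizer G b ∧ ∀ s : G, s • a = b → s • b = a → ∀ h ∈ MulAction.stabilizer G a ⊓ MulAction.stabilizer G b, s * h * s⁻¹ = h⁻¹ := by
  have hT := hZ.isZT
  have hinv : ∀ s : G, s • a = b → s • b = a → ∀ h ∈ stabilizer G a ⊓ stabilizer G b,
      s * h * s⁻¹ = h⁻¹ := fun s hsa hsb => by
    refine hT.inverts_of_no_complement hab hodd (fun q hq hqe ⟨P, N, hN, hc⟩ => ?_) hsa hsb
    have := Fact.mk hq
    exact hnil q hq hqe ⟨N, hN, by rw [hc.symm.index_eq_card, P.card_eq_multiplicity]⟩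
  obtain ⟨t, -, hta, htb⟩ := hT.exists_swap hab
  refine ⟨hT.isCyclic_of_inverts hab (hinv t hta htb), le_antisymm (fun g hg => ?_) fun g hg => ?_, hinv⟩
  · obtain ⟨x, hx1, hx⟩ := hZ.exists_ne_one hab
    have h1 : g * x * g⁻¹ = x := by rw [← hg x hx]; group
    rcases hT.fix_or_swap (g := g) hab hx1 hx (by rw [h1]; exact hx) with h | h
    · exact h
    · have h2 := hinv g h.1 h.2 x hx
      rw [h1] at h2
      have h3 : orderOf x = 2 := orderOf_eq_two_iff'.mpr ⟨by nth_rw 1 [h2]; simp, hx1⟩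
      exact absurd (hodd.of_dvd_nat (h3 ▸ Subgroup.orderOf_dvd_natCard _ (mem_stab2.mpr hx)))
        (by decide)
  · exact fun x hx => mul_comm_of_conj_eq_inv (hinv t hta htb) hx hg

end Cfsg.Agent.S0739
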