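import Mathlib
import Cfsg.Statements.S0848
import Cfsg.Agent.Inv.DihEight
import Cfsg.Agent.Cl.LinearBasic

set_option autoImplicit false
open Cfsg

namespace Cfsg.Agent.S0848

/-- If a finite group equals its own commutator subgroup and contains an involution whose centralizer is isomorphic to the dihedral group of order 8, then the group has order 168 or 360. -/
theorem result {G : Type*} [Group G] [Finite G] (hperf : commutator G = ⊤) (t : G) (ht : orderOf t = 2) (e : Subgroup.centralizer ({t} : Set G) ≃* DihedralGroup 4) : Nat.card G = 168 ∨ Nat.card G = 360 := by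
  have hG : ∀ M : Subgroup G, M.index ≠ 2 := by
    intro M hM
    have hn : M.Normal := Subgroup.normal_of_index_eq_two hM
    have h1 : commutator G ≤ M := by
      rw [commutator_def, Subgroup.commutator_le]
      intro a _ b _
      rw [commutatorElement_def, Subgroup.mul_mem_iff_of_index_two hM,
        Subgroup.mul_mem_iff_of_index_two hM, Subgroup.mul_mem_iff_of_index_two hM, inv_mem_iff,
        inv_mem_iff]
      tauto
    rw [hperf, top_le_iff] at h1
    rw [h1, Subgroup.index_top] at hM
    omega
  obtain ⟨S, hS⟩ := Cfsg.Agent.Inv.BSWq.exists_sylow_eq_of_dihedral ht e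
  rcases Cfsg.Agent.Inv.BSWq.alt_six_or_psl_seven hG S ht hS
    ((MulEquiv.subgroupCongr hS).trans e) with ⟨⟨f⟩⟩ | ⟨F, _, _, hF, ⟨f⟩⟩
  · right
    rw [Nat.card_congr f.toEquiv, nat_card_alternatingGroup]
    simp [Nat.factorial]
  · left
    have h1 := Cfsg.Agent.Cl.card_psl_two_mul (F := F)
    rw [Nat.card_eq_fintype_card (α := F), hF] at h1
    rw [Nat.card_congr f.toEquiv]
    norm_num at h1
    omega

end Cfsg.Agent.S0848
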