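import Mathlib
import Cfsg.Agent.Inv.PrimeSylow
import Cfsg.Agent.Inv.SimpleEmbed
import Cfsg.Agent.GT.TransferAbelian
import Cfsg.Statements.S0992

set_option autoImplicit false
open Cfsg

namespace Cfsg.Agent.S0992

/-- Let G be a non-abelian finite simple group of even order not divisible by 8, and T a Sylow 2-subgroup. Then T is a Klein four-group and the centralizer of T has index 3 in the normalizer of T. -/
theorem result {G : Type*} [Group G] [Finite G] [IsSimpleGroup G] (hG : ¬ IsMulCommutative G) (h2 : Even (Nat.card G)) (h8 : ¬ 8 ∣ Nat.card G) (T : Sylow 2 G) : IsKleinFour ↥(T : Subgroup G) ∧ (Subgroup.centralizer ((T : Subgroup G) : Set G)).relIndex (Subgroup.normalizer ((T : Subgroup G) : Set G)) = 3 := by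
  have hG' := Inv.SEm.not_prime_card hG
  have hnc : ¬ IsCyclic (T : Subgroup G) := fun h => hG'
    (((GT.Tr.hasNormalPComplement_two_of_isCyclic T h).card_eq_of_isSimpleGroup
      h2.two_dvd).symm ▸ Nat.prime_two)
  obtain ⟨n, hn⟩ := T.isPGroup'.exists_card_eq
  have hPd : 2 ^ n ∣ Nat.card G := hn ▸ Subgroup.card_subgroup_dvd_card _
  have hn3 : n ≤ 2 := by
    by_contra h
    exact h8 ((pow_dvd_pow 2 (show 3 ≤ n by omega)).trans hPd)
  have h4 : Nat.card (T : Subgroup G) = 4 := by
    obtain rfl | rfl | rfl : n = 0 ∨ n = 1 ∨ n = 2 := by omega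
    · exact absurd (isCyclic_of_card_dvd_prime (p := 2) (by simp [hn])) hnc
    · exact absurd (isCyclic_of_prime_card (p := 2) hn) hnc
    · exact hn
  have hK : IsKleinFour (T : Subgroup G) := ⟨h4, (not_isCyclic_iff_exponent_eq_prime Nat.prime_two
    (h4.trans (by norm_num))).1 hnc⟩
  refine ⟨hK, ?_⟩
  have h5 : (Subgroup.centralizer ((T : Subgroup G) : Set G)).relIndex
      (Subgroup.normalizer ((T : Subgroup G) : Set G)) ∣ 6 := by
    rw [Subgroup.relIndex, ← Subgroup.normalizerMonoidHom_ker, Subgroup.index_ker]
    have := Fintype.ofFinite (T : Subgroup G)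
    classical
    let f : MulAut (T : Subgroup G) →* Equiv.Perm {t : (T : Subgroup G) // t ≠ 1} :=
      { toFun := fun a => Equiv.Perm.subtypePerm a.toEquiv fun t => by simp
        map_one' := by ext; simp
        map_mul' := fun a b => by ext; simp }
    have hf : Function.Injective f := (injective_iff_map_eq_one f).2 fun a ha => by
      ext1 t
      by_cases ht : t = 1
      · simp [ht]
      · exact congrArg Subtype.val (DFunLike.congr_fun ha ⟨t, ht⟩)
    refine (Subgroup.card_subgroup_dvd_card _).trans ((Subgroup.card_dvd_of_injective f hf).trans ?_)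
    rw [Nat.card_eq_fintype_card, Fintype.card_perm, Fintype.card_subtype_compl,
      ← Nat.card_eq_fintype_card, h4, Fintype.card_unique]
    rfl
  have h6 : ¬ 2 ∣ (Subgroup.centralizer ((T : Subgroup G) : Set G)).relIndex
      (Subgroup.normalizer ((T : Subgroup G) : Set G)) := fun h => T.not_dvd_index
    ((h.trans (Subgroup.relIndex_dvd_index_of_le (Subgroup.centralizer_le_normalizer _))).trans
      (Subgroup.index_dvd_of_le (Subgroup.le_centralizer_iff_isMulCommutative.2
        ⟨⟨mul_comm_of_exponent_two hK.exponent_two⟩⟩)))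
  have h7 := mt Subgroup.relIndex_eq_one.1 (Inv.PS.not_normalizer_le_centralizer hG' T h2.two_dvd)
  have h9 := Nat.le_of_dvd (by norm_num) h5
  change (Subgroup.centralizer ((T : Subgroup G) : Set G)).relIndex
      (Subgroup.normalizer ((T : Subgroup G) : Set G)) ≠ 1 at h7
  generalize (Subgroup.centralizer ((T : Subgroup G) : Set G)).relIndex
      (Subgroup.normalizer ((T : Subgroup G) : Set G)) = k at *
  interval_cases k <;> omega

end Cfsg.Agent.S0992
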