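import Mathlib
-- Template for statement S0996 (row 996; see /opt/grader/pristine/manifest.json for weights).
-- Copy to Cfsg/Agent/S0996.lean and replace the sorry. The statement below is byte-identical to the frozen
-- statement Cfsg.CfsgFrozen.S0996 (Cfsg/Statements/S0996.lean; the theorem Cfsg.brauer_self_centralizing_prime_order_few_sylow);
-- the grader kernel-checks Cfsg.Agent.S0996.result against that frozen type. Keep the theorem IN THIS FILE
-- (a `result` declared elsewhere and merely imported here is not credited); helpers may live anywhere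
-- under Cfsg/Agent/.
import Cfsg.Statements.S0996
import Cfsg.Agent.Blk.OneBR4

set_option autoImplicit false
set_option linter.style.haveILetI false
set_option linter.unusedVariables false
open Cfsg

namespace Cfsg.Agent.S0996


/-- Let G be a finite perfect group containing an element z of prime order p whose centralizer is the cyclic group it generates, and suppose the number 1 + n * p of Sylow p-subgroups satisfies n < (p + 3) / 2. Then p > 3 and G is isomorphic to the projective special linear group of dimension 2 over the field with p elements, or p - 1 is a power of 2 and G is isomorphic to that group over the field with p - 1 elements. -/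
theorem result {G : Type*} [Group G] [Finite G] (hperf : commutator G = ⊤) (p : ℕ) [Fact p.Prime] (z : G) (hz : orderOf z = p) (hC : Subgroup.centralizer ({z} : Set G) = Subgroup.zpowers z) (hn : 2 * Nat.card (Sylow p G) < (p + 1) * (p + 2)) : (∃ (F : Type) (_ : Field F) (_ : Fintype F), Fintype.card F = p ∧ 3 < p ∧ Nonempty (G ≃* Matrix.ProjectiveSpecialLinearGroup (Fin 2) F)) ∨ (∃ (m : ℕ) (F : Type) (_ : Field F) (_ : Fintype F), Fintype.card F = 2 ^ m ∧ p = 2 ^ m + 1 ∧ 3 < p ∧ Nonempty (G ≃* Matrix.ProjectiveSpecialLinearGroup (Fin 2) F)) := by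
  open Cfsg.Agent.Blk.One in
  haveI := Fintype.ofFinite G
  haveI := Fintype.ofFinite (G ⧸ Cfsg.pPrimeCore p G)
  set S := selfSetup hz hC
  have hS : S.C = Subgroup.zpowers S.x := S.C_eq.trans hC
  obtain ⟨n, h⟩ := S.exists_index_N
  have hp := (Fact.out : p.Prime)
  rw [S.card_sylow, h] at hn
  have hR : ¬ Rep p n := not_rep_of_lt (Nat.lt_of_mul_lt_mul_right (a := p) (by nlinarith))
  have h1 := Setup.index_N_quot hS (Cfsg.Agent.GT.not_dvd_card_pPrimeCore hp)
  rw [(S.br hperf h hR).1, h] at h1
  have h2 : Cfsg.pPrimeCore p G = ⊥ := Subgroup.eq_bot_of_card_eq _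
    (Nat.eq_of_mul_eq_mul_right (show 0 < 1 + n * p by omega) (by rw [← h1, one_mul]))
  exact (S.br_core hperf h2 h hR).psl (MulEquiv.refl _)

end Cfsg.Agent.S0996
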