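import Mathlib
-- Template for statement S0997 (row 997; see /opt/grader/pristine/manifest.json for weights).
-- Copy to Cfsg/Agent/S0997.lean and replace the sorry. The statement below is byte-identical to the frozen
-- statement Cfsg.CfsgFrozen.S0997 (Cfsg/Statements/S0997.lean; the theorem Cfsg.brauer_tuan_simple_order_p_qb_small_cofactor);
-- the grader kernel-checks Cfsg.Agent.S0997.result against that frozen type. Keep the theorem IN THIS FILE
-- (a `result` declared elsewhere and merely imported here is not credited); helpers may live anywhere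
-- under Cfsg/Agent/.
import Cfsg.Statements.S0997
import Cfsg.Agent.Blk.OneBT

set_option autoImplicit false
set_option linter.style.haveILetI false
set_option linter.unusedVariables false
open Cfsg

namespace Cfsg.Agent.S0997


/-- Let G be a non-cyclic finite simple group of order p * q^b * g₀, where p and q are distinct primes and g₀ < p - 1. Then either p has the form 2^m + 1 or 2^m - 1 and G is isomorphic to the projective special linear group of dimension 2 over the field with p elements, or p = 2^m + 1 > 3 and G is isomorphic to that group over the field with 2^m elements. -/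
theorem result {G : Type*} [Group G] [Finite G] [IsSimpleGroup G] (hG : ¬ IsCyclic G) (p q b g₀ : ℕ) (hp : p.Prime) (hq : q.Prime) (hpq : p ≠ q) (hG' : Nat.card G = p * q ^ b * g₀) (hg : g₀ < p - 1) : (∃ (m : ℕ) (F : Type) (_ : Field F) (_ : Fintype F), Fintype.card F = p ∧ (p = 2 ^ m + 1 ∨ p = 2 ^ m - 1) ∧ Nonempty (G ≃* Matrix.ProjectiveSpecialLinearGroup (Fin 2) F)) ∨ (∃ (m : ℕ) (F : Type) (_ : Field F) (_ : Fintype F), Fintype.card F = 2 ^ m ∧ p = 2 ^ m + 1 ∧ 3 < p ∧ Nonempty (G ≃* Matrix.ProjectiveSpecialLinearGroup (Fin 2) F)) := by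
  open Cfsg.Agent.Blk.One in
  haveI := Fintype.ofFinite G
  haveI := Fact.mk hp
  obtain ⟨⟨m, hm⟩, S, n, -, h⟩ := exists_br_of_card hG hq hpq hG' hg
  rcases h.psl (MulEquiv.refl _) with ⟨F, _, _, h1, -, h2⟩ | h
  · exact .inl ⟨m, F, _, _, h1, hm.imp_right fun h => by omega, h2⟩
  · exact .inr h

end Cfsg.Agent.S0997
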