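import Mathlib
import Cfsg.Agent.Inv.G168Sub
import Cfsg.Statements.S1006

set_option autoImplicit false
open Cfsg

namespace Cfsg.Agent.S1006

open Cfsg.Agent.Inv.G168

/-- In a simple group of order 168 there are 56 elements of order 3, all conjugate; 42 elements of order 4, all conjugate; and 48 elements of order 7 falling into two conjugacy classes of size 24, an element of order 7 not being conjugate to its inverse. -/
theorem result {G : Type*} [Group G] [Finite G] [IsSimpleGroup G] (h : Nat.card G = 168) : Nat.card {g : G // orderOf g = 3} = 56 ∧ (∀ s t : G, orderOf s = 3 → orderOf t = 3 → IsConj s t) ∧ Nat.card {g : G // orderOf g = 4} = 42 ∧ (∀ s t : G, orderOf s = 4 → orderOf t = 4 → IsConj s t) ∧ Nat.card {g : G // orderOf g = 7} = 48 ∧ ∀ x : G, orderOf x = 7 → Nat.card {g : G // IsConj x g} = 24 ∧ ¬ IsConj x x⁻¹ := by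
  obtain ⟨e⟩ := exists_equiv h
  refine ⟨?_, fun s t hs ht => ?_, ?_, fun s t hs ht => ?_, ?_, fun x hx => ⟨?_, ?_⟩⟩
  · rw [card_orderOf e]
    simp only [orderOf_eq]
    rw [card_eq]
    decide +kernel
  · rw [← e.orderOf_eq, orderOf_eq] at hs ht
    rw [isConj_equiv e, isConj_iff_rep]
    have key : ∀ x : T, ord x = 3 → rep x = el 2 := by decide +kernel
    rw [key _ hs, key _ ht]
  · rw [card_orderOf e]
    simp only [orderOf_eq]
    rw [card_eq]
    decide +kernel
  · rw [← e.orderOf_eq, orderOf_eq] at hs ht
    rw [isConj_equiv e, isConj_iff_rep]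
    have key : ∀ x : T, ord x = 4 → rep x = el 16 := by decide +kernel
    rw [key _ hs, key _ ht]
  · rw [card_orderOf e]
    simp only [orderOf_eq]
    rw [card_eq]
    decide +kernel
  · rw [← e.orderOf_eq, orderOf_eq] at hx
    have h1 : Nat.card {g : G // IsConj x g} = Nat.card {g : T // rep (e x) = rep g} :=
      Nat.card_congr (e.toEquiv.subtypeEquiv fun g => by
        rw [isConj_equiv e, isConj_iff_rep]; rfl)
    rw [h1]
    have key : ∀ x : T, ord x = 7 → rep x = el 3 ∨ rep x = el 7 := by decide +kernel
    rcases key _ hx with h' | h' <;> rw [h', card_eq] <;> decide +kernel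
  · rw [← e.orderOf_eq, orderOf_eq] at hx
    rw [isConj_equiv e, isConj_iff_rep, map_inv]
    have key : ∀ x : T, ord x = 7 → rep x ≠ rep x⁻¹ := by decide +kernel
    exact key _ hx

end Cfsg.Agent.S1006
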