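import Mathlib
import Cfsg.Agent.Inv.G168Sub
import Cfsg.Statements.S1007

set_option autoImplicit false
open Cfsg

namespace Cfsg.Agent.S1007

open Cfsg.Agent.Inv.G168

/-- Let G be a simple group of order 168 and T a Sylow 2-subgroup. Then T contains exactly two subgroups that are Klein four-groups; they are not conjugate in G; and the normalizer of every Klein four-subgroup of G is isomorphic to the symmetric group of degree 4. -/
theorem result {G : Type*} [Group G] [Finite G] [IsSimpleGroup G] (h : Nat.card G = 168) (T : Sylow 2 G) : Nat.card {U : Subgroup G // U ≤ (T : Subgroup G) ∧ IsKleinFour ↥U} = 2 ∧ (∀ U W : Subgroup G, U ≤ (T : Subgroup G) → W ≤ (T : Subgroup G) → IsKleinFour ↥U → IsKleinFour ↥W → U ≠ W → ∀ g : G, U.map (MulAut.conj g).toMonoidHom ≠ W) ∧ ∀ U : Subgroup G, IsKleinFour ↥U → Nonempty (↥(Subgroup.normalizer (U : Set G)) ≃* Equiv.Perm (Fin 4)) := by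
  have key : ∀ (P : Sylow 2 G) (e : G ≃* Inv.G168.T), (P : Subgroup G) = P2.comap e.toMonoidHom →
      ∀ U : Subgroup G, U ≤ (P : Subgroup G) → IsKleinFour U →
        U = V1.comap e.toMonoidHom ∨ U = V2.comap e.toMonoidHom := by
    intro P e he U hU hk
    have hk' : IsKleinFour (U.map e.toMonoidHom) :=
      isKleinFour_of_equiv (e.subgroupMap U).symm
    rw [he, ← Subgroup.map_le_iff_le_comap] at hU
    rcases kf_cases hU hk' with h' | h'
    · left; rw [← h', comap_map]
    · right; rw [← h', comap_map]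
  obtain ⟨e, he⟩ := exists_equiv_sylow h T
  refine ⟨?_, fun U W hU hW kU kW hne g hg => ?_, fun U kU => ?_⟩
  · rw [Nat.card_eq_two_iff]
    have k1 := kf_V1
    have k2 := kf_V2
    refine ⟨⟨V1.comap e.toMonoidHom, he ▸ Subgroup.comap_mono V1_le,
      isKleinFour_of_equiv (cm e V1)⟩, ⟨V2.comap e.toMonoidHom, he ▸ Subgroup.comap_mono V2_le,
      isKleinFour_of_equiv (cm e V2)⟩, fun h' => ?_, ?_⟩
    · exact V1_ne (Subgroup.comap_injective e.surjective (congrArg Subtype.val h'))
    · rw [Set.eq_univ_iff_forall]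
      rintro ⟨U, hU, kU⟩
      rcases key T e he U hU kU with h' | h'
      · left; exact Subtype.ext h'
      · right; exact Subtype.ext h'
  · rcases key T e he U hU kU with h1 | h1 <;> rcases key T e he W hW kW with h2 | h2
    · exact hne (h1.trans h2.symm)
    · obtain ⟨x, hx1, hx2⟩ := V_not_conj (e g)
      apply hx2
      have : g * e.symm x * g⁻¹ ∈ W := by
        rw [← hg, mem_map_conj, h1]; simpa [mul_assoc] using hx1
      rw [h2] at this
      simpa using this
    · obtain ⟨x, hx1, hx2⟩ := V_not_conj (e g⁻¹)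
      apply hx2
      have : e.symm x ∈ W := by rw [h2]; simpa using hx1
      rw [← hg, mem_map_conj, h1] at this
      simpa using this
    · exact hne (h1.trans h2.symm)
  · have : Fact (Nat.Prime 2) := ⟨Nat.prime_two⟩
    have hp : IsPGroup 2 U := IsPGroup.of_card (n := 2) (by rw [kU.card_four]; norm_num)
    obtain ⟨P, hP⟩ := hp.exists_le_sylow
    obtain ⟨e', he'⟩ := exists_equiv_sylow h P
    rcases key P e' he' U hP kU with h' | h'
    · rw [h', norm_comap, norm_V1]
      obtain ⟨f⟩ := perm_of_card card_N1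
      exact ⟨(cm e' N1).trans f⟩
    · rw [h', norm_comap, norm_V2]
      obtain ⟨f⟩ := perm_of_card card_N2
      exact ⟨(cm e' N2).trans f⟩

end Cfsg.Agent.S1007
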