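import Mathlib
-- Template for statement S1010 (row 1010; see /opt/grader/pristine/manifest.json for weights).
-- Copy to Cfsg/Agent/S1010.lean and replace the sorry. The statement below is byte-identical to the frozen
-- statement Cfsg.CfsgFrozen.S1010 (Cfsg/Statements/S1010.lean; the theorem Cfsg.card_sylow_five_ne_twentyone);
-- the grader kernel-checks Cfsg.Agent.S1010.result against that frozen type. Keep the theorem IN THIS FILE
-- (a `result` declared elsewhere and merely imported here is not credited); helpers may live anywhere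
-- under Cfsg/Agent/.
import Cfsg.Statements.S1010
import Cfsg.Agent.Blk.OneConst
import Cfsg.Agent.Inv.SieveSmall

set_option autoImplicit false
set_option linter.style.haveILetI false
set_option linter.unusedVariables false
open Cfsg

namespace Cfsg.Agent.S1010

open Cfsg.Agent.Blk.One Cfsg.Agent.Blk Cfsg.Agent.Ch Subgroup Cfsg.Agent.Blk.Om in
theorem self_of {G : Type*} [Group G] [Fintype G] [Fact (Nat.Prime 5)] [IsSimpleGroup G]
    (hG : commutator G = ⊤) (S : Setup 5 G) (hN : S.N.index = 21) : S.C = zpowers S.x := by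
  obtain ⟨M, hM⟩ := exists_isPModular (p := 5) Fact.out
  obtain ⟨D, h1, h1'⟩ := S.exists_pData hM
  have he : S.C.relIndex S.N = 2 ∨ S.C.relIndex S.N = 4 := by
    have h2 := S.two_le_relIndex hG
    have h3 : S.C.relIndex S.N ∣ 4 := S.relIndex_dvd
    have := Nat.le_of_dvd (by norm_num) h3
    interval_cases S.C.relIndex S.N <;> simp_all
  have hf : ∀ χ : IrrCharacter G, χ ≠ irrOne G → charKer (χ : G → ℂ) = ⊥ := fun χ h =>
    χ.2.charKer_eq_bot_of_simple fun e => h (Subtype.ext e)
  have hsucc : ∀ χ : IrrCharacter G, charDegree (χ : G → ℂ) = 6 →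
      (∀ g, 5 ∣ orderOf g → (χ : G → ℂ) g = 1) → S.C = zpowers S.x := fun χ hd h =>
    S.self_of_forall fun _ hv hv' => (hf χ fun e => by
      rw [e, charDegree_irrOne'] at hd; omega).le
      (S.mem_charKer_of_succ hG χ.2.isCharacter hd h hv hv')
  have hdvd : ∀ d, d ∣ S.C.index → ¬ 7 ∣ d → d ∣ 3 * S.C.relIndex S.N := fun d h h7 =>
    (Nat.Coprime.symm ((Nat.Prime.coprime_iff_not_dvd (by norm_num)).2 h7)).dvd_of_dvd_mul_left
      (by rw [S.index_C, hN] at h; exact h.trans (dvd_of_eq (by ring)))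
  by_cases hY : 7 ∣ charDegree (D.Y 1 : G → ℂ)
  · obtain ⟨χ, hχ, hne, h7⟩ : ∃ χ ∈ D.X, χ ≠ irrOne G ∧ ¬ 7 ∣ charDegree (χ : G → ℂ) := by
      by_contra h
      push Not at h
      have h2 := D.degree_rel 1
      rw [← Finset.add_sum_erase _ _ h1, h1', charDegree_irrOne'] at h2
      have h3 : (7 : ℤ) ∣ ∑ χ ∈ D.X.erase (irrOne G), D.δ χ * charDegree (χ : G → ℂ) :=
        Finset.dvd_sum fun χ hχ => Dvd.dvd.mul_left (by
          exact_mod_cast h χ (Finset.mem_of_mem_erase hχ) (Finset.ne_of_mem_erase hχ)) _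
      have h4 : (7 : ℤ) ∣ D.ε * charDegree (D.Y 1 : G → ℂ) :=
        Dvd.dvd.mul_left (by exact_mod_cast hY) _
      omega
    by_cases hd : charDegree (χ : G → ℂ) < 5
    · exact D.self_of_lt (D.mem_of_mem_X hχ) hd (hf χ hne)
    have h2 : charDegree (χ : G → ℂ) ∣ 12 :=
      (hdvd _ (D.X_dvd hχ) h7).trans (by rcases he with h | h <;> rw [h] <;> norm_num)
    have h3 := D.X_modEq' hχ
    have h4 := Nat.le_of_dvd (by norm_num) h2
    have h5 : charDegree (χ : G → ℂ) = 6 ∧ D.δ χ = 1 := by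
      unfold Int.ModEq at h3
      rcases D.δ_sign χ hχ with h | h <;> rw [h] at h3 ⊢ <;>
        interval_cases charDegree (χ : G → ℂ) <;> simp_all
    exact hsucc χ h5.1 fun g hg => by rw [D.X_singular hχ hg, h5.2, Int.cast_one]
  by_cases hd : charDegree (D.Y 1 : G → ℂ) < 5
  · exact D.self_of_lt (D.Y_mem 1) hd (hf _ fun e => D.Y_notMem 1 (e ▸ h1))
  have h2 := hdvd _ (D.Y_dvd 1) hY
  have h3 := D.Y_modEq' 1
  have h5 : charDegree (D.Y 1 : G → ℂ) = 6 ∧ D.ε = -1 ∧ S.C.relIndex S.N = 5 - 1 := by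
    unfold Int.ModEq at h3
    rcases he with h | h <;> rw [h] at h2 h3 ⊢ <;> have h4 := Nat.le_of_dvd (by norm_num) h2 <;>
      rcases D.ε_sign with h | h <;> rw [h] at h3 ⊢ <;>
      interval_cases charDegree (D.Y 1 : G → ℂ) <;> simp_all
  exact hsucc _ h5.1 fun g hg => by rw [D.Y_singular_of_eq h5.2.2 1 hg, h5.2.1]; simp


/-- No finite group has exactly twenty-one Sylow 5-subgroups. -/
theorem result {G : Type*} [Group G] [Finite G] : Nat.card (Sylow 5 G) ≠ 21 := by
  open Cfsg.Agent.Blk.One in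
  intro e
  haveI : Fact (Nat.Prime 5) := ⟨by norm_num⟩
  obtain ⟨H, _, _, _, hH, S, hS⟩ := exists_simple_of_card_sylow (p := 5) (n := 4) e (by norm_num)
    (by norm_num) fun h => absurd ((isPrimePow_iff_unique_prime_dvd.1 h).unique (y₁ := 3) (y₂ := 7)
      (by norm_num) (by norm_num)) (by norm_num)
  haveI := Fintype.ofFinite H
  have h1 := Setup.card_self (self_of hH S hS)
  have h2 := S.two_le_relIndex hH
  have h3 : S.C.relIndex S.N ∣ 4 := S.relIndex_dvd
  have h4 := Nat.le_of_dvd (by norm_num) h3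
  have h5 := @Cfsg.Agent.Inv.Sieve.card_mem_small H _ _ _
  rw [h1, hS] at h5
  interval_cases S.C.relIndex S.N
  · exact absurd (h5 (by norm_num) (by norm_num)) (by simp)
  · norm_num at h3
  · exact absurd (h5 (by norm_num) (by norm_num)) (by simp)

end Cfsg.Agent.S1010
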