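import Cfsg.Statements.S1147
import Cfsg.Agent.Perm.ZassOdd

set_option autoImplicit false
open Cfsg

namespace Cfsg.Agent.S1147

/-- Let a finite simple Zassenhaus group `G` on `Ω` have a normal subgroup `U` of `G_a`, regular on `Ω` minus `a`, which is a non-abelian 2-group. Then `|Ω| = 2^(2n) + 1` with `n` odd, `n > 1`, a two-point stabiliser `G_a ⊓ G_b` is cyclic of order `2^n - 1`, and `U` is isomorphic to the type-A group over a field with `2^n` elements for some field automorphism `φ`. -/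
theorem result {G Ω : Type*} [Group G] [Finite G] [MulAction G Ω] [Finite Ω]
    (hZ : Cfsg.IsZassenhausGroup G Ω) [IsSimpleGroup G] {a b : Ω} (hab : a ≠ b)
    (U : Subgroup G) (hUle : U ≤ MulAction.stabilizer G a)
    (hUn : ∀ h ∈ MulAction.stabilizer G a, ∀ u ∈ U, h * u * h⁻¹ ∈ U)
    (hreg : ∀ c d : Ω, c ≠ a → d ≠ a → ∃! u : U, (u : G) • c = d)
    (hU2 : IsPGroup 2 U) (hUna : ∃ u ∈ U, ∃ v ∈ U, u * v ≠ v * u) :
    ∃ n : ℕ, Odd n ∧ 1 < n ∧ Nat.card Ω = 2 ^ (2 * n) + 1 ∧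
      IsCyclic ↥(MulAction.stabilizer G a ⊓ MulAction.stabilizer G b) ∧
      Nat.card ↥(MulAction.stabilizer G a ⊓ MulAction.stabilizer G b) = 2 ^ n - 1 ∧
      ∃ (F : Type) (_ : Field F) (_ : Fintype F) (φ : F ≃+* F), Fintype.card F = 2 ^ n ∧
        Nonempty (U ≃* Cfsg.suzukiTypeA F (φ : F →+* F)) := by
  have hT := hZ.isZT
  have hH := hT.isKer_of_reg hUle hreg
  obtain ⟨n, hn⟩ := hU2.exists_card_eq
  have hodd : Odd (Nat.card Ω) := by
    have h1 := (Subgroup.one_lt_card_iff_ne_bot U).mpr (hH.ne_bot hT)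
    rw [← hH.card_add_one hT, hn]
    exact (Nat.even_pow.mpr ⟨even_two, by rintro rfl; omega⟩).add_one
  have ho := hT.odd_card_stab2 hodd hab
  obtain ⟨F, _, m, hm, θ, u, hF, h, -⟩ := hH.exists_sz hT hab ho (hZ.one_lt_card_stab2 hab) hU2 hUna
  obtain ⟨t, -, hta, htb⟩ := hT.exists_swap hab
  have := Fintype.ofFinite F
  have h1 := hm.one_le
  refine ⟨2 * m + 1, ⟨m, rfl⟩, by omega, ?_, hT.isCyclic_of_inverts hab (hT.inverts_of_simple hab ho hta htb),
    by rw [← hm.card_eq, hF, Nat.add_sub_cancel], F, inferInstance, this, θ,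
    Nat.card_eq_fintype_card.symm.trans hm.card_eq, ⟨(MulEquiv.ofBijective
      (MonoidHom.mk' (fun p : Chev.Sz2.TA (θ : F →+* F) => (⟨u p.x p.y, h.mem _ _⟩ : U))
        fun p q => Subtype.ext (h.mul _ _ _ _).symm) ⟨fun p q e =>
          Chev.Sz2.TA.ext_iff.mpr (h.inj (congrArg Subtype.val e)), fun g => ?_⟩).symm.trans
            (Chev.Sz2.TA.equivTypeA _)⟩⟩
  · rw [← hH.card_add_one hT, h.card, hm.card_eq, ← pow_mul, mul_comm _ 2]
  · obtain ⟨x, y, e⟩ := h.surj g g.2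
    exact ⟨⟨x, y⟩, Subtype.ext e⟩

end Cfsg.Agent.S1147
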