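import Cfsg.Statements.S1158
import Cfsg.Agent.Chev.ReeCount2
import Cfsg.Agent.Chev.ReeInst

set_option autoImplicit false
open Cfsg

namespace Cfsg.Agent.S1158

/-- In the small Ree group ²G₂(q), q = 3^(2m+1) with m ≥ 1, realised as G¹ inside the Chevalley group G₂ over the field with q elements (θ the 3^m-th power map), with `r = 3^(m+1)` (so `r² = 3q`): for each `k ∈ {(q-1)/2, (q+1)/4, q - r + 1, q + r + 1}` there is a cyclic subgroup `A` of order `k` whose normaliser has order `2(q-1)`, `6(q+1)`, `6(q-r+1)`, `6(q+r+1)` respectively, and `N(A₀) = N(A)` for every non-trivial `A₀ ≤ A`. -/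
theorem result {K : Type*} [Field K] [Fintype K] {m : ℕ} (hm : 1 ≤ m) (hK : Fintype.card K = 3 ^ (2 * m + 1)) :
    ∀ kn ∈ ({((3 ^ (2 * m + 1) - 1) / 2, 2 * (3 ^ (2 * m + 1) - 1)), ((3 ^ (2 * m + 1) + 1) / 4, 6 * (3 ^ (2 * m + 1) + 1)),
        (3 ^ (2 * m + 1) - 3 ^ (m + 1) + 1, 6 * (3 ^ (2 * m + 1) - 3 ^ (m + 1) + 1)),
        (3 ^ (2 * m + 1) + 3 ^ (m + 1) + 1, 6 * (3 ^ (2 * m + 1) + 3 ^ (m + 1) + 1))} : Set (ℕ × ℕ)),
      ∃ A : Subgroup ↥(Cfsg.Lie.twistedG2 K (3 ^ m)), IsCyclic A ∧ Nat.card A = kn.1 ∧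
        Nat.card (Subgroup.normalizer (A : Set ↥(Cfsg.Lie.twistedG2 K (3 ^ m)))) = kn.2 ∧
        ∀ A₀ : Subgroup ↥(Cfsg.Lie.twistedG2 K (3 ^ m)), A₀ ≤ A → A₀ ≠ ⊥ →
          Subgroup.normalizer (A₀ : Set ↥(Cfsg.Lie.twistedG2 K (3 ^ m))) = Subgroup.normalizer (A : Set ↥(Cfsg.Lie.twistedG2 K (3 ^ m))) := by
  obtain ⟨R, -⟩ := Chev.ReeInst.exists_ree hK
  have hq : 3 < Fintype.card K := by
    rw [hK]
    calc 3 = 3 ^ 1 := rfl
      _ < _ := Nat.pow_lt_pow_right (by norm_num) (by omega)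
  have hr : (3 ^ (m + 1)) ^ 2 = 3 * Fintype.card K := by rw [hK]; ring
  have := R.finite
  obtain ⟨y₁, h₁, b₁⟩ := R.exists_big_H hq
  obtain ⟨y₂, h₂, b₂⟩ := R.exists_big_Cp hq
  obtain ⟨⟨y₃, b₃, c₃, n₃⟩, ⟨y₄, b₄, c₄, n₄⟩⟩ := R.exists_tori' hq hr
  have e₁ := R.centralizer_eq_H b₁ h₁
  have e₂ := R.centralizer_eq_Cp b₂ h₂
  have hn := Chev.sub_mul_add hq.le hr
  have o₁ := R.card_oddPart_H b₁ (by rw [e₁, R.card_H])
  have o₂ := R.card_oddPart_Cp b₂ (by rw [e₂, R.card_Cp])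
  have o₃ := (R.card_oddPart_Z b₃ ⟨_, by rw [c₃, hn]⟩).trans c₃
  have o₄ := (R.card_oddPart_Z b₄ ⟨_, by rw [c₄, mul_comm, hn]⟩).trans c₄
  have key : ∀ {y : ↥(Cfsg.Lie.twistedG2 K (3 ^ m))} (hy : Chev.Big (orderOf y)),
      ∀ A₀ ≤ R.oddPart hy, A₀ ≠ ⊥ →
        Subgroup.normalizer (A₀ : Set ↥(Cfsg.Lie.twistedG2 K (3 ^ m))) =
          Subgroup.normalizer (R.oddPart hy : Set ↥(Cfsg.Lie.twistedG2 K (3 ^ m))) :=
    fun hy A₀ h h' => (R.normalizer_eq_of_le_oddPart hy h h').trans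
      (R.normalizer_eq_of_le_oddPart hy le_rfl fun e => h' (le_bot_iff.1 (e ▸ h))).symm
  have key' : ∀ {y : ↥(Cfsg.Lie.twistedG2 K (3 ^ m))} (hy : Chev.Big (orderOf y)),
      Subgroup.normalizer (R.oddPart hy : Set ↥(Cfsg.Lie.twistedG2 K (3 ^ m))) =
        Subgroup.normalizer (Subgroup.centralizer {y} : Set ↥(Cfsg.Lie.twistedG2 K (3 ^ m))) := by
    intro y hy
    obtain ⟨k, h1, h2⟩ := R.exists_pow_prime hy
    refine R.normalizer_eq_of_le_oddPart hy le_rfl fun e => ?_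
    have h3 : y ^ k ∈ R.oddPart hy :=
      ⟨pow_mem (Chev.ReeGroup.self_mem_centralizer y) k, h1.odd_of_ne_two (by omega)⟩
    rw [e, Subgroup.mem_bot] at h3
    rw [h3, orderOf_one] at h2
    omega
  rw [← hK]
  rintro _ (rfl | rfl | rfl | rfl)
  · exact ⟨_, R.isCyclic_oddPart b₁, o₁, by rw [key', e₁, R.normalizer_H' b₁ h₁, R.card_N], key b₁⟩
  · exact ⟨_, R.isCyclic_oddPart b₂, o₂, by rw [key', e₂, R.card_normalizer_Cp b₂ h₂], key b₂⟩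
  · exact ⟨_, R.isCyclic_oddPart b₃, o₃, by rw [key', n₃], key b₃⟩
  · exact ⟨_, R.isCyclic_oddPart b₄, o₄, by rw [key', n₄], key b₄⟩

end Cfsg.Agent.S1158
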