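import Cfsg.Statements.S1167
import Cfsg.Agent.Perm.ZassFeit

set_option autoImplicit false
open Cfsg

namespace Cfsg.Agent.S1167

open Cfsg.Agent.Perm.Zass MulAction in

/-- Let `G` be a finite simple Zassenhaus group on `Ω`, `U` a normal subgroup of `G_a` regular on `Ω` minus `a` which is an abelian 2-group, and `v` an involution with `v • a ≠ a`. Then there is a unique `u₀ ∈ U`, `u₀ ≠ 1`, with `v u₀ v = u₀ v u₀`. -/
theorem result {G Ω : Type*} [Group G] [Finite G] [MulAction G Ω] [Finite Ω]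
    (hZ : Cfsg.IsZassenhausGroup G Ω) [IsSimpleGroup G] {a : Ω}
    (U : Subgroup G) (hUle : U ≤ MulAction.stabilizer G a)
    (hUn : ∀ h ∈ MulAction.stabilizer G a, ∀ u ∈ U, h * u * h⁻¹ ∈ U)
    (hreg : ∀ c d : Ω, c ≠ a → d ≠ a → ∃! u : U, (u : G) • c = d)
    (hU2 : IsPGroup 2 U) (hUab : ∀ u ∈ U, ∀ u' ∈ U, u * u' = u' * u)
    (v : G) (hv1 : v ≠ 1) (hv2 : v * v = 1) (hva : v • a ≠ a) :
    ∃! u₀ : G, u₀ ∈ U ∧ u₀ ≠ 1 ∧ v * u₀ * v = u₀ * v * u₀ := by
  have hT := hZ.isZT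
  have := Fintype.ofFinite G
  have hH := hT.isKer_of_reg hUle hreg
  have hab := hva.symm
  have hvb : v • v • a = a := by rw [← mul_smul, hv2, one_smul]
  have hodd : Odd (Nat.card Ω) := by
    rw [← hH.card_add_one hT]
    obtain ⟨n, hn⟩ := IsPGroup.iff_card.mp hU2
    refine Even.add_one ?_
    rw [hn, Nat.even_pow]
    refine ⟨even_two, ?_⟩
    rintro rfl
    exact hH.ne_bot hT (Subgroup.card_eq_one.mp hn)
  have he := hT.odd_card_stab2 hodd hab
  have hle := hH.le_of_comm hT hab he (fun s hsa hsb => hT.inverts_of_simple hab he hsa hsb)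
    (hZ.one_lt_card_stab2 hab) hUab
  obtain ⟨p, f, hp, hpow, hcard⟩ := hH.exists_prime_of_le hT hva hle
  have hsq : ∀ u ∈ U, u * u = 1 := fun u hu => by
    by_cases h1 : u = 1
    · rw [h1, one_mul]
    obtain ⟨k, hk⟩ := hU2 ⟨u, hu⟩
    have h2 := orderOf_eq_prime_iff (hp := ⟨hp⟩).mpr ⟨hpow u hu, h1⟩
    have h3 : p ∣ 2 ^ k := h2 ▸ orderOf_dvd_of_pow_eq_one (congrArg Subtype.val hk)
    rw [← sq, ← (Nat.prime_dvd_prime_iff_eq hp Nat.prime_two).mp (hp.dvd_of_dvd_pow h3), hpow u hu]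
  obtain ⟨c, hc⟩ := hT.exists_fixed_of_odd hodd hv2
  have hca : c ≠ a := fun e => hva (e ▸ hc)
  have hcb : c ≠ v • a := fun e => hva (by rw [← e, ← hc, e, hvb])
  obtain ⟨u, hu, e⟩ := hH.trans hT hva hca
  have e' : u • c = v • a := by rw [← e, ← mul_smul, hsq u hu, one_smul]
  refine ⟨u, ⟨hu, fun h => hcb (by rw [← e, h, one_smul]), hT.ext3 hab hcb.symm hca.symm ?_ ?_ ?_⟩,
    fun u' ⟨hu', _, h⟩ => hH.smul_inj hu' hu hva ?_⟩
  · simp only [mul_smul]; rw [e, hc, hH.smul_eq hu, e]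
  · simp only [mul_smul]; rw [hvb, hH.smul_eq hu, e, hc, e']
  · simp only [mul_smul]; rw [hc, e', hvb, hH.smul_eq hu]
  · have h1 := congrArg (· • a) h
    simp only [mul_smul] at h1
    rw [hH.smul_eq hu'] at h1
    rw [e]
    by_contra h2
    have := hT.card_stab2_eq hab h2
    rw [← this] at *
    have h3 : orderOf v ∣ Nat.card ↥(stabilizer G (u' • v • a) ⊓ stabilizer G c) :=
      Subgroup.orderOf_dvd_natCard _ ⟨h1, hc⟩
    rw [orderOf_eq_two_iff'.mpr ⟨hv2, hv1⟩, ← hT.card_stab2_eq hab h2] at h3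
    exact Nat.not_even_iff_odd.mpr he (even_iff_two_dvd.mpr h3)

end Cfsg.Agent.S1167
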