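import Mathlib
import Cfsg.Statements.S1223
import Cfsg.Agent.Inv.BenderCons
-- import your own Cfsg.Agent.* helpers here

set_option autoImplicit false
open Cfsg

namespace Cfsg.Agent.S1223

open Cfsg.Agent.Inv.SE Cfsg.Agent.Inv.Bnd Cfsg.Agent.Perm.RankOne

/-- Let H be a strongly embedded subgroup of the finite group G containing no nontrivial normal subgroup of G (so G acts faithfully on the cosets of H), u an involution of G outside H, and j ≠ 1 an element of H ∩ uHu⁻¹ with u j u⁻¹ = j⁻¹. Then C_G(j) has odd order. -/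
theorem result {G : Type*} [Group G] [Finite G] (H : Subgroup G) (hH : Cfsg.IsStronglyEmbedded H) (hcore : H.normalCore = ⊥) (u : G) (hu : orderOf u = 2) (huH : u ∉ H) (j : G) (hj : j ∈ (H ⊓ H.map (MulAut.conj u).toMonoidHom)) (hj1 : j ≠ 1) (hinv : u * j * u⁻¹ = j⁻¹) : Odd (Nat.card (Subgroup.centralizer ({j} : Set G))) := by

  have h := Inv.SE.isStronglyEmbedded_iff.1 hH
  have hodd : Odd (orderOf j) := (hH.2.2 u huH).of_dvd_nat (Subgroup.orderOf_dvd_natCard _ hj)
  have hj2 : j * j ≠ 1 := fun e => hj1 (eq_one_of_odd_of_mul_self hodd e)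
  rw [← Nat.not_even_iff_odd]
  intro he
  obtain ⟨y, hy, hy2⟩ := exists_mem_orderOf_eq he.two_dvd
  have hc : Commute y j := Subgroup.mem_centralizer_singleton_iff.1 hy
  have h2 := twoRank_of_inverted hu hy2 hj2 hinv hc
  obtain ⟨t, Q, hS⟩ := exists_setup h hcore h2
  have hu2 := Inv.iso_mul_self_of_orderOf hu
  have e : u * (u * j) = j := by rw [← mul_assoc, hu2, one_mul]
  refine Inv.iso_ne_one_of_orderOf hy2 (hS.eq_one_of_commute_stronglyReal h2 (u := u) (v := u * j)
    hu2 ?_ (by rwa [e]) (Inv.iso_mul_self_of_orderOf hy2) (by rwa [e]))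
  calc u * j * (u * j) = u * j * u⁻¹ * (u * u) * j := by group
    _ = 1 := by rw [hinv, hu2]; group

end Cfsg.Agent.S1223
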