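import Mathlib
-- Template for statement S1251 (row 1251; see /opt/grader/pristine/manifest.json for weights).
-- Copy to Cfsg/Agent/S1251.lean and replace the sorry. The statement below is byte-identical to the frozen
-- statement Cfsg.CfsgFrozen.S1251 (Cfsg/Statements/S1251.lean; the theorem Cfsg.strongly_closed_two_subgroup_centralizes_disjoint_invariant_corefree);
-- the grader kernel-checks Cfsg.Agent.S1251.result against that frozen type. Keep the theorem IN THIS FILE
-- (a `result` declared elsewhere and merely imported here is not credited); helpers may live anywhere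
-- under Cfsg/Agent/.
import Cfsg.Statements.S1251
import Cfsg.Agent.Inv.IsoSyl
import Cfsg.Agent.Inv.SylowTools
-- import your own Cfsg.Agent.* helpers here

set_option autoImplicit false
open Cfsg

namespace Cfsg.Agent.S1251

open Cfsg.Agent.Inv Cfsg.Agent.Inv.Fz Subgroup

/-- Let S be a Sylow 2-subgroup of the finite group G and A ≤ S strongly closed in S. If H is a subgroup normalized by A with no nontrivial normal subgroup of odd order and A ∩ H = 1, then A ≤ C_G(H). -/
theorem result {G : Type*} [Group G] [Finite G] (S : Sylow 2 G) (A : Subgroup G) (hA : Cfsg.IsStronglyClosed A (S : Subgroup G)) (H : Subgroup G) (hAH : A ≤ Subgroup.normalizer (H : Set G)) (hO : Cfsg.oddCore ↥H = ⊥) (hdisj : A ⊓ H = ⊥) : A ≤ Subgroup.centralizer (H : Set G) := by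
  have hA2 : IsPGroup 2 A := S.isPGroup'.to_le hA.1
  obtain ⟨R, hR, hAR⟩ := exists_isSylIn hA2 (le_sup_left : A ≤ A ⊔ H)
  obtain ⟨g, hg⟩ := exists_cj_le_sylow S hR.isPGroup
  have hgA : g ∈ normalizer (A : Set G) := mem_normalizer_of_conj_mem fun x hx =>
    hA.2 x hx g (cj_le_iff.1 hg x (hAR hx))
  have key : ∀ a ∈ A, ∀ h ∈ H, h * a * h⁻¹ ∈ R → h * a * h⁻¹ = a := fun a ha h hh hr => by
    have h1 := hA.2 a ha (g * h) (by simpa [mul_assoc] using cj_le_iff.1 hg _ hr)
    have h2 : h * a * h⁻¹ ∈ A := by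
      simpa [mul_assoc] using conj_mem_of_normalizer (Subgroup.inv_mem _ hgA) h1
    have h3 : h * a * h⁻¹ * a⁻¹ ∈ A ⊓ H := mem_inf.2 ⟨mul_mem h2 (inv_mem ha), by
      simpa [mul_assoc] using mul_mem hh (conj_mem_of_normalizer (hAH ha) (inv_mem hh))⟩
    rw [hdisj, mem_bot, mul_inv_eq_one] at h3
    exact h3
  intro a ha h hh
  have haN : zpowers a ≤ normalizer (H : Set G) := zpowers_le.2 (hAH ha)
  have haX : a ∈ zpowers a ⊔ H := mem_sup_left (mem_zpowers a)
  have hord := Loc.exists_orderOf_eq_of_mem hA2 ha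
  have hiso : IsIsolated (⟨a, haX⟩ : ↥(zpowers a ⊔ H)) := by
    intro x hx
    obtain ⟨b, hb, y, hy, e⟩ := (mem_sup_iff_of_le_normalizer haN).1 (inv_mem x.2)
    have hx' : Commute a (x * a * (x : G)⁻¹) := congrArg Subtype.val hx
    refine Subtype.ext (show (x : G) * a * (x : G)⁻¹ = a from ?_)
    have e1 : (x : G) * a * (x : G)⁻¹ = y⁻¹ * a * y⁻¹⁻¹ := by
      obtain ⟨n, rfl⟩ := hb
      rw [← inv_inv (x : G), e]; simp only; group
    rw [e1] at hx' ⊢
    have hP : IsPGroup 2 ↥(zpowers (y⁻¹ * a * y⁻¹⁻¹) ⊔ zpowers a) :=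
      ST.isPGroup_sup_zpowers (Loc.isPGroup_zpowers_of_orderOf hord)
        (Loc.isPGroup_zpowers_of_orderOf (Loc.exists_orderOf_conj hord _))
        (centralizer_le_normalizer _ (by
          rw [Loc.centralizer_zpowers_eq, mem_centralizer_singleton_iff]; exact hx'.symm.eq))
    obtain ⟨w, hw, hwR⟩ := hR.exists_cj_le hP (sup_le (zpowers_le.2 (mul_mem (mul_mem
      (mem_sup_right (inv_mem hy)) (mem_sup_left ha)) (inv_mem (mem_sup_right (inv_mem hy)))))
      (zpowers_le.2 (mem_sup_left ha)))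
    obtain ⟨a', ha', h', hh', rfl⟩ := (mem_sup_iff_of_le_normalizer hAH).1 hw
    have hc : ∀ u ∈ zpowers (y⁻¹ * a * y⁻¹⁻¹) ⊔ zpowers a, h' * u * h'⁻¹ ∈ R := fun u hu => by
      simpa [mul_assoc] using
        mul_mem (mul_mem (inv_mem (hAR ha')) (cj_le_iff.1 hwR u hu)) (hAR ha')
    have h1 := key a ha h' hh' (hc _ (mem_sup_right (mem_zpowers _)))
    have h2 := key a ha (h' * y⁻¹) (mul_mem hh' (inv_mem hy))
      (by simpa [mul_assoc] using hc _ (mem_sup_left (mem_zpowers _)))
    calc _ = h'⁻¹ * (h' * y⁻¹ * a * (h' * y⁻¹)⁻¹) * h' := by group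
      _ = h'⁻¹ * (h' * a * h'⁻¹) * h' := by rw [h1, h2]
      _ = a := by group
  have h1 := (Loc.inZStar_subgroup_iff haX).1 (Loc.IsIsolated.inZStar_two hiso
    (by rwa [← Subgroup.orderOf_coe])) h (mem_sup_right hh)
  have h2 := GT.pPrimeCoreOf_inf_le (p := 2) (le_sup_right : H ≤ zpowers a ⊔ H) ⟨h1, by
    simpa [mul_assoc] using mul_mem hh (conj_mem_of_normalizer (hAH ha) (inv_mem hh))⟩
  rw [GT.pPrimeCoreOf_eq_bot_iff.2 hO, mem_bot, mul_inv_eq_one, mul_inv_eq_iff_eq_mul] at h2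
  exact h2

end Cfsg.Agent.S1251
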