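import Mathlib
-- Template for statement S1292 (row 1292; see /opt/grader/pristine/manifest.json for weights).
-- Copy to Cfsg/Agent/S1292.lean and replace the sorry. The statement below is byte-identical to the frozen
-- statement Cfsg.CfsgFrozen.S1292 (Cfsg/Statements/S1292.lean; the theorem Cfsg.two_locals_char_two_of_involution_centralizers);
-- the grader kernel-checks Cfsg.Agent.S1292.result against that frozen type. Keep the theorem IN THIS FILE
-- (a `result` declared elsewhere and merely imported here is not credited); helpers may live anywhere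
-- under Cfsg/Agent/.
import Cfsg.Statements.S1292
import Cfsg.Agent.Loc.CharP
import Cfsg.Agent.GT.PGroupChain

set_option autoImplicit false
open Cfsg

namespace Cfsg.Agent.S1292

/-- Let G be a finite group such that F*(C_G(t)) = O_2(C_G(t)) for every involution t. Then F*(N_G(T)) = O_2(N_G(T)) for every nontrivial 2-subgroup T of G. -/
theorem result {G : Type*} [Group G] [Finite G] (h : ∀ t : G, orderOf t = 2 → Cfsg.generalizedFittingSubgroup ↥(Subgroup.centralizer ({t} : Set G)) = Cfsg.pCore 2 ↥(Subgroup.centralizer ({t} : Set G))) (T : Subgroup G) (hT : IsPGroup 2 ↥T) (hT1 : T ≠ ⊥) : Cfsg.generalizedFittingSubgroup ↥(Subgroup.normalizer (T : Set G)) = Cfsg.pCore 2 ↥(Subgroup.normalizer (T : Set G)) := by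
  have h1 := GT.PG.inf_centralizer_ne_bot_of_isPGroup hT hT Subgroup.le_normalizer hT1
  obtain ⟨z, hz, hz1, hz2⟩ := GT.PG.exists_mem_ne_one_pow_eq_one (hT.to_le inf_le_left) h1
  have hz3 : orderOf z = 2 := orderOf_eq_prime hz2 hz1
  exact Loc.CP.isCharP_iff_genFitting.mp (Loc.CP.isCharP_normalizer_of_centralizer_elt hT hz.1
    (fun x hx => hz.2 x hx) (Loc.CP.isCharP_iff_genFitting.mpr (h z hz3))).1

end Cfsg.Agent.S1292
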