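import Mathlib
import Cfsg.Statements.S1294
import Cfsg.Agent.Loc.SSFT
import Cfsg.Agent.Loc.SigBasic
import Cfsg.Agent.GT.PGroupRank
import Cfsg.Agent.GT.PGroupElemAb
import Cfsg.Agent.GT.PPrimeCore
import Cfsg.Agent.GT.Conj
import Cfsg.Agent.GT.CoprimeGen
-- import your own Cfsg.Agent.* helpers here

set_option autoImplicit false
open Cfsg

namespace Cfsg.Agent.S1294

open Subgroup Cfsg.Agent.GT Cfsg.Agent.Loc

/-- Let G be finite with O_{p'}(G) = 1 and p-rank at least 3, whose reduced rank-2 commuting graph for p is connected. Let θ assign to every element a of order p with m_p(C_G(a)) ≥ 3 a solvable subgroup θ a ≤ C_G(a) of order prime to p, so that θ (g a g⁻¹) = g (θ a) g⁻¹ for all g and θ a ∩ C_G(b) ≤ θ b for commuting such a, b. Then θ a = 1 for every such a. -/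
theorem result {G : Type*} [Group G] [Finite G] (p : ℕ) [Fact p.Prime] (hO : Cfsg.pPrimeCore p G = ⊥) (hrk : ¬ Cfsg.PRankLE p 2 G) (hconn : Cfsg.IsRankGraphConnected p 2 G) (θ : G → Subgroup G) (hC : ∀ a : G, (orderOf a = p ∧ ¬ Cfsg.PRankLE p 2 ↥(Subgroup.centralizer ({a} : Set G))) → θ a ≤ Subgroup.centralizer ({a} : Set G) ∧ ¬ p ∣ Nat.card ↥(θ a) ∧ Group.IsSolvable ↥(θ a)) (heq : ∀ a g : G, (orderOf a = p ∧ ¬ Cfsg.PRankLE p 2 ↥(Subgroup.centralizer ({a} : Set G))) → θ (g * a * g⁻¹) = (θ a).map (MulAut.conj g).toMonoidHom) (hbal : ∀ a b : G, (orderOf a = p ∧ ¬ Cfsg.PRankLE p 2 ↥(Subgroup.centralizer ({a} : Set G))) → (orderOf b = p ∧ ¬ Cfsg.PRankLE p 2 ↥(Subgroup.centralizer ({b} : Set G))) → a * b = b * a → θ a ⊓ Subgroup.centralizer {b} ≤ θ b) (a : G) (ha : (orderOf a = p ∧ ¬ Cfsg.PRankLE p 2 ↥(Subgroup.centralizer ({a} : Set G)))) : θ a = ⊥ := by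
  have hp : p.Prime := Fact.out
  have big : ∀ F : Subgroup G, IsElementaryAbelian p F → p ^ 3 ≤ Nat.card F → ∀ H : Subgroup G,
      F ≤ H → ¬ PRankLE p 2 H := fun F hF h3 H hle hr =>
    absurd (Nat.pow_lt_pow_right hp.one_lt (by norm_num : 2 < 3))
      (not_lt.2 (h3.trans (hr.card_le_of_le hle hF)))
  have sf : ∀ F : Subgroup G, IsElementaryAbelian p F → p ^ 3 ≤ Nat.card F → Sig.SF p F θ := by
    intro F hF h3
    have hI : ∀ a ∈ F, a ≠ 1 → orderOf a = p ∧ ¬ PRankLE p 2 (centralizer ({a} : Set G)) :=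
      fun a ha h1 => ⟨hF.orderOf_eq ha h1, big F hF h3 _ (Sig.le_cent_elt hF.1 ha)⟩
    refine Sig.SF.of hF ⟨⟨fun a ha h1 => (hC a (hI a ha h1)).1, fun a ha h1 => (hC a (hI a ha h1)).2.1,
      fun a ha h1 b hb x hx => ?_, fun a ha h1 b hb h2 => hbal a b (hI a ha h1) (hI b hb h2)
        (hF.comm ha hb)⟩, fun a ha h1 => (hC a (hI a ha h1)).2.2⟩
    have h2 := heq a b (hI a ha h1)
    rw [hF.comm hb ha, mul_inv_cancel_right] at h2
    rw [h2]; exact conj_mem_map_conj.2 hx
  have step : ∀ E F : Subgroup G, IsRankGraphVertex p 2 E → IsElementaryAbelian p F →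
      p ^ 3 ≤ Nat.card F → E ≤ F → signalizerClosure E θ = signalizerClosure F θ :=
    fun E F hE hF h3 hle => (sf F hF h3).closure_eq hle
      (CopAct.not_isCyclic_of_isElementaryAbelian hE.1 hE.2.1)
  have adj : ∀ E E' : Subgroup G, IsRankGraphVertex p 2 E → IsRankGraphVertex p 2 E' →
      (∀ a ∈ E, ∀ b ∈ E', a * b = b * a) → signalizerClosure E θ = signalizerClosure E' θ := by
    intro E E' hE hE' hc
    have hF := hE.1.sup hE'.1 fun b hb => mem_centralizer_iff.2 fun a ha => hc a ha b hb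
    by_cases h3 : p ^ 3 ≤ Nat.card (E ⊔ E' : Subgroup G)
    · rw [step E _ hE hF h3 le_sup_left, step E' _ hE' hF h3 le_sup_right]
    · obtain ⟨j, hj⟩ := hF.card_eq_pow
      have h2 : Nat.card (E ⊔ E' : Subgroup G) ≤ p ^ 2 := by
        rw [hj] at h3 ⊢
        have := (Nat.pow_lt_pow_iff_right hp.one_lt).1 (not_le.1 h3)
        exact Nat.pow_le_pow_right hp.pos (by omega)
      rw [(eq_of_le_of_card_ge le_sup_left (h2.trans hE.2.1)).trans
        (eq_of_le_of_card_ge le_sup_right (h2.trans hE'.2.1)).symm]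
  have const : ∀ E E' : Subgroup G, IsRankGraphVertex p 2 E → IsRankGraphVertex p 2 E' →
      signalizerClosure E θ = signalizerClosure E' θ := by
    intro E E' hE hE'
    have h := hconn E E' hE hE'
    clear hE'
    induction h with
    | refl => rfl
    | tail _ h2 ih => exact ih.trans (adj _ _ h2.1 h2.2.1 h2.2.2)
  have vert : ∀ F : Subgroup G, IsElementaryAbelian p F → p ^ 3 ≤ Nat.card F →
      IsRankGraphVertex p 2 F := fun F hF h3 =>
    ⟨hF, (Nat.pow_le_pow_right hp.pos (by norm_num)).trans h3, big F hF h3 _ hF.le_centralizer⟩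
  obtain ⟨A, hAle, hA, hA3⟩ := PG.not_pRankLE_subgroup_iff.1 ha.2
  have hF := hA.sup_zpowers (ha.1 ▸ pow_orderOf_eq_one a) (le_centralizer_singleton_iff.1 hAle)
  have h3 : p ^ 3 ≤ Nat.card (A ⊔ zpowers a : Subgroup G) := hA3.ge.trans (card_le_of_le le_sup_left)
  have haF : a ∈ A ⊔ zpowers a := mem_sup_right (mem_zpowers a)
  generalize A ⊔ zpowers a = F at hF h3 haF
  have hW := Sig.fam_iff.2 (ssft hF h3 (sf F hF h3).isSolvableSignalizerFunctor)
  have hn : (signalizerClosure F θ).Normal := by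
    refine ⟨fun x hx g => ?_⟩
    refine map_conj_le_iff_forall.1 ?_ x hx
    rw [const F (F.map (MulAut.conj g).toMonoidHom) (vert F hF h3)
      (vert _ (hF.map _) (by rwa [card_map_conj])), ← const F (F.map (MulAut.conj g).toMonoidHom)
      (vert F hF h3) (vert _ (hF.map _) (by rwa [card_map_conj])), map_conj_le_iff]
    refine Sig.signalizerClosure_le_iff.2 fun b hb h1 => ?_
    rw [← map_conj_le_iff, ← heq b g ⟨hF.orderOf_eq hb h1, big F hF h3 _ (Sig.le_cent_elt hF.1 hb)⟩,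
      const F (F.map (MulAut.conj g).toMonoidHom) (vert F hF h3)
      (vert _ (hF.map _) (by rwa [card_map_conj]))]
    exact Sig.le_signalizerClosure (conj_mem_map_conj.2 hb) (by simpa using h1)
  have h1 : a ≠ 1 := fun e => hp.one_lt.ne' (by rw [← ha.1, e, orderOf_one])
  rw [eq_bot_iff, ← hO]
  exact (Sig.le_signalizerClosure haF h1).trans (le_pPrimeCore_of_not_dvd hp hW.ndvd)

end Cfsg.Agent.S1294
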