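import Mathlib
import Cfsg.Statements.S1295
import Cfsg.Agent.S1294
import Cfsg.Agent.GT.LocalLayer
import Cfsg.Agent.GT.FStar
import Cfsg.Agent.Inv.CoreSig
-- import your own Cfsg.Agent.* helpers here

set_option autoImplicit false
open Cfsg

namespace Cfsg.Agent.S1295

open Subgroup Cfsg.Agent.GT Cfsg.Agent.Loc

/-- Let G be finite with O_{p'}(G) = 1 and p-rank at least 3, whose reduced rank-2 commuting graph for p is connected. Suppose that for every element a of order p with m_p(C_G(a)) ≥ 3 the p-layer of C_G(a) is trivial and O_{p'}(C_G(a)) is solvable. Then F*(C_G(a)) = O_p(C_G(a)) for every such a. -/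
theorem result {G : Type*} [Group G] [Finite G] (p : ℕ) [Fact p.Prime] (hO : Cfsg.pPrimeCore p G = ⊥) (hrk : ¬ Cfsg.PRankLE p 2 G) (hconn : Cfsg.IsRankGraphConnected p 2 G) (hL : ∀ a : G, (orderOf a = p ∧ ¬ Cfsg.PRankLE p 2 ↥(Subgroup.centralizer ({a} : Set G))) → Cfsg.pLayer p ↥(Subgroup.centralizer ({a} : Set G)) = ⊥ ∧ Group.IsSolvable ↥(Cfsg.centralizerPPrimeCore p a)) (a : G) (ha : (orderOf a = p ∧ ¬ Cfsg.PRankLE p 2 ↥(Subgroup.centralizer ({a} : Set G)))) : Cfsg.generalizedFittingSubgroup ↥(Subgroup.centralizer ({a} : Set G)) = Cfsg.pCore p ↥(Subgroup.centralizer ({a} : Set G)) := by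
  have hp : p.Prime := Fact.out
  have h0 := S1294.result p hO hrk hconn (centralizerPPrimeCore p)
    (fun a ha => ⟨pPrimeCoreOf_le _, hp.coprime_iff_not_dvd.1 (coprime_card_pPrimeCoreOf p _).symm,
      (hL a ha).2⟩)
    (fun a g _ => by
      rw [centralizerPPrimeCore_eq, centralizerPPrimeCore_eq, centralizer_singleton_conj,
        pPrimeCoreOf_map_conj])
    (fun a b ha hb hab => by
      have h1 := Inv.CS.pPrimeCoreOf_inf_centralizer (isPConstrained_iff_pLayer_eq_bot.2 (hL b hb).1)
        (P := zpowers a) (IsPGroup.of_card (n := 1) (by rw [Nat.card_zpowers, ha.1, pow_one]))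
        ((zpowers_le (G := G)).2 (mem_centralizer_singleton_iff.2 hab))
      rw [GT.centralizer_zpowers] at h1
      refine le_trans ?_ (h1.le.trans inf_le_left)
      refine le_trans (le_inf inf_le_left (le_inf inf_le_right
        (inf_le_left.trans (pPrimeCoreOf_le _)))) (pPrimeCoreOf_inf_le inf_le_right)) a ha
  rw [centralizerPPrimeCore_eq, pPrimeCoreOf_eq_bot_iff] at h0
  rw [genFitting_eq_pCore_iff' hp, ← pLayer_eq_layer hp h0]
  exact ⟨(hL a ha).1, h0⟩

end Cfsg.Agent.S1295
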