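import Mathlib
import Cfsg.Statements.S1322
import Cfsg.Agent.GT.PumpTwo
import Cfsg.Agent.GT.LBalance
import Cfsg.Agent.S0205

set_option autoImplicit false
open Cfsg

namespace Cfsg.Agent.S1322

open Cfsg.Agent.GT Subgroup

/-- Let G be finite with L_{2'}(G) = E(G), t an involution and L ≤ C_G(t) a component of C_G(t). Then there is a component D of G with: L = D; or L < D and D = ⁅D, ⟨t⟩⁆; or tDt⁻¹ ≠ D and L is the layer of C_{D ⊔ tDt⁻¹}(t). -/
theorem result {G : Type*} [Group G] [Finite G] (hL2 : Cfsg.pLayer 2 G = Cfsg.layer G) (t : G) (ht : orderOf t = 2) (L : Subgroup G) (hLt : L ≤ Subgroup.centralizer ({t} : Set G)) (hL : Cfsg.IsComponent (L.subgroupOf (Subgroup.centralizer ({t} : Set G)))) : ∃ D : Subgroup G, Cfsg.IsComponent D ∧ (L = D ∨ (L < D ∧ D = ⁅D, Subgroup.zpowers t⁆) ∨ (D.map (MulAut.conj t).toMonoidHom ≠ D ∧ L = (Cfsg.layer ↥((D ⊔ D.map (MulAut.conj t).toMonoidHom) ⊓ Subgroup.centralizer ({t} : Set G))).map ((D ⊔ D.map (MulAut.conj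 t).toMonoidHom) ⊓ Subgroup.centralizer ({t} : Set G)).subtype)) := by
    have hL' : IsComponentOf L (centralizer {t}) := ⟨hLt, hL⟩
    have hL2' : IsPComponentOf 2 L (centralizer {t}) := hL'.isPComponentOf Nat.prime_two (by
      by_contra h
      exact hL'.isQuasisimple.not_isSolvable
        (S0205.result (Nat.odd_iff.mpr (Nat.two_dvd_ne_zero.mp h))))
    obtain ⟨D, hD, h | ⟨h, h'⟩ | ⟨h, h'⟩⟩ := pump_two ht hL2' (hL2'.le_pLayerOf.trans
      ((pLayerOf_centralizer_singleton_le_pLayer_two (k := 1) (by rw [ht, pow_one])).trans hL2.le))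
    · exact ⟨D, hD, Or.inl h⟩
    · exact ⟨D, hD, Or.inr (Or.inl ⟨h, h'.symm⟩)⟩
    have hne : D.map (MulAut.conj t).toMonoidHom ≠ D := fun e => h (map_conj_eq_self_iff.mp e)
    refine ⟨D, hD, Or.inr (Or.inr ⟨hne, le_antisymm
      (hL'.mono (le_inf h'.le_sup hLt) inf_le_right).le_subgroupLayer ?_⟩)⟩
    rw [← h'.commutator_eq ht hD.commutator_eq ((hD.map_conj t).le_centralizer_of_ne hD hne)]
    exact (commutator_subgroupLayer _).ge.trans
      (commutator_mono (subgroupLayer_le _) (subgroupLayer_le _))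

end Cfsg.Agent.S1322
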