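import Mathlib
import Cfsg.Statements.S1323
import Cfsg.Agent.S1306
import Cfsg.Agent.GT.Components

set_option autoImplicit false
open Cfsg

namespace Cfsg.Agent.S1323

section Aux

open Equiv Equiv.Perm

variable {α : Type*} [Fintype α] [DecidableEq α] {s : Finset α}

/-- The even permutations supported on `s`. -/
abbrev altOn (s : Finset α) : Subgroup (alternatingGroup α) := (alternatingGroup.ofSubtype s).range

theorem mem_altOn {k : alternatingGroup α} : k ∈ altOn s ↔ ∀ a, a ∉ s → (k : Perm α) a = a := by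
  rw [alternatingGroup.mem_range_ofSubtype_iff]
  exact ⟨fun h a ha => notMem_support.1 fun e => ha (h e),
    fun h a ha => by_contra fun e => mem_support.1 ha (h a e)⟩

theorem exists_move (h4 : 4 ≤ s.card) {a : α} (ha : a ∈ s) {b : α} (hb : b ≠ a) :
    ∃ c ∈ altOn s, (c : Perm α) a ≠ a ∧ (c : Perm α) b = b := by
  have h1 := Finset.pred_card_le_card_erase (s := s.erase a) (a := b)
  rw [Finset.card_erase_of_mem ha] at h1
  obtain ⟨u, hu, v, hv, huv⟩ := Finset.one_lt_card.1 (show 1 < ((s.erase a).erase b).card by omega)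
  simp only [Finset.mem_erase] at hu hv
  refine ⟨⟨swap a u * swap a v, by simp [mem_alternatingGroup, hu.2.1.symm, hv.2.1.symm]⟩,
    mem_altOn.2 fun x hx => ?_, ?_, ?_⟩
  · have h1 : x ≠ a := fun e => hx (e ▸ ha)
    have h2 : x ≠ u := fun e => hx (e ▸ hu.2.2)
    have h3 : x ≠ v := fun e => hx (e ▸ hv.2.2)
    simp [swap_apply_of_ne_of_ne, h1, h2, h3]
  · simp [swap_apply_of_ne_of_ne hv.2.1 huv.symm, hv.2.1]
  · simp [swap_apply_of_ne_of_ne hb hv.1.symm, swap_apply_of_ne_of_ne hb hu.1.symm]

theorem fix_of_centralizes (h4 : 4 ≤ s.card) {y : alternatingGroup α}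
    (hy : y ∈ Subgroup.centralizer (altOn s : Set (alternatingGroup α))) {a : α} (ha : a ∈ s) :
    (y : Perm α) a = a := by
  by_contra h
  obtain ⟨c, hc, h1, h2⟩ := exists_move h4 ha h
  have := congrArg (fun g : alternatingGroup α => (g : Perm α) a)
    (Subgroup.mem_centralizer_iff.1 hy c hc)
  simp only [Subgroup.coe_mul, Perm.mul_apply, h2] at this
  exact h1 ((y : Perm α).injective this).symm

theorem quasisimple (h5 : 5 ≤ s.card) : IsQuasisimple (altOn s) := by
  have := alternatingGroup.isSimpleGroup (α := s) (by simpa using h5)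
  refine (IsQuasisimple.of_isSimpleGroup (G := alternatingGroup s) fun h => ?_).of_mulEquiv
    (MonoidHom.ofInjective alternatingGroup.ofSubtype_injective)
  have := (alternatingGroup.isMulCommutative_iff_card_le_three (α := s)).1 h
  simp at this
  omega

theorem mem_iff_of_invol (h4 : 4 ≤ s.card) (hc : sᶜ.card ≤ 4) {y : alternatingGroup α}
    (h2 : orderOf y = 2) (hy : y ∈ Subgroup.centralizer (altOn s : Set (alternatingGroup α)))
    (a : α) : a ∈ s ↔ (y : Perm α) a = a := by
  have h1 : (y : Perm α).support ⊆ sᶜ := fun a ha =>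
    Finset.mem_compl.2 fun e => mem_support.1 ha (fix_of_centralizes h4 hy e)
  have ho : orderOf (y : Perm α) = 2 := by rw [Subgroup.orderOf_coe, h2]
  have h3 : 2 ≤ (y : Perm α).support.card :=
    two_le_card_support_of_ne_one fun e => by rw [e, orderOf_one] at ho; omega
  have h5 : (y : Perm α).support.card ≠ 2 := fun e => by
    have := (card_support_eq_two.1 e).sign_eq
    rw [mem_alternatingGroup.1 y.2] at this
    exact absurd this (by decide)
  have h6 : (y : Perm α).support.card ≠ 3 := fun e => by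
    have := (card_support_eq_three_iff.1 e).orderOf
    omega
  rw [← notMem_support, Finset.eq_of_subset_of_card_le h1 (by omega), Finset.mem_compl, not_not]

theorem component (h5 : 5 ≤ s.card) (hc : sᶜ.card ≤ 4) {y : alternatingGroup α}
    (h2 : orderOf y = 2) (hy : y ∈ Subgroup.centralizer (altOn s : Set (alternatingGroup α))) :
    altOn s ≤ Subgroup.centralizer {y} ∧
      IsComponent ((altOn s).subgroupOf (Subgroup.centralizer {y})) := by
  have hle : altOn s ≤ Subgroup.centralizer {y} := fun k hk =>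
    Subgroup.mem_centralizer_singleton_iff.2 (Subgroup.mem_centralizer_iff.1 hy k hk)
  refine ⟨hle, Subgroup.Normal.isSubnormal ⟨fun k hk g => ?_⟩, (quasisimple h5).subgroupOf hle⟩
  rw [Subgroup.mem_subgroupOf, mem_altOn] at hk ⊢
  intro a ha
  have hg := congrArg (fun x : alternatingGroup α => (x : Perm α) ((g.1 : Perm α)⁻¹ a))
    (Subgroup.mem_centralizer_singleton_iff.1 g.2)
  have hi : (g.1 : Perm α) ((g.1 : Perm α)⁻¹ a) = a := by simp
  simp only [Subgroup.coe_mul, Perm.mul_apply, hi] at hg
  have : (g.1 : Perm α)⁻¹ a ∉ s := fun e => ha (by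
    rw [mem_iff_of_invol (by omega) hc h2 hy] at e ⊢
    rw [← hg, e, hi])
  change (g.1 : Perm α) ((k.1 : Perm α) ((g.1 : Perm α)⁻¹ a)) = a
  rw [hk _ this, hi]

theorem standard (h5 : 5 ≤ s.card) (hc : sᶜ.card = 4) : IsStandardSubgroup (altOn s) := by
  obtain ⟨a, b, c, d, hab, hac, had, hbc, hbd, hcd, e⟩ := Finset.card_eq_four.1 hc
  have hs : ∀ x ∈ s, x ≠ a ∧ x ≠ b ∧ x ≠ c ∧ x ≠ d := fun x hx => by
    have : x ∉ sᶜ := by simpa using hx
    simpa [e] using this
  have hs' : ∀ x, x ∈ ({a, b, c, d} : Finset α) → x ∉ s := fun x hx => by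
    rwa [← e, Finset.mem_compl] at hx
  let y : alternatingGroup α := ⟨swap a b * swap c d, by simp [mem_alternatingGroup, hab, hcd]⟩
  have hcm : Commute (swap a b) (swap c d) := by
    rw [Commute, SemiconjBy, mul_swap_eq_swap_mul, swap_apply_of_ne_of_ne hac.symm hbc.symm,
      swap_apply_of_ne_of_ne had.symm hbd.symm]
  have h2 : orderOf y = 2 := by
    refine orderOf_eq_prime (Subtype.ext ?_) fun h => ?_
    · change (swap a b * swap c d) ^ 2 = 1
      rw [hcm.mul_pow, pow_two, pow_two, swap_mul_self, swap_mul_self, one_mul]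
    · have := congrArg (fun x : alternatingGroup α => (x : Perm α) a) h
      simp [y, swap_apply_of_ne_of_ne hac had, hab.symm] at this
  have hy : y ∈ Subgroup.centralizer (altOn s : Set (alternatingGroup α)) := by
    refine Subgroup.mem_centralizer_iff.2 fun k hk => Subtype.ext (Perm.Disjoint.commute ?_).eq
    intro x
    by_cases hx : x ∈ s
    · obtain ⟨h1, h2, h3, h4⟩ := hs x hx
      exact Or.inr (by simp [y, swap_apply_of_ne_of_ne, h1, h2, h3, h4])
    · exact Or.inl (mem_altOn.1 hk x hx)
  refine S1306.result y h2 _ (component h5 hc.le h2 hy).1 (component h5 hc.le h2 hy).2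
    (fun y h2 hy => component h5 hc.le h2 hy) fun g _ h => ?_
  rw [Subgroup.commutator_comm, Subgroup.commutator_eq_bot_iff_le_centralizer] at h
  have : s.map (g : Perm α).toEmbedding ⊆ sᶜ := by
    intro x hx
    obtain ⟨z, hz, rfl⟩ := Finset.mem_map.1 hx
    obtain ⟨k, hk, h1, -⟩ := exists_move (by omega) hz (b := a) (hs z hz).1.symm
    refine Finset.mem_compl.2 fun hgz => h1 ?_
    simpa using fix_of_centralizes (by omega) (h ⟨k, hk, rfl⟩) hgz
  have := Finset.card_le_card this
  rw [Finset.card_map] at this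
  omega

end Aux

/-- For n ≥ 9, the subgroup of the alternating group on Fin n fixing each of the points 0, 1, 2, 3 is a standard subgroup. -/
theorem result (n : ℕ) (h4 : 4 ≤ n) (hn : 9 ≤ n) : Cfsg.IsStandardSubgroup (⨅ i : Fin 4, MulAction.stabilizer ↥(alternatingGroup (Fin n)) (Fin.castLE h4 i : Fin n)) := by
  have hc : (Finset.univ.map (Fin.castLEEmb h4)).card = 4 := by simp
  have e : (⨅ i : Fin 4, MulAction.stabilizer ↥(alternatingGroup (Fin n)) (Fin.castLE h4 i : Fin n)) =
      altOn (Finset.univ.map (Fin.castLEEmb h4))ᶜ := by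
    ext k
    simp only [Subgroup.mem_iInf, MulAction.mem_stabilizer_iff, mem_altOn, Finset.mem_compl, not_not,
      Finset.mem_map, Finset.mem_univ, true_and, forall_exists_index, forall_apply_eq_imp_iff]
    rfl
  rw [e]
  exact standard (by rw [Finset.card_compl, hc, Fintype.card_fin]; omega) (by rw [compl_compl, hc])

end Cfsg.Agent.S1323
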