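import Mathlib
-- Template for statement S1333 (row 1333; see /opt/grader/pristine/manifest.json for weights).
-- Copy to Cfsg/Agent/S1333.lean and replace the sorry. The statement below is byte-identical to the frozen
-- statement Cfsg.CfsgFrozen.S1333 (Cfsg/Statements/S1333.lean; the theorem Cfsg.l_balance_for_composition_k_groups);
-- the grader kernel-checks Cfsg.Agent.S1333.result against that frozen type. Keep the theorem IN THIS FILE
-- (a `result` declared elsewhere and merely imported here is not credited); helpers may live anywhere
-- under Cfsg/Agent/.
import Cfsg.Statements.S1333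
import Cfsg.Agent.KF.Out

set_option autoImplicit false
open Cfsg

namespace Cfsg.Agent.S1333

/-- Let X be a finite group whose non-abelian composition factors are known simple groups, p any prime, and P a p-subgroup of X. Then L_{p'}(C_X(P)) ≤ L_{p'}(X). -/
theorem result {X : Type*} [Group X] [Finite X] (hK : Cfsg.IsCompositionKGroup X) (p : ℕ) [Fact p.Prime] (P : Subgroup X) (hP : IsPGroup p ↥P) : (Cfsg.pLayer p ↥(Subgroup.centralizer (P : Set X))).map (Subgroup.centralizer (P : Set X)).subtype ≤ Cfsg.pLayer p X := by
  exact KF.lb_of_compK hK p P hP

end Cfsg.Agent.S1333
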