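import Mathlib
-- Template for statement S1334 (row 1334; see /opt/grader/pristine/manifest.json for weights).
-- Copy to Cfsg/Agent/S1334.lean and replace the sorry. The statement below is byte-identical to the frozen
-- statement Cfsg.CfsgFrozen.S1334 (Cfsg/Statements/S1334.lean; the theorem Cfsg.l_balance_commuting_elements_for_k_locals);
-- the grader kernel-checks Cfsg.Agent.S1334.result against that frozen type. Keep the theorem IN THIS FILE
-- (a `result` declared elsewhere and merely imported here is not credited); helpers may live anywhere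
-- under Cfsg/Agent/.
import Cfsg.Statements.S1334
import Cfsg.Agent.KF.Out

set_option autoImplicit false
open Cfsg

namespace Cfsg.Agent.S1334

/-- Let G be finite such that every p-local subgroup has all its non-abelian composition factors among the known simple groups, and let a, b be commuting elements of order p. Then the p-layer of L_{p'}(C_G(a)) ∩ C_G(b) equals the p-layer of L_{p'}(C_G(b)) ∩ C_G(a) (both viewed in G). -/
theorem result {G : Type*} [Group G] [Finite G] (p : ℕ) [Fact p.Prime] (hK : ∀ T : Subgroup G, IsPGroup p ↥T → T ≠ ⊥ → Cfsg.IsCompositionKGroup ↥(Subgroup.normalizer (T : Set G))) (a b : G) (ha : orderOf a = p) (hb : orderOf b = p) (hab : a * b = b * a) : (Cfsg.pLayer p ↥((Cfsg.pLayer p ↥(Subgroup.centralizer ({a} : Set G))).map (Subgroup.centralizer ({a} : Set G)).subtype ⊓ Subgroup.centralizer ({b} : Set G))).map ((Cfsg.pLayer p ↥(Subgroup.centralizer ({a} : Set G))).map (Subgroup.centralizer ({a} : Set G)).subtype ⊓ Subgroup.centralizer ({b} : Set G)).subtype = (Cfsg.pLayer p ↥((Cfsg.pLayer p ↥(Subgroup.centralizer ({b} : Set G))).map (Subgroup.centralizer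 ({b} : Set G)).subtype ⊓ Subgroup.centralizer ({a} : Set G))).map ((Cfsg.pLayer p ↥(Subgroup.centralizer ({b} : Set G))).map (Subgroup.centralizer ({b} : Set G)).subtype ⊓ Subgroup.centralizer ({a} : Set G)).subtype := by
  have hp : p.Prime := Fact.out
  have key : ∀ a b : G, orderOf a = p → orderOf b = p → a * b = b * a →
      pLayerOf p (pLayerOf p (Subgroup.centralizer {a}) ⊓ Subgroup.centralizer {b} : Subgroup G) =
        pLayerOf p (Subgroup.centralizer {a} ⊓ Subgroup.centralizer {b} : Subgroup G) := by
    intro a b ha hb hab
    have hA := GT.isPGroup_zpowers_of_orderOf_eq (k := 1) (ha.trans (pow_one p).symm)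
    have h1 := hK _ hA fun h => hp.one_lt.ne' (by
      rw [← ha, Subgroup.zpowers_eq_bot.1 h, orderOf_one])
    have h2 := GT.subnormalIn_centralizer_normalizer (Subgroup.zpowers a)
    have h3 := KF.compK_of_subnormalIn h1 h2
    rw [GT.centralizer_zpowers] at h3
    have h4 := (KF.lb_of_compK h3 p).rel (T := Subgroup.zpowers b)
      (Subgroup.zpowers_le.2 (Subgroup.mem_centralizer_singleton_iff.2 hab.symm))
      (GT.isPGroup_zpowers_of_orderOf_eq (k := 1) (hb.trans (pow_one p).symm))
    rw [GT.centralizer_zpowers] at h4
    exact GT.pLayerOf_eq_pLayerOf hp ((GT.subnormalIn_pLayerOf _).inf_inf _)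
      (le_inf h4 ((GT.pLayerOf_le _).trans inf_le_right))
  exact (key a b ha hb hab).trans ((congrArg _ (inf_comm _ _)).trans (key b a hb ha hab.symm).symm)

end Cfsg.Agent.S1334
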