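import Mathlib
import Cfsg.Statements.S1339
import Cfsg.Agent.Cl.LinearParabCore

set_option autoImplicit false
open Cfsg

namespace Cfsg.Agent.S1339

/-- Let F be a field with 2 elements, n ≥ 3, and t ∈ SL(n, F) a transvection (t = 1 + E_{ij}, i ≠ j). Then the generalized Fitting subgroup of C(t) is O_2(C(t)). -/
theorem result {F : Type*} [Field F] [Fintype F] [DecidableEq F] (hF : Fintype.card F = 2) (n : ℕ) (hn : 3 ≤ n) (i j : Fin n) (hij : i ≠ j) (t : Matrix.SpecialLinearGroup (Fin n) F) (ht : (t : Matrix (Fin n) (Fin n) F) = Matrix.transvection i j 1) : Cfsg.generalizedFittingSubgroup ↥(Subgroup.centralizer ({t} : Set (Matrix.SpecialLinearGroup (Fin n) F))) = Cfsg.pCore 2 ↥(Subgroup.centralizer ({t} : Set (Matrix.SpecialLinearGroup (Fin n) F))) := by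
  have hF' : Nat.card F = 2 := by rw [Nat.card_eq_fintype_card, hF]
  have := Cl.charP_two_of_card_two hF'
  obtain rfl : t = Matrix.SpecialLinearGroup.transvection hij 1 := Cl.sl_ext ht
  rw [GT.genFitting_eq_pCore_iff Nat.prime_two]
  intro x hx
  have hi := Matrix.SpecialLinearGroup.toGL_injective (n := Fin n) (R := F)
  have e := GT.map_pCoreOf_of_injective (p := 2)
    (Subgroup.centralizer {Matrix.SpecialLinearGroup.transvection hij (1 : F)}) hi
  rw [Cl.map_centralizer_transvection hF', Cl.pCoreOf_parab] at e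
  rw [← GT.pCoreOf_subgroupOf, Subgroup.mem_subgroupOf, ← Subgroup.mem_map_iff_mem hi, e]
  refine Cl.centralizer_unipRad_le hF' (i₀ := i) (j₀ := j) (by simp [Cl.tlab_lt_iff hij, hij.symm]) ?_
  rw [← e, Subgroup.mem_centralizer_iff]
  rintro _ ⟨_, ⟨y, hy, rfl⟩, rfl⟩
  rw [← map_mul, ← map_mul]
  exact congrArg (fun g => Matrix.SpecialLinearGroup.toGL g.1) (Subgroup.mem_centralizer_iff.1 hx y hy)

end Cfsg.Agent.S1339
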