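import Mathlib
import Cfsg.Statements.S1340
import Cfsg.Agent.Cl.LinearBlock
import Cfsg.Agent.GT.PPrimeCore

set_option autoImplicit false
open Cfsg

namespace Cfsg.Agent.S1340

/-- Let F be a finite field of odd order and n ≥ 3 with (n, |F|) ≠ (3, 3). Then GL(n, F) has a non-central involution t such that C(t) / O(C(t)) has a component. -/
theorem result {F : Type*} [Field F] [Fintype F] [DecidableEq F] (hF : Odd (Fintype.card F)) (n : ℕ) (hn : 3 ≤ n) (h33 : ¬ (n = 3 ∧ Fintype.card F = 3)) : ∃ t : Matrix.GeneralLinearGroup (Fin n) F, orderOf t = 2 ∧ t ∉ Subgroup.center (Matrix.GeneralLinearGroup (Fin n) F) ∧ Cfsg.HasComponent (↥(Subgroup.centralizer ({t} : Set (Matrix.GeneralLinearGroup (Fin n) F))) ⧸ Cfsg.oddCore ↥(Subgroup.centralizer ({t} : Set (Matrix.GeneralLinearGroup (Fin n) F)))) := by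
  have hne : (-1 : F) ≠ 1 := Ring.neg_one_ne_one_of_char_ne_two fun h => by
    have := FiniteField.even_card_of_char_two h
    obtain ⟨k, hk⟩ := hF
    omega
  have hne' : (-1 : Fˣ) ≠ 1 := fun h => hne (congrArg Units.val h)
  let z : Fin n := ⟨0, by omega⟩
  let w : Fin n := ⟨1, by omega⟩
  have hzw : z ≠ w := by simp [z, w]
  let P : Fin n → Prop := fun i => i ≠ z
  have hcard : Fintype.card {i // P i} = n - 1 := by simp [P]
  have hC : Subgroup.centralizer {Cl.diagGL (Function.update 1 z (-1 : Fˣ))} =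
      Cl.levi F fun i => decide (P i) := Cl.centralizer_diagGL fun i j => by
    by_cases hi : i = z <;> by_cases hj : j = z <;> simp [hi, hj, P, hne', hne'.symm]
  refine ⟨Cl.diagGL (Function.update 1 z (-1)), orderOf_eq_prime (Units.ext ?_) fun h => ?_,
    fun h => ?_, ?_⟩
  · rw [Units.val_pow_eq_pow_val, Cl.coe_diagGL, Matrix.diagonal_pow, Units.val_one,
      ← Matrix.diagonal_one]
    congr 1
    ext i
    by_cases hi : i = z <;> simp [hi]
  · have := Cl.det_diagGL_update (F := F) z (-1)
    rw [h, map_one] at this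
    exact hne' this.symm
  · have := ((Cl.commute_tGL_iff hzw one_ne_zero).1
      (Subgroup.mem_center_iff.1 h (Cl.tGL hzw 1)).symm).2.2
    simp [Cl.coe_diagGL, hzw.symm, hne] at this
  rw [hC]
  have : Nontrivial {i // P i} := Fintype.one_lt_card_iff_nontrivial.1 (by omega)
  have hq : IsQuasisimple (Matrix.SpecialLinearGroup {i // P i} F) := Cl.sl_isQuasisimple (by
    by_cases h3 : n = 3
    · refine Or.inr (Cl.exists_sq_ne_one_of_four_le_card ?_)
      have := Cl.two_le_natCard_field F
      rw [Nat.card_eq_fintype_card] at this ⊢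
      obtain ⟨k, hk⟩ := hF
      omega
    · left; omega)
  have hi : Function.Injective (Matrix.SpecialLinearGroup.toGL.comp (Cl.subSL P F)) :=
    Matrix.SpecialLinearGroup.toGL_injective.comp (Cl.subSL_injective P)
  set K := (Matrix.SpecialLinearGroup.toGL.comp (Cl.subSL P F)).range with hK
  have hK' : K = (Cl.subGL P F).range ⊓ Matrix.GeneralLinearGroup.det.ker := by
    rw [hK, MonoidHom.range_comp, Cl.map_toGL_range_subSL]
  have hle : K ≤ Cl.levi F fun i => decide (P i) := fun g hg => by
    rw [hK'] at hg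
    exact (Cl.mem_levi_decide P).2 fun i j h => by
      rw [(Cl.mem_range_subGL P).1 hg.1 i j (by tauto), Matrix.one_apply_ne (by rintro rfl; tauto)]
  have hN : (K.subgroupOf (Cl.levi F fun i => decide (P i))).Normal := by
    rw [hK', Subgroup.subgroupOf, Subgroup.comap_inf]
    have := (Subgroup.normal_subgroupOf_iff_le_normalizer (by
      rintro g hg
      exact (Cl.mem_levi_decide P).2 fun i j h => by
        rw [(Cl.mem_range_subGL P).1 hg i j (by tauto), Matrix.one_apply_ne (by rintro rfl; tauto)])).2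
      (Cl.levi_le_normalizer_subGL (F := F) P)
    exact @Subgroup.normal_inf_normal _ _ _ _ this _
  have hc : IsComponent (K.subgroupOf (Cl.levi F fun i => decide (P i))) :=
    ⟨hN.isSubnormal, (hq.of_mulEquiv (MonoidHom.ofInjective hi)).subgroupOf hle⟩
  refine ⟨_, hc.map (QuotientGroup.mk'_surjective _) fun h => ?_⟩
  rw [Subgroup.map_eq_bot_iff, QuotientGroup.ker_mk'] at h
  have h1 := Odd.of_dvd_nat GT.odd_card_oddCore (Subgroup.card_dvd_of_le h)
  rw [Nat.card_congr (Subgroup.subgroupOfEquivOfLe hle).toEquiv,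
    ← Nat.card_congr (MonoidHom.ofInjective hi).toEquiv] at h1
  exact Nat.not_even_iff_odd.2 h1 Cl.even_card_sl

end Cfsg.Agent.S1340
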