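import Mathlib
import Cfsg.Agent.Spor.MB.FamOrb
import Cfsg.Statements.S1552
-- import your own Cfsg.Agent.* helpers here

set_option autoImplicit false
open scoped Pointwise
open Cfsg

namespace Cfsg.Agent.S1552

open Cfsg.Agent.Spor Cfsg.Agent.Spor.MB MulAction

theorem base :
    (∀ i, orbit ↥(M24 ⊓ stabilizer PG S0) (![fam [147496, 268544, 1082880, 2621632, 4268048, 8388615], fam [43, 297984, 1053440, 2162768, 4726912, 8536068], fam [15, 5264, 622848, 3416064, 4196928, 8536096], fam [27, 5252, 57856, 2162784, 4587776, 9963520]] i) = {y : Finset (Finset GolayPt) | y ∈ sextets ∧ famInv S0 y = ![100663326, 49176, 525456, 17424] i}) ∧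
    (∀ i, (orbit ↥(M24 ⊓ stabilizer PG S0) (![fam [147496, 268544, 1082880, 2621632, 4268048, 8388615], fam [43, 297984, 1053440, 2162768, 4726912, 8536068], fam [15, 5264, 622848, 3416064, 4196928, 8536096], fam [27, 5252, 57856, 2162784, 4587776, 9963520]] i)).ncard = ![1, 90, 240, 1440] i) ∧
    ∀ y ∈ sextets, ∃ i, famInv S0 y = ![100663326, 49176, 525456, 17424] i := by
  refine orbit_partition (H := ↥(M24 ⊓ stabilizer PG S0)) (T := sextets) (Set.toFinite _)
    (fun h y hy => smul_mem_sextets h.2.1 hy) (f := fun y => famInv S0 y)
    (fun h y _ => famInv_of_fix h.2.2 y)
    ![fam [147496, 268544, 1082880, 2621632, 4268048, 8388615], fam [43, 297984, 1053440, 2162768, 4726912, 8536068], fam [15, 5264, 622848, 3416064, 4196928, 8536096], fam [27, 5252, 57856, 2162784, 4587776, 9963520]] ?_ _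
    (by decide +kernel) (by decide) _ ?_ (by rw [ncard_sextets]; decide)
  · simp only [Fin.forall_fin_succ]
    refine ⟨?_, ?_, ?_, ?_, finZeroElim⟩
    · exact fam_mem_sextets (by decide +kernel)
    · exact fam_mem_sextets (by decide +kernel)
    · exact fam_mem_sextets (by decide +kernel)
    · exact fam_mem_sextets (by decide +kernel)
  · simp only [Fin.forall_fin_succ]
    exact ⟨sexM.le_ncard_orbit (inf_le_left) gens_gS0 (sexM_R (by decide +kernel))
        1 0 0x0 (by decide +kernel),
      sexM.le_ncard_orbit (inf_le_left) gens_gS0 (sexM_R (by decide +kernel))
        90 154 0x1120000000000000000000000000000000000000001111120000011111200000000000011200001111120011111211111111111200111112111111111112011111111111211111211111111111 (by decide +kernel),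
      sexM.le_ncard_orbit (inf_le_left) gens_gS0 (sexM_R (by decide +kernel))
        240 473 0x20000000000000000000000000000000000000000000000000000000000000000000000000000000000000000000000000000000000000000000000000000000000000000000000000000000000000000000000011111111111200000000000000000011120000000000000000000000000111111111112000011111111111211120011111200000111111111112111111111112000111111111112011111111111200111111111112111112000111111111112111111111112011111111111211201111111111121111111111120111111111112111111111112011111111111211111111111211111111111 (by decide +kernel),
      sexM.le_ncard_orbit (inf_le_left) gens_gS0 (sexM_R (by decide +kernel))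
        1440 1945 0x111111111112000000000012000000000000000000000000000000000000000000000000000000000000000000000000000000000000000000000000000000000000000000111200000000000000000000000000000000000011111200000000000000000000000000000000000000000000000000000000000000000000000000000000000000000000000000000000011111111111200000011111111111200000000000111111111112000000000000000000000000000000000000011111111111200111111111112000000000011111111111200111111111112000000011111111111211111111111201111111111120001111111111120000000011111111111201111111111120000000111111111112111111111112000000000111111111112000000011111111111211111201111111111120001111111111120001111111111120000111111111112000000000011111111111200000001111111111121111111111120000001111111111121111111111120011111111111211111111111200000000111111111112011111111111211111111111200000011111111111200001111111111120001111121111111111120011111111111200111111111112000111111111112011111111111211111111111201111111111121111111111120111111111112000000001111111111120111111111112111111111112011111111111201111111111121111111111120001111111111120111111111112011111111111211111111111201111111111120011111111111211111111111200111111111112111111111112011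1111111112001111111111120111111111112111111111112011111111111211111111111201111120111111111112111111111112011111111111211111111111201111111111121111111111120001111111111121111111111120111111111112111111111112011111111111211111111111201111111111120111111111112111111111112011111111111211111111111201111111111121111111111120111111111112111111111112001111111111121111111111120111111111112111111111112011111111111200001111111111121111111111120111111111112111111111112011111111111211111111111201111111111121111111111120111111111112011111111111211111111111201111111111120111111111112111111111112011111111111211111111111201111111111120111111111112111111111112011111211111111111201111111111121111111111120111111111112111111111112011111111111211111111111211111111111 (by decide +kernel),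
      finZeroElim⟩


/-- A sextet stabiliser has four orbits on the 1771 sextets, of sizes 1, 90, 240, 1440; and the stabiliser is a maximal proper subgroup. -/
theorem result (S : Finset (Finset Cfsg.GolayPt)) (hS : S ∈ Cfsg.sextets) : ∃ X₁ ∈ Cfsg.sextets, ∃ X₂ ∈ Cfsg.sextets, ∃ X₃ ∈ Cfsg.sextets, (MulAction.orbit ↥(MulAction.stabilizer Cfsg.M24 S) X₁).ncard = 90 ∧ (MulAction.orbit ↥(MulAction.stabilizer Cfsg.M24 S) X₂).ncard = 240 ∧ (MulAction.orbit ↥(MulAction.stabilizer Cfsg.M24 S) X₃).ncard = 1440 ∧ Cfsg.sextets = {S} ∪ MulAction.orbit ↥(MulAction.stabilizer Cfsg.M24 S) X₁ ∪ MulAction.orbit ↥(MulAction.stabilizer Cfsg.M24 S) X₂ ∪ MulAction.orbit ↥(MulAction.stabilizer Cfsg.M24 S) X₃ ∧ IsCoatom (MulAction.stabilizer Cfsg.M24 S) := by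
  obtain ⟨g, hg, rfl⟩ := exists_smul_S0 hS
  have hb : fam [147496, 268544, 1082880, 2621632, 4268048, 8388615] = S0 := by decide +kernel
  refine ⟨g • fam [43, 297984, 1053440, 2162768, 4726912, 8536068], smul_mem_sextets hg (fam_mem_sextets (by decide +kernel)), g • fam [15, 5264, 622848, 3416064, 4196928, 8536096], smul_mem_sextets hg (fam_mem_sextets (by decide +kernel)), g • fam [27, 5252, 57856, 2162784, 4587776, 9963520], smul_mem_sextets hg (fam_mem_sextets (by decide +kernel)), ?_, ?_, ?_, ?_, ?_⟩
  · rw [orbit_stab_smul hg, Set.ncard_smul_set, orbit_stabilizer_M24]
    exact base.2.1 1
  · rw [orbit_stab_smul hg, Set.ncard_smul_set, orbit_stabilizer_M24]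
    exact base.2.1 2
  · rw [orbit_stab_smul hg, Set.ncard_smul_set, orbit_stabilizer_M24]
    exact base.2.1 3
  · simp only [orbit_stab_smul hg, ← Set.smul_set_singleton, ← Set.smul_set_union,
      orbit_stabilizer_M24]
    rw [smul_sextets hg]
    congr 1
    ext y
    rw [mem_iff_exists_orbit base.1 base.2.2]
    have h0 := orbit_eq_singleton (base.2.1 0)
    simp only [Matrix.cons_val_zero, hb] at h0
    simp only [Fin.exists_fin_succ, Matrix.cons_val_zero, Matrix.cons_val_succ, h0, hb,
      Set.mem_union, or_assoc, IsEmpty.exists_iff, or_false]

  · refine isCoatom_stabilizer_smul ?_ (⟨g, hg⟩ : M24)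
    have h := partition_prime base
    exact isCoatom_of_partition
      (orbit_M24_eq (fun g hg => smul_mem_sextets hg S0_mem) fun _ => exists_smul_S0)
      h.1 (fun y hy y' hy' e => exists_stabilizer_M24 (h.2.1 y hy y' hy' e)) h.2.2 (by decide)
      ncard_sextets (by norm_num) (by decide +kernel)

end Cfsg.Agent.S1552
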