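import Mathlib
import Cfsg.Agent.Spor.MB.FamOrb
import Cfsg.Statements.S1566
-- import your own Cfsg.Agent.* helpers here

set_option autoImplicit false
open scoped Pointwise
open Cfsg

namespace Cfsg.Agent.S1566

open Cfsg.Agent.Spor Cfsg.Agent.Spor.MB MulAction

theorem base :
    (∀ i, {y : Finset (Finset GolayPt) | y ∈ dodPairs ∧ famInv P0 y = ![9444732965739290427394, 562949986975744, 274877906944] i}.ncard = ![1, 495, 792] i) ∧
    (∀ y ∈ dodPairs, ∀ y' ∈ dodPairs, famInv P0 y = famInv P0 y' →
      ∃ h : ↥(M24 ⊓ stabilizer PG P0), h • y = y') ∧
    ∀ y ∈ dodPairs, ∃ i, famInv P0 y = ![9444732965739290427394, 562949986975744, 274877906944] i := by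
  refine orbit_partition' (H := ↥(M24 ⊓ stabilizer PG P0)) (T := dodPairs) (Set.toFinite _)
    (fun h y hy => smul_mem_dodPairs h.2.1 hy) (f := fun y => famInv P0 y)
    (fun h y _ => famInv_of_fix h.2.2 y)
    ![fam [340831, Nat.xor 340831 16777215], fam [11472927, Nat.xor 11472927 16777215], fam [8245261, Nat.xor 8245261 16777215]] ?_ _
    (by decide +kernel) (by decide) _ ?_ (by rw [ncard_dodPairs]; decide)
  · simp only [Fin.forall_fin_succ]
    refine ⟨?_, ?_, ?_, finZeroElim⟩
    · exact fam_mem_dodPairs (by decide +kernel) (by decide +kernel)
    · exact fam_mem_dodPairs (by decide +kernel) (by decide +kernel)
    · exact fam_mem_dodPairs (by decide +kernel) (by decide +kernel)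
  · simp only [Fin.forall_fin_succ]
    exact ⟨pairM.le_ncard_orbit (inf_le_left) gens_gP0 (pairM_R (by norm_num))
        1 0 0x0 (by decide +kernel),
      pairM.le_ncard_orbit (inf_le_left) gens_gP0 (pairM_R (by norm_num))
        495 878 0x20000000000000000000000000000000000000000000000000000000000000000000000000000000000000000000000000000000000000000000000000000000000000000000000000000000000000000000000000000000000000000000000000000000000000000000000000000000000000000000000000011200000000000000000000000000000000000000000001111111111121112011111111111200000000000000000000000000000000111111111112001111111111120000011111211111211111111111200001111111111120000000001111111111120000111111111112000000000112001111111111120111111111112000011111111111200011111200000001111111111121111111111120111111111112011111111111200011111111111211120111112011111111111211111111111211111111111200001111111111121111111111121111111111121111111111120011111111111211111111111201111111111121111111111121111111111121111111111121111111111120111111111112111111111112111111111112111111111112111111111112011111111111211111111111211111111111 (by decide +kernel),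
      pairM.le_ncard_orbit (inf_le_left) gens_gP0 (pairM_R (by norm_num))
        792 931 0x1111111111121111111111120000000000011111111111200000000000000000000000000000001111111111120000000001111111111120000000000000111111111112000000000000011111111111211111111111200111111111112111111111112011111200111111111112011111201111111111121111111111120111111111112011111111111211111111111200000000001111111111120000000011111111111211111111111211111111111201111111111120000111111111112000000111111111112000000111111111112000011111111111211111111111211111111111211111111111200111111111112011111211111111111211111111111211111111111200000001111111111121111111111121111111111121111111111121111111111121111111111121111111111120111111111112111111111112111111111112111111111112011111111111211111111111201111111111121111121111111111121111111111120111111111112111111111112111111111112111111111112011111111111211111111111211111111111211111111111211111111111211111111111211111111111211111111111211111111111211111111111211111111111211111111111 (by decide +kernel),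
      finZeroElim⟩


/-- The setwise stabiliser of a dodecad together with its complement is a maximal proper subgroup of the group of the length-24 code. -/
theorem result (d : Finset Cfsg.GolayPt) (hd : d ∈ Cfsg.dodecads) : IsCoatom (MulAction.stabilizer Cfsg.M24 ({d, dᶜ} : Finset (Finset Cfsg.GolayPt))) := by
  obtain ⟨g, hg, e⟩ := exists_smul_P0 ⟨d, hd, rfl⟩
  rw [← e]
  refine isCoatom_stabilizer_smul ?_ (⟨g, hg⟩ : M24)
  exact isCoatom_of_partition
    (orbit_M24_eq (fun g hg => smul_mem_dodPairs hg P0_mem) fun _ => exists_smul_P0)
    base.1 (fun y hy y' hy' e => exists_stabilizer_M24 (base.2.1 y hy y' hy' e)) base.2.2
    (by decide) ncard_dodPairs (by norm_num) (by decide +kernel)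

end Cfsg.Agent.S1566
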