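import Mathlib
import Cfsg.Agent.Spor.MB.N11
import Cfsg.Statements.S1606
-- import your own Cfsg.Agent.* helpers here

set_option autoImplicit false
open scoped Pointwise
open Cfsg

namespace Cfsg.Agent.S1606

open Cfsg.Agent.Spor Cfsg.Agent.Spor.MB MulAction

/-- Elements of `M24` moving the standard octad to the octads containing two fixed points. -/
noncomputable def KL : List ℕ := (unpackL 120 77 0xbd486b3a704b4237acf2530b115100bc9f41060720da973153898b55a2c0b94f40b5f692a2e1a590309045d660bcd357442d1c84f628eb812c8350a0bb92cad1e830c9255a70284f112da0ba98e3d25012c8d4943644ccfa8e20bb1a55a6748ca152382879ec650c40b99875d5b44bca450e0e40a768c820b90c32cc4c6b90f3c5309056aada80bd1e99110c9a8d60c56da95c338a00b8eaf44c949060bb1d4d715228b0c0bacf2804946cec329931521957b840b962f459270b262a40d5235521adc0b9d219a1b514a96845cb33c8a60ca0bad839a0d42264773e22096cdaaa00bc1ea3ca68710a68a5951369608d60b8d155bca68a6932354e906d038980bae071c9027b2812452a6ccb6355c0ba62760c822d5a87ae74b402653a40bb1e672c9541e3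090c342da624a9a0bc50babe039104a69e76332814b8a0bbe033cacb692a98982513a9362900b862caa9037996d4b847b161491260bb42e5c0b141ec6649e224ea955060b8c91434479bcab819d2659350aa80b89243064b2a28c1ce2f541ae3d6c0bd58414da34428e585f24da2a31ca0b8de7852290b51659a6e9154460aa0bae46b51ec9c6051882a6a124754e0bb1f38590a29074148f5099a98b960ba66d1520e311853851595a2b7a860bb031ad2ca111c834e07695e392560bb8f5988a36c501490ca8597263e80b88c9612163b56193e2a2a0749baa0bd44c712c5344736c9e9441740a8e0bb4f3a8a4e825e62302b1d1168a8a0bc4c13d5aab324223a635d2057a500b984e612954354f9066b29c708a6c0bce51526ce306a879caca2c4323600bbe291da1329d14705a23488a65560bbd0a6520734c76a948e9052d8ac40bca09752c6105653a08a6cd9178ea0bb9b2b20ac81975104e48d1ea9a460baa2d2c10eb0867accc47d2490b160bd481a0cd18484b71669459ed3a980b9c93a2c4fb36a35202c81651325c0bc52c395c398642236ca451f581960bb42f72e8ab4ab09a0c928cec24440bc67250e892b4f60c04c42cce23ea0ba42c9aad5918508b4afa2dc839060ba8b13b68b0c9d0410cfb0aa39a580bc83362909a448569e0ea8c4b33ec0bb6617260ca3c88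89aca3aea3148a0b84a78b46ab212624e155b1c293e80bcd067c5692c182206c71b9556ca80b90d1aae93b04434c24a2a1af3b1c0b904f38e812ceab659a94423233940ba64858ac7a15cc5402d30c8f9c6a0bb1b01d4a6a214e4da7112c920bce0bc9f162cee84c856a289b0cca106a0bbd04531711953409acd80a7591dc0bca044b86f5a194988b1b542769940bc6079bd6c4155434ac41b9220b6a0bbec60c86e82134134a45a9959c4e0ba2133bc51199b6906896554e29160bc2c134aaf58a256ce8c71d2a41060bb4a6638735c1558d10fb0a4409d20bc502729611d9277d2122d5a499980b90d28d587141ab4586fa38292cd40b904d79dc6ada2381572a2a6c40520b9a81991c7159e32a16daa62a84980b8a9309146a964b440713b1e9b35c0bcac53a6b3751ec30c445a90d80620bb4a8330e15524e12ea41a611b4de0b94709b52152c95b09d2644cfa20e0ba1760c59348c872d54d73c52a40c0bdab49ca307b9ac5a928398a418820)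

/-- The elements of `11:5`. -/
noncomputable def FL : List ℕ := walk mul gF idc 54 0x111111111121111111111211111111112111111111121111111111

/-- Test for order seven. -/
noncomputable def ord7 (t : ℕ) : Bool := !(Nat.beq t idc) &&
  MB.force (mul t t) fun u => Nat.beq (mul (mul (mul u u) u) t) idc

/-- The test for involutions. -/
noncomputable def test (i : ℕ) : Bool := cond (Nat.beq (act i 340831) 340831)
  (Nat.beq i idc || anyL (fun f => Nat.beq (cj f i) 970499966350631336865513127433832480) FL)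
  (anyL (fun f => MB.force (mul f i) ord7) FL)

theorem test_all : Dod.chainAll (mkTs ptD [(4, 15, 0x121312141213121)] gE0)
    (fun e => allL (fun k => MB.force (cj k e) test) KL) idc = true := by decide +kernel

theorem test_inv {i : PG} (hi : i ∈ G22) (ho : orderOf i = 2) : test (code i) = true := by
  have h23 : pt 23 ∈ fixSet i := mem_fixSet.2 hi.1.2
  have h0 : pt 0 ∈ fixSet i := mem_fixSet.2 hi.2
  have h1 : fixSet i ∈ octads := by
    obtain ⟨k, hk, e⟩ := conj_zA_of_card hi.1.1 ho (Finset.card_ne_zero_of_mem h0)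
    rw [← e, fixSet_conj, fixSet_zA]
    exact (smul_mem_octads_iff hk).2 O0_mem
  have h2 := forall_octads (q := fun m => !(Nat.testBit m 23) || !(Nat.testBit m 0) ||
    anyL (fun k => Nat.beq (act k 8536111) m) KL) (by decide +kernel) _ h1
  rw [(pt_mem_iff_testBit (by norm_num)).1 h23, (pt_mem_iff_testBit (by norm_num)).1 h0,
    Bool.not_true, Bool.false_or, Bool.false_or] at h2
  obtain ⟨c, hc, e⟩ := anyL_iff.1 h2
  obtain ⟨k, hk, rfl⟩ := gens_M24 (gs := KL) (by decide +kernel) c hc
  have h3 : k • O0 = fixSet i := by rw [smul_unmask, Nat.eq_of_beq_eq_true e, unmask_mask]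
  have h4 : k * (k⁻¹ * i * k) * k⁻¹ = i := by group
  have h5 := enumC_E0.forall test_all (k⁻¹ * i * k) ((conj_mem_Fix_iff hk _ _).1 (by
    rw [h4, h3]; exact Golay.mem_Fix.2 ⟨hi.1.1, fun x hx => mem_fixSet.1 hx⟩))
  have h6 := allL_iff.1 h5 _ hc
  rwa [MB.force_eq, ← code_conj, h4] at h6

theorem inv_cases {K : Subgroup PG} (hK : K ≤ G22) (hF : Gens K gF) (h7 : ¬ 7 ∣ Nat.card K)
    {i : PG} (hi : i ∈ K) (ho : orderOf i = 2) :
    i • D0 = D0 ∧ ∃ j ∈ K, orderOf j = 2 ∧ code j = 970499966350631336865513127433832480 := by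
  have h := test_inv (hK hi) ho
  have hL : Gens K FL := hF.walk _ _
  rw [test] at h
  cases e : Nat.beq (act (code i) 340831) 340831 <;> rw [e] at h
  · obtain ⟨c, hc, h⟩ := anyL_iff.1 h
    obtain ⟨f, hf, rfl⟩ := hL c hc
    rw [MB.force_eq, ← code_mul, ord7, MB.force_eq, Bool.and_eq_true, ← code_mul, ← code_mul,
      ← code_mul, ← code_mul, Nat.beq_eq, ← eq_one_iff_code] at h
    have : Fact (Nat.Prime 7) := ⟨by norm_num⟩
    refine absurd ?_ h7
    rw [← orderOf_eq_prime (x := f * i) (p := 7) (by rw [← h.2]; simp only [pow_succ]; group)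
      (fun e => by simp [e, code_one] at h)]
    exact K.orderOf_dvd_natCard (K.mul_mem hf hi)
  · refine ⟨(smul_unmask_eq_iff (by norm_num)).2 (Nat.eq_of_beq_eq_true e), ?_⟩
    rcases Bool.or_eq_true_iff.1 h with h | h
    · rw [Nat.beq_eq, ← eq_one_iff_code] at h
      simp [h] at ho
    · obtain ⟨c, hc, h⟩ := anyL_iff.1 h
      obtain ⟨f, hf, rfl⟩ := hL c hc
      exact ⟨f * i * f⁻¹, K.mul_mem (K.mul_mem hf hi) (K.inv_mem hf), by rw [orderOf_conj', ho],
        by rw [code_conj, Nat.eq_of_beq_eq_true h]⟩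

theorem not_7920 {K : Subgroup PG} (hK : K ≤ G22) (hx : x11 ∈ K) : Nat.card K ≠ 7920 := by
  intro hc
  have hF : Gens K gF := gens_gF.mono
    ((count_eleven hK hx (m := 720) hc).resolve_left (by norm_num)).2.2
  have h7 : ¬ 7 ∣ Nat.card K := by rw [hc]; norm_num
  obtain ⟨i, hi, ho⟩ := exists_orderOf_eq (K := K) (p := 2) (by norm_num) (by rw [hc]; norm_num)
  obtain ⟨-, j, hj, hoj, e⟩ := inv_cases hK hF h7 hi ho
  have key : ∀ h ∈ K, ∀ f ∈ K, (f * j * f⁻¹) • h • D0 = h • D0 := by
    intro h hh f hf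
    have hg := K.mul_mem (K.inv_mem hh) hf
    have := (inv_cases hK hF h7 (K.mul_mem (K.mul_mem hg hj) (K.inv_mem hg))
      (by rw [orderOf_conj', hoj])).1
    rw [← conj_smul_smul_iff h] at this
    rwa [show f * j * f⁻¹ = h * (h⁻¹ * f * j * (h⁻¹ * f)⁻¹) * h⁻¹ by group]
  have hL : Gens K [984818244535754528103549039458486304, 977864963184960973661438897150854272, 965063883269089610517257152230401536] :=
    (hF.walk 54 0x111111111121111111111211111111112111111111121111111111).of_sub (by decide +kernel)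
  obtain ⟨a, ha, ea⟩ := hL 984818244535754528103549039458486304 (by simp)
  obtain ⟨b, hb, eb⟩ := hL 977864963184960973661438897150854272 (by simp)
  obtain ⟨c, hc', ec⟩ := hL 965063883269089610517257152230401536 (by simp)
  have e1 : x11 = a * j * a⁻¹ * (b * j * b⁻¹) * (c * j * c⁻¹) := code_injective (by
    rw [code_mul, code_mul (a * j * a⁻¹), code_conj, code_conj, code_conj, ea, eb, ec, e, code_x11]
    decide +kernel)
  have : K ≤ L660 := fun h hh => ⟨hK hh, eq_D0 ((smul_mem_dodecads_iff (hK hh).1.1).2 D0_mem)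
    (by rw [e1, mul_smul, mul_smul, key h hh c hc', key h hh b hb, key h hh a ha])
    ((mem_smul_iff_of_fix (hK hh).2).2 (by decide +kernel))⟩
  have := (Subgroup.card_le_of_le this).trans card_L660_le
  rw [hc] at this
  omega

theorem exists_conj {K : Subgroup PG} {p q : GolayPt} (hpq : p ≠ q) (hK : K ≤ M24)
    (hp : ∀ g ∈ K, g • p = p) (hq : ∀ g ∈ K, g • q = q) (h : 11 ∣ Nat.card K) :
    ∃ K' ≤ G22, x11 ∈ K' ∧ Nat.card K' = Nat.card K := by
  obtain ⟨a, ha, rfl, rfl⟩ := exists_map_two hpq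
  have h1 : conjS a⁻¹ K ≤ G22 := fun g hg => ⟨⟨conjS_le (M24.inv_mem ha) hK hg, by
    have := conjS_smul (g := a⁻¹) (x := a • pt 23) hp g hg
    rwa [inv_smul_smul] at this⟩, by
    have := conjS_smul (g := a⁻¹) (x := a • pt 0) hq g hg
    rwa [inv_smul_smul] at this⟩
  obtain ⟨b, hb, h3⟩ := exists_le_conjS (p := 11) (k := 1) (by norm_num) h1
    (Subgroup.zpowers_le.2 x11_mem_G22) (by rw [Nat.card_zpowers, orderOf_x11, pow_one])
    (by rw [card_G22]; exact factorization_eq_of (by norm_num) (by norm_num) (by norm_num))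
    (by rwa [card_conjS])
  exact ⟨_, conjS_le hb h1, h3 (Subgroup.mem_zpowers _), by rw [card_conjS, card_conjS]⟩

/-- The stabiliser of two points in the group of the length-24 code has no subgroups of index 56 or 210. -/
theorem result (p q : Cfsg.GolayPt) (hpq : p ≠ q) (H : Subgroup ↥(MulAction.stabilizer Cfsg.M24 p ⊓ MulAction.stabilizer Cfsg.M24 q)) : H.index ≠ 56 ∧ H.index ≠ 210 := by
  have h1 : Nat.card ↥(stabilizer M24 p ⊓ stabilizer M24 q) = 443520 := by
    rw [← Golay.card_Fix_two (Finset.card_pair hpq)]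
    exact card_eq_of_M24 _ _ (fun g hg => (Golay.mem_Fix.1 hg).1) fun g => by
      simp [Golay.mem_Fix, Subgroup.smul_def]
  have h2 := H.index_mul_card
  rw [h1, ← Subgroup.card_map_of_injective (Subgroup.subtype_injective _),
    ← Subgroup.card_map_of_injective M24.subtype_injective] at h2
  have key := exists_conj (K := (H.map (Subgroup.subtype _)).map M24.subtype) hpq
    (Subgroup.map_subtype_le _) (by rintro _ ⟨_, ⟨g, -, rfl⟩, rfl⟩; exact g.2.1)
    (by rintro _ ⟨_, ⟨g, -, rfl⟩, rfl⟩; exact g.2.2)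
  constructor <;> intro h <;> rw [h] at h2
  · have h3 := eq_of_eq_mul (b := 7920) h2.symm (by norm_num) (by norm_num)
    obtain ⟨K, hK, hx, e⟩ := key (by rw [h3]; norm_num)
    exact not_7920 hK hx (e.trans h3)
  · have h3 := eq_of_eq_mul (b := 2112) h2.symm (by norm_num) (by norm_num)
    obtain ⟨K, hK, hx, e⟩ := key (by rw [h3]; norm_num)
    have := count_eleven hK hx (m := 192) (e.trans h3)
    omega

end Cfsg.Agent.S1606
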