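import Mathlib
import Cfsg.Agent.Spor.MB.PtOrb
import Cfsg.Statements.S1608
-- import your own Cfsg.Agent.* helpers here

set_option autoImplicit false
open scoped Pointwise
open Cfsg

namespace Cfsg.Agent.S1608

open Cfsg.Agent.Spor Cfsg.Agent.Spor.MB MulAction

theorem gens : Gens (Stab [16, 8536111]) [96975641625409799852410894217679985, 223560744782845034816497792248185943] := gens_Stab (by decide +kernel)

theorem base :
    (∀ i, {y : Finset GolayPt | y ∈ {y : Finset GolayPt | y ∈ octads ∧ pt 4 ∉ y} ∧ (O0 ∩ y).card = ![8, 0, 4, 2] i}.ncard = ![1, 15, 210, 280] i) ∧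
    (∀ y ∈ {y : Finset GolayPt | y ∈ octads ∧ pt 4 ∉ y}, ∀ y' ∈ {y : Finset GolayPt | y ∈ octads ∧ pt 4 ∉ y}, (O0 ∩ y).card = (O0 ∩ y').card →
      ∃ h : ↥(Stab [16, 8536111]), h • y = y') ∧
    ∀ y ∈ {y : Finset GolayPt | y ∈ octads ∧ pt 4 ∉ y}, ∃ i, (O0 ∩ y).card = ![8, 0, 4, 2] i := by
  refine orbit_partition' (H := ↥(Stab [16, 8536111])) (T := {y : Finset GolayPt | y ∈ octads ∧ pt 4 ∉ y}) (Set.toFinite _)
    (fun h y hy => ⟨(smul_mem_octads_iff h.2.1).2 hy.1,
      (mem_smul_iff_of_fix (Stab_apply h.2 4 (by norm_num) (by simp))).not.2 hy.2⟩) (f := fun y => (O0 ∩ y).card)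
    (fun h y _ => card_inter_of_fix (Stab_smul h.2 (by simp)) y)
    ![unmask 8536111, unmask 4038912, unmask 13062145, unmask 4845570] ?_ _
    (by decide +kernel) (by decide) _ ?_ (by
      rw [ncard_octads_filter _ (fun m => Bool.not (Nat.testBit m 4))
        fun s _ => pt_notMem_iff_testBit (by norm_num)]
      decide +kernel)
  · simp only [Fin.forall_fin_succ]
    refine ⟨?_, ?_, ?_, ?_, finZeroElim⟩
    · exact ⟨unmask_mem_octads (by decide +kernel) (by decide +kernel), by decide +kernel⟩
    · exact ⟨unmask_mem_octads (by decide +kernel) (by decide +kernel), by decide +kernel⟩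
    · exact ⟨unmask_mem_octads (by decide +kernel) (by decide +kernel), by decide +kernel⟩
    · exact ⟨unmask_mem_octads (by decide +kernel) (by decide +kernel), by decide +kernel⟩
  · simp only [Fin.forall_fin_succ]
    exact ⟨setM.le_ncard_orbit (Stab_le _) gens (setM_R (by norm_num))
        1 0 0x0 (by decide +kernel),
      setM.le_ncard_orbit (Stab_le _) gens (setM_R (by norm_num))
        15 16 0x2012112112011111 (by decide +kernel),
      setM.le_ncard_orbit (Stab_le _) gens (setM_R (by norm_num))
        210 280 0x1120120000000000000000000000111112000001120000000000111112112120000111112000011111200111112000111112011201111121121111120000111112111112111112011111211111200111112011111201121200011111211111211111211111211111211111200001111121111121111120011111211111211111211111211111211111211111 (by decide +kernel),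
      setM.le_ncard_orbit (Stab_le _) gens (setM_R (by norm_num))
        280 527 0x20000000000000000000000000000000000000000112000000000000000000000000000000000000000000000000000000000000000000000000000000000000000000000000000000000000000000000111112000000000000000111112000000000000000000000000111112000111112011111201111120001111120000000000000001111120011211111211111200111112111112000001111120111112112111112111112000111112112111112011111200001111120001111121111120011111211111211111201121111121111121111121111121111120111112011111211111211111211111211111211111200011111211111211111211111211111211111211111 (by decide +kernel),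
      finZeroElim⟩


/-- The point stabiliser acts on the 506 octads avoiding the point with rank 4 and subdegrees 1, 15, 210, 280, the suborbits being given by intersection size with the fixed octad. -/
theorem result (x : Cfsg.GolayPt) (o : Finset Cfsg.GolayPt) (ho : o ∈ Cfsg.octads) (hx : x ∉ o) : {o' : Finset Cfsg.GolayPt | o' ∈ Cfsg.octads ∧ x ∉ o' ∧ (o ∩ o').card = 0}.ncard = 15 ∧ {o' : Finset Cfsg.GolayPt | o' ∈ Cfsg.octads ∧ x ∉ o' ∧ (o ∩ o').card = 4}.ncard = 210 ∧ {o' : Finset Cfsg.GolayPt | o' ∈ Cfsg.octads ∧ x ∉ o' ∧ (o ∩ o').card = 2}.ncard = 280 ∧ ∀ o' o'' : Finset Cfsg.GolayPt, o' ∈ Cfsg.octads → o'' ∈ Cfsg.octads → x ∉ o' → x ∉ o'' → (o ∩ o').card = (o ∩ o'').card → ∃ g : Equiv.Perm Cfsg.GolayPt, g ∈ Cfsg.M24 ∧ g x = x ∧ g • o = o ∧ g • o' = o'' := by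
  obtain ⟨g, hg, rfl, rfl⟩ := exists_smul_notMem_O0 ho hx
  have hc : ∀ n, {y | y ∈ octads ∧ g (pt 4) ∉ y ∧ (g • O0 ∩ y).card = n}.ncard =
      {y | y ∈ octads ∧ pt 4 ∉ y ∧ (O0 ∩ y).card = n}.ncard := fun n => ncard_smul_eq g (by
    intro y
    simp only [Set.mem_ofPred_eq, smul_mem_octads_iff hg, card_smul_inter, apply_mem_smul_iff])
  refine ⟨?_, ?_, ?_, ?_⟩
  · rw [hc]; exact ncard_congr_iff (base.1 1) fun _ => and_assoc.symm
  · rw [hc]; exact ncard_congr_iff (base.1 2) fun _ => and_assoc.symm
  · rw [hc]; exact ncard_congr_iff (base.1 3) fun _ => and_assoc.symm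
  · intro o' o'' h1 h2 h3 h4 h5
    obtain ⟨o', rfl⟩ := exists_eq_smul g o'
    obtain ⟨o'', rfl⟩ := exists_eq_smul g o''
    simp only [smul_mem_octads_iff hg, card_smul_inter, apply_mem_smul_iff] at h1 h2 h3 h4 h5
    obtain ⟨k, e⟩ := base.2.1 o' ⟨h1, h3⟩ o'' ⟨h2, h4⟩ h5
    exact ⟨_, conj_mem_M24 hg k.2.1,
      conj_apply_apply g (Stab_apply k.2 4 (by norm_num) (by simp)),
      conj_smul_smul g (Stab_smul k.2 (by simp)), conj_smul_smul g e⟩

end Cfsg.Agent.S1608
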