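import Mathlib
import Cfsg.Agent.Spor.Hexa
import Cfsg.Statements.S1611
-- import your own Cfsg.Agent.* helpers here

set_option autoImplicit false
open Cfsg

namespace Cfsg.Agent.S1611

open Cfsg.Agent.Spor MulAction

open Cfsg.Agent.Spor.Hexa

section
variable {F : Type*} [Field F] (ω : F)

/-- The monomial map preserves the hexacode. -/
def P (σ : Equiv.Perm (Fin 6)) (c : Fin 6 → Fˣ) : Prop :=
  ∀ x ∈ hexacode F ω, monomialMap σ c x ∈ hexacode F ω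

variable {ω}

theorem P.mul {σ τ : Equiv.Perm (Fin 6)} {c d : Fin 6 → Fˣ} (h : P ω σ c) (h' : P ω τ d) :
    P ω (σ * τ) fun i => c i * d (σ.symm i) := by
  intro x hx
  convert h _ (h' x hx) using 1
  funext i
  simp [monomialMap, mul_assoc, Equiv.Perm.mul_def]

theorem P_scalar (u : Fˣ) : P ω 1 fun _ => u := fun _ hx => (hexacode F ω).smul_mem (u : F) hx

theorem P.div [Finite F] {σ : Equiv.Perm (Fin 6)} {c d : Fin 6 → Fˣ} (h : P ω σ c) (h' : P ω σ d) :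
    P ω 1 fun i => d i * (c i)⁻¹ := by
  intro x hx
  have hb : Set.BijOn (monomialMap σ c) (hexacode F ω : Set (Fin 6 → F)) (hexacode F ω) :=
    (Set.Finite.injOn_iff_bijOn_of_mapsTo (Set.toFinite _) h).1 fun y _ z _ e => funext fun i => by
      have := congrFun e (σ i)
      simpa [monomialMap] using this
  obtain ⟨y, hy, rfl⟩ := hb.surjOn hx
  convert h' y hy using 1
  funext i
  simp [monomialMap, mul_assoc, Equiv.Perm.one_def]

theorem scalar (h2 : (2 : F) = 0) (hω : ω ^ 2 + ω + 1 = 0) {c : Fin 6 → Fˣ} (h : P ω 1 c) :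
    ∀ i, c i = c 3 := by
  have h0 := om_ne_zero hω
  have e1 := (mem_iff h2 hω _).1 (h ![1, 0, 0, 1, ω ^ 2, ω] ((mem_iff h2 hω _).2 (by simp)))
  have e2 := (mem_iff h2 hω _).1 (h ![0, 1, 0, 1, ω, ω ^ 2] ((mem_iff h2 hω _).2 (by simp)))
  have e3 := (mem_iff h2 hω _).1 (h ![0, 0, 1, 1, 1, 1] ((mem_iff h2 hω _).2 (by simp)))
  simp [monomialMap, Equiv.Perm.one_def] at e1 e2 e3
  intro i
  apply Units.ext
  fin_cases i
  exacts [e1.1.symm, e2.1.symm, e3.1.symm, rfl, e3.2.1.trans e3.1.symm, e3.2.2.trans e3.1.symm]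

theorem not_swap (h2 : (2 : F) = 0) (hω : ω ^ 2 + ω + 1 = 0) (c : Fin 6 → Fˣ) :
    ¬ P ω (Equiv.swap 0 1) c := by
  intro h
  have h0 := om_ne_zero hω
  have e1 := (mem_iff h2 hω _).1 (h ![1, 0, 0, 1, ω ^ 2, ω] ((mem_iff h2 hω _).2 (by simp)))
  have e3 := (mem_iff h2 hω _).1 (h ![0, 0, 1, 1, 1, 1] ((mem_iff h2 hω _).2 (by simp)))
  simp [monomialMap, Equiv.swap_apply_def] at e1 e3
  have h3 : (c 4 : F) = c 1 := by rw [e3.2.1, ← e3.1, e1.1]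
  have h4 := e1.2.1
  rw [h3] at h4
  have h5 : ω * (c 1 : F) * (ω - 1) = 0 := by linear_combination h4
  rcases mul_eq_zero.1 h5 with h | h
  · exact mul_ne_zero h0 (c 1).ne_zero h
  · have : ω = 1 := sub_eq_zero.1 h
    subst this
    exact one_ne_zero (α := F) (by linear_combination hω - h2)

theorem P_of_basis (h2 : (2 : F) = 0) (hω : ω ^ 2 + ω + 1 = 0) {σ : Equiv.Perm (Fin 6)}
    {c : Fin 6 → Fˣ} (h : ∀ t ∈ [(((1, 0), 0, 0) : K × K × K), (0, (1, 0), 0), (0, 0, (1, 0))],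
      monomialMap σ c (fun i => f ω (wK t.1 t.2.1 t.2.2 i)) ∈ hexacode F ω) : P ω σ c := by
  intro x hx
  obtain ⟨h3, h4, h5⟩ := (mem_iff h2 hω x).1 hx
  have e : x = x 0 • (fun i => f ω (wK (1, 0) 0 0 i)) + x 1 • (fun i => f ω (wK 0 (1, 0) 0 i)) +
      x 2 • fun i => f ω (wK 0 0 (1, 0) i) := by
    funext i
    fin_cases i <;>
      simp [-Prod.mk_add_mk, wK, f_add h2, f_km h2 hω, f_om, f_om2 h2 hω, f_one, f_zero, h3, h4, h5,
        mul_comm]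
  have := (hexacode F ω).add_mem ((hexacode F ω).add_mem
    ((hexacode F ω).smul_mem (x 0) (h ((1, 0), 0, 0) (by simp)))
    ((hexacode F ω).smul_mem (x 1) (h (0, (1, 0), 0) (by simp))))
    ((hexacode F ω).smul_mem (x 2) (h (0, 0, (1, 0)) (by simp)))
  convert this using 1
  funext i
  conv_lhs => rw [e]
  simp only [monomialMap, Pi.add_apply, Pi.smul_apply, smul_eq_mul]
  ring

/-- Coefficients of monomial automorphisms over products of two transpositions. -/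
def tbl : Fin 6 → Fin 6 → Fin 6 → K :=
  ![![![(1, 0), (1, 0), (1, 0), (1, 0), (1, 0), (1, 0)], ![(1, 0), (1, 0), (1, 0), (1, 0), (1, 0), (1, 0)], ![(1, 0), (1, 0), (1, 0), (1, 0), (0, 1), (1, 1)], ![(1, 0), (1, 0), (1, 0), (1, 0), (1, 1), (0, 1)], ![(1, 0), (1, 0), (0, 1), (1, 1), (1, 0), (1, 0)], ![(1, 0), (1, 0), (1, 1), (0, 1), (1, 0), (1, 0)]],
    ![![(1, 0), (1, 0), (1, 0), (1, 0), (1, 0), (1, 0)], ![(1, 0), (1, 0), (1, 0), (1, 0), (1, 0), (1, 0)], ![(1, 0), (1, 0), (1, 0), (1, 0), (1, 1), (0, 1)], ![(1, 0), (1, 0), (1, 0), (1, 0), (0, 1), (1, 1)], ![(1, 0), (1, 0), (1, 1), (0, 1), (1, 0), (1, 0)], ![(1, 0), (1, 0), (0, 1), (1, 1), (1, 0), (1, 0)]],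
    ![![(1, 0), (1, 0), (1, 0), (1, 0), (0, 1), (1, 1)], ![(1, 0), (1, 0), (1, 0), (1, 0), (1, 1), (0, 1)], ![(1, 0), (1, 0), (1, 0), (1, 0), (1, 0), (1, 0)], ![(1, 0), (1, 0), (1, 0), (1, 0), (1, 0), (1, 0)], ![(1, 0), (1, 1), (0, 1), (0, 1), (0, 1), (0, 1)], ![(1, 0), (0, 1), (1, 1), (1, 1), (1, 1), (1, 1)]],
    ![![(1, 0), (1, 0), (1, 0), (1, 0), (1, 1), (0, 1)], ![(1, 0), (1, 0), (1, 0), (1, 0), (0, 1), (1, 1)], ![(1, 0), (1, 0), (1, 0), (1, 0), (1, 0), (1, 0)], ![(1, 0), (1, 0), (1, 0), (1, 0), (1, 0), (1, 0)], ![(1, 0), (0, 1), (1, 1), (1, 1), (1, 1), (1, 1)], ![(1, 0), (1, 1), (0, 1), (0, 1), (0, 1), (0, 1)]],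
    ![![(1, 0), (1, 0), (0, 1), (1, 1), (1, 0), (1, 0)], ![(1, 0), (1, 0), (1, 1), (0, 1), (1, 0), (1, 0)], ![(1, 0), (1, 1), (0, 1), (0, 1), (0, 1), (0, 1)], ![(1, 0), (0, 1), (1, 1), (1, 1), (1, 1), (1, 1)], ![(1, 0), (1, 0), (1, 0), (1, 0), (1, 0), (1, 0)], ![(1, 0), (1, 0), (1, 0), (1, 0), (1, 0), (1, 0)]],
    ![![(1, 0), (1, 0), (1, 1), (0, 1), (1, 0), (1, 0)], ![(1, 0), (1, 0), (0, 1), (1, 1), (1, 0), (1, 0)], ![(1, 0), (0, 1), (1, 1), (1, 1), (1, 1), (1, 1)], ![(1, 0), (1, 1), (0, 1), (0, 1), (0, 1), (0, 1)], ![(1, 0), (1, 0), (1, 0), (1, 0), (1, 0), (1, 0)], ![(1, 0), (1, 0), (1, 0), (1, 0), (1, 0), (1, 0)]]]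

theorem tbl_spec : ∀ a b : Fin 6, a ≠ b → (∀ i, tbl a b i ≠ 0) ∧ ∀ t ∈ [((1, 0), 0, 0), (0, (1, 0), 0),
    (0, 0, (1, 0))], ∀ i,
    km (tbl a b i) (wK t.1 t.2.1 t.2.2 ((Equiv.swap 0 1 * Equiv.swap a b).symm i)) =
    wK (km (tbl a b 0) (wK t.1 t.2.1 t.2.2 ((Equiv.swap 0 1 * Equiv.swap a b).symm 0)))
      (km (tbl a b 1) (wK t.1 t.2.1 t.2.2 ((Equiv.swap 0 1 * Equiv.swap a b).symm 1)))
      (km (tbl a b 2) (wK t.1 t.2.1 t.2.2 ((Equiv.swap 0 1 * Equiv.swap a b).symm 2))) i := by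
  decide +kernel

theorem P_swap [Fintype F] (hF : Fintype.card F = 4) (hω : ω ^ 2 + ω + 1 = 0) {a b : Fin 6}
    (h : a ≠ b) : ∃ c, P ω (Equiv.swap 0 1 * Equiv.swap a b) c := by
  have h2 := two_eq_zero hF
  obtain ⟨t1, t2⟩ := tbl_spec a b h
  refine ⟨fun i => Units.mk0 (f ω (tbl a b i)) (by rw [Ne, f_eq_zero_iff h2 hω]; exact t1 i), ?_⟩
  refine P_of_basis h2 hω fun t ht => (mem_iff_exists hF hω _).2 ⟨_, _, _, funext fun i =>
    (congrArg (f ω) (t2 t ht i).symm).trans (f_km h2 hω _ _)⟩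

variable (ω) in
/-- The permutation parts. -/
def A : Subgroup (Equiv.Perm (Fin 6)) :=
  { (⟨⟨{σ | ∃ c, P ω σ c}, fun ⟨_, h⟩ ⟨_, h'⟩ => ⟨_, h.mul h'⟩⟩, ⟨_, P_scalar 1⟩⟩ :
      Submonoid (Equiv.Perm (Fin 6))) with
    inv_mem' := fun {σ} h => by
      have := (⟨⟨{σ | ∃ c, P ω σ c}, fun ⟨_, h⟩ ⟨_, h'⟩ => ⟨_, h.mul h'⟩⟩, ⟨_, P_scalar 1⟩⟩ :
        Submonoid (Equiv.Perm (Fin 6))).pow_mem h (orderOf σ - 1)
      rwa [← inv_eq_of_mul_eq_one_right (a := σ) (b := σ ^ (orderOf σ - 1)) (by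
        rw [← pow_succ', Nat.sub_add_cancel (orderOf_pos σ), pow_orderOf_eq_one])] at this }

theorem A_eq [Fintype F] (hF : Fintype.card F = 4) (hω : ω ^ 2 + ω + 1 = 0) :
    A ω = alternatingGroup (Fin 6) := by
  have key : ∀ σ : Equiv.Perm (Fin 6), (Equiv.Perm.sign σ = 1 → σ ∈ A ω) ∧
      (Equiv.Perm.sign σ = -1 → Equiv.swap 0 1 * σ ∈ A ω) := by
    intro σ
    induction σ using Equiv.Perm.swap_induction_on with
    | one => exact ⟨fun _ => (A ω).one_mem, fun h => absurd h (by decide)⟩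
    | swap_mul σ a b hab ih =>
      have h1 : Equiv.swap 0 1 * Equiv.swap a b ∈ A ω := P_swap hF hω hab
      rw [map_mul, Equiv.Perm.sign_swap hab]
      refine ⟨fun h => ?_, fun h => ?_⟩
      · have := (A ω).mul_mem ((A ω).inv_mem h1) (ih.2 (by
          rw [neg_one_mul, neg_eq_iff_eq_neg] at h; exact h))
        rwa [mul_inv_rev, Equiv.swap_inv, Equiv.swap_inv, mul_assoc, Equiv.swap_mul_self_mul] at this
      · rw [← mul_assoc]
        exact (A ω).mul_mem h1 (ih.1 (by simpa using h))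
  ext σ
  rw [Equiv.Perm.mem_alternatingGroup]
  refine ⟨fun h => ?_, (key σ).1⟩
  by_contra hs
  have := (A ω).mul_mem ((key σ).2 ((Int.units_eq_one_or _).resolve_left hs)) ((A ω).inv_mem h)
  rw [mul_inv_cancel_right] at this
  obtain ⟨c, hc⟩ := this
  exact not_swap (two_eq_zero hF) hω c hc

end

/-- The monomial automorphism group of the hexacode has order 1080: its diagonal part is the scalars and its permutation parts form the alternating group of degree 6. -/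
theorem result (F : Type*) [Field F] [Fintype F] [DecidableEq F] (hF : Fintype.card F = 4) (ω : F) (hω : ω ^ 2 + ω + 1 = 0) : Nat.card {f : Equiv.Perm (Fin 6) × (Fin 6 → Fˣ) // (∀ x ∈ Cfsg.hexacode F ω, Cfsg.monomialMap f.1 f.2 x ∈ Cfsg.hexacode F ω)} = 1080 ∧ (∀ c : Fin 6 → Fˣ, (∀ x ∈ Cfsg.hexacode F ω, Cfsg.monomialMap 1 c x ∈ Cfsg.hexacode F ω) → ∀ i j, c i = c j) ∧ {σ : Equiv.Perm (Fin 6) | ∃ c : Fin 6 → Fˣ, (∀ x ∈ Cfsg.hexacode F ω, Cfsg.monomialMap σ c x ∈ Cfsg.hexacode F ω)} = (alternatingGroup (Fin 6) : Set (Equiv.Perm (Fin 6))) := by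
  have h2 := two_eq_zero hF
  have hA := A_eq hF hω
  refine ⟨?_, fun c h i j => (scalar h2 hω h i).trans (scalar h2 hω h j).symm,
    congrArg SetLike.coe hA⟩
  have hc : ∀ σ : alternatingGroup (Fin 6), ∃ c, P ω σ c := fun σ => hA.ge σ.2
  choose c0 hc0 using hc
  let φ : alternatingGroup (Fin 6) × Fˣ → {f : Equiv.Perm (Fin 6) × (Fin 6 → Fˣ) // P ω f.1 f.2} :=
    fun t => ⟨(t.1, fun i => t.2 * c0 t.1 i), by
      have := (P_scalar (ω := ω) t.2).mul (hc0 t.1)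
      rwa [one_mul] at this⟩
  have hφ : Function.Bijective φ := by
    constructor
    · rintro ⟨σ, u⟩ ⟨τ, v⟩ e
      have e1 : σ = τ := Subtype.ext (congrArg (fun t => t.1.1) e)
      subst e1
      have e2 := congrFun (congrArg (fun t => t.1.2) e) 0
      exact Prod.ext rfl (mul_right_cancel e2)
    · rintro ⟨⟨σ, d⟩, h⟩
      have hσ : σ ∈ alternatingGroup (Fin 6) := by rw [← hA]; exact ⟨d, h⟩
      have := scalar h2 hω ((hc0 ⟨σ, hσ⟩).div h)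
      refine ⟨(⟨σ, hσ⟩, d 3 * (c0 ⟨σ, hσ⟩ 3)⁻¹), Subtype.ext (Prod.ext rfl (funext fun i => ?_))⟩
      change d 3 * (c0 ⟨σ, hσ⟩ 3)⁻¹ * c0 ⟨σ, hσ⟩ i = d i
      rw [← this i, inv_mul_cancel_right]
  refine (Nat.card_congr (Equiv.ofBijective φ hφ)).symm.trans ?_
  rw [Nat.card_prod, nat_card_alternatingGroup, Nat.card_units, Nat.card_eq_fintype_card (α := F), hF]
  simp [Nat.factorial]

end Cfsg.Agent.S1611
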