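import Cfsg.Statements.S1628
import Cfsg.Agent.Spor.Ru.Min

set_option autoImplicit false
open Cfsg

namespace Cfsg.Agent.S1628

/-- The Conway–Wales lattice as stored is even with no vectors of true norm 2: stored norms are multiples of 8, never equal to 8, and the minimum over nonzero vectors is 16. -/
theorem result : (∀ x ∈ Cfsg.Spor.ruLattice, (8 : ℤ) ∣ Cfsg.Spor.ruNorm x) ∧ (∀ x ∈ Cfsg.Spor.ruLattice, Cfsg.Spor.ruNorm x ≠ 8) ∧ (∀ x ∈ Cfsg.Spor.ruLattice, x ≠ 0 → 16 ≤ Cfsg.Spor.ruNorm x) ∧ ∃ x ∈ Cfsg.Spor.ruLattice, Cfsg.Spor.ruNorm x = 16 := by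
  open Cfsg.Agent.Spor.MRu in
  refine ⟨fun x hx => ?_, fun x hx h => ?_, fun x hx => sixteen_le hx, V 0, V_mem (by norm_num), ?_⟩
  · rw [Cfsg.Agent.Spor.MRu.norm_eq]
    exact Cfsg.Agent.Spor.MRu.eight_dvd (Cfsg.Agent.Spor.MRu.lattice_eq ▸ hx)
  · have h1 := Cfsg.Agent.Spor.MRu.sixteen_le hx (by rintro rfl; simp [Cfsg.Spor.ruNorm] at h)
    omega
  · rw [Cfsg.Agent.Spor.MRu.norm_eq, Cfsg.Agent.Spor.MRu.ip_V]

end Cfsg.Agent.S1628
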