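import Mathlib
import Cfsg.Agent.Spor.MB.PtOrb
import Cfsg.Statements.S1639
-- import your own Cfsg.Agent.* helpers here

set_option autoImplicit false
open scoped Pointwise
open Cfsg

namespace Cfsg.Agent.S1639

open Cfsg.Agent.Spor Cfsg.Agent.Spor.MB MulAction

theorem gens : Gens (Stab [1, 340831]) [321099188044144013334665344290325792, 902788250805178867087243638984451168] := gens_Stab (by decide +kernel)

theorem base :
    (∀ i, {y : Finset GolayPt | y ∈ {y : Finset GolayPt | y ∈ dodecads ∧ pt 0 ∈ y} ∧ (D0 ∩ y).card = ![12, 4, 8, 6] i}.ncard = ![1, 165, 330, 792] i) ∧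
    (∀ y ∈ {y : Finset GolayPt | y ∈ dodecads ∧ pt 0 ∈ y}, ∀ y' ∈ {y : Finset GolayPt | y ∈ dodecads ∧ pt 0 ∈ y}, (D0 ∩ y).card = (D0 ∩ y').card →
      ∃ h : ↥(Stab [1, 340831]), h • y = y') ∧
    ∀ y ∈ {y : Finset GolayPt | y ∈ dodecads ∧ pt 0 ∈ y}, ∃ i, (D0 ∩ y).card = ![12, 4, 8, 6] i := by
  refine orbit_partition' (H := ↥(Stab [1, 340831])) (T := {y : Finset GolayPt | y ∈ dodecads ∧ pt 0 ∈ y}) (Set.toFinite _)
    (fun h y hy => ⟨(smul_mem_dodecads_iff h.2.1).2 hy.1,
      (mem_smul_iff_of_fix (Stab_apply h.2 0 (by norm_num) (by simp))).2 hy.2⟩) (f := fun y => (D0 ∩ y).card)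
    (fun h y _ => card_inter_of_fix (Stab_smul h.2 (by simp)) y)
    ![unmask 340831, unmask 15974505, unmask 11472927, unmask 8245261] ?_ _
    (by decide +kernel) (by decide) _ ?_ (by
      rw [ncard_dodecads_filter _ (fun m => Nat.testBit m 0)
        fun s _ => pt_mem_iff_testBit (by norm_num)]
      decide +kernel)
  · simp only [Fin.forall_fin_succ]
    refine ⟨?_, ?_, ?_, ?_, finZeroElim⟩
    · exact ⟨unmask_mem_dodecads (by decide +kernel) (by decide +kernel), by decide +kernel⟩
    · exact ⟨unmask_mem_dodecads (by decide +kernel) (by decide +kernel), by decide +kernel⟩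
    · exact ⟨unmask_mem_dodecads (by decide +kernel) (by decide +kernel), by decide +kernel⟩
    · exact ⟨unmask_mem_dodecads (by decide +kernel) (by decide +kernel), by decide +kernel⟩
  · simp only [Fin.forall_fin_succ]
    exact ⟨setM.le_ncard_orbit (Stab_le _) gens (setM_R (by norm_num))
        1 0 0x0 (by decide +kernel),
      setM.le_ncard_orbit (Stab_le _) gens (setM_R (by norm_num))
        165 252 0x111120000000000000000111120000000000000000000000000000001111211112011112111120000000000001111200000000001111200111120000001111201111200111121111211112111120000111121111211112011112111120011112111120111121111211112111121111211112111121111211112111121111 (by decide +kernel),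
      setM.le_ncard_orbit (Stab_le _) gens (setM_R (by norm_num))
        330 486 0x111120000000000000000000000000000001111200000000000000000000000000000001111211112000000000011112011112111120000001111200000000000000000000000001111211112001111200000000000000111120001111211112011112001111200001111201111211112111121111200011112011112111120001111211112111121111211112011112111121111201111211112111120011112001111201111211112000000011112111120111121111211112111121111211112111121111211112111120111120001111211112111120111121111211112111121111211112111121111211112111121111 (by decide +kernel),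
      setM.le_ncard_orbit (Stab_le _) gens (setM_R (by norm_num))
        792 1306 0x1111200000000000000000000000000000000000000000000000000000000000000000000000000000000000000000000000000000000000000000000000000000000000001111200000000000000000000000000000111120000000000000000200000000000000000000000000000000000000000011112000011112000000000000000000000000000000000000000000000000000000000000000000000000000000000001111200000000000000111120111120000000000000011112001111211112000111120000200000000000000000000000000000000000000000000000000000011112011112000111120000000011112000000001111211112011112000111121111201111200011112111120111120011112111121111200011112111120011112011112000000011112111120111120011112011112111120111120001111211112111121111200000011112111120001111211112011112000111120111121111200011112111120111121111211112001111201111211112111121111200001111201111211112111121111201111200111120011112111121111211112011112111121111201111200001111201111211112001111200001111211112011112111121111211112111121111211112011112111120011112111120111121111211112000111120111121111211112111121111201111211112111120111121111211112111121111211112011112111121111211112111121111200111120111121111200111121111211112111121111211112111121111211112111120111121111211112111121111211112111120111121111211112111121111211112111121111211112111120111121111211112111121111211112111121111211112111121111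 (by decide +kernel),
      finZeroElim⟩


/-- The point stabiliser acts on the 1288 dodecads through the point with rank 4 and subdegrees 1, 165, 330, 792, distinguished by intersection 4, 8, 6 with the fixed dodecad. -/
theorem result (x : Cfsg.GolayPt) (d : Finset Cfsg.GolayPt) (hd : d ∈ Cfsg.dodecads) (hx : x ∈ d) : {d' : Finset Cfsg.GolayPt | d' ∈ Cfsg.dodecads ∧ x ∈ d' ∧ (d ∩ d').card = 4}.ncard = 165 ∧ {d' : Finset Cfsg.GolayPt | d' ∈ Cfsg.dodecads ∧ x ∈ d' ∧ (d ∩ d').card = 8}.ncard = 330 ∧ {d' : Finset Cfsg.GolayPt | d' ∈ Cfsg.dodecads ∧ x ∈ d' ∧ (d ∩ d').card = 6}.ncard = 792 ∧ ∀ d' d'' : Finset Cfsg.GolayPt, d' ∈ Cfsg.dodecads → d'' ∈ Cfsg.dodecads → x ∈ d' → x ∈ d'' → (d ∩ d').card = (d ∩ d'').card → ∃ g : Equiv.Perm Cfsg.GolayPt, g ∈ Cfsg.M24 ∧ g x = x ∧ g • d = d ∧ g • d' = d'' := by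
  obtain ⟨g, hg, rfl, rfl⟩ := exists_smul_pt_D0 hd hx
  have hc : ∀ n, {y | y ∈ dodecads ∧ g (pt 0) ∈ y ∧ (g • D0 ∩ y).card = n}.ncard =
      {y | y ∈ dodecads ∧ pt 0 ∈ y ∧ (D0 ∩ y).card = n}.ncard := fun n => ncard_smul_eq g (by
    intro y
    simp only [Set.mem_ofPred_eq, smul_mem_dodecads_iff hg, card_smul_inter, apply_mem_smul_iff])
  refine ⟨?_, ?_, ?_, ?_⟩
  · rw [hc]; exact ncard_congr_iff (base.1 1) fun _ => and_assoc.symm
  · rw [hc]; exact ncard_congr_iff (base.1 2) fun _ => and_assoc.symm
  · rw [hc]; exact ncard_congr_iff (base.1 3) fun _ => and_assoc.symm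
  · intro o' o'' h1 h2 h3 h4 h5
    obtain ⟨o', rfl⟩ := exists_eq_smul g o'
    obtain ⟨o'', rfl⟩ := exists_eq_smul g o''
    simp only [smul_mem_dodecads_iff hg, card_smul_inter, apply_mem_smul_iff] at h1 h2 h3 h4 h5
    obtain ⟨k, e⟩ := base.2.1 o' ⟨h1, h3⟩ o'' ⟨h2, h4⟩ h5
    exact ⟨_, conj_mem_M24 hg k.2.1,
      conj_apply_apply g (Stab_apply k.2 0 (by norm_num) (by simp)),
      conj_smul_smul g (Stab_smul k.2 (by simp)), conj_smul_smul g e⟩

end Cfsg.Agent.S1639
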