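import Mathlib
import Cfsg.Statements.S1829
import Cfsg.Agent.QT.WrF
-- import your own Cfsg.Agent.* helpers here

set_option autoImplicit false
open Cfsg

namespace Cfsg.Agent.S1829


/-- There is no non-abelian finite simple QTKE-group G with a Sylow 2-subgroup T and a maximal 2-local subgroup M containing T such that M is isomorphic to the wreath product S₄ ≀ Z₂ (the subgroup of the symmetric group of degree 8 preserving a partition into two blocks of size 4; order 1152). -/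
theorem result {G : Type*} [Group G] [Finite G] [IsSimpleGroup G]
    (hG : ¬ IsMulCommutative G) (hQ : Cfsg.IsQTKE G) (T : Sylow 2 G) (M : Subgroup G)
    (hM : M ∈ Cfsg.maxTwoLocalsContaining (T : Subgroup G))
    (hW : Nonempty (↥M ≃* ↥Cfsg.blockStabilizerS4wr2)) : False := by
  classical
  obtain ⟨e⟩ := hW
  obtain ⟨ψ, hi, hr⟩ := QT.Wr.exists_psi e
  have pg := @QT.Wr.Ctx.pg G _ ψ
  have ne : ∀ (X : Subgroup QT.Wr.W) (x : QT.Wr.W), x ∈ X → x ≠ 1 → X.map ψ ≠ ⊥ :=
    fun X x hx h1 h => h1 (hi (by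
      rw [map_one]; exact Subgroup.mem_bot.1 (h ▸ Subgroup.mem_map_of_mem ψ hx)))
  have hS : Loc.Mss.Syl 2 (QT.Wr.TT.map ψ) ⊤ := by
    refine (Loc.Mss.Syl.of_sylow T).of_card_le (pg le_rfl) le_top ?_
    rw [Subgroup.card_map_of_injective hi, QT.Wr.card_TT]
    obtain ⟨n, hn⟩ := IsPGroup.iff_card.1 T.isPGroup'
    have h1 := Subgroup.card_dvd_of_le hM.2
    rw [← hr, ← Nat.card_congr (MonoidHom.ofInjective hi).toEquiv, QT.Wr.card_W, hn] at h1
    rw [hn]
    exact Nat.le_of_dvd (by norm_num) ((Nat.Coprime.pow_left n (by norm_num : Nat.Coprime 2 9)).dvd_of_dvd_mul_right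
      (show 2 ^ n ∣ 128 * 9 from h1))
  have hA : Subgroup.normalizer ((QT.Wr.A.map ψ : Subgroup G) : Set G) = M := hM.1.2 _
    ⟨_, pg ((QT.Wr.E_le _).trans QT.Wr.T0_le), ne _ QT.Wr.z1 (by decide +kernel) (by decide +kernel), rfl⟩
    (by
      rw [← hr, MonoidHom.range_eq_map]
      exact QT.Wr.norm_map fun w _ => QT.Wr.norm_A w)
  have hp : commutator G = ⊤ := by
    refine ((inferInstance : (commutator G).Normal).eq_bot_or_eq_top).resolve_left fun h => hG ?_
    exact ⟨⟨fun a b => commutatorElement_eq_one_iff_mul_comm.1 (Subgroup.mem_bot.1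
      (h ▸ Subgroup.commutator_mem_commutator (Subgroup.mem_top a) (Subgroup.mem_top b)))⟩⟩
  have c : QT.Wr.Ctx ψ := ⟨hi, hS, by rw [hA, hr], hp⟩
  have zz2 : ψ QT.Wr.zz * ψ QT.Wr.zz = 1 := by
    rw [← map_mul, show QT.Wr.zz * QT.Wr.zz = 1 by decide +kernel, map_one]
  have zz1 : ψ QT.Wr.zz ≠ 1 := fun h => absurd (hi (h.trans (map_one ψ).symm)) (by decide +kernel)
  have o2 : orderOf (ψ QT.Wr.zz) = 2 := orderOf_eq_prime (by rw [sq, zz2]) zz1
  have hC : Subgroup.normalizer (Subgroup.zpowers (ψ QT.Wr.zz) : Set G) =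
      Subgroup.centralizer {ψ QT.Wr.zz} := by
    refine le_antisymm (fun g hg => ?_) fun g hg => Loc.Mss.cent_le_norm _ (Loc.Mss.mem_cent.2 ?_)
    · have h1 := Loc.Mss.conj_mem_of_norm hg (Subgroup.mem_zpowers _)
      rw [mem_zpowers_iff_mem_range_orderOf, o2] at h1
      simp only [Finset.mem_image, Finset.mem_range] at h1
      obtain ⟨i, hi2, h1⟩ := h1
      rw [Subgroup.mem_centralizer_singleton_iff]
      interval_cases i
      · exact absurd (by simpa using h1.symm) zz1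
      · rw [pow_one] at h1
        exact mul_inv_eq_iff_eq_mul.1 h1.symm
    · intro x hx
      obtain ⟨i, rfl⟩ := Subgroup.mem_zpowers_iff.1 hx
      exact ((Commute.zpow_right (Subgroup.mem_centralizer_singleton_iff.1 hg) i).symm).eq
  refine c.main (hC ▸ hQ.2.2 _ ⟨_, IsPGroup.of_card (n := 1) (by rw [Nat.card_zpowers, o2]; rfl),
    by simpa using zz1, rfl⟩ ?_) (hQ.1 3 (by norm_num) (by norm_num) _
    ⟨_, pg (fun x hx => ?_), ne _ QT.Wr.z2 (by decide +kernel) (by decide +kernel), rfl⟩)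
  · obtain ⟨P, hP⟩ := hS.exists_sylow_top
    exact ⟨P, by rw [hP, hC]; exact c.syl_zz.le⟩
  · have : ∀ x ∈ QT.Wr.pr QT.Wr.O QT.Wr.V, x ∈ QT.Wr.TT := by
      simp only [QT.Wr.fa_pr]; decide +kernel
    exact this x hx

end Cfsg.Agent.S1829
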