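import Cfsg.Statements.S1833
import Cfsg.Agent.QT.NoL

set_option autoImplicit false
open Cfsg

namespace Cfsg.Agent.S1833

open Cfsg.Agent.GT Cfsg.Agent.Loc Cfsg.Agent.Loc.Mss Cfsg.Agent.Loc.Blk Cfsg.Agent.Loc.BH
  Cfsg.Agent.QT Subgroup
open scoped commutatorElement

/-- Let G be a non-abelian finite simple QTKE-group and T a Sylow 2-subgroup of G, and let Z = Ω₁(Z(T)). Suppose ℒ_f(G, T) is empty and C_G(Z) lies in at least two distinct maximal 2-local subgroups of G. Then C_G(Z) = T. -/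
theorem result {G : Type*} [Group G] [Finite G] [IsSimpleGroup G]
    (hG : ¬ IsMulCommutative G) (hQ : Cfsg.IsQTKE G) (T : Sylow 2 G)
    (hE : Cfsg.calLf (T : Subgroup G) = ∅)
    (hZ : ∃ M₁ M₂ : Subgroup G,
      M₁ ∈ Cfsg.maxTwoLocalsContaining (Subgroup.centralizer ((Cfsg.omegaOne 2 ((T : Subgroup G) ⊓ Subgroup.centralizer ((T : Subgroup G) : Set G))) : Set G)) ∧
      M₂ ∈ Cfsg.maxTwoLocalsContaining (Subgroup.centralizer ((Cfsg.omegaOne 2 ((T : Subgroup G) ⊓ Subgroup.centralizer ((T : Subgroup G) : Set G))) : Set G)) ∧ M₁ ≠ M₂) :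
    Subgroup.centralizer ((Cfsg.omegaOne 2 ((T : Subgroup G) ⊓ Subgroup.centralizer ((T : Subgroup G) : Set G))) : Set G) = (T : Subgroup G) := by
  obtain ⟨M₁, M₂, m1, m2, m3⟩ := hZ
  set C := 𝐂[ΩZ[2, (T : Subgroup G)]] with hC
  have hTC : (T : Subgroup G) ≤ C := le_cent_oz _
  have hS := Syl.of_sylow T
  have hu : ∀ U N : Subgroup G, maxTwoLocalsContaining U = {N} → ¬ U ≤ C := fun U N h l =>
    m3 ((h.le ⟨m1.1, l.trans m1.2⟩).trans (h.le ⟨m2.1, l.trans m2.2⟩).symm)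
  have hL : calL (T : Subgroup G) = ∅ := Set.eq_empty_of_forall_notMem fun L₀ h0 => by
    obtain ⟨L, -, l1, l2⟩ := Finite.exists_le_maximal (p := (· ∈ calL (T : Subgroup G))) h0
    obtain ⟨-, a1, a2⟩ := S1821.result hG hQ T L ⟨l1, fun K k1 k2 => le_antisymm (l2 k1 k2) k2⟩
    have hU : CC L (L ⊔ T) := (cc_iff le_sup_left).1 l1.1
    have e := pResidualOf_eq_self_of_perfect Nat.prime_two hU.perf
    have a3 : moduleV L = ⊥ := by_contra fun h =>
      hE.le ⟨l1, ⟨hU.ne, (oddGenerated_eq_pResidualOf L).trans e, a1⟩, h⟩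
    refine hu _ _ a2 (sup_le (le_trans ?_ (cent_anti (oz_le_oz_core hQ T ⟨l1.2.2, le_sup_right⟩))) hTC)
    have n1 : L ≤ 𝐍[ΩZ[2, pCoreOf 2 (L ⊔ T)]] := le_sup_left.trans (norm_oz (le_norm_core _))
    have n2 := comm_le_left n1
    have n3 := core_le_norm_res (p := 2) hU.sub
    rw [e] at n3
    rw [← e]
    refine res_le_cent_of_two (ea_oz _).isPGroup (e.symm ▸ n1) (W := ΩZ[2, pCoreOf 2 L]) ?_
      (e.le.trans (comm_eq_bot_iff'.1 a3))
    rw [e]
    exact le_oz ((ea_oz _).mono n2) (le_core_of_norm ((ea_oz _).isPGroup.to_le n2)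
      (comm_le_right ((oz_le _).trans n3)) (ncl_right _ _))
      (n2.trans ((oz_le_cent _).trans (cent_anti (core_le_core_of_subnormal hU.sub))))
  set Y := pResidualOf 2 C with hY
  have hYC : Y ≤ C := Mss.res_le C
  have hTY : (T : Subgroup G) ≤ 𝐍[Y] := hTC.trans (le_norm_res C)
  have key : ∀ M ∈ maxTwoLocalsContaining C, M ≤ 𝐍[Y] := fun M hM => by
    have hTM := hTC.trans hM.2
    have hMH : M ∈ calHOver (T : Subgroup G) := ⟨mem_calH_of_isTwoLocal hM.1.1, hTM⟩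
    have a1 := nil_of_solvable hG hQ T (fun H hH => solvable_of_calL T hL hH)
      ⟨M₁, M₂, ⟨m1.1, hTC.trans m1.2⟩, ⟨m2.1, hTC.trans m2.2⟩, m3⟩ hu ⟨hM.1, hTM⟩
    set V := ΩZ[2, pCoreOf 2 M]
    have hV : IsElementaryAbelian 2 V := ea_oz _
    have n1 : M ≤ 𝐍[V] := norm_oz (le_norm_core M)
    have n2 : Y ≤ 𝐍[V] := (hYC.trans hM.2).trans n1
    have a2 : ⁅V, Y⁆ ≤ V := comm_le_left n2
    have a3 := FF.isElementaryAbelian_lo hV
    have a4 := CopAct.commutator_inf_centralizer_eq_bot a3.1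
      ((FF.bar_le_normalizer_lo_iff le_rfl n2).2 n2) (by
        obtain ⟨k, hk⟩ := IsPGroup.iff_card.1 a3.isPGroup
        rw [hk, FF.card_bar n2]
        refine (Nat.prime_two.coprime_iff_not_dvd.2 fun d => (hS.inf le_top hTY).nd
          (d.trans ?_)).symm.pow_right k
        rw [← inf_relIndex_right (𝐂[V])]
        exact relIndex_dvd_of_le_left _ (le_inf (((inf_le_inf_left _ (res_mono hM.2)).trans a1).trans
          (le_cent_oz _)) inf_le_right))
    rw [FF.lo_commutator le_rfl n2, FF.lo_inf_centralizer a2 n2,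
      FF.lo_eq_bot_iff (inf_le_left.trans a2)] at a4
    have a5 : Y ≤ 𝐂[V] := comm_eq_bot_iff'.1 (by_contra fun h =>
      PG.inf_centralizer_ne_bot_of_isPGroup (hV.isPGroup.to_le a2) hS.pg
        (norm_comm (hTM.trans n1) hTY) h (eq_bot_iff.2 (le_trans (le_inf inf_le_left
          ((le_oz (hV.mono (inf_le_left.trans a2)) ((inf_le_left.trans a2).trans ((oz_le _).trans
            (hS.mono hTM le_top).core_le)) inf_le_right).trans (cent_comm hYC))) a4.le)))
    rw [show Y = pResidualOf 2 (M ⊓ 𝐂[V]) from le_antisymm (res_le_res (le_inf (hYC.trans hM.2) a5))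
      (res_mono (inf_le_right.trans (cent_anti (oz_le_oz_core hQ T hMH))))]
    exact Mss.norm_res (norm_inf le_normalizer (norm_cent n1))
  have h0 : pCoreOf 2 Y = ⊥ := by_contra fun h =>
    m3 ((m1.1.2 _ ⟨_, pg_core Y, h, rfl⟩ (norm_core (key M₁ m1))).symm.trans
      (m2.1.2 _ ⟨_, pg_core Y, h, rfl⟩ (norm_core (key M₂ m2))))
  have h1 := (chP_iff.1 (charTwo_of_calHOver hQ T ⟨mem_calH_of_isTwoLocal m1.1.1,
    hTC.trans m1.2⟩)).of_normal (hYC.trans m1.2) (key M₁ m1)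
  refine hS.eq_of_le (pg_of_res_eq_bot (le_bot_iff.1 (h0 ▸ h1.le_core le_rfl ?_))) hTC le_top
  rw [h0, cent_bot]
  exact le_top

end Cfsg.Agent.S1833
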