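import Cfsg.Statements.S1852
import Cfsg.Agent.S1824
import Cfsg.Agent.QT.XiRed

set_option autoImplicit false
open Cfsg

namespace Cfsg.Agent.S1852

open Cfsg.Agent.GT Cfsg.Agent.Loc Cfsg.Agent.Loc.Mss Cfsg.Agent.Loc.Blk Cfsg.Agent.Loc.BH
  Cfsg.Agent.QT Subgroup
open scoped commutatorElement

/-- Let G be a non-abelian finite simple QTKE-group and T a Sylow 2-subgroup of G lying in at least two distinct maximal 2-local subgroups of G. Let X be a member of Ξ*(G, T) — X = O²(X) is T-invariant with O₂(XT) ≠ 1, X/O₂(X) is elementary abelian of order p² or extraspecial of order p³ for some odd prime p, T is irreducible on the Frattini quotient of X/O₂(X), and XT lies in no ⟨L, T⟩ with L ∈ ℒ(G, T) and L/O₂(L) quasisimple — that also lies in 𝒳 (F*(X) = O₂(X)) and acts nontrivially on Ω₁(Z(O₂(X))) (a faithful solvable uniqueness group). Then either X is a {2, 3}-group, or X/O₂(X) is a 5-group and the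 group of automorphisms of X/O₂(X) induced by N_G(X) is a {2, 5}-group (rendered: for every prime r other than 2 and 5, an element of N_G(X) whose r-th power acts trivially on X/O₂(X) itself acts trivially on X/O₂(X)). -/
theorem result {G : Type*} [Group G] [Finite G] [IsSimpleGroup G]
    (hG : ¬ IsMulCommutative G) (hQ : Cfsg.IsQTKE G) (T : Sylow 2 G) (X : Subgroup G)
    (hT : ∃ M₁ M₂ : Subgroup G, M₁ ∈ Cfsg.maxTwoLocalsContaining (T : Subgroup G) ∧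
      M₂ ∈ Cfsg.maxTwoLocalsContaining (T : Subgroup G) ∧ M₁ ≠ M₂)
    (hX : X ∈ Cfsg.XiStar (T : Subgroup G)) (hXf : X ∈ Cfsg.calXf G) :
    (∀ p : ℕ, p.Prime → p ∣ Nat.card ↥X → p = 2 ∨ p = 3) ∨
    (IsPGroup 5 (↥X ⧸ Cfsg.pCore 2 ↥X) ∧
      ∀ r : ℕ, r.Prime → r ≠ 2 → r ≠ 5 → ∀ g ∈ Subgroup.normalizer (X : Set G),
        (∀ x ∈ X, g ^ r * x * (g ^ r)⁻¹ * x⁻¹ ∈ Cfsg.pCoreTwoOf X) →
          ∀ x ∈ X, g * x * g⁻¹ * x⁻¹ ∈ Cfsg.pCoreTwoOf X) := by
  obtain ⟨p, hD, hO, hP, hgen, hNΦ, hi⟩ := xi_facts hX.1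
  have hp := hD.hp
  have := Fact.mk hp
  have hu := S1822.result hG hQ T X hX
  have hS := Syl.of_sylow T
  have hcore := hD.core hS hgen
  set M := 𝐍[X] with hMd
  set Φ := twoPhiCore X
  set M₀ := X ⊔ (T : Subgroup G) with hM₀
  set R := pCoreOf 2 M₀ with hRd
  set V := ΩZ[2, R] with hVd
  have hM : M ∈ maxTwoLocalsContaining M₀ := hu ▸ rfl
  have hTM₀ : (T : Subgroup G) ≤ M₀ := le_sup_right
  have hXM₀ : X ≤ M₀ := le_sup_left
  have hS₀ := hS.mono hTM₀ le_top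
  have hRT : R ≤ T := hS₀.core_le
  have hOR : pCoreOf 2 X ≤ R := le_core_of_norm (pg_core X) ((core_le X).trans hXM₀) (norm_core hM.2)
  have hV : IsElementaryAbelian 2 V := ea_oz R
  have hMV : M₀ ≤ 𝐍[V] := norm_oz (le_norm_core M₀)
  have hXV := hXM₀.trans hMV
  have hTV := hTM₀.trans hMV
  have hRV : R ≤ 𝐂[V] := le_cent_oz R
  have hres : pResidualOf 2 M₀ = X := (res_sup_eq hD.norm hS.pg).trans hD.res
  have hnc := not_cent_oz hp hD.h2 hP hXf.2 (pg_core M₀) (hRT.trans hD.norm) hOR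
  have key : ∀ N, M₀ ≤ 𝐍[N] → ¬ X ≤ N → X ⊓ N ≤ Φ ∧ (T : Subgroup G) ⊓ N ≤ R := fun N n1 n2 => by
    have a1 : X ⊓ N ≤ Φ := (hD.inv _ inf_le_left (norm_inf le_normalizer (hXM₀.trans n1))
      (norm_inf hD.norm (hTM₀.trans n1))).resolve_right fun e => n2 (e.ge.trans inf_le_right)
    refine ⟨a1, (le_inf inf_le_left (le_cmod.2 ⟨inf_le_left.trans hD.normΦ, le_trans (le_inf
      (comm_le_left (inf_le_left.trans hD.norm)) ((commutator_mono le_rfl inf_le_right).trans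
        (comm_le_right (hXM₀.trans n1)))) a1⟩)).trans hcore⟩
  obtain ⟨hXC, hTC⟩ := key _ (norm_cent hMV) hnc
  obtain ⟨H, hH⟩ : ∃ H, H ∈ calHMin (T : Subgroup G) M := by
    obtain ⟨M', m1, m2⟩ : ∃ M' ∈ maxTwoLocalsContaining (T : Subgroup G), M' ≠ M := by
      obtain ⟨M₁, M₂, m1, m2, m3⟩ := hT
      by_cases e : M₁ = M
      · exact ⟨M₂, m2, fun e' => m3 (e.trans e'.symm)⟩
      · exact ⟨M₁, m1, e⟩
    obtain ⟨H, -, h2⟩ := Finite.exists_le_minimal (p := (· ∈ calHOverNotLE (T : Subgroup G) M))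
      (a := M') ⟨⟨mem_calH_of_isTwoLocal m1.1.1, m1.2⟩, fun l => m2 (m1.1.2 M hM.1.1 l).symm⟩
    exact ⟨H, h2.1, fun K k1 k2 => le_antisymm k2 (h2.2 k1 k2)⟩
  have hR2 : V ∈ calR2 M₀ := by
    refine ⟨(oz_le R).trans (core_le _), hMV, hV, fun N n1 n2 n3 ⟨k, hk⟩ => le_antisymm ?_ n3⟩
    have a1 : pResidualOf 2 N ≤ M₀ ⊓ 𝐂[V] := res_le_of_pow fun x hx => ⟨k, by
      have := normal_subgroupOf_of_le_normalizer
        (n1.trans (norm_inf le_normalizer (norm_cent hMV)))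
      exact hk ▸ ((M₀ ⊓ 𝐂[V]).subgroupOf N).pow_index_mem ⟨x, hx⟩⟩
    exact (hS₀.inf n1 (hTM₀.trans n2)).le_of_res_le a1 ((key N n2 fun l => hnc (hD.res.ge.trans
      ((res_mono l).trans (a1.trans inf_le_right)))).2.trans (le_inf (core_le _) hRV))
  obtain ⟨B, b1, b2, b3⟩ : ∃ B ≤ M₀, InducesElemAbelianTwoGroupOn B V ∧
      (V ⊓ 𝐂[B]).relIndex V ≤ ((𝐂[V]).relIndex B) ^ 2 := by
    rcases S1824.result hG hQ T M M₀ H V ⟨hM.1, hTM₀.trans hM.2⟩ hTM₀ hM.2 hH hR2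
      (le_antisymm (le_inf hRT hRV) hTC) (Or.inl (by
        rw [oddGenerated_eq_pResidualOf, hres]; exact inf_le_right)) with
      ⟨U, u1, u2, u3⟩ | ⟨-, B, b1, b2, -, b3⟩ | ⟨B, b1, b2, -, b3⟩
    · obtain ⟨N, n1, n2⟩ := exists_maxTwoLocal_ge ⟨U, (pg_core M₀).to_le u2, u1, rfl⟩
      have n3 : N ∈ maxTwoLocalsContaining M₀ := ⟨n1, le_sup_left.trans (u3.trans n2)⟩
      rw [hu] at n3
      exact absurd (le_sup_right.trans (u3.trans (n2.trans n3.le))) hH.1.2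
    · exact ⟨B, b1, b2, b3⟩
    · exact ⟨B, b1, b2, b3⟩
  by_cases h3 : p = 3
  · refine Or.inl fun r r1 r2 => ?_
    by_contra hc
    rw [not_or] at hc
    exact (r1.coprime_iff_not_dvd.1 (hD.coprime r1 hc.1 (h3 ▸ hc.2)).symm) r2
  have hBV := b1.trans hMV
  have hΦV := hD.le.trans hXV
  have hD' : XiD p (FF.bar V X) (FF.bar V T) (FF.bar V Φ) := (hD.subgroupOf hXV hTV).map (FF.th V)
    (by rw [FF.th_ker]; exact fun x hx => hXC ⟨hx.1, hx.2⟩)
  have hA : IsElementaryAbelian 2 (FF.bar V B) := by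
    refine ea_of_comm (fun x hx y hy => ?_) fun x hx => ?_
    · obtain ⟨x, x1, x2, rfl⟩ := FF.mem_bar.1 hx
      obtain ⟨y, y1, y2, rfl⟩ := FF.mem_bar.1 hy
      rw [← commutatorElement_eq_one_iff_mul_comm, ← FF.tf_commutator x2 y2]
      exact (FF.tf_eq_one_iff (mul_mem (mul_mem (mul_mem x2 y2) (inv_mem x2)) (inv_mem y2))).2
        (b2.2.2 x x1 y y1)
    · obtain ⟨x, x1, x2, rfl⟩ := FF.mem_bar.1 hx
      rw [← FF.tf_pow x2, FF.tf_eq_one_iff (pow_mem x2 _)]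
      exact b2.2.1 x x1
  have hb : ∀ U ≤ 𝐍[V], FF.bar V U ≤ 𝐍[FF.lo V V] := fun U u =>
    (FF.bar_le_normalizer_lo_iff le_rfl u).2 u
  obtain ⟨m, m1, m2⟩ := ((hS₀.subgroupOf hMV).map (FF.th V)).conj_le hA.isPGroup (FF.bar_mono b1)
  have hback : ∀ U ≤ X, Φ ≤ U → ∀ W ≤ X, FF.bar V W ≤ FF.bar V U → W ≤ U := fun U u1 u2 W w1 w2 => by
    rw [FF.bar_le_bar_iff (w1.trans hXV) (u1.trans hXV)] at w2
    refine (le_inf w2 w1).trans ?_
    rw [sup_comm, dedekind' ((u1.trans hXV).trans (norm_cent le_rfl)) u1, inf_comm]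
    exact sup_le (hXC.trans u2) le_rfl
  obtain ⟨rfl, c2, c3⟩ := hD'.module (A := cj(m, FF.bar V B)) (V := FF.lo V V) h3
    (bar_pg hP (hOR.trans hRV)) (fun Y y1 y2 => by
      rw [← FF.bar_unbar_inf y1] at y2 ⊢
      rw [← FF.bar_sup hΦV (inf_le_left.trans hXV)] at y2
      have y3 := hgen _ inf_le_left (le_antisymm (sup_le hD.le inf_le_left)
        (hback _ (sup_le hD.le inf_le_left) le_sup_left X le_rfl y2.ge))
      exact (FF.bar_le_bar_iff hXV (inf_le_left.trans hXV)).2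
        (y3.trans (sup_le_sup_left (hOR.trans hRV) _)))
    m2 (ea_map _ hA) (mt Mss.cj_eq_bot.1 (mt (FF.bar_eq_bot_iff hBV).1 b2.1))
    (eq_bot_iff.2 fun t ht => by
      obtain ⟨t, t1, t2, rfl⟩ := FF.mem_bar.1 (m2 ht.1)
      refine (FF.tf_eq_one_iff t2).2 (hRV (hcore ⟨t1, hD.normΦ t1, fun x hx => ?_⟩))
      have t3 : zpowers ⁅x, t⁆ ≤ X := zpowers_le.2 (comm_le_left hD.norm
        (commutator_mem_commutator hx t1))
      refine hback Φ hD.le le_rfl _ t3 ?_ (mem_zpowers _)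
      rw [FF.bar_zpowers (hXV (t3 (mem_zpowers _))), zpowers_le, FF.tf_commutator (hXV hx) t2]
      exact ht.2.2 _ (FF.tf_mem_bar hXV hx))
    (FF.isElementaryAbelian_lo hV) (hb X hXV) FF.bar_inf_centralizer (hb T hTV) (by
      rw [relIndex_cent_cj, cj_of_norm (inv_mem (hb M₀ hMV m1)), Mss.card_cj, FF.card_bar hBV]
      refine le_trans (le_of_eq ?_) b3
      have e1 := rI_card (𝐂[FF.bar V B]) (FF.lo V V)
      rw [FF.lo_inf_centralizer le_rfl hBV, FF.card_lo inf_le_left, FF.card_lo le_rfl,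
        ← rI_card (𝐂[B]) V] at e1
      rw [inf_relIndex_left]
      exact Nat.eq_of_mul_eq_mul_right Nat.card_pos e1)
  refine Or.inr ⟨hP, fun r r1 r2 r5 g g1 g2 => ?_⟩
  have hn : M ≤ 𝐍[pCoreOf 2 X] := norm_core le_rfl
  set N := M ⊓ cmod X (pCoreOf 2 X)
  have hN : M ≤ 𝐍[N] := norm_inf le_normalizer (norm_cmod le_rfl hn)
  have hNR : (T : Subgroup G) ⊓ N = R := le_antisymm ((le_inf inf_le_left (le_cmod.2
      ⟨inf_le_left.trans hD.normΦ, ((commutator_mono le_rfl (inf_le_right.trans inf_le_right)).trans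
        (comm_cmod_le _ _)).trans hO⟩)).trans hcore)
    (le_inf hRT (le_inf (hRT.trans hD.norm) (le_cmod.2 ⟨norm_core (hRT.trans hD.norm),
      le_core_of_norm ((pg_core M₀).to_le (comm_le_right (hXM₀.trans (le_norm_core _))))
        (comm_le_left (hRT.trans hD.norm)) (ncl_left _ _)⟩)))
  have hRN := hS.inf le_top (hD.norm.trans hN)
  rw [hNR] at hRN
  obtain ⟨n, n1, k, k1, rfl⟩ := hRN.frattini (hN g1)
  have k2 : k ∈ M := (M.mul_mem_cancel_left n1.1).1 g1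
  have k3 : k ∈ 𝐍[V] := norm_oz le_rfl k1
  have k4 : k ^ r ∈ N := by
    have := normal_subgroupOf_of_le_normalizer hN
    have e : (((⟨n * k, g1⟩ : M) : M ⧸ N.subgroupOf M)) = (⟨k, k2⟩ : M) := by
      rw [eq_comm, QuotientGroup.eq_iff_div_mem]
      change k / (n * k) ∈ N
      rw [div_mul_eq_div_div_swap, div_self', one_div]
      exact inv_mem n1
    have e2 : (⟨n * k, g1⟩ ^ r : M) ∈ N.subgroupOf M :=
      ⟨pow_mem g1 r, (mem_cmod_iff_comm (hn (pow_mem g1 r))).2 g2⟩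
    rw [← QuotientGroup.eq_one_iff, QuotientGroup.mk_pow, e, ← QuotientGroup.mk_pow,
      QuotientGroup.eq_one_iff] at e2
    exact e2
  obtain ⟨a, b, ab1, ab2⟩ := Nat.exists_eq_pow_mul_and_not_dvd (orderOf_pos k).ne' r r1.ne_one
  have h1 : (k ^ b) ^ r ^ a = 1 := by rw [← pow_mul, mul_comm, ← ab2, pow_orderOf_eq_one]
  have h2 := pow_mem k2 b
  have h4 := pow_mem k3 b
  obtain ⟨Y, y1, y2, y3⟩ := c3 (FF.tf V (k ^ b))
    (FF.bar_le_normalizer (zpowers_le.2 h4) hXV (zpowers_le.2 h2)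
      (FF.tf_mem_bar (zpowers_le.2 h4) (mem_zpowers _)))
    ((FF.tf_mem_normalizer_lo_iff le_rfl h4).2 h4)
    ((r1.odd_of_ne_two r2).pow.of_dvd_nat (orderOf_dvd_of_pow_eq_one (by
      rw [← FF.tf_pow h4, h1, FF.tf_one])))
  have hΦC := (FF.bar_eq_bot_iff hΦV).1 c2
  have y4 : Φ ≤ X ⊓ FF.unbar V Y := le_inf hD.le (hΦC.trans FF.centralizer_le_unbar)
  have y5 : Φ.relIndex (X ⊓ FF.unbar V Y) = 5 := by
    rw [← y2, ← FF.bar_unbar_inf y1, FF.card_bar (inf_le_left.trans hXV), ← inf_relIndex_right,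
      FF.bar_unbar_inf y1, ← inf_relIndex_right (𝐂[V])]
    congr 1
    exact le_antisymm (inf_le_inf_right _ hΦC) (le_inf ((le_inf (inf_le_right.trans inf_le_left)
      inf_le_left).trans hXC) inf_le_right)
  have y6 := relIndex_mul_relIndex _ _ _ y4 inf_le_left
  rw [y5, hD.idx, sq] at y6
  have k5 : k ^ b ∈ N := ⟨h2, cmod_of_chain r1 hp (A := zpowers (k ^ b))
    (fun d => r2 ((Nat.prime_dvd_prime_iff_eq r1 Nat.prime_two).1 (r1.dvd_of_dvd_pow (n := 2) d))) r5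
    (fun ⟨x, z, hz⟩ => ⟨a, Subtype.ext (by
      change x ^ r ^ a = 1
      rw [← hz, ← zpow_natCast, ← zpow_mul, mul_comm, zpow_mul, zpow_natCast, h1, one_zpow])⟩)
    ((sup_le le_normalizer (zpowers_le.2 h2)).trans hn) ((zpowers_le.2 h2).trans hNΦ)
    (norm_inf (zpowers_le.2 h2) (zpowers_le.2 (FF.mem_normalizer_unbar h4 y3))) (zpowers_le.2 h2)
    hO y4 inf_le_left hi y5.dvd (Nat.eq_of_mul_eq_mul_left hp.pos y6).dvd (mem_zpowers _)⟩
  obtain ⟨u, v, e⟩ := Nat.isCoprime_iff_coprime.2 (r1.coprime_iff_not_dvd.2 ab1)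
  have k6 : k ∈ N := by
    rw [← zpow_one k, ← e, zpow_add, mul_comm u, mul_comm v, zpow_mul, zpow_mul, zpow_natCast,
      zpow_natCast]
    exact mul_mem (zpow_mem k4 u) (zpow_mem k5 v)
  exact (mem_cmod_iff_comm (hn g1)).1 (mul_mem n1 k6).2

end Cfsg.Agent.S1852
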