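import Mathlib
import Cfsg.Statements.S4003
import Cfsg.Agent.FG.ConjCount
import Cfsg.Agent.GT.PGroupCyclicNormal
import Cfsg.Agent.GT.CoprimeNilp
import Cfsg.Agent.GT.PGroupIso
import Cfsg.Agent.Perm.FixTools
import Cfsg.Agent.S4085

set_option autoImplicit false
open Cfsg

namespace Cfsg.Agent.S4003

open Cfsg.Agent.GT Subgroup
open scoped commutatorElement Pointwise

local notation:75 H " ^ᶜ " g:76 => Subgroup.map (MulEquiv.toMonoidHom (MulAut.conj g)) H

theorem dvd_card_of_fiber {α β : Type*} [Finite α] [Finite β] (P : α → Prop) (f : α → β) {n : ℕ}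
    (h : ∀ a, P a → n ∣ Nat.card {x // P x ∧ f x = f a}) : n ∣ Nat.card {a // P a} := by
  classical
  have := Fintype.ofFinite β
  rw [FG.Kul.card_eq_sum_fiber P (fun _ => True) f (fun _ _ => trivial)]
  refine Finset.dvd_sum fun b _ => ?_
  by_cases hb : ∃ a, P a ∧ f a = b
  · obtain ⟨a, ha, rfl⟩ := hb
    exact h a ha
  · have : IsEmpty {x // P x ∧ f x = b} := ⟨fun x => hb ⟨x.1, x.2⟩⟩
    simp

theorem card_eq_mul_of_fiber {α β : Type*} [Finite α] [Finite β] (P : α → Prop) (B : β → Prop)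
    (f : α → β) (hf : ∀ a, P a → B (f a)) {k : ℕ}
    (h : ∀ b, B b → Nat.card {x // P x ∧ f x = b} = k) :
    Nat.card {a // P a} = k * Nat.card {b // B b} := by
  classical
  have := Fintype.ofFinite β
  rw [FG.Kul.card_eq_sum_fiber P B f hf, Finset.sum_congr rfl (g := fun _ => k)
    (fun b hb => h b (by simpa using hb)), Finset.sum_const, smul_eq_mul, mul_comm,
    Nat.card_eq_fintype_card, Fintype.card_subtype]

theorem miller {G : Type*} [Group G] [Finite G] {p : ℕ} [hp : Fact p.Prime] (hp2 : p ≠ 2)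
    (hG : IsPGroup p G) (hc : ¬ IsCyclic G) (t : ℕ) :
    p ^ (t + 2) ∣ Nat.card {x : G // orderOf x = p ^ (t + 2)} := by
  obtain ⟨R, hR, hRe, hRc⟩ := PG.exists_normal_elementary_sq_of_odd hp2 hG hc
  have := hG.isNilpotent
  have hRb : R ≠ ⊥ := by
    rintro rfl
    rw [card_bot] at hRc
    exact (Nat.one_lt_pow two_ne_zero hp.out.one_lt).ne hRc
  have hZ : ⁅R, (⊤ : Subgroup G)⁆ ≤ center G := by
    have hlt := PG.commutator_top_lt R hRb
    have h1 := card_dvd_of_le hlt.le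
    have h2 := PG.card_lt_of_lt hlt
    rw [hRc] at h1 h2
    obtain ⟨i, hi, e⟩ := (Nat.dvd_prime_pow hp.out).1 h1
    rw [e] at h2
    have hi2 : i < 2 := (Nat.pow_lt_pow_iff_right hp.out.one_lt).1 h2
    interval_cases i
    · rw [pow_zero, card_eq_one] at e; rw [e]; exact bot_le
    · exact PG.le_center_of_card_prime hp.out _ (by simpa using e)
  have key1 : ∀ x : G, ∀ r ∈ R, (x * r) ^ p = x ^ p := by
    intro x r hr
    have h1 : ⁅r, x⁆ ∈ ⁅R, (⊤ : Subgroup G)⁆ := commutator_mem_commutator hr (mem_top x)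
    have h2 := mem_center_iff.1 (hZ h1)
    have h3 : ⁅r, x⁆ ∈ R := commutator_le_left _ _ h1
    rw [CopAct.mul_pow_of_commute_commutatorElement (h2 x) (h2 r), hRe.2 r hr, mul_one]
    obtain ⟨c, hc⟩ := PG.choose_two_dvd_of_odd (hp.out.odd_of_ne_two hp2)
    rw [hc, pow_mul, hRe.2 _ h3, one_pow, mul_one]
  have hpow : ∀ x : G, orderOf x = p ^ (t + 2) → orderOf (x ^ p) = p ^ (t + 1) := by
    intro x hx
    simpa using PG.orderOf_pow_prime_pow (k := 1) hp.out.pos hx (by omega)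
  have key2 : ∀ x : G, orderOf x = p ^ (t + 2) → ∀ y, x⁻¹ * y ∈ zpowers (x ^ p) ⊔ R →
      zpowers (y ^ p) = zpowers (x ^ p) ∧ orderOf y = p ^ (t + 2) := by
    intro x hx y hy
    obtain ⟨_, ⟨j, rfl⟩, r, hr, e⟩ := (PG.mem_sup_of_le_normalizer' le_normalizer_of_normal).1 hy
    have e1 : y = x ^ (1 + p * j) * r := by
      rw [zpow_add, zpow_mul, zpow_one, zpow_natCast, mul_assoc]
      exact (eq_inv_mul_iff_mul_eq.1 e).symm
    have e2 : y ^ p = (x ^ p) ^ (1 + p * j) := by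
      rw [e1, key1 _ r hr, ← zpow_natCast, ← zpow_natCast, ← zpow_mul, ← zpow_mul, mul_comm]
    have e3 : zpowers (y ^ p) = zpowers (x ^ p) := by
      rw [e2]
      refine PG.zpowers_pow_mul_eq_of_coprime ?_
      rw [hpow x hx]
      push_cast
      exact IsCoprime.pow_right ⟨1, -j, by ring⟩
    refine ⟨e3, ?_⟩
    have e4 : orderOf (y ^ p) = p ^ (t + 1) := by
      rw [← Nat.card_zpowers, e3, Nat.card_zpowers, hpow x hx]
    obtain ⟨e, he⟩ := IsPGroup.iff_orderOf.1 hG y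
    rcases e with _ | e
    · rw [pow_zero, orderOf_eq_one_iff] at he
      rw [he, one_pow, orderOf_one] at e4
      exact absurd e4 (Nat.one_lt_pow (by omega) hp.out.one_lt).ne
    · have := PG.orderOf_pow_prime_pow (k := 1) hp.out.pos he (by omega)
      rw [pow_one, e4, Nat.add_sub_cancel] at this
      rw [he, ← Nat.pow_right_injective hp.out.two_le this]
  refine dvd_card_of_fiber _ (fun x => {y | x⁻¹ * y ∈ zpowers (x ^ p) ⊔ R}) fun x hx => ?_
  have e : Nat.card {y // orderOf y = p ^ (t + 2) ∧ {z | y⁻¹ * z ∈ zpowers (y ^ p) ⊔ R} =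
      {z | x⁻¹ * z ∈ zpowers (x ^ p) ⊔ R}} = Nat.card (zpowers (x ^ p) ⊔ R : Subgroup G) := by
    refine Nat.card_congr (Equiv.ofBijective (fun y => ⟨x⁻¹ * y.1, ?_⟩) ⟨?_, ?_⟩)
    · have : y.1 ∈ {z | y.1⁻¹ * z ∈ zpowers (y.1 ^ p) ⊔ R} := by
        simp only [Set.mem_ofPred_eq, inv_mul_cancel]; exact one_mem _
      rw [y.2.2] at this
      exact this
    · intro y z h
      exact Subtype.ext (mul_left_cancel (congrArg Subtype.val h))
    · intro k
      have hk : x⁻¹ * (x * k) ∈ zpowers (x ^ p) ⊔ R := by simp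
      obtain ⟨h1, h2⟩ := key2 x hx _ hk
      refine ⟨⟨x * k, h2, ?_⟩, Subtype.ext (by simp)⟩
      ext z
      simp only [Set.mem_ofPred_eq, h1, mul_inv_rev, mul_assoc]
      exact mul_mem_cancel_left (inv_mem k.2)
  rw [e]
  have hlt : zpowers (x ^ p) < zpowers (x ^ p) ⊔ R := by
    refine left_lt_sup.2 fun hle => ?_
    have : IsCyclic R := isCyclic_of_le hle
    obtain ⟨a, ha, ha'⟩ := PG.exists_orderOf_eq_of_isCyclic this
    have h1 : orderOf a ∣ p := orderOf_dvd_of_pow_eq_one (hRe.2 a (ha ▸ mem_zpowers a))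
    rw [ha', hRc] at h1
    have := Nat.le_of_dvd hp.out.pos h1
    have := hp.out.one_lt
    nlinarith
  have h1 := PG.card_lt_of_lt hlt
  obtain ⟨n, hn⟩ := IsPGroup.iff_card.1 (hG.to_subgroup (zpowers (x ^ p) ⊔ R))
  rw [Nat.card_zpowers, hpow x hx, hn] at h1
  rw [hn]
  exact pow_dvd_pow p ((Nat.pow_lt_pow_iff_right hp.out.one_lt).1 h1)

theorem dvd_of_totient {p : ℕ} (hp : p.Prime) {t c : ℕ} (h : p ^ (t + 1) ∣ (p ^ (t + 1)).totient * c) :
    p ∣ c := by
  rw [Nat.totient_prime_pow_succ hp, pow_succ, mul_assoc] at h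
  have h1 := Nat.dvd_of_mul_dvd_mul_left (pow_pos hp.pos t) h
  refine (Nat.Coprime.dvd_mul_left ?_).1 h1
  refine (Nat.Prime.coprime_iff_not_dvd hp).2 (Nat.not_dvd_of_pos_of_lt ?_ ?_)
  · have := hp.one_lt; omega
  · have := hp.one_lt; omega

theorem miller_sub {G : Type*} [Group G] [Finite G] {p : ℕ} [hp : Fact p.Prime] (hp2 : p ≠ 2)
    {P : Subgroup G} (hG : IsPGroup p P) (hc : ¬ IsCyclic P) (t : ℕ) :
    p ∣ Nat.card {A : Subgroup G // ((IsCyclic A ∧ Nat.card A = p ^ (t + 2)) ∧ A ≤ P) ∧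
      P ≤ normalizer (A : Set G)} := by
  have h1 := miller hp2 hG hc t
  have e1 : Nat.card {x : P // orderOf x = p ^ (t + 2)} =
      Nat.card {x : G // orderOf x = p ^ (t + 2) ∧ x ∈ P} := by
    refine Nat.card_congr (Equiv.ofBijective (fun y => ⟨y.1, by simpa using y.2, y.1.2⟩) ⟨?_, ?_⟩)
    · intro y z h
      exact Subtype.ext (Subtype.ext (congrArg (fun u => u.1) h))
    · intro y
      exact ⟨⟨⟨y.1, y.2.2⟩, by simpa using y.2.1⟩, rfl⟩
  rw [e1, card_eq_mul_of_fiber _ (fun A : Subgroup G => (IsCyclic A ∧ Nat.card A = p ^ (t + 2)) ∧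
    A ≤ P) zpowers (k := (p ^ (t + 2)).totient)] at h1
  · have h2 := dvd_of_totient hp.out h1
    have h3 := FG.Kul.card_modEq_card_normalized hG
      (fun A : Subgroup G => (IsCyclic A ∧ Nat.card A = p ^ (t + 2)) ∧ A ≤ P) (by
        rintro g hg Q ⟨⟨h1, h2⟩, h3⟩
        refine ⟨⟨isCyclic_of_surjective _ (MonoidHom.subgroupMap_surjective _ Q), by
          rw [card_map_of_injective (MulAut.conj g).injective, h2]⟩, ?_⟩
        rintro _ ⟨x, hx, rfl⟩
        exact P.mul_mem (P.mul_mem hg (h3 hx)) (P.inv_mem hg))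
    exact (h3.dvd_iff dvd_rfl).1 h2
  · rintro a ⟨h1, h2⟩
    exact ⟨⟨inferInstance, by rw [Nat.card_zpowers, h1]⟩, zpowers_le.2 h2⟩
  · rintro A ⟨⟨h1, h2⟩, h3⟩
    obtain ⟨a, rfl, ha⟩ := PG.exists_orderOf_eq_of_isCyclic h1
    rw [← h2, ← ha, ← S4085.card_gens a]
    refine FG.Kul.card_congr_pred fun y => ⟨fun h => h.2, fun h => ⟨⟨?_, h3 (h ▸ mem_zpowers y)⟩, h⟩⟩
    rw [← Nat.card_zpowers, h, Nat.card_zpowers]

theorem card_fiber {G : Type*} [Group G] [Finite G] {q m : ℕ} (hco : q.Coprime m) {b : G}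
    {A : Subgroup G} (hb : orderOf b = m) (h1 : IsCyclic A) (h2 : Nat.card A = q)
    (h3 : A ≤ centralizer {b}) :
    Nat.card {g : G // orderOf g = q * m ∧ (g ^ q, zpowers (g ^ m)) = (b, A)} = q.totient := by
  obtain ⟨a, rfl, ha⟩ := PG.exists_orderOf_eq_of_isCyclic h1
  rw [h2] at ha
  have e := S4085.card_gens a
  rw [ha] at e
  rw [← e]
  refine Nat.card_congr (Equiv.ofBijective (fun g => ⟨g.1 ^ m, (Prod.ext_iff.1 g.2.2).2⟩) ⟨?_, ?_⟩)
  · rintro ⟨g, hg1, hg2⟩ ⟨h, hh1, hh2⟩ e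
    have e1 : g ^ m = h ^ m := congrArg Subtype.val e
    have e2 : g ^ q = h ^ q := (Prod.ext_iff.1 hg2).1.trans (Prod.ext_iff.1 hh2).1.symm
    have e3 := Nat.gcd_eq_gcd_ab q m
    rw [hco, Nat.cast_one] at e3
    refine Subtype.ext ?_
    show g = h
    rw [← zpow_one g, ← zpow_one h, e3, zpow_add, zpow_add, zpow_mul, zpow_mul, zpow_mul, zpow_mul,
      zpow_natCast, zpow_natCast, zpow_natCast, zpow_natCast, e1, e2]
  · rintro ⟨y, hy⟩
    have hyq : orderOf y = q := by rw [← Nat.card_zpowers, hy, h2]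
    have hyb : Commute y b := (mem_centralizer_singleton_iff.1 (h3 (hy ▸ mem_zpowers y)))
    obtain ⟨u, hu⟩ := exists_pow_eq_self_of_coprime (x := y) (n := m) (hyq ▸ hco.symm)
    obtain ⟨v, hv⟩ := exists_pow_eq_self_of_coprime (x := b) (n := q) (hb ▸ hco)
    have hc : Commute (y ^ u) (b ^ v) := hyb.pow_pow u v
    have e1 : (y ^ u * b ^ v) ^ m = y := by
      rw [hc.mul_pow, pow_right_comm y, hu, pow_right_comm b, ← hb, pow_orderOf_eq_one, one_pow,
        mul_one]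
    have e2 : (y ^ u * b ^ v) ^ q = b := by
      rw [hc.mul_pow, pow_right_comm b, hv, pow_right_comm y, ← hyq, pow_orderOf_eq_one, one_pow,
        one_mul]
    refine ⟨⟨y ^ u * b ^ v, ?_, by rw [e1, e2, hy]⟩, Subtype.ext e1⟩
    refine Nat.dvd_antisymm (orderOf_dvd_of_pow_eq_one ?_) (hco.mul_dvd_of_dvd_of_dvd ?_ ?_)
    · rw [pow_mul, e2, ← hb, pow_orderOf_eq_one]
    · have := orderOf_pow_dvd (x := y ^ u * b ^ v) m
      rwa [e1, hyq] at this
    · have := orderOf_pow_dvd (x := y ^ u * b ^ v) q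
      rwa [e2, hb] at this

/-- Let G be a finite group, p an odd prime dividing the order of G whose Sylow p-subgroups are not cyclic, and n = p^s·m with s > 1 and m coprime to p. Then the number of elements of G of order n is a multiple of p^s. -/
theorem result {G : Type*} [Group G] [Finite G] (p : ℕ) [Fact p.Prime] (hodd : p ≠ 2) (hpG : p ∣ Nat.card G)
    (P : Sylow p G) (hP : ¬ IsCyclic ↥(P : Subgroup G)) (s m : ℕ) (hs : 1 < s) (hm : Nat.Coprime p m) :
    p ^ s ∣ Nat.card {g : G // orderOf g = p ^ s * m} := by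
  obtain ⟨t, rfl⟩ : ∃ t, s = t + 2 := ⟨s - 2, by omega⟩
  have hp : p.Prime := Fact.out
  have hm0 : m ≠ 0 := by
    rintro rfl
    exact hp.one_lt.ne' (by simpa using hm)
  have hq0 : p ^ (t + 2) ≠ 0 := pow_ne_zero _ hp.ne_zero
  have hco : (p ^ (t + 2)).Coprime m := Nat.Coprime.pow_left _ hm
  let S : Set (G × Subgroup G) := {x | orderOf x.1 = m ∧ (IsCyclic x.2 ∧
    Nat.card x.2 = p ^ (t + 2)) ∧ x.2 ≤ centralizer {x.1}}
  rw [card_eq_mul_of_fiber _ (fun x => x ∈ S) (fun g => (g ^ p ^ (t + 2), zpowers (g ^ m)))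
    (k := (p ^ (t + 2)).totient) ?_ (fun x hx => card_fiber hco hx.1 hx.2.1.1 hx.2.1.2 hx.2.2)]
  swap
  · intro g hg
    refine ⟨?_, ⟨inferInstance, ?_⟩, ?_⟩
    · show orderOf (g ^ p ^ (t + 2)) = m
      rw [orderOf_pow' _ hq0, hg, Nat.gcd_mul_right_left, Nat.mul_div_cancel_left _ (Nat.pos_of_ne_zero hq0)]
    · show Nat.card (zpowers (g ^ m)) = _
      rw [Nat.card_zpowers, orderOf_pow' _ hm0, hg, Nat.gcd_mul_left_left,
        Nat.mul_div_cancel _ (Nat.pos_of_ne_zero hm0)]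
    · show zpowers (g ^ m) ≤ centralizer {g ^ p ^ (t + 2)}
      rw [zpowers_le, mem_centralizer_singleton_iff]
      exact (Commute.refl g).pow_pow _ _
  suffices h : p ∣ Nat.card S by
    rw [Nat.totient_prime_pow_succ hp, pow_succ p (t + 1), mul_assoc]
    exact Nat.mul_dvd_mul_left _ (Dvd.dvd.mul_left h _)
  let _ : MulAction G (G × Subgroup G) :=
    MulAction.compHom (G × Subgroup G) (MulAut.conj : G →* MulAut G)
  have hsm : ∀ (g : G) (x : G × Subgroup G), g • x = (g * x.1 * g⁻¹, x.2 ^ᶜ g) := fun g x => rfl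
  have h1 := Perm.Fx.card_modEq_card_fixed P.isPGroup' S (by
    rintro g - ⟨b, A⟩ ⟨h1, ⟨h2, h3⟩, h4⟩
    rw [hsm]
    refine ⟨?_, ⟨isCyclic_of_surjective _ (MonoidHom.subgroupMap_surjective _ A), by
          rw [card_map_of_injective (MulAut.conj g).injective, h3]⟩, ?_⟩
    · rw [← h1]; exact (MulAut.conj g).orderOf_eq b
    · rintro _ ⟨x, hx, rfl⟩
      have := mem_centralizer_singleton_iff.1 (h4 hx)
      rw [mem_centralizer_singleton_iff]
      show g * x * g⁻¹ * (g * b * g⁻¹) = g * b * g⁻¹ * (g * x * g⁻¹)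
      simp only [conj_mul]
      exact congrArg (fun y => g * y * g⁻¹) this)
  refine (h1.dvd_iff dvd_rfl).2 ?_
  refine dvd_card_of_fiber _ Prod.fst ?_
  rintro ⟨b, A0⟩ ⟨⟨hb, -⟩, hfix⟩
  have hbP : ∀ g ∈ (P : Subgroup G), g * b * g⁻¹ = b := fun g hg =>
    (Prod.ext_iff.1 (hfix g hg)).1
  convert miller_sub hodd P.isPGroup' hP t using 1
  refine Nat.card_congr (Equiv.ofBijective (fun y => ⟨y.1.2, ?_⟩) ⟨?_, ?_⟩)
  · obtain ⟨⟨b', A⟩, ⟨⟨h1, ⟨h2, h3⟩, h4⟩, h5⟩, h6⟩ := y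
    have hn : (P : Subgroup G) ≤ normalizer (A : Set G) := fun g hg =>
      map_conj_eq_self_iff.1 (Prod.ext_iff.1 (h5 g hg)).2
    refine ⟨⟨⟨h2, h3⟩, ?_⟩, hn⟩
    have hA : IsPGroup p A := IsPGroup.of_card h3
    have := P.is_maximal' (PG.isPGroup_sup_of_le_normalizer P.isPGroup' hA hn) le_sup_left
    exact le_sup_right.trans this.le
  · rintro ⟨⟨b1, A1⟩, h1, h2⟩ ⟨⟨b2, A2⟩, h3, h4⟩ e
    exact Subtype.ext (Prod.ext (h2.trans h4.symm) (congrArg Subtype.val e))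
  · rintro ⟨A, ⟨h1, h2⟩, h3⟩
    refine ⟨⟨(b, A), ⟨⟨hb, h1, fun g hg => ?_⟩, fun g hg => ?_⟩, rfl⟩, rfl⟩
    · rw [mem_centralizer_singleton_iff]
      exact mul_inv_eq_iff_eq_mul.1 (hbP g (h2 hg))
    · rw [hsm]
      exact Prod.ext (hbP g hg) (map_conj_eq_self_iff.2 (h3 hg))

end Cfsg.Agent.S4003
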