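import Mathlib
import Cfsg.Statements.S1916
import Cfsg.Agent.GW.Cons
import Cfsg.Agent.GT.TransferCocycle

set_option autoImplicit false
open Cfsg

namespace Cfsg.Agent.S1916

open Subgroup Cfsg.Agent.GW in
theorem no_pair {G : Type*} [Group G] [Finite G] {L : Subgroup G} {a : G}
    (ha : a ∈ normalizer (L : Set G))
    (h : ∀ R : Sylow 2 ↥(L ⊓ centralizer ({a} : Set G)), IsCyclic R) {u v : L} (hp : Pair u v)
    (hu : L.normalizerMonoidHom ⟨a, ha⟩ u = u) (hv : L.normalizerMonoidHom ⟨a, ha⟩ v = v) :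
    False := by
  have key : ∀ x : L, L.normalizerMonoidHom ⟨a, ha⟩ x = x →
      (x : G) ∈ L ⊓ centralizer ({a} : Set G) := fun x hx =>
    ⟨x.2, mem_centralizer_singleton_iff.2 (mul_inv_eq_iff_eq_mul.1 (congrArg Subtype.val hx)).symm⟩
  let u' : ↥(L ⊓ centralizer ({a} : Set G)) := ⟨u, key u hu⟩
  let v' : ↥(L ⊓ centralizer ({a} : Set G)) := ⟨v, key v hv⟩
  have h1 : orderOf u' = 2 := by rw [← orderOf_coe, orderOf_coe u, hp.ha]
  have h2 : orderOf v' = 2 := by rw [← orderOf_coe, orderOf_coe v, hp.hb]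
  have h3 : u' ≠ v' := fun e => hp.ne (Subtype.ext (congrArg (fun x => x.1) e))
  have h4 := Inv.card_closure_pair_of_commute h1 h2 h3
    (Subtype.ext (show (u : G) * v = v * u from congrArg Subtype.val hp.comm.eq))
  obtain ⟨R, hR⟩ := (IsPGroup.of_card (p := 2) (n := 2) h4).exists_le_sylow
  have := h R
  exact h3 (congrArg Subtype.val (GT.Tr.eq_of_sq_eq_one_of_isCyclic (A := R)
    ⟨u', hR (subset_closure (by simp))⟩ ⟨v', hR (subset_closure (by simp))⟩
    (Subtype.ext (h1 ▸ pow_orderOf_eq_one u')) (Subtype.ext (h2 ▸ pow_orderOf_eq_one v'))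
    (fun e => Inv.ne_one_of_two h1 (congrArg Subtype.val e))
    fun e => Inv.ne_one_of_two h2 (congrArg Subtype.val e)))

open Cfsg.Agent.GW in
theorem pair_map {X Y : Type*} [Group X] [Group Y] (e : X ≃* Y) {u v : X} (h : Pair u v) :
    Pair (e u) (e v) :=
  ⟨(e.orderOf_eq u).trans h.ha, (e.orderOf_eq v).trans h.hb, e.injective.ne h.ne, h.comm.map e⟩

open Subgroup Cfsg.Agent.GW Cfsg.Agent.Cl.L2

/-- Let L be a non-abelian simple subgroup of a finite group with dihedral Sylow 2-subgroups, and a, b two distinct commuting involutions normalizing L such that C_L(a) and C_L(b) have cyclic Sylow 2-subgroups and L is not contained in the subgroup generated by a, b, C_L(a) and C_L(b). Then ab centralizes L. -/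
theorem result {G : Type*} [Group G] [Finite G] (L : Subgroup G) (hL : IsSimpleGroup L) (hLn : ¬ IsMulCommutative L)
    (hD : ∀ P : Sylow 2 L, ∃ n : ℕ, Nonempty (↥(P : Subgroup L) ≃* DihedralGroup n))
    (a b : G) (ha : orderOf a = 2) (hb : orderOf b = 2) (hab : a ≠ b) (hc : a * b = b * a)
    (haL : a ∈ Subgroup.normalizer (L : Set G)) (hbL : b ∈ Subgroup.normalizer (L : Set G))
    (hCa : ∀ R : Sylow 2 ↥(L ⊓ Subgroup.centralizer ({a} : Set G)), IsCyclic R)
    (hCb : ∀ R : Sylow 2 ↥(L ⊓ Subgroup.centralizer ({b} : Set G)), IsCyclic R)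
    (hgen : ¬ L ≤ Subgroup.closure ({a, b} : Set G) ⊔ (L ⊓ Subgroup.centralizer ({a} : Set G)) ⊔ (L ⊓ Subgroup.centralizer ({b} : Set G))) :
    a * b ∈ Subgroup.centralizer (L : Set G) := by
  obtain ⟨S⟩ : Nonempty (Sylow 2 L) := inferInstance
  obtain ⟨n, ⟨eS⟩⟩ := hD S
  have hD' := dihSyl_of_simple hLn S eS
  have sq : ∀ {X : Type} [Group X] (e : L ≃* X) {a : G} (h : a ∈ normalizer (L : Set G)),
      orderOf a = 2 → MulAut.congr e (L.normalizerMonoidHom ⟨a, h⟩) *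
        MulAut.congr e (L.normalizerMonoidHom ⟨a, h⟩) = 1 := fun e a h h2 => by
    rw [← map_mul, ← map_mul, show (⟨a, h⟩ * ⟨a, h⟩ : normalizer (L : Set G)) = 1 from
      Subtype.ext (Inv.mul_self_of_two h2), map_one, map_one]
  have np : ∀ {X : Type} [Group X] (e : L ≃* X) {a : G} (h : a ∈ normalizer (L : Set G)),
      (∀ R : Sylow 2 ↥(L ⊓ centralizer ({a} : Set G)), IsCyclic R) → ¬ ∃ u v, Pair u v ∧
        MulAut.congr e (L.normalizerMonoidHom ⟨a, h⟩) u = u ∧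
        MulAut.congr e (L.normalizerMonoidHom ⟨a, h⟩) v = v := fun e a h hC ⟨u, v, p, h1, h2⟩ =>
    no_pair h hC (pair_map e.symm p) (e.eq_symm_apply.2 h1) (e.eq_symm_apply.2 h2)
  obtain ⟨F, _, _, h1, h3, ⟨e⟩⟩ | ⟨⟨e⟩⟩ := gw_simple hLn hD'
  swap
  · exact (np e haL hCa (aut_A7 (sq e haL ha))).elim
  rw [← Nat.card_eq_fintype_card] at h1 h3
  have h2 : (2 : F) ≠ 0 := two_ne_zero_iff_odd.2 (Nat.odd_iff.1 h1)
  obtain ⟨u, v, hp⟩ := hD'.exists_pair
  obtain ⟨α, α1, α2, hα⟩ := (aut_psl_cases h2 ⟨_, _, pair_map e hp⟩ (sq e haL ha)).resolve_left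
    (np e haL hCa)
  obtain ⟨β, β1, β2, hβ⟩ := (aut_psl_cases h2 ⟨_, _, pair_map e hp⟩ (sq e hbL hb)).resolve_left
    (np e hbL hCb)
  let ψ : L →* Matrix.ProjGenLinGroup (Fin 2) F := emb.comp e.toMonoidHom
  have hψ : Function.Injective ψ := emb_injective.comp e.injective
  have act : ∀ {a : G} (h : a ∈ normalizer (L : Set G)) {α},
      (∀ g, emb (MulAut.congr e (L.normalizerMonoidHom ⟨a, h⟩) g) = α * emb g * α⁻¹) →
      ∀ x : L, ψ (L.normalizerMonoidHom ⟨a, h⟩ x) = α * ψ x * α⁻¹ := fun h α hα x => by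
    simpa [ψ] using hα (e x)
  by_cases hne : α = β
  · refine mem_centralizer_iff.2 fun x hx => (mul_inv_eq_iff_eq_mul.1 ?_).symm
    have := act haL hα (L.normalizerMonoidHom ⟨b, hbL⟩ ⟨x, hx⟩)
    rw [act hbL hβ, ← hne, show α * (α * ψ ⟨x, hx⟩ * α⁻¹) * α⁻¹ =
      (α * α) * ψ ⟨x, hx⟩ * (α * α)⁻¹ by group, Inv.mul_self_of_two α2, one_mul, inv_one,
      mul_one] at this
    have := congrArg Subtype.val (hψ this)
    exact (by group : a * b * x * (a * b)⁻¹ = a * (b * x * b⁻¹) * a⁻¹).trans this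
  refine (hgen ?_).elim
  set H := closure ({a, b} : Set G) ⊔ (L ⊓ centralizer {a}) ⊔ (L ⊓ centralizer {b})
  have aH : a ∈ H := mem_sup_left (mem_sup_left (subset_closure (by simp)))
  have bH : b ∈ H := mem_sup_left (mem_sup_left (subset_closure (by simp)))
  set M := (H.subgroupOf L).map ψ
  have nor : ∀ {a : G} (h : a ∈ normalizer (L : Set G)) {α}, a ∈ H → α ∉ psl F → orderOf α = 2 →
      (∀ x : L, ψ (L.normalizerMonoidHom ⟨a, h⟩ x) = α * ψ x * α⁻¹) →
      L ⊓ centralizer {a} ≤ H → ntor α ⊓ psl F ≤ M ∧ ntor α ≤ normalizer (M : Set _) :=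
    fun {a} h α aH α1 α2 hα hH => by
    have k1 : ntor α ⊓ psl F ≤ M := fun g ⟨g1, g2⟩ => by
      obtain ⟨g, rfl⟩ := exists_emb_of_mem g2
      obtain ⟨x, rfl⟩ := e.surjective g
      have := hα x
      rw [show α * ψ x = ψ x * α from ((mem_ntor_iff_commute h2 α2).1 g1).eq.symm,
        mul_inv_cancel_right] at this
      exact ⟨x, hH ⟨x.2, mem_centralizer_singleton_iff.2
        (mul_inv_eq_iff_eq_mul.1 (congrArg Subtype.val (hψ this))).symm⟩, rfl⟩
    have k2 : α ∈ normalizer (M : Set _) := mem_normalizer_fintype (by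
      rintro _ ⟨x, hx, rfl⟩
      exact ⟨_, show a * x * a⁻¹ ∈ H from mul_mem (mul_mem aH hx) (inv_mem aH), hα x⟩)
    refine ⟨k1, fun g hg => ?_⟩
    by_cases e : g ∈ psl F
    · exact le_normalizer (k1 ⟨hg, e⟩)
    · exact (mul_mem_cancel_left k2).1 (le_normalizer (k1
        ⟨mul_mem (tor_le_ntor α (self_mem_tor α)) hg, mul_mem_psl_of_not_mem α1 e⟩))
  obtain ⟨k1, k2⟩ := nor haL aH α1 α2 (act haL hα) (le_sup_of_le_left le_sup_right)
  have k3 := (nor hbL bH β1 β2 (act hbL hβ) le_sup_right).2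
  have hN := normalizer_eq_top_iff.1 (eq_top_of_outer h2 h3 α2 β2 α1 hne k2 k3)
  have hN' := hN.comap ψ
  rw [comap_map_eq_self_of_injective hψ] at hN'
  refine subgroupOf_eq_top.1 (hN'.eq_bot_or_eq_top.resolve_left fun h => ?_)
  have ta := tau_ne_four_of_two h2 α2
  obtain ⟨n, hn, n1, n2⟩ := exists_mem_ntor_psl ta
  have := k1 ⟨n1, hn⟩
  rw [show M = ⊥ by simp only [M, h, Subgroup.map_bot]] at this
  exact n2 (mem_bot.1 this ▸ one_mem _)

end Cfsg.Agent.S1916
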