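import Mathlib
import Cfsg.Statements.S1921
import Cfsg.Agent.GT.Components
import Cfsg.Agent.GT.Conj
import Cfsg.Agent.GT.CoprimeBasic
import Cfsg.Agent.GT.TransferSylow

set_option autoImplicit false
open Cfsg

namespace Cfsg.Agent.S1921

open Subgroup Cfsg.Agent.GT

/-- Let a be an involution of a finite group H and L a component of H with a L a⁻¹ ≠ L; put M = ⟨L, aLa⁻¹⟩ and let J be the subgroup generated by the elements x · a x a⁻¹ with x ∈ L (the diagonal). Then every element of M outside J·Z(M) generates M together with J. -/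
theorem result {H : Type*} [Group H] [Finite H] (a : H) (ha : orderOf a = 2) (L : Subgroup H) (hL : Cfsg.IsComponent L)
    (hLa : L.map (MulAut.conj a).toMonoidHom ≠ L) (x : H) (hxM : x ∈ L ⊔ L.map (MulAut.conj a).toMonoidHom)
    (hxJ : x ∉ Subgroup.closure {y : H | ∃ l ∈ L, y = l * (a * l * a⁻¹)} ⊔
      ((L ⊔ L.map (MulAut.conj a).toMonoidHom) ⊓ Subgroup.centralizer ((L ⊔ L.map (MulAut.conj a).toMonoidHom : Subgroup H) : Set H))) :
    Subgroup.closure {y : H | ∃ l ∈ L, y = l * (a * l * a⁻¹)} ⊔ Subgroup.zpowers x = L ⊔ L.map (MulAut.conj a).toMonoidHom := by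
  set L' := L.map (MulAut.conj a).toMonoidHom with hL'def
  set J := Subgroup.closure {y : H | ∃ l ∈ L, y = l * (a * l * a⁻¹)} with hJ
  have hL' : IsComponent L' := hL.map_conj a
  have hc : L' ≤ centralizer (L : Set H) := hL'.le_centralizer_of_ne hL hLa
  have hmem : ∀ l ∈ L, a * l * a⁻¹ ∈ L' := fun l hl => Tr.conj_mem_map_conj.2 hl
  have hj : ∀ l ∈ L, l * (a * l * a⁻¹) ∈ J := fun l hl => subset_closure ⟨l, hl, rfl⟩
  have hJM : J ≤ L ⊔ L' := by
    rw [hJ, closure_le]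
    rintro _ ⟨l, hl, rfl⟩
    exact mul_mem (mem_sup_left hl) (mem_sup_right (hmem l hl))
  refine le_antisymm (sup_le hJM (zpowers_le.2 hxM)) ?_
  set K := J ⊔ zpowers x with hK
  have hn : L ≤ normalizer ((K ⊓ L : Subgroup H) : Set H) := by
    intro l hl
    apply Tr.mem_normalizer_of_conj_mem
    intro y hy
    refine ⟨?_, L.mul_mem (L.mul_mem hl hy.2) (L.inv_mem hl)⟩
    have h1 : y * (a * l * a⁻¹) = (a * l * a⁻¹) * y := hc (hmem l hl) y hy.2
    have h2 : l * y * l⁻¹ = (l * (a * l * a⁻¹)) * y * (l * (a * l * a⁻¹))⁻¹ := by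
      rw [mul_assoc l (a * l * a⁻¹) y, ← h1]; group
    rw [h2]
    have := (le_sup_left : J ≤ K) (hj l hl)
    exact K.mul_mem (K.mul_mem this hy.1) (K.inv_mem this)
  rcases hL.le_or_le_centralizer_of_le_normalizer hn with h | h
  · have hLK : L ≤ K := h.trans inf_le_left
    refine sup_le hLK ?_
    rintro _ ⟨l, hl, rfl⟩
    have : (MulAut.conj a).toMonoidHom l = l⁻¹ * (l * (a * l * a⁻¹)) := by simp
    rw [this]
    exact mul_mem (inv_mem (hLK hl)) ((le_sup_left : J ≤ K) (hj l hl))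
  · exfalso
    apply hxJ
    obtain ⟨l₁, h₁, _, ⟨l₂, h₂, rfl⟩, hx⟩ :=
      (CopAct.mem_sup_iff_of_le_normalizer (hc.trans (centralizer_le_normalizer _))).1 hxM
    have hx' : x = (l₁ * l₂⁻¹) * (l₂ * (a * l₂ * a⁻¹)) := by rw [← hx]; simp [mul_assoc]
    have hyL : l₁ * l₂⁻¹ ∈ L := mul_mem h₁ (inv_mem h₂)
    have hyK : l₁ * l₂⁻¹ ∈ K := by
      have : l₁ * l₂⁻¹ = x * (l₂ * (a * l₂ * a⁻¹))⁻¹ := by rw [hx']; group
      rw [this]
      exact mul_mem (mem_sup_right (mem_zpowers x)) (inv_mem (mem_sup_left (hj l₂ h₂)))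
    rw [hx']
    refine mul_mem (mem_sup_right ⟨mem_sup_left hyL, ?_⟩) (mem_sup_left (hj l₂ h₂))
    rw [centralizer_sup]
    exact ⟨le_centralizer_iff.1 h ⟨hyK, hyL⟩, le_centralizer_iff.1 hc hyL⟩

end Cfsg.Agent.S1921
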