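import Mathlib
import Cfsg.Statements.S1922
import Cfsg.Agent.GT.Conj
import Cfsg.Agent.Inv.Basic
import Cfsg.Agent.Inv.SylowElt
import Cfsg.Agent.FG.ClassCount
-- import your own Cfsg.Agent.* helpers here

set_option autoImplicit false
open Cfsg

namespace Cfsg.Agent.S1922

open Subgroup Cfsg.Agent.GT Cfsg.Agent.Inv

theorem odd_card {α : Type*} [Finite α] {f : α → α} (hf : ∀ a, f (f a) = a) {a : α}
    (h1 : f a = a) (h2 : ∀ b, f b = b → b = a) : Odd (Nat.card α) := by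
  classical
  have := Fintype.ofFinite α
  have h := Equiv.Perm.card_fixedPoints_modEq (f := (f : Function.End α)) (p := 2) (n := 1)
    (funext hf)
  rw [Nat.card_eq_fintype_card, Nat.odd_iff]
  exact h.trans (congrArg (· % 2)
    (Fintype.card_eq_one_iff.2 ⟨⟨a, h1⟩, fun b => Subtype.ext (h2 b b.2)⟩))

variable {G Ω : Type*} [Group G] [MulAction G Ω]

/-- at most one fixed point -/
def U (Ω : Type*) [MulAction G Ω] (x : G) : Prop := ∀ a b : Ω, x • a = a → x • b = b → a = b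

theorem U.conj {x : G} (h : U Ω x) (g : G) : U Ω (g * x * g⁻¹) := fun a b ha hb => by
  refine MulAction.injective g⁻¹ (h _ _ ?_ ?_) <;>
    rwa [← mul_smul, eq_inv_smul_iff, ← mul_smul, ← mul_assoc]

theorem U.comm {x c : G} (h : U Ω x) {a : Ω} (ha : x • a = a) (hc : Commute x c) : c • a = a :=
  h _ _ (by rw [← mul_smul, hc.eq, mul_smul, ha]) ha

theorem isConj_pow_mul {d e : G} (hd : d * d = 1) (he : e * e = 1) (n : ℤ) :
    IsConj d ((d * e) ^ n * d) ∨ IsConj e ((d * e) ^ n * d) := by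
  obtain ⟨j, rfl | rfl⟩ := Int.even_or_odd' n
  · refine Or.inl (isConj_iff.2 ⟨(d * e) ^ j, ?_⟩)
    rw [mul_assoc, ← zpow_neg, mul_zpow_of_inverts (left_inverts_mul hd he), neg_neg, ← mul_assoc,
      ← zpow_add, two_mul]
  · refine Or.inr (isConj_iff.2 ⟨(d * e) ^ (j + 1), ?_⟩)
    rw [mul_assoc, ← zpow_neg, mul_zpow_of_inverts (right_inverts_mul hd he), neg_neg, ← mul_assoc,
      ← zpow_add, show j + 1 + (j + 1) = 2 * j + 1 + 1 by ring, zpow_add_one, mul_assoc _ _ e,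
      mul_mul_cancel_of_mul_self' he]

variable [Finite G] {z : G} (hz : z * z = 1) (h0 : U Ω z)
  (h1 : ∀ t, IsConj z t → t ≠ z → t * z = z * t → U Ω (z * t))
include hz h0 h1

omit [Finite G] h0 h1 in
theorem sq {d : G} (hd : IsConj z d) : d * d = 1 := by
  obtain ⟨g, rfl⟩ := isConj_iff.1 hd
  rw [conj_mul, hz, mul_one, mul_inv_cancel]

omit [Finite G] hz h1 in
theorem U_of {d : G} (hd : IsConj z d) : U Ω d := by
  obtain ⟨g, rfl⟩ := isConj_iff.1 hd
  exact h0.conj g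

omit [Finite G] hz h0 in
theorem U_mul {d e : G} (hd : IsConj z d) (he : IsConj z e) (hne : e ≠ d) (hc : e * d = d * e) :
    U Ω (d * e) := by
  obtain ⟨g, rfl⟩ := isConj_iff.1 hd
  have := (h1 (g⁻¹ * e * g) (he.trans (isConj_conj_inv g e)) (fun h => hne (by rw [← h]; group))
    (by rw [show g⁻¹ * e * g * z = g⁻¹ * (e * (g * z * g⁻¹)) * g by group, hc]; group)).conj g
  rwa [show g * (z * (g⁻¹ * e * g)) * g⁻¹ = g * z * g⁻¹ * e by group] at this

omit h0 in
theorem odd_or {d e : G} (hd : IsConj z d) (he : IsConj z e) : Odd (orderOf (d * e)) ∨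
    ∃ w ∈ zpowers (d * e), Commute d w ∧ Commute e w ∧ U Ω w := by
  rcases conj_or_central_involution (sq hz hd) (sq hz he) with ⟨-, -, h, -⟩ | ⟨w, hw, h2, h3, h4⟩
  · exact Or.inl h
  refine Or.inr ⟨w, hw, h3.symm, h4.symm, ?_⟩
  obtain ⟨n, rfl⟩ := hw
  have := U_mul h1 hd ((isConj_pow_mul (sq hz hd) (sq hz he) n).elim hd.trans he.trans)
    (fun e => ne_one_of_two h2 (by simpa using e)) (by rw [← mul_assoc d, ← h3.eq])
  rwa [← mul_assoc, ← h3.eq, mul_mul_cancel_of_mul_self' (sq hz hd)] at this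

theorem exists_swap {a b : Ω} (hab : a ≠ b) {d s : G} (hd : IsConj z d) (hs : IsConj z s)
    (hda : d • a = a) (hsb : s • b = b) : ∃ v, IsConj z v ∧ v • a = b ∧ v * d * v⁻¹ = s ∧
      ∀ c, Commute d c → Commute s c → Commute v c := by
  have ho := (odd_or hz h1 hd hs).resolve_right fun ⟨w, _, h2, h3, h4⟩ =>
    hab (h4 _ _ ((U_of h0 hd).comm hda h2) ((U_of h0 hs).comm hsb h3))
  obtain ⟨k, hk, e⟩ := exists_conj_of_odd (sq hz hd) (sq hz hs) ho
  obtain ⟨m, -, e'⟩ := exists_conj_eq_mul_of_inverts_odd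
    (inverts_of_mem_zpowers (left_inverts_mul (sq hz hd) (sq hz hs)) hk)
    (ho.of_dvd_nat (orderOf_dvd_of_mem_zpowers hk))
  refine ⟨k * d, e' ▸ hd.trans (isConj_conj m d), U_of h0 hs _ _ ?_ hsb, by rw [← e]; group,
    fun c h2 h3 => Commute.mul_left ?_ h2⟩
  · rw [← e, mul_smul k d a, hda, ← mul_smul, inv_mul_cancel_right, mul_smul, hda]
  · obtain ⟨n, rfl⟩ := hk
    exact (h2.mul_left h3).zpow_left n

theorem odd_fix {a b : Ω} (hab : a ≠ b) (hza : z • a = a) {s : G} (hs : IsConj z s)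
    (hsb : s • b = b) : Odd (Nat.card {d : G // IsConj z d ∧ d • a = a}) := by
  have hsw : ∀ v, IsConj z v → v • a = b → v • b = a := fun v hv h => by
    rw [← h, ← mul_smul, sq hz hv, one_smul]
  have hfix : ∀ v v', IsConj z v → IsConj z v' → v • a = b → v' • a = b →
      ∀ w ∈ zpowers (v * v'), ¬ U Ω w := fun v v' hv hv' h h' w hw hU => by
    have h2 : ∀ c : Ω, (v * v') • c = c → w • c = c := fun c hc =>
      (zpowers_le.2 (show v * v' ∈ MulAction.stabilizer G c from hc)) hw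
    exact hab (hU _ _ (h2 a (by rw [mul_smul, h', hsw v hv h]))
      (h2 b (by rw [mul_smul, hsw v' hv' h', h])))
  have hkey : ∀ u, IsConj z u → u • a = a → ∃ v, IsConj z v ∧ v • a = b ∧ v * u * v⁻¹ = s ∧
      ∀ v', IsConj z v' → v' • a = b → v' * u * v'⁻¹ = s → v' = v := fun u hu hua => by
    obtain ⟨v, hv, h2, h3, h4⟩ := exists_swap hz h0 h1 hab hu hs hua hsb
    refine ⟨v, hv, h2, h3, fun v' hv' h5 h6 => ?_⟩
    have ho := (odd_or hz h1 hv' hv).resolve_right fun ⟨w, hw, _, _, hU⟩ =>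
      hfix _ _ hv' hv h5 h2 w hw hU
    have e := inv_of_mul_self (sq hz hv)
    have e' := inv_of_mul_self (sq hz hv')
    have h7 : Commute u (v'⁻¹ * v) := by
      rw [Commute, SemiconjBy, show v'⁻¹ * v * u = v'⁻¹ * (v * u * v⁻¹) * v by group, h3, ← h6]
      group
    have h8 : Commute s (v' * v⁻¹) := by
      rw [Commute, SemiconjBy]
      nth_rewrite 1 [← h6]
      rw [← h3]
      group
    rw [e'] at h7
    rw [e] at h8
    have h9 := right_inverts_mul (sq hz hv') (sq hz hv)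
    rw [(h4 _ h7 h8).eq, mul_inv_cancel_right] at h9
    have h10 := orderOf_eq_one_iff.1 ((Nat.coprime_two_right.2 ho).eq_one_of_dvd
      (orderOf_dvd_of_pow_eq_one (by rw [pow_two]; exact mul_eq_one_iff_eq_inv.2 h9)))
    rw [eq_inv_of_mul_eq_one_left h10, e]
  let f : {v : G // IsConj z v ∧ v • a = b} → {d : G // IsConj z d ∧ d • a = a} := fun v =>
    ⟨v.1⁻¹ * s * v.1, hs.trans (isConj_conj_inv _ _), by
      rw [mul_smul, mul_smul, v.2.2, hsb, inv_smul_eq_iff, v.2.2]⟩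
  have hf : Function.Bijective f := ⟨fun v v' e => by
    obtain ⟨w, -, -, -, hw⟩ := hkey _ (f v).2.1 (f v).2.2
    refine Subtype.ext ((hw _ v.2.1 v.2.2 (by simp [f, mul_assoc])).trans
      (hw _ v'.2.1 v'.2.2 (by rw [e]; simp [f, mul_assoc])).symm), fun u => by
    obtain ⟨v, hv, h2, h3, -⟩ := hkey _ u.2.1 u.2.2
    exact ⟨⟨v, hv, h2⟩, Subtype.ext (by simp [f, ← h3, mul_assoc])⟩⟩
  rw [← Nat.card_eq_of_bijective f hf]
  obtain ⟨v, hv, h2, -⟩ := hkey z (IsConj.refl z) hza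
  have e := inv_of_mul_self (sq hz hv)
  refine odd_card (f := fun w => ⟨v * w.1 * v⁻¹, w.2.1.trans (isConj_conj _ _), by
    rw [e, mul_smul, mul_smul, h2, hsw _ w.2.1 w.2.2, h2]⟩) (fun w => Subtype.ext ?_)
    (a := ⟨v, hv, h2⟩) (Subtype.ext (mul_inv_cancel_right _ _)) fun w hw => Subtype.ext ?_
  · simp only [← mul_assoc, sq hz hv, one_mul]
    rw [e, mul_mul_cancel_of_mul_self' (sq hz hv)]
  · by_contra h3
    exact hfix _ _ hv w.2.1 h2 w.2.2 _ (mem_zpowers _)
      (U_mul h1 hv w.2.1 h3 (mul_inv_eq_iff_eq_mul.1 (congrArg Subtype.val hw)).symm)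

omit hz h0 h1


/-- Let z be an involution of a finite group G and H a proper subgroup such that z lies in gHg⁻¹ exactly when g ∈ H. Then the following are equivalent: (1) for every conjugate t ≠ z of z commuting with z, the product zt lies in gHg⁻¹ exactly when g ∈ H; (2) z lies in the centre of some Sylow 2-subgroup of G, and for every conjugate t ≠ z of z commuting with z, the centralizer of zt is contained in H. -/
theorem result {G : Type*} [Group G] [Finite G] (z : G) (hz : orderOf z = 2) (H : Subgroup G) (hH : H ≠ ⊤)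
    (h0 : ∀ g : G, z ∈ H.map (MulAut.conj g).toMonoidHom ↔ g ∈ H) :
    (∀ t : G, IsConj z t → t ≠ z → t * z = z * t → ∀ g : G, z * t ∈ H.map (MulAut.conj g).toMonoidHom ↔ g ∈ H) ↔
      ((∃ P : Sylow 2 G, z ∈ (Subgroup.center ↥(P : Subgroup G)).map (P : Subgroup G).subtype) ∧
        ∀ t : G, IsConj z t → t ≠ z → t * z = z * t → Subgroup.centralizer ({z * t} : Set G) ≤ H) := by
  have hz2 := mul_self_of_two hz
  have hfix : ∀ x g : G, x • (g : G ⧸ H) = g ↔ x ∈ H.map (MulAut.conj g).toMonoidHom :=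
    fun x g => by
      rw [mem_map_conj, MulAction.Quotient.smul_mk, eq_comm, QuotientGroup.eq, smul_eq_mul,
        mul_assoc]
  have hfix1 : ∀ x : G, x • ((1 : G) : G ⧸ H) = (1 : G) ↔ x ∈ H := fun x => by
    rw [hfix, map_conj_one]
  have hU : ∀ x : G, (∀ g : G, x ∈ H.map (MulAut.conj g).toMonoidHom → g ∈ H) →
      U (G ⧸ H) x := fun x h a b ha hb => by
    obtain ⟨a, rfl⟩ := QuotientGroup.mk_surjective a
    obtain ⟨b, rfl⟩ := QuotientGroup.mk_surjective b
    exact QuotientGroup.eq.2 (mul_mem (inv_mem (h a ((hfix _ _).1 ha))) (h b ((hfix _ _).1 hb)))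
  have hzH : z ∈ H := by simpa [map_conj_one] using (h0 1).2 (one_mem _)
  have hC : ∀ x ∈ H, (∀ g : G, x ∈ H.map (MulAut.conj g).toMonoidHom → g ∈ H) →
      centralizer ({x} : Set G) ≤ H := fun x hx h c hc => h c (mem_map_conj.2 (by
    rwa [mul_assoc, ← mem_centralizer_singleton_iff.1 hc, inv_mul_cancel_left]))
  have hCz := hC z hzH fun g => (h0 g).1
  have hzt : ∀ t, t * z = z * t → z * t ∈ H := fun t h =>
    mul_mem hzH (hCz (mem_centralizer_singleton_iff.2 h))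
  refine ⟨fun h1 => ⟨?_, fun t ht hne hc => hC _ (hzt t hc) fun g => (h1 t ht hne hc g).1⟩,
    fun ⟨⟨P, hP⟩, h2⟩ t ht hne hc g => ⟨fun hg => ?_, fun hg => ?_⟩⟩
  · obtain ⟨g, hg⟩ : ∃ g, g ∉ H := by
      by_contra! hc
      exact hH (eq_top_iff.2 fun g _ => hc g)
    have hU0 := hU z fun g => (h0 g).1
    have h2 := odd_fix hz2 hU0 (fun t ht hne hc => hU _ fun g => (h1 t ht hne hc g).1)
      (a := ((1 : G) : G ⧸ H)) (b := (g : G ⧸ H))
      (fun e => hg (by simpa using QuotientGroup.eq.1 e)) ((hfix1 z).2 hzH) (isConj_conj g z)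
      ((hfix _ _).2 (conj_mem_map_conj.2 hzH))
    have h3 : {d : G | IsConj z d ∧ d • ((1 : G) : G ⧸ H) = (1 : G)} =
        {y | ∃ h ∈ H, h * z * h⁻¹ = y} := by
      ext d
      simp only [Set.mem_ofPred_eq, hfix1, isConj_iff]
      exact ⟨fun ⟨⟨c, hc⟩, hd⟩ => ⟨c, (inv_mem_iff (x := c)).1 ((h0 c⁻¹).1
        (mem_map_conj_inv.2 (hc ▸ hd))), hc⟩,
        fun ⟨c, hc, e⟩ => ⟨⟨c, e⟩, e ▸ mul_mem (mul_mem hc hzH) (inv_mem hc)⟩⟩
    change Odd {d : G | IsConj z d ∧ d • ((1 : G) : G ⧸ H) = (1 : G)}.ncard at h2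
    rw [h3, FG.ncard_conj_orbit_subgroup] at h2
    have h4 : Odd H.index := odd_card (f := fun a : G ⧸ H => z • a)
      (fun a => by rw [← mul_smul, hz2, one_smul]) ((hfix1 z).2 hzH)
      fun b hb => hU0 _ _ hb ((hfix1 z).2 hzH)
    have h5 := h2.mul h4
    rw [relIndex_mul_index hCz] at h5
    obtain ⟨Q, hQ⟩ := (IsPGroup.of_card (n := 1) (G := zpowers
      (⟨z, mem_centralizer_singleton_iff.2 rfl⟩ : centralizer ({z} : Set G))) (p := 2) (by
        rw [Nat.card_zpowers, Subgroup.orderOf_mk, hz, pow_one])).exists_le_sylow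
    refine ⟨(Q.isPGroup'.map (centralizer ({z} : Set G)).subtype).toSylow (by
      rw [index_map_subtype]
      exact fun e => ((Nat.Prime.dvd_mul Nat.prime_two).1 e).elim Q.not_dvd_index
        (Nat.two_dvd_ne_zero.2 (Nat.odd_iff.1 h5))), ?_⟩
    rw [GT.map_center_subtype, IsPGroup.toSylow_coe]
    exact ⟨⟨_, hQ (mem_zpowers _), rfl⟩, le_centralizer_singleton_iff.1 (map_subtype_le _)⟩
  · rw [GT.map_center_subtype] at hP
    have hPH : (P : Subgroup G) ≤ H := (le_centralizer_singleton_iff.2 hP.2).trans hCz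
    have h3 : (g⁻¹ * (z * t) * g) * (g⁻¹ * (z * t) * g) = 1 := by
      rw [show (g⁻¹ * (z * t) * g) * (g⁻¹ * (z * t) * g) = g⁻¹ * (z * (t * z) * t) * g by group, hc,
        mul_mul_cancel_of_mul_self hz2, sq hz2 ht, mul_one, inv_mul_cancel]
    obtain ⟨k, -, hk⟩ := (Nat.dvd_prime_pow Nat.prime_two).1
      (orderOf_dvd_of_pow_eq_one (n := 2 ^ 1) ((pow_two _).trans h3))
    obtain ⟨c, hcH, h4⟩ := exists_conj_mem_sylow_of_le (IsPGroup.of_card
      ((Nat.card_zpowers _).trans hk)) (zpowers_le.2 (mem_map_conj.1 hg)) P hPH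
    have h5 := h2 t ht hne hc (mem_centralizer_singleton_iff.2 (show (c * g⁻¹)⁻¹ * z * (c * g⁻¹) *
      (z * t) = z * t * ((c * g⁻¹)⁻¹ * z * (c * g⁻¹)) by
        rw [show z * t * ((c * g⁻¹)⁻¹ * z * (c * g⁻¹)) = (c * g⁻¹)⁻¹ *
          (c * (g⁻¹ * (z * t) * g) * c⁻¹ * z) * (c * g⁻¹) by group, hP.2 _ (h4 _ (mem_zpowers _))]
        group))
    exact (inv_mem_iff (x := g)).1 ((mul_mem_cancel_left hcH).1 ((h0 _).1 (mem_map_conj.2 h5)))
  · exact mem_map_conj.2 (mul_mem (mul_mem (inv_mem hg) (hzt t hc)) hg)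

end Cfsg.Agent.S1922
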