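import Mathlib
-- Template for statement S1923 (row 1923; see /opt/grader/pristine/manifest.json for weights).
-- Copy to Cfsg/Agent/S1923.lean and replace the sorry. The statement below is byte-identical to the frozen
-- statement Cfsg.CfsgFrozen.S1923 (Cfsg/Statements/S1923.lean; the theorem Cfsg.lsp3_a_simple_signalizer_characterization);
-- the grader kernel-checks Cfsg.Agent.S1923.result against that frozen type. Keep the theorem IN THIS FILE
-- (a `result` declared elsewhere and merely imported here is not credited); helpers may live anywhere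
-- under Cfsg/Agent/.
import Cfsg.Statements.S1923
import Cfsg.Agent.McB.Glue
import Cfsg.Agent.McB.KI
import Cfsg.Agent.McB.KPi
import Cfsg.Agent.Inv.KGroup

set_option autoImplicit false
open Cfsg

namespace Cfsg.Agent.S1923

/-- Let r be a prime and let A and G be subgroups of a finite group X with G nontrivial and A normalizing G, A an elementary abelian r-group of order at least r³. For each nontrivial a ∈ A let θ(a) be an A-invariant subgroup of C_G(a) of order prime to r such that: (a) whenever the layer E(θ(a)) is nontrivial, it is a non-abelian group whose only A-invariant normal subgroups are 1 and itself, all of its non-abelian simple sections are known simple groups, the Fitting subgroup of θ(a) is trivial, and C_A(E(θ(a))) = ⟨a⟩; (b) for all nontrivial a, b ∈ A, θ(a) ∩ C_G(b) ≤ θ(b) and E(E(θ(a)) ∩ C_G(b)) ≤ E(θ(b)); (c) G is generated by the subgroups E(θ(a)). Then G has order prime to r, G is non-abelian with no A-invariant normal subgroups other than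 1 and G, every non-abelian simple section of G is a known simple group, and C_G(a) = θ(a) for every nontrivial a ∈ A. -/
theorem result {X : Type*} [Group X] [Finite X] {r : ℕ} [Fact r.Prime] (A G : Subgroup X) (hG : G ≠ ⊥) (hAG : A ≤ Subgroup.normalizer (G : Set X))
    (hA : Cfsg.IsElementaryAbelian r A) (hrank : r ^ 3 ≤ Nat.card A)
    (θ : X → Subgroup X)
    (hθ : ∀ a ∈ A, a ≠ 1 → θ a ≤ G ⊓ Subgroup.centralizer ({a} : Set X) ∧ A ≤ Subgroup.normalizer ((θ a : Subgroup X) : Set X) ∧ (Nat.card ↥(θ a)).Coprime r)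
    (hE : ∀ a ∈ A, a ≠ 1 → Cfsg.layer ↥(θ a) ≠ ⊥ →
      ¬ IsMulCommutative ↥((Cfsg.layer ↥(θ a)).map (θ a).subtype) ∧
      (∀ N : Subgroup X, N ≤ (Cfsg.layer ↥(θ a)).map (θ a).subtype → (N.subgroupOf ((Cfsg.layer ↥(θ a)).map (θ a).subtype)).Normal →
         A ≤ Subgroup.normalizer (N : Set X) → N = ⊥ ∨ N = (Cfsg.layer ↥(θ a)).map (θ a).subtype) ∧
      Cfsg.IsKGroup ↥((Cfsg.layer ↥(θ a)).map (θ a).subtype) ∧
      Cfsg.fittingSubgroup ↥(θ a) = ⊥ ∧
      A ⊓ Subgroup.centralizer (((Cfsg.layer ↥(θ a)).map (θ a).subtype : Subgroup X) : Set X) = Subgroup.zpowers a)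
    (hbal : ∀ a ∈ A, ∀ b ∈ A, a ≠ 1 → b ≠ 1 →
      θ a ⊓ Subgroup.centralizer ({b} : Set X) ≤ θ b ∧
      (Cfsg.layer ↥((Cfsg.layer ↥(θ a)).map (θ a).subtype ⊓ Subgroup.centralizer ({b} : Set X))).map
          ((Cfsg.layer ↥(θ a)).map (θ a).subtype ⊓ Subgroup.centralizer ({b} : Set X)).subtype ≤ (Cfsg.layer ↥(θ b)).map (θ b).subtype)
    (hgen : G = ⨆ a : {a : X // a ∈ A ∧ a ≠ 1}, (Cfsg.layer ↥(θ a.1)).map (θ a.1).subtype) :
    (Nat.card G).Coprime r ∧ ¬ IsMulCommutative ↥G ∧
    (∀ N : Subgroup X, N ≤ G → (N.subgroupOf G).Normal → A ≤ Subgroup.normalizer (N : Set X) → N = ⊥ ∨ N = G) ∧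
    Cfsg.IsKGroup ↥G ∧ ∀ a ∈ A, a ≠ 1 → G ⊓ Subgroup.centralizer ({a} : Set X) = θ a := by
  have hr : r.Prime := Fact.out
  have hk : ∀ a ∈ A, a ≠ 1 → ∀ K : Subgroup X, IsComponentOf K (θ a) → IsKGroup K :=
    fun a ha h1 K hK => Inv.KG.isKGroup_of_le (hE a ha h1 fun e => hK.ne_bot (eq_bot_iff.2
      (hK.le_subgroupLayer.trans (GT.subgroupLayer_eq_bot_iff.2 e).le))).2.2.1 hK.le_subgroupLayer
  obtain ⟨h1, h2, h3, h4, a, ha, h5, K, hK, -, ι, _, f, hf⟩ := McB.glue_core A G hG hAG hA hrank θ hθ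
    (fun a ha h1 e =>
      have e' := hE a ha h1 fun e' => e (GT.subgroupLayer_eq_bot_iff.2 e')
      ⟨fun N hN h2 h3 => e'.2.1 N hN ((Subgroup.normal_subgroupOf_iff_le_normalizer hN).2 h2) h3,
        e'.2.2.2⟩)
    (fun a ha h1 K hK hs =>
      have hn : ¬ IsMulCommutative K := hK.isQuasisimple.not_isMulCommutative
      McB.kok_known hn (Inv.KG.known_of_isKGroup (hk a ha h1 K hK) hn) hr fun d =>
        hr.coprime_iff_not_dvd.1 (hθ a ha h1).2.2.symm (d.trans (Subgroup.card_dvd_of_le hK.le)))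
    hbal hgen
  exact ⟨h1, h2, fun N hN h6 => h3 N hN ((Subgroup.normal_subgroupOf_iff_le_normalizer hN).1 h6),
    Inv.KG.isKGroup_of_injective (McB.isKGroup_pi (hk a ha h5 K hK) ι) f hf, h4⟩

end Cfsg.Agent.S1923
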