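import Mathlib
import Cfsg.Statements.S1930
import Cfsg.Agent.Flav.KInf
import Cfsg.Agent.GT.FStar
import Cfsg.Agent.GT.CoprimeGen
import Cfsg.Agent.GT.CoprimeProd

set_option autoImplicit false
open Cfsg

namespace Cfsg.Agent.S1930

open Subgroup Cfsg.Agent.GT Cfsg.Agent.Loc.Mss Cfsg.Agent.Flav

universe u

theorem main {X : Type u} [Group X] [Finite X] {G R P : Subgroup X} {p : ℕ} [Fact p.Prime]
    (hp : 5 ≤ p) (h : EqP p G R P) (hO : pCoreOf p G ≤ P) (hG : pCoreOf p G ≠ ⊥)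
    (hC : G ⊓ 𝐂[pCoreOf p G] ≤ pCoreOf p G) :
    ∃ C : Subgroup ↥P, C.Characteristic ∧ C ≠ ⊥ ∧ G ≤ 𝐍[C.map P.subtype] := by
  refine ⟨kInfUpper P, ?_, fun h0 => ?_, h.kInf_normal hp hO h.le le_rfl le_normalizer h.ay
    fun g hg h1 h2 => ?_⟩
  · exact characteristic_iff_map_eq.2 fun e => (Loc.CF.map_kInf_equiv e).2
  · have := h.pg.isNilpotent
    have h1 := Loc.CF.centralizer_kInfUpper_le (P := P)
    rw [h0, centralizer_bot, top_le_iff, eq_comm] at h1
    exact hG (eq_bot_iff.2 (hO.trans (by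
      rw [← map_subtype_top P, h1, Subgroup.map_bot])))
  · rw [Tr.eq_one_of_coprime_of_isPGroup (pg_core G) (hC ⟨hg, h2⟩) h1]
    exact one_mem _


/-- Inside a finite group let G be a nontrivial subgroup and R an r-subgroup (r a prime) normalizing G, with the order of G prime to r. Let p > 3 be a prime with F*(G) = O_p(G), and let P be the intersection of all R-invariant Sylow p-subgroups of G. Then P has a nontrivial characteristic subgroup that is normalized by G. -/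
theorem result {X : Type*} [Group X] [Finite X] (G R : Subgroup X) (r : ℕ) [Fact r.Prime] (hR : IsPGroup r ↥R) (hcop : (Nat.card ↥G).Coprime r) (hnorm : R ≤ Subgroup.normalizer (G : Set X)) (hG : G ≠ ⊥) (p : ℕ) [Fact p.Prime] (hp : 3 < p) (hF : Cfsg.generalizedFittingSubgroup ↥G = Cfsg.pCore p ↥G) (P : Subgroup X) (hP : P = ⨅ S : {S : Sylow p ↥G // ∀ a ∈ R, ((S : Subgroup ↥G).map G.subtype).map (MulAut.conj a).toMonoidHom = (S : Subgroup ↥G).map G.subtype}, ((S : Sylow p ↥G) : Subgroup ↥G).map G.subtype) : ∃ C : Subgroup ↥P, C.Characteristic ∧ C ≠ ⊥ ∧ G ≤ Subgroup.normalizer ((C.map P.subtype : Subgroup X) : Set X) := by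
  have hp5 : 5 ≤ p := by
    have := (Fact.out : p.Prime)
    by_contra h
    obtain rfl : p = 4 := by omega
    exact absurd this (by norm_num)
  have hS : ∀ x, x ∈ P ↔ ∀ S, Syl p S G → R ≤ 𝐍[S] → x ∈ S := fun x => by
    rw [hP, mem_iInf]
    refine ⟨fun h S h1 h2 => ?_, fun h S => h _ (Syl.of_sylow_sub S.1) fun a ha =>
      mem_norm_of_cj_le (S.2 a ha).le⟩
    obtain ⟨T, -, rfl⟩ := h1.exists_sylow
    exact h ⟨T, fun a ha => cj_of_norm (h2 ha)⟩
  have hc : (Nat.card R).Coprime (Nat.card G) := (CopAct.coprime_of_isPGroup_right hcop hR).symm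
  have hs : Group.IsSolvable R := have := hR.isNilpotent; inferInstance
  obtain ⟨S, h1, h2, h3, h4⟩ := CopAct.exists_invariant_sylowIn hnorm hc (Or.inl hs) p
  have hPS : P ≤ S := fun x hx => (hS x).1 hx S ⟨h1, h2, h3⟩ h4
  have hFC : G ⊓ 𝐂[pCoreOf p G] ≤ pCoreOf p G := by
    rw [pCoreOf, ← map_subtype_cent, ← hF]
    exact map_mono centralizer_genFitting_le
  refine main hp5 ⟨hnorm, hc, Or.inl hs, hPS.trans h1, h2.to_le hPS, ?_, ?_⟩
    (fun x hx => (hS x).2 fun S h _ => h.core_le hx) (fun h0 => hG ?_) hFC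
  · exact norm_of_forall_cj_le fun a ha => cj_le_iff.2 fun x hx => (hS _).2 fun S h5 h6 =>
      conj_mem_of_norm (h6 ha) ((hS x).1 hx S h5 h6)
  · refine norm_of_forall_cj_le fun c hc => cj_le_iff.2 fun x hx => (hS _).2 fun S h5 h6 => ?_
    have h7 := (hS x).1 hx _ (h5.cj_mem (G.inv_mem hc.1)) (by
      rw [← cj_norm, ← cj_of_norm (norm_of_cent le_rfl (inv_mem hc.2) : c⁻¹ ∈ 𝐍[R])]
      exact cj_mono _ h6)
    rwa [mem_cj, inv_inv] at h7
  · rw [h0, centralizer_bot, inf_top_eq] at hFC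
    exact eq_bot_iff.2 hFC

end Cfsg.Agent.S1930
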