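import Mathlib
import Cfsg.Statements.S2059
import Cfsg.Agent.Gr.MIso
import Cfsg.Agent.Gr.MulM
import Cfsg.Agent.S2058

set_option autoImplicit false
open Cfsg

namespace Cfsg.Agent.S2059

/-- The Schur multiplier of the Monster (realised inside the presented Bimonster) is trivial; here the Schur multiplier is described through stem extensions, as in the definitions: surjective homomorphisms onto the group from a finite group, whose kernel is central in that finite group and contained in that finite group's commutator subgroup. -/
theorem result : Cfsg.HasCyclicSchurMultiplier Cfsg.Spor.Monster 1 := by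
  obtain ⟨e⟩ := Gr.isoMK
  obtain ⟨b⟩ := Gr.isoBBm
  have := Gr.simple_Bm
  have : Group.IsPerfect Gr.Bm :=
    Group.isPerfect_def.2 (Spor.MX.perfect_of_simple Gr.card_Bm (by decide +kernel))
  obtain ⟨σ, h1, h2⟩ := Spor.MX.stem_of_nonsplit (Gr.nonsplit_DD Gr.t0_mem)
  have := Ch.isPerfect_of_isStemExtension h1
  exact (Gr.MulM.one_K (Ch.hasCyclicSchurMultiplier_one_of_cover (S2058.result.congr b) h1
    (h2.trans (Ch.card_multiplicative_zmod 2).symm)) e).congr e.symm

end Cfsg.Agent.S2059
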