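import Mathlib
import Cfsg.Statements.S2085
import Cfsg.Agent.Gr.MIso
import Cfsg.Agent.Gr.InnB

set_option autoImplicit false
open Cfsg

namespace Cfsg.Agent.S2085

/-- The outer automorphism group of the Monster (realised inside the presented Bimonster) is trivial: every automorphism is inner. -/
theorem result : Nat.card (Cfsg.Out Cfsg.Spor.Monster) = 1 := by
  obtain ⟨e⟩ := Gr.isoMK
  exact Gr.InnA.allInn_iff.2 (Gr.InnB.inn_K.congr e)

end Cfsg.Agent.S2085
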