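import Cfsg.Statements.S2093
import Cfsg.Agent.Spor.MX.S62Gen

set_option autoImplicit false
open Cfsg

namespace Cfsg.Agent.S2093

open Cfsg.Agent.Spor Cfsg.Agent.Spor.MX

/-- Exceptional Schur multiplier: over the field with 2 elements, PSp₆ has Schur multiplier cyclic of order 2 (here the Schur multiplier is described through stem extensions, as in the definitions). -/
theorem result {F : Type*} [Field F] [Fintype F] (hF : Fintype.card F = 2) : Cfsg.HasCyclicSchurMultiplier (Cfsg.PSp 3 F) 2 := by
  obtain ⟨e⟩ := Cl.nonempty_ringEquiv_GF2 F hF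
  refine HasSchurMultiplier.congr ?_ (Cl.pspMapEquiv 3 e).symm
  exact cyclic_top (cyclic_of_bounds s6m_gen.2.2 [(2, 9, 1), (3, 4, 0)] [5, 7] (by decide +kernel)
    (forall_mem_cons' (s6m_gen.not_dvd 2 2 ((s6_l8 s6m_gen.2.1).of_dvd (by decide)) (by decide +kernel))
      (forall_mem_cons' (s6m_gen.not_dvd 3 1 ((s6_l27 s6m_gen.2.1).of_dvd (by decide)) (by decide +kernel))
      forall_mem_nil'))
    (s62_cover s6m_gen s6m_comm0))

end Cfsg.Agent.S2093
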