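import Cfsg.Statements.S2098
import Cfsg.Agent.Spor.MX.O8pGen

set_option autoImplicit false
open Cfsg

namespace Cfsg.Agent.S2098

open Cfsg.Agent.Spor Cfsg.Agent.Spor.MX

/-- Exceptional Schur multiplier: over the field with 2 elements, PΩ⁺₈ (for the form Σ xᵢyᵢ) has Schur multiplier a four-group, the product of two cyclic groups of order 2 (here the Schur multiplier is described through stem extensions, as in the definitions). -/
theorem result {F : Type*} [Field F] [Fintype F] (hF : Fintype.card F = 2) : Cfsg.HasSchurMultiplier (Cfsg.POmega F (Cfsg.quadFormPlus 4 F)) (Multiplicative (ZMod 2 × ZMod 2)) := by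
  obtain ⟨e⟩ := Cl.nonempty_ringEquiv_GF2 F hF
  refine HasSchurMultiplier.congr ?_ (Cl.pomegaMapEquiv e (Cl.quadFormPlus_comp 4 e)).symm
  obtain ⟨χ, hχ⟩ := o8p_chi o8m_gen o8m_comm0 o8m_comm1
  exact hasMult_two (hasMult_of_bounds o8m_gen.2.2 [(2, 12, 2), (3, 5, 0), (5, 2, 0)] [7] (by decide +kernel)
    (forall_mem_cons' (o8m_gen.not_dvd 2 3 (o8p_l8 o8m_gen.2.1) (by decide +kernel))
      (forall_mem_cons' (o8m_gen.not_dvd 3 1 (o8p_l3 o8m_gen.2.1) (by decide +kernel))
      (forall_mem_cons' (o8m_gen.not_dvd 5 1 (o8p_l5 o8m_gen.2.1) (by decide +kernel))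
      forall_mem_nil')))
    (n := 4) (by simp) χ hχ)

end Cfsg.Agent.S2098
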