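import Mathlib
import Cfsg.Statements.S2099
import Cfsg.Agent.Ch.MultO

set_option autoImplicit false
set_option linter.style.haveILetI false
set_option linter.unusedVariables false
open Cfsg

namespace Cfsg.Agent.S2099

/-- Schur multipliers of the even-dimensional orthogonal groups of minus type: for l ≥ 4 and a field F with q elements, the Schur multiplier of PΩ⁻_2l(F) (for the form Σ_{i<l−1} xᵢyᵢ + z₁² + a z₁z₂ + b z₂² with the binary part anisotropic) is cyclic of order gcd(4, q^l + 1); here the Schur multiplier is described through stem extensions, as in the definitions. -/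
theorem result {F : Type*} [Field F] [Fintype F] {q : ℕ} (hF : Fintype.card F = q) (l : ℕ) (hl : 4 ≤ l) (a b : F) (hab : ∀ z₁ z₂ : F, z₁ ^ 2 + a * z₁ * z₂ + b * z₂ ^ 2 = 0 → z₁ = 0 ∧ z₂ = 0) : Cfsg.HasCyclicSchurMultiplier (Cfsg.POmega F (Cfsg.quadFormMinus (l - 1) F a b)) (Nat.gcd 4 (q ^ l + 1)) := by
  subst hF
  obtain ⟨m, rfl⟩ : ∃ m, l = m + 1 := ⟨l - 1, by omega⟩
  have hV := Ch.finrank_V0_eq (Ch.frameMinus m hab) Cl.o_finrank_minus
  have hm : 3 ≤ m := by omega
  have hM := Ch.card_mult_omega_le (Ch.frameMinus m hab) hm (by omega) (fun _ => Or.inl hV)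
    fun _ e => by rw [e, finrank_bot] at hV; omega
  refine HasSchurMultiplier.congr ?_ (Cl.pomegaEquivOG (Cl.quad_minus m F a b)).symm
  by_cases h2 : (2 : F) = 0
  · refine Ch.hasSchurMultiplier_pomega_char_two (Ch.frameMinus m hab) hm h2 (hM.2 h2) ?_
    obtain ⟨k, hk⟩ := (Nat.even_pow.2 ⟨Ch.even_card_of_two_eq_zero h2, (by omega : m + 1 ≠ 0)⟩)
    rw [Ch.card_multiplicative_zmod]
    exact Nat.Coprime.pow_left 2 ((Nat.coprime_two_left).2 ⟨k, by omega⟩)
  obtain ⟨k, hk⟩ := (Cl.o_odd_card_of_two_ne_zero h2).pow (n := m + 1)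
  by_cases h : Fintype.card F ^ (m + 1) % 4 = 3
  · rw [Nat.gcd_eq_left (by omega : 4 ∣ Fintype.card F ^ (m + 1) + 1)]
    exact Ch.hasCyclic_pomega_four (Ch.frameMinus m hab) hm h2 hM.1
      ((Cl.negOne_mem_commutator_minus_iff h2 m hab).2 h) (l := m + 1) Cl.o_finrank_minus
      ((Cl.quad_pow_mod_four (Cl.o_odd_card_of_two_ne_zero h2) _).1.1 h).1
  · rw [Nat.gcd_rec, show (Fintype.card F ^ (m + 1) + 1) % 4 = 2 by omega]
    exact Ch.hasCyclic_pomega_two (Ch.frameMinus m hab) hm h2 hM.1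
      (mt (Cl.negOne_mem_commutator_minus_iff h2 m hab).1 h)

end Cfsg.Agent.S2099
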