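import Cfsg.Statements.S2198
import Cfsg.Agent.Gr.Pa.Top
import Cfsg.Agent.Spor.Ly.Main
import Cfsg.Agent.Spor.J4.Main

set_option autoImplicit false
open Cfsg

namespace Cfsg.Agent.S2198

/-- None of the following five sporadic groups is involved in the Monster — no section of the Monster (quotient A/B of a subgroup A by a normal subgroup B of A) is isomorphic to any of them: the Lyons group, the fourth Janko group, the third Janko group, the O'Nan group, the Rudvalis group. (For the first two this follows from Lagrange's theorem, 37 not dividing the Monster's order; the other three need the Monster's local structure.) The Monster is taken in its realisation inside the Bimonster presentation. -/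
theorem result (A : Subgroup Cfsg.Spor.Monster) (B : Subgroup ↥A) [B.Normal] :
    ¬ Cfsg.Spor.IsoLy (↥A ⧸ B) ∧ ¬ Cfsg.Spor.IsoJ4 (↥A ⧸ B) ∧ ¬ Cfsg.Spor.IsoJ3 (↥A ⧸ B) ∧ ¬ Cfsg.Spor.IsoON (↥A ⧸ B) ∧ ¬ Cfsg.Spor.IsoRu (↥A ⧸ B) := by
  refine ⟨fun ⟨e⟩ => ?_, fun ⟨e⟩ => ?_, fun ⟨F, _, _, ω, hF, hω, ⟨e⟩⟩ => Gr.Pa.not_sec_j3 F hF ω hω (Gr.Pa.sec_of A B e),
    fun ⟨e⟩ => Gr.Pa.not_sec_on (Gr.Pa.sec_of A B e), fun ⟨e⟩ => Gr.Pa.not_sec_ru (Gr.Pa.sec_of A B e)⟩
  · exact absurd (Spor.MLy.card ▸ (Gr.Pa.sec_of A B e).card_dvd) (by decide +kernel)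
  · exact absurd (Spor.J4C.card_J4 ▸ (Gr.Pa.sec_of A B e).card_dvd) (by decide +kernel)

end Cfsg.Agent.S2198
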