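import Mathlib
import Cfsg.Statements.S3378
import Cfsg.Agent.Inv.Ico
import Cfsg.Agent.Inv.SieveSmall
import Cfsg.Agent.Perm.CompLen
import Cfsg.Agent.S0494
import Cfsg.Agent.S0992

set_option autoImplicit false
open Cfsg

namespace Cfsg.Agent.S3378

open Cfsg.Agent.Inv

theorem solv_of_normal {G : Type*} [Group G] (N : Subgroup G) [N.Normal] [Group.IsSolvable N]
    [Group.IsSolvable (G ⧸ N)] : Group.IsSolvable G :=
  Group.isSolvable_of_ker_le_range N.subtype (QuotientGroup.mk' N) (by simp)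

theorem bounds {G : Type*} [Group G] [Finite G] (N : Subgroup G) (h1 : N ≠ ⊥) (h2 : N ≠ ⊤) :
    2 ≤ Nat.card N ∧ 2 ≤ N.index ∧ Nat.card N * N.index = Nat.card G := by
  refine ⟨?_, ?_, N.card_mul_index⟩
  · exact (Subgroup.one_lt_card_iff_ne_bot N).2 h1
  · have a := N.index_ne_zero_of_finite
    have b : N.index ≠ 1 := fun h => h2 (Subgroup.index_eq_one.1 h)
    omega

theorem simple_sixty {G : Type*} [Group G] [Finite G] (hc : Nat.card G = 60)
    (hs : ¬ Group.IsSolvable G) : IsSimpleGroup G := by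
  have : Nontrivial G := Finite.one_lt_card_iff_nontrivial.1 (by omega)
  refine ⟨fun N hN => ?_⟩
  by_contra hcon
  push Not at hcon
  obtain ⟨a, b, c⟩ := bounds N hcon.1 hcon.2
  have : Group.IsSolvable N := Perm.CompLen.isSolvable_of_card_lt_sixty (by nlinarith)
  have : Group.IsSolvable (G ⧸ N) := Perm.CompLen.isSolvable_of_card_lt_sixty (by
    change N.index < 60; nlinarith)
  exact hs (solv_of_normal N)

theorem q8_unique : ∀ a b : QuaternionGroup 2, a * a = 1 → b * b = 1 → a ≠ 1 → b ≠ 1 → a = b := by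
  decide +kernel

theorem unique_inv {G : Type*} [Group G] (P : Subgroup G) (hP : Nonempty (P ≃* QuaternionGroup 2))
    {a b : G} (ha : a ∈ P) (hb : b ∈ P) (ha2 : a * a = 1) (hb2 : b * b = 1) (ha1 : a ≠ 1)
    (hb1 : b ≠ 1) : a = b := by
  obtain ⟨e⟩ := hP
  have := q8_unique (e ⟨a, ha⟩) (e ⟨b, hb⟩)
    (by rw [← map_mul, ← map_one e]; congr 1; exact Subtype.ext ha2)
    (by rw [← map_mul, ← map_one e]; congr 1; exact Subtype.ext hb2)
    (by rw [Ne, map_eq_one_iff _ e.injective]; exact fun h => ha1 (congrArg Subtype.val h))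
    (by rw [Ne, map_eq_one_iff _ e.injective]; exact fun h => hb1 (congrArg Subtype.val h))
  exact congrArg Subtype.val (e.injective this)

/-- 3-cycle. -/
def a5a : alternatingGroup (Fin 5) := ⟨c[0, 4, 2], Equiv.Perm.mem_alternatingGroup.2 (by decide +kernel)⟩
/-- 5-cycle. -/
def a5b : alternatingGroup (Fin 5) := ⟨c[0, 1, 2, 3, 4], Equiv.Perm.mem_alternatingGroup.2 (by decide +kernel)⟩

theorem a5_rel : a5a ^ 3 = 1 ∧ a5b ^ 5 = 1 ∧ (a5a * a5b) ^ 2 = 1 ∧ a5a ≠ 1 ∧ a5b ≠ 1 ∧
    a5a * a5b ≠ 1 := by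
  decide +kernel

theorem exists_gens {Q : Type*} [Group Q] [Finite Q] [IsSimpleGroup Q] (hc : Nat.card Q = 60) :
    ∃ a b : Q, a ^ 3 = 1 ∧ b ^ 5 = 1 ∧ (a * b) ^ 2 = 1 ∧ a * b ≠ 1 ∧
      ∀ H : Subgroup Q, a ∈ H → b ∈ H → H = ⊤ := by
  obtain ⟨e⟩ := S0494.result hc
  obtain ⟨h1, h2, h3, h4, h5, h6⟩ := a5_rel
  have k1 : e.symm a5a ^ 3 = 1 := by rw [← map_pow, h1, map_one]
  have k2 : e.symm a5b ^ 5 = 1 := by rw [← map_pow, h2, map_one]
  have k3 : (e.symm a5a * e.symm a5b) ^ 2 = 1 := by rw [← map_mul, ← map_pow, h3, map_one]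
  have k4 : e.symm a5a ≠ 1 := by rwa [Ne, map_eq_one_iff _ e.symm.injective]
  have k5 : e.symm a5b ≠ 1 := by rwa [Ne, map_eq_one_iff _ e.symm.injective]
  have k6 : e.symm a5a * e.symm a5b ≠ 1 := by
    rwa [← map_mul, Ne, map_eq_one_iff _ e.symm.injective]
  refine ⟨_, _, k1, k2, k3, k6, fun H ha hb => ?_⟩
  have : Fact (Nat.Prime 2) := ⟨by norm_num⟩
  have : Fact (Nat.Prime 3) := ⟨by norm_num⟩
  have : Fact (Nat.Prime 5) := ⟨by norm_num⟩
  have d3 : 3 ∣ Nat.card H := by
    rw [← orderOf_eq_prime k1 k4]; exact H.orderOf_dvd_natCard ha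
  have d5 : 5 ∣ Nat.card H := by
    rw [← orderOf_eq_prime k2 k5]; exact H.orderOf_dvd_natCard hb
  have d2 : 2 ∣ Nat.card H := by
    rw [← orderOf_eq_prime k3 k6]; exact H.orderOf_dvd_natCard (H.mul_mem ha hb)
  have hm := H.card_mul_index
  rw [hc] at hm
  obtain ⟨m, hm30⟩ : 30 ∣ Nat.card H := by omega
  rw [hm30] at hm
  have hi : H.index = 1 ∨ H.index = 2 := by
    have : m * H.index = 2 := by nlinarith
    have : H.index ∣ 2 := Dvd.intro_left _ this
    exact (Nat.dvd_prime Nat.prime_two).1 this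
  rcases hi with hi | hi
  · exact Subgroup.index_eq_one.1 hi
  · rcases (Subgroup.normal_of_index_eq_two hi).eq_bot_or_eq_top with h | h
    · rw [h] at ha; exact absurd (Subgroup.mem_bot.1 ha) k4
    · exact h

theorem main (G : Type*) [Group G] [Finite G] (hc : Nat.card G = 120) (hs : ¬ Group.IsSolvable G)
    (hq : ∀ P : Sylow 2 G, Nonempty ((P : Subgroup G) ≃* QuaternionGroup 2)) :
    Nonempty (PresentedGroup Ico.rels ≃* G) := by
  have : Fact (Nat.Prime 2) := ⟨by norm_num⟩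
  have : Nontrivial G := Finite.one_lt_card_iff_nontrivial.1 (by omega)
  have hns : ¬ IsSimpleGroup G := by
    intro hsimple
    have := Sieve.card_mem_small (G := G) (by rw [hc]; norm_num) (by omega)
    rw [hc] at this
    simp at this
  obtain ⟨N, hN, hb, ht⟩ : ∃ N : Subgroup G, N.Normal ∧ N ≠ ⊥ ∧ N ≠ ⊤ := by
    by_contra hcon
    push Not at hcon
    exact hns ⟨fun N hN => by
      by_cases h : N = ⊥
      · exact Or.inl h
      · exact Or.inr (hcon N hN h)⟩
  obtain ⟨a, b, c⟩ := bounds N hb ht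
  rw [hc] at c
  by_cases hNs : Group.IsSolvable N
  swap
  · exfalso
    have h60 : Nat.card N = 60 := by
      have : ¬ Nat.card N < 60 := fun h => hNs (Perm.CompLen.isSolvable_of_card_lt_sixty h)
      nlinarith
    have := simple_sixty h60 hNs
    obtain ⟨T⟩ : Nonempty (Sylow 2 N) := inferInstance
    have hK := (S0992.result (G := N) (fun h => hNs (by
      have := h; exact Group.isSolvable_of_comm (fun a b => mul_comm' a b))) (by rw [h60]; decide)
      (by rw [h60]; decide) T).1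
    obtain ⟨P, hP⟩ := (T.isPGroup'.map N.subtype).exists_le_sylow
    have h4 : Nat.card (T : Subgroup N) = 4 := hK.card_four
    have hexp : Monoid.exponent (T : Subgroup N) = 2 := hK.exponent_two
    have hsq : ∀ t : (T : Subgroup N), t * t = 1 := fun t => by
      have := Monoid.pow_exponent_eq_one t
      rwa [hexp, pow_two] at this
    have hsub : ∀ s t : (T : Subgroup N), s ≠ 1 → t ≠ 1 → s = t := by
      intro s t hs1 ht1
      apply Subtype.ext; apply Subtype.ext
      refine unique_inv P (hq P) (hP ⟨s, s.2, rfl⟩) (hP ⟨t, t.2, rfl⟩) ?_ ?_ ?_ ?_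
      · exact congrArg (fun u : (T : Subgroup N) => ((u : N) : G)) (hsq s)
      · exact congrArg (fun u : (T : Subgroup N) => ((u : N) : G)) (hsq t)
      · exact fun h => hs1 (Subtype.ext (Subtype.ext h))
      · exact fun h => ht1 (Subtype.ext (Subtype.ext h))
    have h3 : 2 < Nat.card (T : Subgroup N) := by omega
    classical
    have := Fintype.ofFinite (T : Subgroup N)
    rw [Nat.card_eq_fintype_card, Fintype.two_lt_card_iff] at h3
    obtain ⟨u, v, w, huv, huw, hvw⟩ := h3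
    by_cases hu : u = 1
    · exact hvw (hsub v w (fun h => huv (hu.trans h.symm)) (fun h => huw (hu.trans h.symm)))
    · by_cases hv : v = 1
      · exact huw (hsub u w hu (fun h => hvw (hv.trans h.symm)))
      · exact huv (hsub u v hu hv)
  have hQs : ¬ Group.IsSolvable (G ⧸ N) := fun h => hs (solv_of_normal N)
  have h60 : Nat.card (G ⧸ N) = 60 := by
    have : ¬ Nat.card (G ⧸ N) < 60 := fun h => hQs (Perm.CompLen.isSolvable_of_card_lt_sixty h)
    change ¬ N.index < 60 at this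
    change N.index = 60
    nlinarith
  have hN2 : Nat.card N = 2 := by
    change N.index = 60 at h60
    rw [h60] at c; omega
  have := simple_sixty h60 hQs
  obtain ⟨a, b, ha, hb, hab, hab1, hgen⟩ := exists_gens h60
  obtain ⟨x', rfl⟩ := QuotientGroup.mk'_surjective N a
  obtain ⟨y', rfl⟩ := QuotientGroup.mk'_surjective N b
  obtain ⟨z, hz1, hzu⟩ := (Nat.card_eq_two_iff' (1 : N)).1 hN2
  have hmem : ∀ n ∈ N, n = 1 ∨ n = z := fun n hn => by
    by_cases h : n = 1
    · exact Or.inl h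
    · exact Or.inr (congrArg Subtype.val (hzu ⟨n, hn⟩ (fun h' => h (congrArg Subtype.val h'))))
  have hz1' : (z : G) ≠ 1 := fun h => hz1 (Subtype.ext h)
  have hsq : ∀ n ∈ N, n ^ 2 = 1 := fun n hn => by
    have := pow_card_eq_one' (G := N) (x := ⟨n, hn⟩)
    rw [hN2] at this
    exact congrArg Subtype.val this
  have hcen : ∀ g : G, (z : G) * g = g * z := fun g => by
    rcases hmem _ (hN.conj_mem _ z.2 g) with h | h
    · exact absurd (by simpa using h) hz1'
    · rw [mul_inv_eq_iff_eq_mul] at h; exact h.symm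
  have hker : ∀ g : G, QuotientGroup.mk' N g = 1 → g ∈ N := fun g hg =>
    (QuotientGroup.eq_one_iff g).1 hg
  have hx : QuotientGroup.mk' N (x' ^ 4) = QuotientGroup.mk' N x' := by
    rw [map_pow, pow_succ, ha, one_mul]
  have hy : QuotientGroup.mk' N (y' ^ 6) = QuotientGroup.mk' N y' := by
    rw [map_pow, pow_succ, hb, one_mul]
  have hx3 : (x' ^ 4) ^ 3 = 1 := by
    have := hsq _ (hker (x' ^ 3) (by rw [map_pow, ha]))
    calc (x' ^ 4) ^ 3 = ((x' ^ 3) ^ 2) ^ 2 := by group
      _ = 1 := by rw [this, one_pow]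
  have hy5 : (y' ^ 6) ^ 5 = 1 := by
    have := hsq _ (hker (y' ^ 5) (by rw [map_pow, hb]))
    calc (y' ^ 6) ^ 5 = ((y' ^ 5) ^ 2) ^ 3 := by group
      _ = 1 := by rw [this, one_pow]
  generalize x' ^ 4 = x at hx hx3
  generalize y' ^ 6 = y at hy hy5
  rw [← hx, ← hy] at hab hab1 hgen
  have hxy : (x * y) ^ 2 = z := by
    rcases hmem _ (hker ((x * y) ^ 2) (by rw [map_pow, map_mul, hab])) with h | h
    · exfalso
      have hne : x * y ≠ 1 := fun h' => hab1 (by rw [← map_mul, h', map_one])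
      have hp : IsPGroup 2 (Subgroup.zpowers (x * y)) :=
        IsPGroup.of_card (n := 1) (by rw [Nat.card_zpowers, orderOf_eq_prime h hne]; norm_num)
      obtain ⟨P, hP⟩ := hp.exists_le_sylow
      have hNP : N ≤ P := (IsPGroup.of_card (p := 2) (n := 1) (by rw [hN2]; norm_num) :
        IsPGroup 2 N).le_sylow_of_normal P
      have := unique_inv P (hq P) (hP (Subgroup.mem_zpowers _)) (hNP z.2) (by rw [← pow_two, h])
        (by rw [← pow_two, hsq _ z.2]) hne hz1'
      apply hab1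
      rw [← map_mul, this]
      exact (QuotientGroup.eq_one_iff _).2 z.2
    · exact h
  refine (Ico.Rel.mk hx3 hy5 (hsq _ z.2) (hcen x) (hcen y) hxy).nonempty_equiv ?_ hc
  set H := Subgroup.closure ({x, y, (z : G)} : Set G)
  have hxH : x ∈ H := Subgroup.subset_closure (by simp)
  have hyH : y ∈ H := Subgroup.subset_closure (by simp)
  have hzH : (z : G) ∈ H := Subgroup.subset_closure (by simp)
  have hmap := hgen (H.map (QuotientGroup.mk' N)) ⟨x, hxH, rfl⟩ ⟨y, hyH, rfl⟩
  have hNH : N ≤ H := fun n hn => by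
    rcases hmem n hn with h | h
    · rw [h]; exact H.one_mem
    · rw [h]; exact hzH
  have := Subgroup.comap_map_eq (QuotientGroup.mk' N) H
  rw [hmap, Subgroup.comap_top, QuotientGroup.ker_mk', sup_eq_left.2 hNH] at this
  exact this.symm

/-- Every non-solvable group of order 120 whose Sylow 2-subgroups are quaternion of order 8 is isomorphic to SL(2,5), and SL(2,5) has the presentation ⟨x, y, z | x³ = y⁵ = z² = 1, z⁻¹xz = x, z⁻¹yz = y, (xy)² = z⟩. -/
theorem result :
    (∀ (G : Type*) [Group G] [Finite G], Nat.card G = 120 → ¬ Group.IsSolvable G →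
      (∀ P : Sylow 2 G, Nonempty ((P : Subgroup G) ≃* QuaternionGroup 2)) →
      Nonempty (G ≃* Matrix.SpecialLinearGroup (Fin 2) (ZMod 5))) ∧
    Nonempty (PresentedGroup ({FreeGroup.of (0 : Fin 3) ^ 3, FreeGroup.of (1 : Fin 3) ^ 5, FreeGroup.of (2 : Fin 3) ^ 2,
        (FreeGroup.of (2 : Fin 3))⁻¹ * FreeGroup.of 0 * FreeGroup.of 2 * (FreeGroup.of (0 : Fin 3))⁻¹,
        (FreeGroup.of (2 : Fin 3))⁻¹ * FreeGroup.of 1 * FreeGroup.of 2 * (FreeGroup.of (1 : Fin 3))⁻¹,
        (FreeGroup.of (0 : Fin 3) * FreeGroup.of 1) ^ 2 * (FreeGroup.of (2 : Fin 3))⁻¹} : Set (FreeGroup (Fin 3)))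
      ≃* Matrix.SpecialLinearGroup (Fin 2) (ZMod 5)) := by
  refine ⟨fun G _ _ hc hs hq => ?_, Ico.nonempty_equiv_sl⟩
  obtain ⟨e⟩ := main G hc hs hq
  obtain ⟨f⟩ := Ico.nonempty_equiv_sl
  exact ⟨e.symm.trans f⟩

end Cfsg.Agent.S3378
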