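import Mathlib
import Cfsg.Statements.S2207
import Cfsg.Agent.Perm.R3E
import Cfsg.Agent.Perm.TwoTools
import Cfsg.Agent.S3378
import Cfsg.Agent.S0494
import Cfsg.Agent.Ch.Burnside
import Cfsg.Agent.GT.Frattini

set_option autoImplicit false
open Cfsg

namespace Cfsg.Agent.S2207

/-- Primitive rank 3 groups whose point stabilizer acts as a Frobenius group on one of its two non-trivial orbits. Let a finite group G of even order act faithfully and primitively on a finite set X so that the stabilizer of a point A has exactly three orbits, and suppose that on one of its non-trivial orbits I the stabilizer of A acts faithfully as a Frobenius group: transitively, some non-identity element fixing a point of I, and no non-identity element fixing two points of I. Then either G ≅ A₅ and X has 10 points (the action on unordered pairs), or G is solvable and has a normal subgroup of order 16 acting regularly on X. -/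
theorem result {G X : Type*} [Group G] [Finite G] [Fintype X] [MulAction G X] [FaithfulSMul G X] (heven : Even (Nat.card G)) (hprim : MulAction.IsPreprimitive G X) (A : X)
    (h3 : Nat.card (MulAction.orbitRel.Quotient ↥(MulAction.stabilizer G A) X) = 3) (B : X) (hBA : B ≠ A)
    (hfaith : ∀ g ∈ MulAction.stabilizer G A, (∀ h ∈ MulAction.stabilizer G A, g • (h • B) = h • B) → g = 1)
    (hfix : ∃ g ∈ MulAction.stabilizer G A, g ≠ 1 ∧ g • B = B)
    (hfrob : ∀ g ∈ MulAction.stabilizer G A, ∀ h ∈ MulAction.stabilizer G A, g • B = B → g • (h • B) = h • B → h • B ≠ B → g = 1) :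
    (Nonempty (G ≃* ↥(alternatingGroup (Fin 5))) ∧ Fintype.card X = 10) ∨
    (IsSolvable G ∧ ∃ N : Subgroup G, N.Normal ∧ Nat.card N = 16 ∧ ∀ x y : X, ∃! n : ↥N, (n : G) • x = y) := by
  classical
  have := Fintype.ofFinite G
  let q : X → MulAction.orbitRel.Quotient ↥(MulAction.stabilizer G A) X := Quotient.mk _
  have hq : ∀ x y : X, q x = q y ↔ ∃ g : G, g • A = A ∧ g • y = x := by
    intro x y
    rw [Quotient.eq, MulAction.orbitRel_apply, Perm.Fx.mem_orbit_sub]
    rfl
  have hqAB : q B ≠ q A := fun e => by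
    obtain ⟨g, h1, h2⟩ := (hq _ _).1 e
    exact hBA (h2.symm.trans h1)
  obtain ⟨C, hCA, hCB, htri⟩ : ∃ C : X, q C ≠ q A ∧ q C ≠ q B ∧
      ∀ x, q x = q A ∨ q x = q B ∨ q x = q C := by
    have := Fintype.ofFinite (MulAction.orbitRel.Quotient ↥(MulAction.stabilizer G A) X)
    have h1 : ((Finset.univ.erase (q A)).erase (q B)).card = 1 := by
      rw [Finset.card_erase_of_mem (by simp [hqAB]), Finset.card_erase_of_mem (by simp),
        Finset.card_univ, ← Nat.card_eq_fintype_card, h3]
    obtain ⟨c, hc⟩ := Finset.card_eq_one.1 h1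
    obtain ⟨C, rfl⟩ := Quotient.exists_rep c
    have h2 : ∀ y, y ≠ q B ∧ y ≠ q A ↔ y = q C := fun y => by
      have := Finset.ext_iff.1 hc y
      simpa using this
    refine ⟨C, ((h2 _).2 rfl).2, ((h2 _).2 rfl).1, fun x => ?_⟩
    have := (h2 (q x)).1
    tauto
  let r : X → X → X → Prop := fun D x y => ∃ g : G, g • A = x ∧ g • D = y
  have rsm : ∀ D (g : G) x y, r D x y → r D (g • x) (g • y) := by
    rintro D g _ _ ⟨g', rfl, rfl⟩
    exact ⟨g * g', mul_smul _ _ _, mul_smul _ _ _⟩
  have rtr : ∀ D {a b c d}, r D a b → r D c d → ∃ g : G, g • a = c ∧ g • b = d := by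
    rintro D _ _ _ _ ⟨g, rfl, rfl⟩ ⟨g', rfl, rfl⟩
    exact ⟨g' * g⁻¹, by simp [mul_smul], by simp [mul_smul]⟩
  have rex : ∀ x y, r B x y → r C x y → False := by
    intro x y h1 h2
    obtain ⟨g, h3, h4⟩ := rtr B h1 ⟨1, one_smul _ _, one_smul _ _⟩
    have := rsm C g _ _ h2
    rw [h3, h4] at this
    exact hCB ((hq _ _).2 this).symm
  have rtri : ∀ x y, x ≠ y → r B x y ∨ r C x y := by
    intro x y hxy
    obtain ⟨g, rfl⟩ := MulAction.exists_smul_eq G A x
    obtain ⟨y, rfl⟩ : ∃ y', y = g • y' := ⟨g⁻¹ • y, by simp⟩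
    rcases htri y with h | h | h
    · obtain ⟨g', h1, h2⟩ := (hq _ _).1 h
      exact absurd (by rw [← h2, h1]) hxy
    · exact Or.inl (rsm B g _ _ ((hq _ _).1 h))
    · exact Or.inr (rsm C g _ _ ((hq _ _).1 h))
  have rne : ∀ x y, r B x y → x ≠ y := by
    rintro _ _ ⟨g, rfl, rfl⟩ e
    exact hBA (smul_left_cancel g e).symm
  have rsym : ∀ x y, r B x y → r B y x := by
    obtain ⟨u, -, h1, h2⟩ := Perm.R3.exists_inv_of_even (⊤ : Subgroup G) (by simpa using heven)
    obtain ⟨z, hz⟩ := Perm.exists_smul_ne (X := X) h2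
    have key : ∀ D, r D z (u • z) → ∀ x y, r D x y → r D y x := by
      intro D h x y h'
      obtain ⟨g, rfl, rfl⟩ := rtr D h h'
      have := rsm D u _ _ h
      rw [← mul_smul, h1, one_smul] at this
      exact rsm D g _ _ this
    rcases rtri z (u • z) hz.symm with h | h
    · exact key B h
    · intro x y h'
      rcases rtri y x (rne x y h').symm with h'' | h''
      · exact h''
      · exact (rex x y h' (key C h _ _ h'')).elim
  let Γ : SimpleGraph X := ⟨r B, ⟨rsym⟩, ⟨fun x h => rne x x h rfl⟩⟩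
  have hnon : ∀ {x y}, Γᶜ.Adj x y → r C x y := fun h => (rtri _ _ h.1).resolve_left h.2
  let R : Perm.R3.Hyp G X :=
    { Γ := Γ, A := A, B := B, C := C, prim := hprim
      inv := fun g _ _ h => rsm B g _ _ h
      etr := fun h h' => rtr B h h'
      ntr := fun h h' => rtr C (hnon h) (hnon h')
      frob := by
        rintro g _ _ _ ⟨g0, rfl, rfl⟩ ⟨g1, e, rfl⟩ hne h1 h2 h3
        have := hfrob (g0⁻¹ * g * g0) (by simp [mul_smul, h1]) (g0⁻¹ * g1) (by simp [mul_smul, e])
          (by simp [mul_smul, h2]) (by simp [mul_smul, h3])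
          (fun e' => hne (by rw [mul_smul, inv_smul_eq_iff] at e'; exact e'.symm))
        calc g = g0 * (g0⁻¹ * g * g0) * g0⁻¹ := by group
          _ = 1 := by rw [this]; group
      hAB := ⟨1, one_smul _ _, one_smul _ _⟩
      hAC := ⟨fun e => hCA (e ▸ rfl), fun h => rex _ _ h ⟨1, one_smul _ _, one_smul _ _⟩⟩
      fix := by
        obtain ⟨g, h1, h2, h3⟩ := hfix
        exact ⟨g, h2, h1, h3⟩
      two := by
        by_contra hc
        push Not at hc
        obtain ⟨g, h1, h2, h3⟩ := hfix
        refine h2 (hfaith g h1 fun h hh => ?_)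
        rw [hc (h • B) ⟨h, hh, rfl⟩, h3] }
  have : Nontrivial X := ⟨⟨B, A, hBA⟩⟩
  rcases R.final heven with ⟨h1, h2⟩ | ⟨h1, h2⟩
  · refine Or.inl ⟨?_, h1⟩
    have := S3378.simple_sixty h2 fun hs => by
      have := GT.isPrimePow_index_of_isCoatom
        (MulAction.IsPreprimitive.isCoatom_stabilizer_of_isPreprimitive (G := G) A)
      rw [Perm.Fx.index_stabilizer_eq_card, Nat.card_eq_fintype_card, h1] at this
      revert this
      decide
    exact S0494.result h2
  · have hs : Group.IsSolvable G := by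
      rcases h2 with h2 | h2
      · exact Ch.burnside_isSolvable_of_card_eq (p := 2) (q := 5) (a := 6) (b := 1) Nat.prime_two
          Nat.prime_five h2
      · exact Ch.burnside_isSolvable_of_card_eq (p := 2) (q := 3) (a := 6) (b := 2) Nat.prime_two
          Nat.prime_three h2
    refine Or.inr ⟨hs, ?_⟩
    have : Nontrivial G := Finite.one_lt_card_iff_nontrivial.1 (by omega)
    obtain ⟨N, n1, n2, n3⟩ := Perm.TT.hasReg_of_solvable (G := G) (Ω := X) ⊤ top_ne_bot inferInstance
    refine ⟨N, n1, ?_, fun x y => ?_⟩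
    · have := Perm.R3.card_orb N A Finset.univ fun y => by simpa using n2 A y
      rw [(Subgroup.eq_bot_iff_forall (N ⊓ MulAction.stabilizer G A)).2 fun g hg =>
        n3 A g hg.1 hg.2, Subgroup.card_bot, mul_one, Finset.card_univ, h1] at this
      exact this.symm
    · obtain ⟨n, hn, e⟩ := n2 x y
      refine ⟨⟨n, hn⟩, e, fun m hm => Subtype.ext ?_⟩
      have := n3 x (n⁻¹ * m) (mul_mem (inv_mem hn) m.2) (by rw [mul_smul, hm, inv_smul_eq_iff, e])
      exact (inv_mul_eq_one.1 this).symm

end Cfsg.Agent.S2207
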