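import Cfsg.Statements.S2219
import Cfsg.Agent.Inv.NineF
import Cfsg.Agent.S1011
import Cfsg.Agent.S1020
-- import your own Cfsg.Agent.* helpers here

set_option autoImplicit false
open Cfsg

namespace Cfsg.Agent.S2219

/-- Let G be a non-abelian finite simple group of order 9·2ᵃ·qᵇ for a prime q other than 2 and 3, having at least three conjugacy classes of nonidentity 3-elements (elements of order 3 or 9). Then G is isomorphic to PSL(2,8) or to PSL(2,17). -/
theorem result {G : Type*} [Group G] [Finite G] [IsSimpleGroup G] (hG : ¬ IsMulCommutative G)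
    (q a b : ℕ) (hq : q.Prime) (hq2 : q ≠ 2) (hq3 : q ≠ 3) (hcard : Nat.card G = 9 * 2 ^ a * q ^ b)
    (h3 : 3 ≤ Nat.card {C : ConjClasses G // ∃ g ∈ C.carrier, g ≠ 1 ∧ orderOf g ∣ 9}) :
    (∃ (F : Type) (_ : Field F) (_ : Fintype F), Fintype.card F = 8 ∧
        Nonempty (G ≃* Matrix.ProjectiveSpecialLinearGroup (Fin 2) F)) ∨
      Nonempty (G ≃* Matrix.ProjectiveSpecialLinearGroup (Fin 2) (ZMod 17)) := by
  classical
  have hp := Inv.Nine.not_prime hG
  obtain ⟨R⟩ : Nonempty (Sylow 3 G) := inferInstance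
  have := Fintype.ofFinite {C : ConjClasses G // ∃ g ∈ C.carrier, g ≠ 1 ∧ orderOf g ∣ 9}
  have h1 : ∀ C : {C : ConjClasses G // ∃ g ∈ C.carrier, g ≠ 1 ∧ orderOf g ∣ 9},
      ∃ r ∈ (R : Subgroup G), r ≠ 1 ∧ ConjClasses.mk r = C.1 := by
    rintro ⟨C, g, hg, h1, h2⟩
    obtain ⟨k, -, hk⟩ := (Nat.dvd_prime_pow Nat.prime_three (i := orderOf g) (m := 2)).1 h2
    obtain ⟨S, hS⟩ := (IsPGroup.of_card (p := 3) ((Nat.card_zpowers g).trans hk)).exists_le_sylow
    obtain ⟨c, rfl⟩ := MulAction.exists_smul_eq G S R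
    refine ⟨c * g * c⁻¹, Subgroup.smul_mem_pointwise_smul g (MulAut.conj c) _
      (hS (Subgroup.mem_zpowers g)), by simpa [conj_eq_one_iff] using h1, ?_⟩
    exact (ConjClasses.mk_eq_mk_iff_isConj.2 (isConj_iff.2 ⟨c, rfl⟩).symm).trans
      (ConjClasses.mem_carrier_iff_mk_eq.1 hg)
  choose r h1 h2 h4 using h1
  have h5 : ∀ {C D}, C ≠ D → ¬ IsConj (r C) (r D) := fun h e =>
    h (Subtype.ext (by rw [← h4, ← h4, ConjClasses.mk_eq_mk_iff_isConj]; exact e))
  rw [Nat.card_eq_fintype_card] at h3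
  obtain ⟨C, D, E, n1, n2, n3⟩ := Fintype.two_lt_card_iff.1 h3
  rcases Inv.Nine.three_orbits hp hq hq2 hq3 hcard (h1 C) (h1 D) (h1 E) (h2 C) (h2 D) (h2 E)
    (h5 n1) (h5 n2) (h5 n3) with h | h
  · have := Fintype.ofFinite (GaloisField 2 3)
    have h8 : Fintype.card (GaloisField 2 3) = 8 := by
      rw [← Nat.card_eq_fintype_card]; exact GaloisField.card 2 3 (by norm_num)
    exact Or.inl ⟨GaloisField 2 3, inferInstance, this, h8, S1011.result h h8⟩
  · have : Fact (Nat.Prime 17) := ⟨by norm_num⟩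
    exact Or.inr (S1020.result h (ZMod.card 17))

end Cfsg.Agent.S2219
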