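import Mathlib
import Cfsg.Statements.S2271

set_option autoImplicit false
open Cfsg

namespace Cfsg.Agent.S2271

section pre
open Equiv Equiv.Perm Finset
variable {X : Type*} [Fintype X] [DecidableEq X]

/-- number of common arcs -/
def cnt (α β : Perm X) : ℕ := (univ.filter fun x => β x = α x).card

/-- non-constancy -/
def Q (α β : Perm X) : Prop := ∃ h₁ ∈ alternatingGroup X, ∃ h₂ ∈ alternatingGroup X,
  cnt α (h₁ * β * h₁⁻¹) ≠ cnt α (h₂ * β * h₂⁻¹)

theorem cnt_conj (α β h : Perm X) : cnt β (h * α * h⁻¹) = cnt α (h⁻¹ * β * h⁻¹⁻¹) := by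
  refine (card_bij (fun z _ => h z) (fun z hz => ?_) (fun _ _ _ _ e => h.injective e)
    fun x hx => ⟨h⁻¹ x, ?_, by simp⟩).symm
  · simp only [mem_filter, mem_univ, true_and, inv_inv, mul_apply] at hz ⊢
    rw [Perm.inv_eq_iff_eq] at hz
    simp [hz]
  · simp only [mem_filter, mem_univ, true_and, inv_inv, mul_apply] at hx ⊢
    rw [Perm.inv_eq_iff_eq, hx]
    simp

theorem Q.symm {α β : Perm X} (h : Q α β) : Q β α := by
  obtain ⟨a, ha, b, hb, h⟩ := h
  refine ⟨a⁻¹, inv_mem ha, b⁻¹, inv_mem hb, ?_⟩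
  rwa [← cnt_conj, ← cnt_conj]

theorem Q_of {α β h t : Perm X} (hh : h ∈ alternatingGroup X) (ht : t ∈ alternatingGroup X)
    (H : cnt α (t * (h * β * h⁻¹) * t⁻¹) < cnt α (h * β * h⁻¹)) : Q α β :=
  ⟨t * h, mul_mem ht hh, h, hh, by simpa only [mul_inv_rev, mul_assoc] using H.ne⟩

theorem lt1 {α β t : Perm X} (x0 : X) (h0 : β x0 = α x0)
    (h : ∀ z, t (β z) = α (t z) → β (t z) = α (t z) ∧ t z ≠ x0) :
    cnt α (t * β * t⁻¹) < cnt α β := by
  refine lt_of_le_of_lt (card_le_card fun x hx => ?_) (card_erase_lt_of_mem (a := x0) (by simpa))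
  obtain ⟨z, rfl⟩ := t.surjective x
  simpa [and_comm] using h z (by simpa using (mem_filter.1 hx).2)

theorem lt2 {α β t : Perm X} (x1 x2 e : X) (h12 : x1 ≠ x2) (h1 : β x1 = α x1) (h2 : β x2 = α x2)
    (h : ∀ z, t (β z) = α (t z) → z = e ∨ (β (t z) = α (t z) ∧ t z ≠ x1 ∧ t z ≠ x2)) :
    cnt α (t * β * t⁻¹) < cnt α β := by
  have H : (univ.filter fun x => (t * β * t⁻¹) x = α x) ⊆
      insert (t e) (((univ.filter fun x => β x = α x).erase x1).erase x2) := fun x hx => by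
    obtain ⟨z, rfl⟩ := t.surjective x
    rcases h z (by simpa using (mem_filter.1 hx).2) with h | h
    · simp [h]
    · simp [h]
  have H1 := (card_le_card H).trans (card_insert_le _ _)
  have H2 := card_erase_add_one (s := (univ.filter fun x => β x = α x).erase x1) (a := x2)
    (by simp [h2, h12.symm])
  have H3 := card_erase_add_one (s := (univ.filter fun x => β x = α x)) (a := x1) (by simp [h1])
  unfold cnt
  omega

theorem cyc3 {a b c : X} (hab : a ≠ b) (hac : a ≠ c) (hbc : b ≠ c) :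
    ∃ t ∈ alternatingGroup X, t a = b ∧ t b = c ∧ t c = a ∧ ∀ z, z ≠ a → z ≠ b → z ≠ c → t z = z := by
  refine ⟨swap a c * swap a b, (isThreeCycle_swap_mul_swap_same hac hab hbc.symm).mem_alternatingGroup,
    ?_, ?_, ?_, fun z h1 h2 h3 => ?_⟩
  · simp [swap_apply_of_ne_of_ne hab.symm hbc]
  · simp
  · simp [swap_apply_of_ne_of_ne hac.symm hbc.symm]
  · simp [swap_apply_of_ne_of_ne h1 h2, swap_apply_of_ne_of_ne h1 h3]

theorem exists_ne (hX : 5 ≤ Fintype.card X) (a b c d : X) :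
    ∃ z, z ≠ a ∧ z ≠ b ∧ z ≠ c ∧ z ≠ d := by
  by_contra hn
  push Not at hn
  have : (univ : Finset X) ⊆ {a, b, c, d} := fun z _ => by
    have := hn z
    simp only [mem_insert, mem_singleton]
    tauto
  have h1 := card_le_card this
  have h2 : ({a, b, c, d} : Finset X).card ≤ 4 := card_le_four
  rw [card_univ] at h1
  omega

theorem even_or (h : Perm X) {u v : X} (huv : u ≠ v) :
    h ∈ alternatingGroup X ∨ swap u v * h ∈ alternatingGroup X := by
  rcases Int.units_eq_one_or (sign h) with e | e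
  · exact Or.inl e
  · right
    rw [mem_alternatingGroup, map_mul, e, sign_swap huv]
    rfl

theorem align3 (hX : 5 ≤ Fintype.card X) {a b c x y z : X} (hab : a ≠ b) (hac : a ≠ c)
    (hbc : b ≠ c) (hxy : x ≠ y) (hxz : x ≠ z) (hyz : y ≠ z) :
    ∃ h ∈ alternatingGroup X, h a = x ∧ h b = y ∧ h c = z := by
  obtain ⟨h, hh⟩ := Perm.exists_extending_pair (f := ![a, b, c]) (g := ![x, y, z])
    (by intro i j; fin_cases i <;> fin_cases j <;> simp <;> grind)
    (by intro i j; fin_cases i <;> fin_cases j <;> simp <;> grind)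
  have h0 : h a = x := hh 0
  have h1 : h b = y := hh 1
  have h2 : h c = z := hh 2
  obtain ⟨u, u1, u2, u3, -⟩ := exists_ne hX x y z z
  obtain ⟨v, v1, v2, v3, v4⟩ := exists_ne hX x y z u
  rcases even_or h v4 with e | e
  · exact ⟨h, e, h0, h1, h2⟩
  · refine ⟨_, e, ?_, ?_, ?_⟩
    · rw [mul_apply, h0, swap_apply_of_ne_of_ne v1.symm u1.symm]
    · rw [mul_apply, h1, swap_apply_of_ne_of_ne v2.symm u2.symm]
    · rw [mul_apply, h2, swap_apply_of_ne_of_ne v3.symm u3.symm]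

theorem align4 {a b c d x y z w : X} (hab : a ≠ b) (hac : a ≠ c) (had : a ≠ d)
    (hbc : b ≠ c) (hbd : b ≠ d) (hcd : c ≠ d) (hxy : x ≠ y) (hxz : x ≠ z) (hxw : x ≠ w)
    (hyz : y ≠ z) (hyw : y ≠ w) (hzw : z ≠ w) :
    ∃ h ∈ alternatingGroup X, h a = x ∧ h b = y ∧ (h c = z ∧ h d = w ∨ h c = w ∧ h d = z) := by
  obtain ⟨h, hh⟩ := Perm.exists_extending_pair (f := ![a, b, c, d]) (g := ![x, y, z, w])
    (by intro i j; fin_cases i <;> fin_cases j <;> simp <;> grind)
    (by intro i j; fin_cases i <;> fin_cases j <;> simp <;> grind)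
  have h0 : h a = x := hh 0
  have h1 : h b = y := hh 1
  have h2 : h c = z := hh 2
  have h3 : h d = w := hh 3
  rcases even_or h hzw with e | e
  · exact ⟨h, e, h0, h1, Or.inl ⟨h2, h3⟩⟩
  · refine ⟨_, e, ?_, ?_, Or.inr ⟨?_, ?_⟩⟩
    · rw [mul_apply, h0, swap_apply_of_ne_of_ne hxz hxw]
    · rw [mul_apply, h1, swap_apply_of_ne_of_ne hyz hyw]
    · rw [mul_apply, h2, swap_apply_left]
    · rw [mul_apply, h3, swap_apply_right]

omit [Fintype X] [DecidableEq X] in
theorem conj_apply (h β : Perm X) (x : X) : (h * β * h⁻¹) (h x) = h (β x) := by simp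

theorem case1 (hX : 5 ≤ Fintype.card X) {α β : Perm X} {x y : X} (hx : α (α x) ≠ x)
    (hy : β (β y) ≠ y) (hy' : β (β (β y)) ≠ y) : Q α β := by
  have hα := α.injective
  have hβ := β.injective
  obtain ⟨h, hh, e0, e1, e2⟩ := align3 hX (a := y) (b := β y) (c := β (β y)) (x := x) (y := α x)
    (z := α (α x)) (by grind) (by grind) (by grind) (by grind) (by grind) (by grind)
  have hi := h.injective
  have f0 := conj_apply h β y
  have f1 := conj_apply h β (β y)
  have f2 := conj_apply h β (β (β y))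
  obtain ⟨t, ht, t1, t2, t3, t4⟩ := cyc3 (a := α x) (b := α (α x)) (c := h (β (β (β y))))
    (by grind) (by grind) (by grind)
  refine Q_of hh ht (lt1 x (by grind) fun z hz => ?_)
  have hγ := (h * β * h⁻¹).injective
  generalize h * β * h⁻¹ = γ at *
  have := t4 z
  have := t4 (γ z)
  have hw : h (β (β (β y))) ≠ x := by grind
  generalize h (β (β (β y))) = w at *
  by_cases z = α x <;> by_cases z = α (α x) <;> by_cases z = w <;> by_cases γ z = α x <;>
    by_cases γ z = α (α x) <;> by_cases γ z = w <;> grind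

theorem case2 (hX : 5 ≤ Fintype.card X) {α β : Perm X} {x y : X} (hx : α (α x) ≠ x)
    (hy : β (β y) ≠ y) (hx' : α (α (α x)) = x) (hy' : β (β (β y)) = y) : Q α β := by
  have hα := α.injective
  have hβ := β.injective
  obtain ⟨h, hh, e0, e1, e2⟩ := align3 hX (a := y) (b := β y) (c := β (β y)) (x := x) (y := α x)
    (z := α (α x)) (by grind) (by grind) (by grind) (by grind) (by grind) (by grind)
  have f0 := conj_apply h β y
  have f1 := conj_apply h β (β y)
  have f2 := conj_apply h β (β (β y))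
  rw [hy'] at f2
  rw [e0, e1] at f0
  rw [e1, e2] at f1
  rw [e2, e0] at f2
  have hγ := (h * β * h⁻¹).injective
  obtain ⟨u, u1, u2, u3, -⟩ := exists_ne hX x (α x) (α (α x)) x
  obtain ⟨v, v1, v2, v3, v4, v5⟩ : ∃ v, v ≠ x ∧ v ≠ α x ∧ v ≠ α (α x) ∧ v ≠ u ∧
      ((h * β * h⁻¹) u = v ∨ (h * β * h⁻¹) u = u) := by
    by_cases e : (h * β * h⁻¹) u = u
    · obtain ⟨v, v1, v2, v3, v4⟩ := exists_ne hX x (α x) (α (α x)) u
      exact ⟨v, v1, v2, v3, v4, Or.inr e⟩
    · exact ⟨_, by grind, by grind, by grind, e, Or.inl rfl⟩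
  obtain ⟨t, ht, t1, t2, t3, t4⟩ := cyc3 (a := α (α x)) (b := u) (c := v) u3.symm v3.symm v4.symm
  have hi := t.injective
  obtain ⟨e, he⟩ := (h * β * h⁻¹).surjective u
  refine Q_of hh ht (lt2 (α x) (α (α x)) e (by grind) f1 (by grind) fun z hz => ?_)
  generalize h * β * h⁻¹ = γ at *
  have := t4 z
  have := t4 (γ z)
  have := t4 x
  by_cases z = α (α x) <;> by_cases z = u <;> by_cases z = v <;> by_cases γ z = α (α x) <;>
    by_cases γ z = u <;> by_cases γ z = v <;> grind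

theorem case3 (hX : 5 ≤ Fintype.card X) {α β : Perm X} (ha : α ≠ 1) (hb : β ≠ 1)
    (hy : ∀ y, β (β y) = y) : Q α β := by
  have hα := α.injective
  have hβ := β.injective
  obtain ⟨i, hi⟩ : ∃ i, α i ≠ i := by
    by_contra hn
    push Not at hn
    exact ha (Perm.ext hn)
  obtain ⟨a, ha⟩ : ∃ i, β i ≠ i := by
    by_contra hn
    push Not at hn
    exact hb (Perm.ext hn)
  obtain ⟨i', hi'⟩ := α.surjective i
  obtain ⟨k, k1, k2, k3, -⟩ := exists_ne hX i (α i) i' i
  obtain ⟨l, l1, l2, l3, l4⟩ := exists_ne hX i (α i) k (α (α i))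
  obtain ⟨c, d, c1, c2, d1, d2, cd, hcd⟩ : ∃ c d, c ≠ a ∧ c ≠ β a ∧ d ≠ a ∧ d ≠ β a ∧ c ≠ d ∧
      (β c = d ∧ β d = c ∨ β c = c ∧ β d = d) := by
    obtain ⟨c, c1, c2, -⟩ := exists_ne hX a (β a) a a
    by_cases e : β c = c
    · obtain ⟨d, d1, d2, d3, -⟩ := exists_ne hX a (β a) c c
      by_cases e' : β d = d
      · exact ⟨c, d, c1, c2, d1, d2, d3.symm, Or.inr ⟨e, e'⟩⟩
      · exact ⟨d, β d, d1, d2, by grind, by grind, Ne.symm e', Or.inl ⟨rfl, hy d⟩⟩
    · exact ⟨c, β c, c1, c2, by grind, by grind, Ne.symm e, Or.inl ⟨rfl, hy c⟩⟩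
  obtain ⟨h, hh, e0, e1, e2⟩ := align4 ha.symm c1.symm d1.symm c2.symm d2.symm cd hi.symm k1.symm
    l1.symm k2.symm l2.symm l3.symm
  have f0 := conj_apply h β a
  have f1 := conj_apply h β (β a)
  have f2 := conj_apply h β c
  have f3 := conj_apply h β d
  rw [hy, e0] at f1
  rw [e0, e1] at f0
  rw [e1] at f1
  have f4 : (h * β * h⁻¹) k = l ∧ (h * β * h⁻¹) l = k ∨ (h * β * h⁻¹) k = k ∧ (h * β * h⁻¹) l = l := by
    grind
  obtain ⟨t, ht, t1, t2, t3, t4⟩ := cyc3 (a := α i) (b := k) (c := l) k2.symm l2.symm l3.symm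
  refine Q_of hh ht (lt1 i f0 fun z hz => ?_)
  have hγ := (h * β * h⁻¹).injective
  clear f2 f3
  generalize h * β * h⁻¹ = γ at *
  have := t4 z
  have := t4 (γ z)
  have := t4 i
  by_cases z = α i <;> by_cases z = k <;> by_cases z = l <;> by_cases γ z = α i <;>
    by_cases γ z = k <;> by_cases γ z = l <;> grind

theorem main (hX : 5 ≤ Fintype.card X) {α β : Perm X} (ha : α ≠ 1) (hb : β ≠ 1) : Q α β := by
  by_cases h1 : ∀ y, β (β y) = y
  · exact case3 hX ha hb h1
  by_cases h2 : ∀ y, α (α y) = y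
  · exact (case3 hX hb ha h2).symm
  push Not at h1 h2
  obtain ⟨y, hy⟩ := h1
  obtain ⟨x, hx⟩ := h2
  by_cases h3 : β (β (β y)) = y
  · by_cases h4 : α (α (α x)) = x
    · exact case2 hX hx hy h4 h3
    · exact (case1 hX hy hx h4).symm
  · exact case1 hX hx hy h3

theorem card_fix (a β : Perm X) : Nat.card (Function.fixedPoints ⇑(a * β)) = cnt a⁻¹ β := by
  rw [cnt, ← Fintype.card_subtype, Nat.card_eq_fintype_card]
  refine Fintype.card_congr (Equiv.subtypeEquivRight fun x => ?_)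
  rw [Perm.eq_inv_iff_eq]
  rfl

end pre

/-- Let n ≥ 5 and let a, b be non-identity permutations in the symmetric group S_n. Then the number of fixed points is not constant on the set of products a′b′ with a′ conjugate to a and b′ conjugate to b under the alternating group: there are even permutations g₁, h₁, g₂, h₂ such that (g₁ a g₁⁻¹)(h₁ b h₁⁻¹) and (g₂ a g₂⁻¹)(h₂ b h₂⁻¹) have different numbers of fixed points. -/
theorem result (n : ℕ) (hn : 5 ≤ n) (a b : Equiv.Perm (Fin n)) (ha : a ≠ 1) (hb : b ≠ 1) :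
    ∃ g₁ h₁ g₂ h₂ : Equiv.Perm (Fin n), g₁ ∈ alternatingGroup (Fin n) ∧ h₁ ∈ alternatingGroup (Fin n) ∧ g₂ ∈ alternatingGroup (Fin n) ∧ h₂ ∈ alternatingGroup (Fin n) ∧
      Nat.card (Function.fixedPoints ⇑(g₁ * a * g₁⁻¹ * (h₁ * b * h₁⁻¹))) ≠
        Nat.card (Function.fixedPoints ⇑(g₂ * a * g₂⁻¹ * (h₂ * b * h₂⁻¹))) := by
  obtain ⟨h₁, e₁, h₂, e₂, h⟩ := main (by simpa using hn) (inv_ne_one.2 ha) hb
  refine ⟨1, h₁, 1, h₂, one_mem _, e₁, one_mem _, e₂, ?_⟩
  simpa only [one_mul, inv_one, mul_one, card_fix] using h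

end Cfsg.Agent.S2271
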