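import Cfsg.Statements.S2272
import Cfsg.Agent.Cl.LinearTransv
import Cfsg.Agent.Cl.MinIdxSL

set_option autoImplicit false
open Cfsg

namespace Cfsg.Agent.S2272

open Matrix Cfsg.Agent.Cl

section
variable {ι : Type*} [Fintype ι] [DecidableEq ι] {F : Type*} [Field F]

theorem exists_data (h3 : 3 ≤ Fintype.card ι) {X : Matrix ι ι F} (hX : ∀ c : F, X ≠ c • 1) :
    ∃ u φ ψ y : ι → F, φ ⬝ᵥ u = 0 ∧ φ ⬝ᵥ X *ᵥ u = 0 ∧ φ ⬝ᵥ y = 1 ∧ ψ ⬝ᵥ u = 0 ∧ ψ ⬝ᵥ X *ᵥ u = 1 ∧
      ψ ⬝ᵥ y = 0 := by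
  obtain ⟨u, hu⟩ : ∃ u, X *ᵥ u ∉ Submodule.span F {u} := by
    by_contra! hc
    obtain ⟨c, hc⟩ := (LinearMap.exists_eq_smul_id_of_forall_notLinearIndependent
      (f := Matrix.toLin' X) fun v hv => by
        obtain ⟨c, hc⟩ := Submodule.mem_span_singleton.1 (hc v)
        have := (LinearIndependent.pair_iff' (hv.ne_zero 0)).1 hv c
        exact this (by simpa using hc))
    exact hX c (Matrix.toLin'.injective (by simp [hc, Module.End.one_eq_id]))
  classical
  obtain ⟨y, hy⟩ : ∃ y, y ∉ Submodule.span F {u, X *ᵥ u} := by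
    by_contra! hc
    have h1 := finrank_span_finset_le_card (R := F) ({u, X *ᵥ u} : Finset (ι → F))
    have h2 : Submodule.span F ({u, X *ᵥ u} : Set (ι → F)) = ⊤ := eq_top_iff.2 fun v _ => hc v
    have h4 := Finset.card_le_two (a := u) (b := X *ᵥ u)
    rw [Set.finrank, Finset.coe_pair, h2, finrank_top, Module.finrank_fintype_fun_eq_card] at h1
    omega
  obtain ⟨φ, h1, h2, h4⟩ := MI.exists_dot₂ hy
  obtain ⟨ψ, h5, h6⟩ := MI.exists_dot hu
  have h7 := h5 u (Submodule.mem_span_singleton_self u)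
  exact ⟨u, φ, ψ - (ψ ⬝ᵥ y) • φ, y, h1, h2, h4, by simp [h1, h7], by simp [h2, h6], by simp [h4]⟩

theorem coe_conj_tv (B : SpecialLinearGroup ι F) {u φ : ι → F} (h : φ ⬝ᵥ u = 0) :
    ((tv u φ * B * (tv u φ)⁻¹ : SpecialLinearGroup ι F) : Matrix ι ι F) =
      B + (vecMulVec u φ * B - B * vecMulVec u φ) - (φ ⬝ᵥ (B : Matrix ι ι F) *ᵥ u) • vecMulVec u φ := by
  rw [tv_inv, Matrix.SpecialLinearGroup.coe_mul, Matrix.SpecialLinearGroup.coe_mul, coe_tv h,
    coe_tv (by rw [dotProduct_neg, h, neg_zero]), neg_vecMulVec]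
  simp only [add_mul, mul_add, one_mul, mul_one, mul_neg, vecMulVec_mul, vecMul_vecMulVec,
    dotProduct_mulVec, vecMulVec_smul]
  abel

theorem exists_trace (h3 : 3 ≤ Fintype.card ι) {A B : SpecialLinearGroup ι F}
    (hA : ∀ c : F, (A : Matrix ι ι F) ≠ c • 1) (hB : ∀ c : F, (B : Matrix ι ι F) ≠ c • 1) (c : F) :
    ∃ g h : SpecialLinearGroup ι F,
      ((g * A * g⁻¹ * (h * B * h⁻¹) : SpecialLinearGroup ι F) : Matrix ι ι F).trace = c := by
  obtain ⟨u, φ, ψ, y, h1, h2, h4, h5, h6, h7⟩ := exists_data h3 hA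
  set N := vecMulVec u φ * (A : Matrix ι ι F) - A * vecMulVec u φ with hN
  let L : SpecialLinearGroup ι F → Matrix ι ι F →ₗ[F] F := fun h => (Matrix.traceLinearMap ι F F).comp
    ((LinearMap.mulLeft F (N * h)).comp (LinearMap.mulRight F (h⁻¹ : SpecialLinearGroup ι F).1))
  have hL : ∀ h Y, L h Y = (N * (h * Y * (h⁻¹ : SpecialLinearGroup ι F).1)).trace := fun h Y => by
    simp [L, Matrix.mul_assoc]
  by_cases hc : ∀ h, L h B = 0
  · exfalso
    obtain ⟨u', φ', ψ', y', k1, k2, k4, k5, k6, -⟩ := exists_data h3 hB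
    have key : ∀ h θ, θ ⬝ᵥ u' = 0 → L h (vecMulVec u' θ * B - B * vecMulVec u' θ) =
        (θ ⬝ᵥ (B : Matrix ι ι F) *ᵥ u') * L h (vecMulVec u' θ) := fun h θ hθ => by
      have : L h (tv u' θ * B * (tv u' θ)⁻¹ : SpecialLinearGroup ι F) = 0 := by
        rw [← hc (h * tv u' θ), hL, hL, _root_.mul_inv_rev]
        simp only [Matrix.SpecialLinearGroup.coe_mul, Matrix.mul_assoc]
      rwa [coe_conj_tv B hθ, map_sub, map_add, hc h, zero_add, map_smul, sub_eq_zero] at this
    have h8 : ∀ h, L h (vecMulVec u' φ') = 0 := fun h => by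
      have e1 := key h φ' k1
      have e2 := key h ψ' k5
      have e3 := key h (φ' + ψ') (by simp [k1, k5])
      simp only [vecMulVec_add, add_mul, mul_add, map_add, map_sub, add_dotProduct, k2, k6] at e1 e2 e3
      linear_combination e1 + e2 - e3
    obtain ⟨i, j, hij⟩ := Fintype.exists_pair_of_one_lt_card (α := ι) (by omega)
    obtain ⟨g, hg⟩ := exists_conj_transvection_eq_tv h3 k1 (by rintro rfl; simp at k6)
      (by rintro rfl; simp at k4) hij
    obtain ⟨g', hg'⟩ := exists_conj_transvection_eq_tv h3 h7 (by rintro rfl; simp at h4)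
      (by rintro rfl; simp at h6) hij
    have e : g' * g⁻¹ * tv u' φ' * (g' * g⁻¹)⁻¹ = tv y ψ := by
      rw [← one_smul F u', ← one_smul F y, ← hg, ← hg']; group
    have e' := congrArg Subtype.val e
    rw [Matrix.SpecialLinearGroup.coe_mul, Matrix.SpecialLinearGroup.coe_mul _ (tv u' φ'), coe_tv k1,
      coe_tv h7, mul_add, add_mul, mul_one, ← Matrix.SpecialLinearGroup.coe_mul,
      _root_.mul_inv_cancel, Matrix.SpecialLinearGroup.coe_one, add_right_inj] at e'
    have := h8 (g' * g⁻¹)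
    rw [hL, e', mul_vecMulVec, trace_vecMulVec, hN, sub_mulVec, ← mulVec_mulVec, ← mulVec_mulVec,
      vecMulVec_mulVec', vecMulVec_mulVec', h4, one_smul, dotProduct_comm] at this
    simp [h5, h6] at this
  push Not at hc
  obtain ⟨h, hh⟩ := hc
  refine ⟨tv u (((c - ((A * (h * B * h⁻¹) : SpecialLinearGroup ι F) : Matrix ι ι F).trace) / L h B) • φ),
    h, ?_⟩
  rw [Matrix.SpecialLinearGroup.coe_mul, coe_conj_tv A (by simp [h1]), smul_dotProduct, h2, smul_zero,
    zero_smul, sub_zero, vecMulVec_smul, smul_mul_assoc, mul_smul_comm, ← smul_sub, ← hN, add_mul,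
    trace_add, smul_mul_assoc, trace_smul, Matrix.SpecialLinearGroup.coe_mul (h * B),
    Matrix.SpecialLinearGroup.coe_mul h B, ← hL, smul_eq_mul, div_mul_cancel₀ _ hh]
  simp only [Matrix.SpecialLinearGroup.coe_mul]
  ring

end

/-- Let F be a finite field and d ≥ 3, and let a, b be non-identity elements of PSL_d(F). Then the product of the conjugacy classes of a and b is not a single conjugacy class: there are conjugates a′ of a and b′ of b such that a′b′ is not conjugate to ab. -/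
theorem result {F : Type*} [Field F] [Fintype F] (d : ℕ) (hd : 3 ≤ d)
    (a b : Matrix.ProjectiveSpecialLinearGroup (Fin d) F) (ha : a ≠ 1) (hb : b ≠ 1) :
    ∃ g h : Matrix.ProjectiveSpecialLinearGroup (Fin d) F, ¬ IsConj (a * b) (g * a * g⁻¹ * (h * b * h⁻¹)) := by
  obtain ⟨A, rfl⟩ := QuotientGroup.mk_surjective a
  obtain ⟨B, rfl⟩ := QuotientGroup.mk_surjective b
  have hs : ∀ {X : Matrix.SpecialLinearGroup (Fin d) F},
      (X : Matrix.ProjectiveSpecialLinearGroup (Fin d) F) ≠ 1 → ∀ c : F, X.1 ≠ c • 1 :=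
    fun {X} hX c e => hX ((QuotientGroup.eq_one_iff X).2 (Subgroup.mem_center_iff.2 fun g =>
      Subtype.ext (by simp [e])))
  classical
  obtain ⟨g, h, e⟩ := exists_trace (by simpa using hd) (hs ha) (hs hb)
    (if (A * B).1.trace = 0 then 1 else 0)
  refine ⟨g, h, fun hc => ?_⟩
  obtain ⟨k, hk⟩ := isConj_iff.1 hc
  obtain ⟨k, rfl⟩ := QuotientGroup.mk_surjective k
  have h1 : (k * (A * B) * k⁻¹)⁻¹ * (g * A * g⁻¹ * (h * B * h⁻¹)) ∈ Subgroup.center _ :=
    QuotientGroup.eq.1 (by simpa using hk)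
  obtain ⟨r, h2, h3⟩ := Matrix.SpecialLinearGroup.mem_center_iff.1 h1
  have h4 : (g * A * g⁻¹ * (h * B * h⁻¹)).1 = (k * (A * B) * k⁻¹).1 * Matrix.scalar _ r := by
    rw [h3, ← Matrix.SpecialLinearGroup.coe_mul, mul_inv_cancel_left]
  have h5 : (k * (A * B) * k⁻¹).1.trace = (A * B).1.trace := by
    rw [Matrix.SpecialLinearGroup.coe_mul, Matrix.trace_mul_comm, ← Matrix.SpecialLinearGroup.coe_mul,
      inv_mul_cancel_left]
  have h6 : r ≠ 0 := by
    rintro rfl
    rw [zero_pow (by simp; omega)] at h2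
    exact zero_ne_one h2
  rw [h4, Matrix.scalar_apply, ← Matrix.smul_eq_mul_diagonal, Matrix.trace_smul, h5] at e
  split_ifs at e with h7
  · rw [h7, smul_zero] at e; exact zero_ne_one e
  · exact mul_ne_zero h6 h7 e

end Cfsg.Agent.S2272
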