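import Cfsg.Statements.S2276
import Cfsg.Agent.Sym.PPair

set_option autoImplicit false
open Cfsg

namespace Cfsg.Agent.S2276

/-- Let n ≥ 5, p ≥ 3 a prime, and u, w non-identity elements of p-power order in the alternating group A_n. Then there is g ∈ A_n such that u·(g w g⁻¹) does not have p-power order and ⟨u, g w g⁻¹⟩ is not solvable. -/
theorem result (n : ℕ) (hn : 5 ≤ n) (p : ℕ) (hp : p.Prime) (hp3 : 3 ≤ p) (u w : alternatingGroup (Fin n)) (hu : u ≠ 1) (hw : w ≠ 1)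
    (hu' : ∃ k : ℕ, orderOf u = p ^ k) (hw' : ∃ k : ℕ, orderOf w = p ^ k) :
    ∃ g : alternatingGroup (Fin n), (¬ ∃ k : ℕ, orderOf (u * (g * w * g⁻¹)) = p ^ k) ∧
      ¬ Group.IsSolvable ↥(Subgroup.closure ({u, g * w * g⁻¹} : Set (alternatingGroup (Fin n)))) := by
  obtain ⟨i, hi⟩ := hu'
  obtain ⟨j, hj⟩ := hw'
  obtain ⟨i, rfl⟩ := Nat.exists_eq_succ_of_ne_zero (n := i) (by
    rintro rfl; exact hu (orderOf_eq_one_iff.1 hi))
  obtain ⟨j, rfl⟩ := Nat.exists_eq_succ_of_ne_zero (n := j) (by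
    rintro rfl; exact hw (orderOf_eq_one_iff.1 hj))
  obtain ⟨g, h1, h2, h3⟩ := Sym.pBadAll_of_orderOf hp (by omega) (by simpa using hn)
    (u := u.1) (w := w.1) ((Subgroup.orderOf_coe u).trans hi) ((Subgroup.orderOf_coe w).trans hj) 1
  refine ⟨⟨g, h1⟩, ?_, fun h => h3 ?_⟩
  · rintro ⟨k, hk⟩
    exact h2 k (congrArg Subtype.val (orderOf_dvd_iff_pow_eq_one.1 hk.dvd))
  · have := Group.isSolvable_of_surjective
      (f := (alternatingGroup (Fin n)).subtype.subgroupMap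
        (Subgroup.closure {u, ⟨g, h1⟩ * w * ⟨g, h1⟩⁻¹})) (MonoidHom.subgroupMap_surjective _ _)
    rwa [MonoidHom.map_closure, Set.image_pair] at this

end Cfsg.Agent.S2276
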