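import Mathlib
import Cfsg.Statements.S2277
import Cfsg.Agent.GT.CoprimeActThms
import Cfsg.Agent.GT.CoprimeGen
import Cfsg.Agent.GT.PGroupFrattini
import Cfsg.Agent.GT.Fitting

set_option autoImplicit false
open Cfsg

namespace Cfsg.Agent.S2277

section pre
open Subgroup _root_.Cfsg.Agent.GT _root_.Cfsg.Agent.GT.CopAct

/-- fixed points of one automorphism -/
def fx {V : Type*} [Group V] (σ : MulAut V) : Subgroup V := σ.toMonoidHom.eqLocus (MonoidHom.id V)

theorem mem_fx {V : Type*} [Group V] {σ : MulAut V} {v : V} : v ∈ fx σ ↔ σ v = v := Iff.rfl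

theorem cube_le {V : Type*} [CommGroup V] [Finite V] (c a s : MulAut V) (hcs : c * s = s * c)
    (has : a * s = s * a) (h : c * a = s * a * c) (h1 : ∀ v, s v = v → v = 1)
    (h2 : ∀ v, s (s v) = v → v = 1) : Nat.card (fx c) ^ 3 ≤ Nat.card V := by
  let f : fx c × fx c × fx c →* V :=
    ((fx c).subtype.comp (MonoidHom.fst _ _)) *
      ((a.toMonoidHom.comp (fx c).subtype).comp ((MonoidHom.fst _ _).comp (MonoidHom.snd _ _))) *
      (((a * a).toMonoidHom.comp (fx c).subtype).comp ((MonoidHom.snd _ _).comp (MonoidHom.snd _ _)))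
  have hf : Function.Injective f := by
    rw [injective_iff_map_eq_one]
    rintro ⟨⟨u, hu⟩, ⟨v, hv⟩, ⟨w, hw⟩⟩ e
    rw [mem_fx] at hu hv hw
    have e0 : u * a v * a (a w) = 1 := e
    have ca : ∀ x, c (a x) = s (a (c x)) := fun x => DFunLike.congr_fun h x
    have cs : ∀ x, c (s x) = s (c x) := fun x => DFunLike.congr_fun hcs x
    have as : ∀ x, a (s x) = s (a x) := fun x => DFunLike.congr_fun has x
    have e1 : c (a v) = s (a v) := by rw [ca, hv]
    have e2 : c (a (a w)) = s (s (a (a w))) := by rw [ca, ca, hw, as]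
    have key : ∀ x y : V, u * x * y = 1 → c x = s x → c y = s (s y) → u = 1 ∧ x = 1 ∧ y = 1 := by
      intro x y e0 e1 e2
      have E1 : u * s x * s (s y) = 1 := by
        rw [← hu, ← e1, ← e2, ← map_mul, ← map_mul, e0, map_one]
      have E2 : u * s (s x) * s (s (s (s y))) = 1 := by
        have := congrArg c E1
        rwa [map_mul, map_mul, map_one, hu, cs, cs, cs, e1, e2] at this
      have E3 := congrArg s e0
      have E4 := congrArg s E1
      rw [map_mul, map_mul, map_one] at E3 E4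
      have E5 : s (s y) / s y = 1 := h2 _ (by
        rw [map_div, map_div, div_eq_div_iff_mul_eq_mul]
        have : s (s (s (s y))) * s y * (u * s (s x)) * (s u * s x) =
            s (s y) * s (s (s y)) * (u * s (s x)) * (s u * s x) := by
          calc _ = (u * s (s x) * s (s (s (s y)))) * (s u * s x * s y) := by ac_rfl
            _ = (u * s x * s (s y)) * (s u * s (s x) * s (s (s y))) := by rw [E1, E2, E3, E4]
            _ = _ := by ac_rfl
        exact mul_right_cancel (mul_right_cancel this))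
      have hy : y = 1 := s.injective ((h1 _ (div_eq_one.1 E5)).trans (map_one s).symm)
      subst hy
      rw [map_one, map_one] at E1
      have hx : x = 1 := h1 _ (mul_left_cancel (mul_right_cancel (E1.trans e0.symm)))
      subst hx
      exact ⟨by simpa using e0, rfl, rfl⟩
    obtain ⟨k1, k2, k3⟩ := key _ _ e0 e1 e2
    have k2' : v = 1 := by simpa using k2
    have k3' : w = 1 := by simpa using k3
    subst k1 k2' k3'
    rfl
  have := Nat.card_le_card_of_injective f hf
  rwa [Nat.card_prod, Nat.card_prod, ← mul_assoc, ← pow_three'] at this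

theorem exists_small {V : Type*} [CommGroup V] [Finite V] {p : ℕ} [hp : Fact p.Prime]
    (hp3 : 3 ≤ p) (R : Subgroup (MulAut V)) (hR : IsPGroup p R) (h1 : R ≠ ⊥)
    (hirr : ∀ U : Subgroup V, ActInv R.subtype U → U = ⊥ ∨ U = ⊤) (C : Set R)
    (hC : closure C = ⊤) : ∃ c ∈ C, Nat.card (fx (c : MulAut V)) ^ 3 ≤ Nat.card V := by
  have fpf : ∀ z ∈ center R, z ≠ 1 → ∀ v, (z : MulAut V) v = v → v = 1 := by
    intro z hz hz1 v hv
    rcases hirr (fx (z : MulAut V)) (fun r u hu => by
      have := DFunLike.congr_fun (congrArg Subtype.val (mem_center_iff.1 hz r)) u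
      rw [mem_fx] at hu ⊢
      exact this.symm.trans (congrArg (r : MulAut V) hu)) with h | h
    · exact mem_bot.1 (h ▸ mem_fx.2 hv)
    · exact absurd (Subtype.ext (MulEquiv.ext fun u => mem_fx.1 (h ▸ mem_top u))) hz1
  by_cases hZ : center R = ⊤
  · obtain ⟨c, hc, hc1⟩ : ∃ c ∈ C, c ≠ 1 := by
      by_contra hn
      push Not at hn
      have : closure C ≤ ⊥ := (closure_le _).2 fun c hc => hn c hc
      rw [hC] at this
      exact h1 (eq_bot_iff.2 fun r hr => mem_bot.2 (congrArg Subtype.val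
        (mem_bot.1 (this (mem_top (⟨r, hr⟩ : R))))))
    refine ⟨c, hc, ?_⟩
    rw [show fx (c : MulAut V) = ⊥ from eq_bot_iff.2 fun v hv =>
      fpf c (hZ ▸ mem_top c) hc1 v hv, card_bot, one_pow]
    exact Nat.card_pos
  · have : Nontrivial (R ⧸ center R) := QuotientGroup.nontrivial_iff.2 hZ
    obtain ⟨⟨a, ha⟩, ha1⟩ := (nontrivial_iff_exists_ne 1).1 (hR.to_quotient (center R)).center_nontrivial
    obtain ⟨a, rfl⟩ := QuotientGroup.mk_surjective a
    have ha2 : a ∉ center R := fun h => ha1 (Subtype.ext ((QuotientGroup.eq_one_iff a).2 h))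
    obtain ⟨c, hc, hca⟩ : ∃ c ∈ C, c * a ≠ a * c := by
      by_contra hn
      push Not at hn
      have : closure C ≤ centralizer {a} := (closure_le _).2 fun c hc =>
        mem_centralizer_singleton_iff.2 (hn c hc)
      rw [hC] at this
      exact ha2 (mem_center_iff.2 fun g => mem_centralizer_singleton_iff.1 (this (mem_top g)))
    have hz : c * a * (a * c)⁻¹ ∈ center R := by
      rw [← QuotientGroup.eq_one_iff, QuotientGroup.mk_mul, QuotientGroup.mk_inv,
        QuotientGroup.mk_mul, QuotientGroup.mk_mul, mem_center_iff.1 ha, mul_inv_cancel]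
    set z := c * a * (a * c)⁻¹ with hzd
    have hz1 : z ≠ 1 := fun h => hca (mul_inv_eq_one.1 h)
    have hz2 : z * z ≠ 1 := fun h => by
      obtain ⟨k, hk⟩ := hR.exists_orderOf_dvd_pow z
      have h2 : orderOf z ∣ 2 := orderOf_dvd_of_pow_eq_one (by rwa [pow_two])
      exact hz1 (orderOf_eq_one_iff.1 (Nat.eq_one_of_dvd_coprimes
        (((Nat.coprime_primes hp.out Nat.prime_two).2 (by omega)).pow_left k) hk h2))
    refine ⟨c, hc, cube_le (c : MulAut V) a z (congrArg Subtype.val (mem_center_iff.1 hz c))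
      (congrArg Subtype.val (mem_center_iff.1 hz a)) (congrArg Subtype.val
        (show c * a = z * a * c by rw [hzd]; group)) (fpf z hz hz1)
      (fpf (z * z) (mul_mem hz hz) hz2)⟩

end pre

/-- Let p ≥ 3 be prime and G a finite group with a Sylow p-subgroup P and a normal p-complement N (N normal, of order prime to p, with NP = G). Suppose P is generated by a subset C and also by a subset D, and that ⟨x c x⁻¹, d⟩ is a p-group for all x ∈ N, c ∈ C, d ∈ D. Then P centralizes N, so that G = N × P. -/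
theorem result {G : Type*} [Group G] [Finite G] (p : ℕ) [Fact p.Prime] (hp3 : 3 ≤ p) (P : Sylow p G)
    (N : Subgroup G) [N.Normal] (hN : (Nat.card N).Coprime p) (hNP : N ⊔ (P : Subgroup G) = ⊤)
    (C D : Set G) (hC : Subgroup.closure C = (P : Subgroup G)) (hD : Subgroup.closure D = (P : Subgroup G))
    (h : ∀ x ∈ N, ∀ c ∈ C, ∀ d ∈ D, IsPGroup p ↥(Subgroup.closure ({x * c * x⁻¹, d} : Set G))) :
    ⁅(P : Subgroup G), N⁆ = ⊥ := by
  rw [Subgroup.commutator_comm, GT.CopAct.commutator_eq_bot_iff, Subgroup.le_centralizer_iff]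
  have _ := hNP
  have hcop : (Nat.card (P : Subgroup G)).Coprime (Nat.card N) :=
    (GT.CopAct.coprime_of_isPGroup_right hN P.2).symm
  have hsol := GT.CopAct.isSolvable_of_isPGroup P.2
  refine GT.le_of_forall_sylow_le fun q hq _ => ?_
  have : Fact q.Prime := ⟨hq⟩
  obtain ⟨Q₀, hPQ⟩ := GT.CopAct.exists_invariant_sylow (A := (P : Subgroup G)) (K := N)
    Subgroup.le_normalizer_of_normal hcop (Or.inl hsol) q
  refine ⟨Q₀, ?_⟩
  have hQ := Q₀.2.map N.subtype
  have hQN : (Q₀ : Subgroup N).map N.subtype ≤ N := Subgroup.map_subtype_le _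
  generalize (Q₀ : Subgroup N).map N.subtype = Q at hPQ hQ hQN
  have hcQ := GT.CopAct.coprime_mono hcop le_rfl hQN
  by_contra hn
  obtain ⟨M, hJM, hMQ, hPM, hmax⟩ := GT.CopAct.exists_maximal_invariant
    (GT.CopAct.le_normalizer_inf hPQ (GT.CopAct.le_normalizer_centralizer
      (P : Subgroup G).le_normalizer)) (inf_lt_left.2 hn)
  have hF := GT.CopAct.frattini_le_of_maximal_invariant hPQ hPM hMQ hmax
  have hF' : frattini Q ≤ M.subgroupOf Q := Subgroup.map_le_iff_le_comap.1 hF
  have := GT.PG.normal_of_frattini_le hQ hF'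
  have hinv := GT.CopAct.actInv_conjHom_subgroupOf hPQ hPM
  let ψ := GT.CopAct.quotHom _ _ hinv
  have hcomm := (Subgroup.Normal.quotient_commutative_iff_commutator_le (N := M.subgroupOf Q)).2
    ((GT.PG.commutator_le_frattini hQ).trans hF')
  let _ : CommGroup (Q ⧸ M.subgroupOf Q) := { mul_comm := hcomm.is_comm.comm }
  have hne : ψ.range ≠ ⊥ := fun e => by
    have h1 : ⁅Q, (P : Subgroup G)⁆ ≤ M := by
      rw [Subgroup.commutator_le]
      intro x hx a ha
      have h2 : (⟨a, ha⟩ : (P : Subgroup G)) ∈ ψ.ker := by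
        rw [MonoidHom.mem_ker, ← Subgroup.mem_bot, ← e]; exact ⟨_, rfl⟩
      have := GT.CopAct.mem_ker_quotHom.1 h2 ⟨x⁻¹, Q.inv_mem hx⟩
      simpa [Subgroup.mem_subgroupOf, GT.CopAct.coe_conjHom_apply, commutatorElement_def,
        mul_assoc] using this
    exact hMQ.not_ge ((GT.CopAct.commutator_sup_centralizer hPQ hcQ (Or.inl hsol)).ge.trans
      (sup_le h1 hJM))
  have hirr : ∀ U : Subgroup (Q ⧸ M.subgroupOf Q), GT.CopAct.ActInv ψ.range.subtype U →
      U = ⊥ ∨ U = ⊤ := by
    intro U hU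
    have h1 : GT.CopAct.ActInv ψ U := fun a u hu => hU ⟨_, a, rfl⟩ u hu
    have h2 := (GT.CopAct.actInv_comap_mk' h1).le_normalizer_map_subtype
    have h3 : M.subgroupOf Q ≤ U.comap (QuotientGroup.mk' _) := fun x hx => by
      rw [Subgroup.mem_comap, show QuotientGroup.mk' _ x = 1 from (QuotientGroup.eq_one_iff x).2 hx]
      exact one_mem _
    rcases hmax _ (fun x hx => Subgroup.mem_map.2 ⟨⟨x, hMQ.le hx⟩, h3 hx, rfl⟩)
      (Subgroup.map_subtype_le _) h2 with h | h
    · left
      rw [eq_bot_iff]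
      intro u hu
      obtain ⟨x, rfl⟩ := QuotientGroup.mk_surjective u
      exact (QuotientGroup.eq_one_iff x).2 (h.le ⟨x, hu, rfl⟩)
    · right
      rw [eq_top_iff]
      intro u _
      obtain ⟨x, rfl⟩ := QuotientGroup.mk_surjective u
      obtain ⟨y, hy, e⟩ := h.ge x.2
      exact (Subtype.ext e : y = x) ▸ hy
  have hR : IsPGroup p ψ.range := P.2.of_surjective _ ψ.rangeRestrict_surjective
  have small : ∀ C : Set G, Subgroup.closure C = (P : Subgroup G) → ∃ c : (P : Subgroup G),
      (c : G) ∈ C ∧ Nat.card (fx (ψ c)) ^ 3 ≤ Nat.card (Q ⧸ M.subgroupOf Q) := by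
    intro C hC
    obtain ⟨_, ⟨c, hc, rfl⟩, h⟩ := exists_small hp3 _ hR hne hirr
      (ψ.rangeRestrict '' ((P : Subgroup G).subtype ⁻¹' C)) (by
        rw [← MonoidHom.map_closure]
        have : Subgroup.closure ((P : Subgroup G).subtype ⁻¹' C) = ⊤ := by
          have := Subgroup.closure_preimage_eq_top C
          rwa [hC] at this
        rw [this, Subgroup.map_top_of_surjective _ ψ.rangeRestrict_surjective])
    exact ⟨c, hc, h⟩
  obtain ⟨c, hc, h1⟩ := small C hC
  obtain ⟨d, hd, h2⟩ := small D hD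
  have h3 : Nat.card (Q ⧸ M.subgroupOf Q) ≤ Nat.card (fx (ψ d)) * Nat.card (fx (ψ c)) := by
    rw [← Nat.card_prod]
    refine Nat.card_le_card_of_surjective (fun x => (x.1 : Q ⧸ M.subgroupOf Q) * x.2) fun u => ?_
    obtain ⟨⟨x, hx⟩, rfl⟩ := QuotientGroup.mk_surjective u
    obtain ⟨k, hk, hk'⟩ := GT.CopAct.exists_conj_mem_of_le_sup hPQ hcQ (Or.inl hsol)
      (B := Subgroup.closure {x * c * x⁻¹, (d : G)}) (by
        rw [Subgroup.closure_le]
        rintro _ (rfl | rfl)
        · exact mul_mem (mul_mem (Subgroup.mem_sup_left hx) (Subgroup.mem_sup_right c.2))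
            (Subgroup.mem_sup_left (inv_mem hx))
        · exact Subgroup.mem_sup_right d.2)
      (GT.CopAct.coprime_of_isPGroup_right (hN.coprime_dvd_left (Subgroup.card_dvd_of_le hQN))
        (h x (hQN hx) c hc d hd)).symm
    have fix : ∀ (y : G) (hy : y ∈ Q) (e : (P : Subgroup G)), y * e * y⁻¹ ∈ (P : Subgroup G) →
        ((⟨y, hy⟩ : Q) : Q ⧸ M.subgroupOf Q) ∈ fx (ψ e) := by
      intro y hy e he
      have h4 : y * (e * y⁻¹ * (e : G)⁻¹) = 1 := GT.CopAct.eq_one_of_coprime hcQ
        (by simpa [mul_assoc] using mul_mem he (inv_mem e.2))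
        (mul_mem hy (GT.CopAct.conj_mem hPQ e.2 (inv_mem hy)))
      rw [mem_fx, GT.CopAct.quotHom_mk]
      congr 1
      apply Subtype.ext
      rw [GT.CopAct.coe_conjHom_apply]
      show (e : G) * y * (e : G)⁻¹ = y
      calc _ = ((e : G) * y⁻¹ * (e : G)⁻¹)⁻¹ := by group
        _ = y := (eq_inv_of_mul_eq_one_left h4).symm
    refine ⟨(⟨_, inv_mem (fix k hk d (hk' _ (Subgroup.subset_closure (by simp))))⟩,
      ⟨_, fix (k * x) (mul_mem hk hx) c (by
        simpa [mul_assoc] using hk' _ (Subgroup.subset_closure (Set.mem_insert _ _)))⟩), ?_⟩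
    show ((⟨k, hk⟩ : Q) : Q ⧸ M.subgroupOf Q)⁻¹ *
      ((⟨k * x, mul_mem hk hx⟩ : Q) : Q ⧸ M.subgroupOf Q) = _
    rw [← QuotientGroup.mk_inv, ← QuotientGroup.mk_mul]
    congr 1
    apply Subtype.ext
    simp
  have h4 : 1 < Nat.card (Q ⧸ M.subgroupOf Q) := by
    exact Subgroup.one_lt_index_of_ne_top fun e => hMQ.not_ge (Subgroup.subgroupOf_eq_top.1 e)
  have h5 := Nat.pow_le_pow_left h3 3
  rw [mul_pow] at h5
  have h6 := h5.trans (Nat.mul_le_mul h2 h1)
  rw [← pow_two] at h6
  exact absurd ((Nat.pow_le_pow_iff_right h4).1 h6) (by norm_num)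

end Cfsg.Agent.S2277
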