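import Cfsg.Statements.S2405
import Cfsg.Agent.Chev.ChevTwoGen
import Cfsg.Agent.Chev.Good

set_option autoImplicit false
open Cfsg

namespace Cfsg.Agent.S2405

open Cfsg.Lie Cfsg.Lie.ChevalleyDatum Cfsg.Agent.Chev

set_option backward.isDefEq.respectTransparency false

theorem genG2_0 (F : Type*) [Field F] [Fintype F] (h : 4 ≤ Fintype.card F) :
    ∃ a b : chevG2.group F, Subgroup.closure ({a, b} : Set (chevG2.group F)) = ⊤ :=
  two_gen_large (D := chevG2) h ([0, 1] : List (Fin 2)) 6 8 1 6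
    [(0, 0, 6, 1), (0, 0, 8, 4), (0, 0, 1, 0), (0, 0, 0, 5), (1, 6, 8, 7)]
    (by decide +kernel)

theorem genG2_3 (F : Type*) [Field F] [CharP F 3] (h : ∀ t : F, t = 0 ∨ t = 1 ∨ t = -1) :
    ∃ a b : chevG2.group F, Subgroup.closure ({a, b} : Set (chevG2.group F)) = ⊤ :=
  two_gen_small (D := chevG2) (p := 3) h ([0, 1] : List (Fin 2)) 5 3
    [(2, 0, 5, 0), (2, 5, 10, 10), (2, 1, 0, 1), (2, 6, 1, 6), (1, 5, 10, 11), (3, 0, 5, 3), (0, 0, 3, 7),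
    (1, 5, 3, 4)]
    (by decide +kernel)

theorem genB2_0 (F : Type*) [Field F] [Fintype F] (h : 4 ≤ Fintype.card F) :
    ∃ a b : chevB2.group F, Subgroup.closure ({a, b} : Set (chevB2.group F)) = ⊤ :=
  two_gen_large (D := chevB2) h ([1, 0] : List (Fin 2)) 7 5 1 5
    [(0, 0, 7, 3), (0, 0, 5, 1), (0, 0, 1, 2), (1, 5, 7, 4)]
    (by decide +kernel)

theorem genB2_3 (F : Type*) [Field F] [CharP F 3] (h : ∀ t : F, t = 0 ∨ t = 1 ∨ t = -1) :
    ∃ a b : chevB2.group F, Subgroup.closure ({a, b} : Set (chevB2.group F)) = ⊤ :=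
  two_gen_small (D := chevB2) (p := 3) h ([1, 0] : List (Fin 2)) 5 5
    [(0, 0, 5, 1), (2, 5, 1, 3), (2, 7, 3, 7), (2, 4, 7, 4), (0, 0, 1, 2)]
    (by decide +kernel)

theorem genD4_0 (F : Type*) [Field F] [Fintype F] (h : 4 ≤ Fintype.card F) :
    ∃ a b : chevD4.group F, Subgroup.closure ({a, b} : Set (chevD4.group F)) = ⊤ :=
  two_gen_large (D := chevD4) h ([0, 3, 1, 0, 2, 1] : List (Fin 4)) 5 15 4 8
    [(0, 0, 5, 10), (0, 0, 15, 19), (0, 0, 10, 18), (0, 0, 19, 8), (1, 5, 19, 14), (1, 15, 10, 6),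
    (1, 15, 14, 11), (0, 0, 18, 13), (0, 0, 6, 9), (1, 15, 9, 12)]
    (by decide +kernel)

theorem genD4_2 (F : Type*) [Field F] [CharP F 2] (h : ∀ t : F, t = 0 ∨ t = 1 ∨ t = -1) :
    ∃ a b : chevD4.group F, Subgroup.closure ({a, b} : Set (chevD4.group F)) = ⊤ :=
  two_gen_small (D := chevD4) (p := 2) h ([0, 3, 2, 1] : List (Fin 4)) 21 16
    [(2, 21, 15, 15), (2, 12, 21, 12), (2, 15, 11, 11), (1, 12, 21, 22), (1, 12, 15, 14), (2, 14, 1, 1),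
    (2, 9, 22, 9), (1, 12, 1, 2), (1, 12, 9, 8), (1, 22, 9, 0), (2, 1, 0, 3), (2, 11, 2, 5), (2, 10, 3, 10),
    (2, 0, 9, 13), (2, 8, 12, 17), (2, 18, 17, 18)]
    (by decide +kernel)

theorem genD4_3 (F : Type*) [Field F] [CharP F 3] (h : ∀ t : F, t = 0 ∨ t = 1 ∨ t = -1) :
    ∃ a b : chevD4.group F, Subgroup.closure ({a, b} : Set (chevD4.group F)) = ⊤ :=
  two_gen_small (D := chevD4) (p := 3) h ([0, 2, 1, 3] : List (Fin 4)) 9 3
    [(2, 1, 9, 1), (2, 9, 11, 11), (2, 12, 1, 12), (1, 11, 9, 8), (1, 11, 1, 2), (2, 15, 2, 15),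
    (2, 8, 21, 21), (1, 11, 15, 14), (1, 11, 21, 22), (1, 8, 21, 23), (2, 23, 15, 5), (2, 11, 22, 13),
    (3, 9, 11, 3), (0, 0, 5, 7), (0, 0, 3, 18), (1, 9, 7, 10)]
    (by decide +kernel)

theorem genF4_0 (F : Type*) [Field F] [Fintype F] (h : 4 ≤ Fintype.card F) :
    ∃ a b : chevF4.group F, Subgroup.closure ({a, b} : Set (chevF4.group F)) = ⊤ :=
  two_gen_large (D := chevF4) h ([3, 2, 0, 1] : List (Fin 4)) 23 14 9 12
    [(0, 0, 23, 22), (0, 0, 14, 18), (0, 0, 22, 5), (0, 0, 18, 12), (0, 0, 5, 15), (0, 0, 12, 9),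
    (0, 0, 15, 6), (0, 0, 9, 19), (0, 0, 6, 16), (0, 0, 19, 13), (0, 0, 16, 24), (0, 0, 13, 33),
    (1, 14, 13, 20), (0, 0, 24, 25), (0, 0, 33, 29), (1, 23, 29, 28), (1, 22, 28, 27)]
    (by decide +kernel)

theorem genF4_2 (F : Type*) [Field F] [CharP F 2] (h : ∀ t : F, t = 0 ∨ t = 1 ∨ t = -1) :
    ∃ a b : chevF4.group F, Subgroup.closure ({a, b} : Set (chevF4.group F)) = ⊤ :=
  two_gen_small (D := chevF4) (p := 2) h ([1, 2, 1, 2, 0, 3] : List (Fin 4)) 41 28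
    [(2, 41, 26, 26), (2, 31, 41, 31), (2, 25, 31, 25), (2, 21, 25, 21), (1, 26, 25, 23), (2, 6, 21, 6),
    (2, 23, 32, 32), (1, 26, 32, 30), (2, 16, 6, 16), (2, 22, 16, 22), (2, 26, 22, 27), (2, 13, 27, 13),
    (2, 27, 35, 35), (1, 26, 22, 24), (1, 26, 27, 29), (1, 31, 29, 20), (1, 25, 35, 34), (1, 27, 13, 14),
    (1, 27, 34, 33)]
    (by decide +kernel)

theorem genF4_3 (F : Type*) [Field F] [CharP F 3] (h : ∀ t : F, t = 0 ∨ t = 1 ∨ t = -1) :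
    ∃ a b : chevF4.group F, Subgroup.closure ({a, b} : Set (chevF4.group F)) = ⊤ :=
  two_gen_small (D := chevF4) (p := 3) h ([1, 3, 0, 2] : List (Fin 4)) 42 39
    [(2, 42, 32, 32), (2, 32, 41, 41), (2, 30, 42, 30), (2, 41, 26, 26), (2, 24, 30, 24), (2, 26, 23, 23),
    (2, 21, 24, 21), (1, 26, 41, 43), (1, 26, 24, 22), (1, 26, 23, 25), (2, 23, 17, 17), (2, 46, 43, 46),
    (1, 30, 21, 15), (2, 17, 5, 5), (2, 15, 6, 6), (2, 5, 15, 33), (2, 6, 21, 37), (2, 28, 33, 28),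
    (2, 29, 37, 29), (1, 32, 29, 19), (1, 41, 37, 14), (1, 30, 28, 20), (1, 30, 19, 27)]
    (by decide +kernel)

theorem genE6_0 (F : Type*) [Field F] [Fintype F] (h : 4 ≤ Fintype.card F) :
    ∃ a b : chevE6.group F, Subgroup.closure ({a, b} : Set (chevE6.group F)) = ⊤ :=
  two_gen_large (D := chevE6) h ([0, 2, 3, 4, 1, 5] : List (Fin 6)) 42 34 7 28
    [(0, 0, 42, 39), (0, 0, 34, 35), (0, 0, 39, 62), (0, 0, 35, 60), (0, 0, 62, 45), (0, 0, 60, 50),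
    (0, 0, 45, 47), (0, 0, 50, 40), (0, 0, 47, 37), (0, 0, 40, 63), (1, 34, 50, 51), (0, 0, 37, 36),
    (0, 0, 63, 15), (0, 0, 51, 41), (0, 0, 36, 11), (0, 0, 15, 29), (0, 0, 41, 46), (0, 0, 11, 21),
    (0, 0, 29, 32), (0, 0, 46, 10), (1, 42, 21, 24), (1, 34, 21, 20), (1, 34, 10, 9), (1, 39, 24, 25),
    (1, 62, 20, 56)]
    (by decide +kernel)

theorem genE6_2 (F : Type*) [Field F] [CharP F 2] (h : ∀ t : F, t = 0 ∨ t = 1 ∨ t = -1) :
    ∃ a b : chevE6.group F, Subgroup.closure ({a, b} : Set (chevE6.group F)) = ⊤ :=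
  two_gen_small (D := chevE6) (p := 2) h ([5, 1, 0, 4, 3, 2] : List (Fin 6)) 36 36
    [(0, 0, 36, 37), (2, 36, 37, 38), (2, 27, 38, 27), (2, 37, 47, 47), (2, 47, 60, 60), (0, 0, 38, 48),
    (0, 0, 60, 51), (2, 51, 39, 39), (2, 38, 48, 49), (2, 28, 49, 28), (2, 60, 51, 52), (2, 56, 52, 56),
    (2, 14, 56, 14), (2, 39, 57, 57), (2, 48, 65, 65), (2, 65, 69, 69), (0, 0, 52, 40), (0, 0, 57, 15),
    (0, 0, 69, 53), (1, 56, 27, 12), (1, 56, 28, 13), (1, 56, 14, 29), (1, 56, 57, 42), (1, 14, 12, 31),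
    (1, 14, 13, 32), (1, 40, 48, 46), (1, 40, 39, 34), (1, 40, 53, 50), (2, 50, 25, 25), (2, 35, 34, 35)]
    (by decide +kernel)

theorem genE6_3 (F : Type*) [Field F] [CharP F 3] (h : ∀ t : F, t = 0 ∨ t = 1 ∨ t = -1) :
    ∃ a b : chevE6.group F, Subgroup.closure ({a, b} : Set (chevE6.group F)) = ⊤ :=
  two_gen_small (D := chevE6) (p := 3) h ([0, 2, 1, 4, 3, 5] : List (Fin 6)) 31 31
    [(0, 0, 31, 35), (2, 31, 35, 30), (2, 35, 38, 38), (2, 38, 61, 61), (0, 0, 30, 37), (0, 0, 61, 44),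
    (2, 18, 30, 18), (2, 30, 37, 32), (2, 61, 44, 42), (2, 44, 49, 49), (2, 49, 58, 58), (2, 32, 62, 62),
    (2, 62, 69, 69), (2, 69, 71, 71), (0, 0, 42, 48), (0, 0, 58, 15), (0, 0, 71, 70), (2, 56, 42, 56),
    (2, 42, 48, 46), (2, 70, 54, 54), (2, 71, 70, 68), (0, 0, 15, 29), (0, 0, 54, 39), (0, 0, 68, 53),
    (1, 18, 44, 24), (1, 18, 54, 36), (1, 32, 31, 34), (1, 32, 24, 25)]
    (by decide +kernel)

theorem genE7_0 (F : Type*) [Field F] [Fintype F] (h : 4 ≤ Fintype.card F) :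
    ∃ a b : chevE7.group F, Subgroup.closure ({a, b} : Set (chevE7.group F)) = ⊤ :=
  two_gen_large (D := chevE7) h ([6, 1, 2, 3, 5, 0, 4] : List (Fin 7)) 61 94 21 12
    [(0, 0, 61, 41), (0, 0, 94, 79), (0, 0, 41, 30), (0, 0, 79, 77), (0, 0, 30, 43), (0, 0, 77, 101),
    (0, 0, 43, 49), (0, 0, 101, 87), (0, 0, 49, 25), (0, 0, 87, 98), (0, 0, 25, 56), (0, 0, 98, 81),
    (0, 0, 56, 57), (0, 0, 81, 75), (0, 0, 57, 63), (0, 0, 75, 93), (0, 0, 63, 64), (0, 0, 93, 31),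
    (1, 61, 41, 40), (1, 61, 101, 100), (1, 61, 49, 50), (1, 61, 25, 24), (1, 61, 75, 76), (1, 94, 79, 99),
    (1, 94, 43, 23), (1, 94, 25, 45), (1, 94, 93, 52), (1, 101, 23, 62), (1, 49, 40, 47), (1, 49, 52, 71),
    (1, 25, 99, 59), (0, 0, 100, 69), (0, 0, 50, 32), (0, 0, 45, 78), (0, 0, 71, 66), (1, 94, 32, 73)]
    (by decide +kernel)

theorem genE7_2 (F : Type*) [Field F] [CharP F 2] (h : ∀ t : F, t = 0 ∨ t = 1 ∨ t = -1) :
    ∃ a b : chevE7.group F, Subgroup.closure ({a, b} : Set (chevE7.group F)) = ⊤ :=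
  two_gen_small (D := chevE7) (p := 2) h ([6, 1, 3, 4, 5, 0, 2] : List (Fin 7)) 45 45
    [(0, 0, 45, 20), (2, 20, 6, 6), (2, 6, 9, 9), (0, 0, 9, 3), (0, 0, 3, 8), (2, 3, 8, 2), (2, 8, 13, 13),
    (0, 0, 2, 0), (0, 0, 13, 48), (2, 0, 1, 1), (2, 5, 2, 5), (2, 22, 5, 22), (2, 1, 7, 7), (2, 46, 22, 46),
    (2, 76, 46, 76), (2, 48, 58, 58), (2, 114, 76, 114), (2, 118, 114, 118), (2, 124, 118, 124),
    (2, 125, 124, 125), (2, 123, 125, 123), (0, 0, 58, 80), (1, 45, 46, 66), (1, 45, 114, 122),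
    (1, 45, 123, 117), (1, 3, 2, 56), (1, 3, 7, 78), (1, 3, 58, 120), (1, 3, 118, 47), (1, 3, 123, 69),
    (1, 3, 66, 4), (1, 8, 9, 64), (1, 8, 7, 59), (1, 2, 1, 52), (1, 2, 124, 73), (1, 0, 1, 93),
    (1, 0, 124, 32), (1, 1, 48, 119), (1, 5, 6, 63), (1, 5, 4, 61), (1, 5, 119, 62)]
    (by decide +kernel)

theorem genE7_3 (F : Type*) [Field F] [CharP F 3] (h : ∀ t : F, t = 0 ∨ t = 1 ∨ t = -1) :
    ∃ a b : chevE7.group F, Subgroup.closure ({a, b} : Set (chevE7.group F)) = ⊤ :=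
  two_gen_small (D := chevE7) (p := 3) h ([2, 3, 1, 6, 0, 5, 4] : List (Fin 7)) 37 37
    [(0, 0, 37, 12), (2, 37, 12, 1), (2, 12, 21, 21), (2, 21, 34, 34), (0, 0, 1, 0), (0, 0, 34, 24),
    (2, 8, 1, 8), (2, 0, 2, 2), (2, 2, 3, 3), (2, 14, 8, 14), (2, 51, 14, 51), (2, 3, 19, 19),
    (2, 19, 45, 45), (2, 80, 51, 80), (2, 24, 55, 55), (2, 106, 80, 106), (2, 122, 106, 122),
    (2, 123, 122, 123), (0, 0, 45, 74), (0, 0, 55, 47), (1, 2, 37, 107), (1, 2, 1, 52), (1, 2, 3, 69),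
    (1, 2, 55, 121), (1, 2, 122, 56), (1, 3, 12, 81), (1, 3, 0, 30), (1, 3, 107, 40), (1, 3, 121, 59),
    (1, 51, 37, 44), (1, 51, 14, 23), (1, 51, 56, 73), (1, 51, 30, 32), (1, 19, 21, 66), (1, 19, 24, 70),
    (1, 19, 107, 63), (1, 45, 55, 78), (1, 45, 81, 64), (1, 45, 44, 61), (1, 55, 40, 35), (1, 55, 23, 18),
    (1, 106, 35, 93), (1, 106, 18, 62)]
    (by decide +kernel)

theorem genE8_0 (F : Type*) [Field F] [Fintype F] (h : 4 ≤ Fintype.card F) :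
    ∃ a b : chevE8.group F, Subgroup.closure ({a, b} : Set (chevE8.group F)) = ⊤ :=
  two_gen_large (D := chevE8) h ([1, 4, 3, 7, 0, 6, 2, 5] : List (Fin 8)) 109 39 5 8
    [(0, 0, 109, 76), (0, 0, 39, 31), (0, 0, 76, 162), (0, 0, 31, 44), (0, 0, 162, 148), (0, 0, 44, 47),
    (0, 0, 148, 134), (0, 0, 47, 85), (0, 0, 134, 172), (0, 0, 85, 73), (0, 0, 172, 156), (0, 0, 73, 92),
    (0, 0, 156, 177), (0, 0, 92, 141), (0, 0, 177, 189), (0, 0, 141, 131), (0, 0, 189, 160),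
    (0, 0, 131, 173), (0, 0, 160, 176), (0, 0, 173, 157), (0, 0, 176, 188), (0, 0, 157, 182),
    (0, 0, 188, 155), (0, 0, 182, 205), (0, 0, 155, 167), (0, 0, 205, 201), (0, 0, 167, 149),
    (0, 0, 201, 209), (0, 0, 149, 130), (0, 0, 209, 200), (1, 109, 44, 50), (1, 109, 189, 195),
    (1, 109, 131, 126), (1, 109, 188, 194), (1, 109, 149, 153), (1, 39, 155, 224), (1, 39, 167, 83),
    (1, 39, 201, 120), (1, 39, 50, 132), (1, 39, 126, 42), (1, 44, 176, 102), (1, 44, 194, 118),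
    (1, 44, 42, 116), (1, 156, 76, 51), (1, 156, 157, 121), (1, 156, 188, 163), (1, 156, 149, 108),
    (1, 156, 194, 164), (1, 156, 153, 113), (1, 156, 224, 199), (1, 189, 31, 5), (1, 131, 47, 38),
    (1, 131, 132, 123), (1, 131, 102, 104), (1, 188, 5, 30), (1, 201, 200, 119), (1, 209, 199, 98),
    (0, 0, 163, 77), (0, 0, 164, 135)]
    (by decide +kernel)

theorem genE8_2 (F : Type*) [Field F] [CharP F 2] (h : ∀ t : F, t = 0 ∨ t = 1 ∨ t = -1) :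
    ∃ a b : chevE8.group F, Subgroup.closure ({a, b} : Set (chevE8.group F)) = ⊤ :=
  two_gen_small (D := chevE8) (p := 2) h ([4, 7, 2, 6, 5, 1, 3, 0] : List (Fin 8)) 89 89
    [(0, 0, 89, 51), (2, 51, 33, 33), (2, 33, 37, 37), (0, 0, 37, 26), (2, 26, 20, 20), (0, 0, 20, 12),
    (2, 20, 12, 5), (2, 12, 23, 23), (2, 23, 36, 36), (0, 0, 5, 3), (0, 0, 36, 32), (2, 3, 0, 0),
    (2, 0, 1, 1), (2, 1, 2, 2), (2, 2, 4, 4), (2, 16, 5, 16), (2, 4, 8, 8), (2, 27, 16, 27), (2, 8, 22, 22),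
    (2, 49, 27, 49), (2, 22, 42, 42), (2, 32, 45, 45), (2, 91, 49, 91), (2, 42, 64, 64), (2, 130, 91, 130),
    (2, 175, 130, 175), (2, 197, 175, 197), (2, 217, 197, 217), (2, 231, 217, 231), (2, 235, 231, 235),
    (2, 237, 235, 237), (2, 238, 237, 238), (2, 239, 238, 239), (2, 236, 239, 236), (0, 0, 45, 62),
    (0, 0, 64, 109), (1, 3, 20, 180), (1, 3, 2, 116), (1, 3, 4, 126), (1, 3, 45, 212), (1, 3, 235, 113),
    (1, 3, 237, 123), (1, 0, 1, 120), (1, 0, 238, 119), (1, 0, 62, 223), (1, 0, 180, 17), (1, 1, 32, 202),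
    (1, 1, 2, 121), (1, 1, 237, 118), (1, 16, 130, 224), (1, 16, 109, 15), (1, 16, 113, 222),
    (1, 8, 224, 77), (1, 8, 15, 162), (1, 27, 37, 141), (1, 27, 202, 98), (1, 22, 17, 104),
    (1, 22, 222, 135)]
    (by decide +kernel)

theorem genE8_3 (F : Type*) [Field F] [CharP F 3] (h : ∀ t : F, t = 0 ∨ t = 1 ∨ t = -1) :
    ∃ a b : chevE8.group F, Subgroup.closure ({a, b} : Set (chevE8.group F)) = ⊤ :=
  two_gen_small (D := chevE8) (p := 3) h ([7, 5, 2, 6, 1, 0, 4, 3] : List (Fin 8)) 38 38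
    [(0, 0, 38, 30), (2, 38, 30, 0), (2, 30, 39, 39), (0, 0, 0, 1), (0, 0, 39, 33), (2, 2, 0, 2),
    (2, 5, 2, 5), (2, 1, 3, 3), (2, 3, 4, 4), (2, 16, 5, 16), (2, 4, 8, 8), (2, 26, 16, 26), (2, 8, 23, 23),
    (2, 47, 26, 47), (2, 33, 42, 42), (2, 23, 44, 44), (2, 90, 47, 90), (2, 42, 59, 59), (2, 44, 65, 65),
    (2, 130, 90, 130), (2, 65, 109, 109), (2, 174, 130, 174), (2, 109, 149, 149), (2, 195, 174, 195),
    (2, 216, 195, 216), (2, 231, 216, 231), (0, 0, 149, 192), (1, 8, 38, 176), (1, 8, 1, 89),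
    (1, 8, 42, 180), (1, 8, 44, 182), (1, 8, 59, 197), (1, 8, 195, 57), (1, 23, 1, 48), (1, 23, 109, 212),
    (1, 23, 176, 81), (1, 47, 5, 34), (1, 47, 109, 41), (1, 47, 182, 104), (1, 47, 57, 135),
    (1, 47, 48, 120), (1, 42, 39, 113), (1, 42, 44, 123), (1, 42, 195, 116), (1, 42, 176, 101),
    (1, 42, 41, 119), (1, 44, 4, 31), (1, 44, 34, 98), (1, 90, 89, 118), (1, 90, 116, 148),
    (1, 90, 101, 141), (1, 90, 31, 62), (1, 59, 212, 150), (1, 59, 81, 162), (1, 59, 62, 126),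
    (1, 130, 148, 152), (1, 174, 152, 77), (1, 149, 150, 121)]
    (by decide +kernel)

/-- Each Chevalley group of type G₂, B₂, D₄, F₄, E₆, E₇ or E₈ over a finite field is generated by two of its elements (types B₂ and G₂ over the field with two elements, where the group is not simple, excepted). -/
theorem result {F : Type*} [Field F] [Finite F] (D : Cfsg.Lie.ChevalleyDatum) (hD : D ∈ [Cfsg.Lie.chevG2, Cfsg.Lie.chevB2, Cfsg.Lie.chevD4, Cfsg.Lie.chevF4, Cfsg.Lie.chevE6, Cfsg.Lie.chevE7, Cfsg.Lie.chevE8])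
    (hF : D ∈ [Cfsg.Lie.chevB2, Cfsg.Lie.chevG2] → ∃ x : F, x ≠ 0 ∧ x ≠ 1) :
    ∃ a b : ↥(D.group F), Subgroup.closure ({a, b} : Set ↥(D.group F)) = ⊤ := by
  have := Fintype.ofFinite F
  simp only [List.mem_cons, List.not_mem_nil, or_false] at hD hF
  by_cases h4 : 4 ≤ Fintype.card F
  · rcases hD with rfl | rfl | rfl | rfl | rfl | rfl | rfl
    exacts [genG2_0 F h4, genB2_0 F h4, genD4_0 F h4, genF4_0 F h4, genE6_0 F h4, genE7_0 F h4, genE8_0 F h4]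
  have h1 : ∀ t : F, t = 0 ∨ t = 1 ∨ t = -1 := fun t => by
    have h2 := FiniteField.pow_card t
    have h3 := Fintype.one_lt_card (α := F)
    have h5 : t * (t - 1) * (t + 1) = 0 := by
      rcases (by omega : Fintype.card F = 2 ∨ Fintype.card F = 3) with e | e <;> rw [e] at h2
      · linear_combination (t + 1) * h2
      · linear_combination h2
    simpa [sub_eq_zero, add_eq_zero_iff_eq_neg, or_assoc] using h5
  by_cases h2 : (2 : F) = 0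
  · have := CharTwo.of_one_ne_zero_of_two_eq_zero one_ne_zero h2
    have h3 : ¬ ∃ x : F, x ≠ 0 ∧ x ≠ 1 := fun ⟨x, h, h'⟩ => by
      simpa [h, h', CharTwo.neg_eq] using h1 x
    rcases hD with rfl | rfl | rfl | rfl | rfl | rfl | rfl
    exacts [absurd (hF (Or.inr rfl)) h3, absurd (hF (Or.inl rfl)) h3, genD4_2 F h1, genF4_2 F h1, genE6_2 F h1,
      genE7_2 F h1, genE8_2 F h1]
  · have : CharP F 3 := by
      have : Fact (Nat.Prime 3) := ⟨Nat.prime_three⟩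
      refine (CharP.charP_iff_prime_eq_zero Nat.prime_three).2 ?_
      rcases h1 2 with h | h | h
      · exact absurd h h2
      · exact absurd (by linear_combination h) (one_ne_zero (α := F))
      · push_cast; linear_combination h
    rcases hD with rfl | rfl | rfl | rfl | rfl | rfl | rfl
    exacts [genG2_3 F h1, genB2_3 F h1, genD4_3 F h1, genF4_3 F h1, genE6_3 F h1, genE7_3 F h1, genE8_3 F h1]

end Cfsg.Agent.S2405
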