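import Mathlib
import Cfsg.Statements.S2468
import Cfsg.Agent.Cl.ClassOrd
import Cfsg.Agent.Cl.DerArith

set_option autoImplicit false
open Cfsg

namespace Cfsg.Agent.S2468

/-- Adjacency of two odd primes in the prime graph of PSL(n,q): let F be a finite field of characteristic p with q elements, n ≥ 2 with PSL(n,F) simple, and let r ≠ s be odd primes different from p dividing the order of PSL(n,F). Let k and l be the multiplicative orders of q modulo r and modulo s, and suppose 2 ≤ k ≤ l. Then PSL(n,F) has NO element of order r·s if and only if k + l > n and k does not divide l. -/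
theorem result {F : Type*} [Field F] [Fintype F] (p : ℕ) [Fact p.Prime] [CharP F p] (n : ℕ) (hn : 2 ≤ n) (hsmall : n = 2 → 4 ≤ Fintype.card F)
    (r s : ℕ) (hr : r.Prime) (hs : s.Prime) (hr2 : r ≠ 2) (hs2 : s ≠ 2) (hrp : r ≠ p) (hsp : s ≠ p) (hrs : r ≠ s)
    (hrG : r ∣ Nat.card (Matrix.ProjectiveSpecialLinearGroup (Fin n) F)) (hsG : s ∣ Nat.card (Matrix.ProjectiveSpecialLinearGroup (Fin n) F))
    (k l : ℕ) (hk : k = orderOf ((Fintype.card F : ℕ) : ZMod r)) (hl : l = orderOf ((Fintype.card F : ℕ) : ZMod s))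
    (h2k : 2 ≤ k) (hkl : k ≤ l) :
    (r * s ∉ Set.range (orderOf : Matrix.ProjectiveSpecialLinearGroup (Fin n) F → ℕ)) ↔ (n < k + l ∧ ¬ k ∣ l) := by
  have := Fact.mk hr
  have := Fact.mk hs
  have hp : p.Prime := Fact.out
  have hinj := Cl.Cls.zpow_card_injective F (AlgebraicClosure F)
  have : NeZero n := ⟨by omega⟩
  rw [Cl.Cls.range_orderOf_PSL_fin (AlgebraicClosure F) p]
  rw [← Int.cast_natCast] at hk hl
  have hln : l ≤ n := hl ▸ Cl.Cls.orderOf_le_of_dvd_eOrd hs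
    (by rwa [Int.natAbs_natCast, Cl.Der.dvd_card_iff (p := p)])
    (by rw [← Cl.Cls.card_SL_eq, ← Cl.card_psl_mul]; exact hsG.mul_left _)
  generalize (Fintype.card F : ℤ) = a at *
  have h1 : ∀ {r : ℕ}, r.Prime → 2 ≤ orderOf (a : ZMod r) → r.Coprime (a - 1).natAbs :=
    fun hr h => (Nat.Prime.coprime_iff_not_dvd hr).2 fun h1 => by
      rw [← pow_one a] at h1
      exact absurd (h.trans (Nat.le_of_dvd one_pos (Cl.Cls.dvd_natAbs_pow_sub_one_iff.1 h1)))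
        (by decide)
  have hc := (Nat.coprime_primes hr hs).2 hrs
  have hcr := (Nat.coprime_primes hr hp).2 hrp
  have hcs := (Nat.coprime_primes hs hp).2 hsp
  have h2 := h1 hr (hk ▸ h2k)
  have h3 := h1 hs (hl ▸ h2k.trans hkl)
  have h4 : r ∣ (a ^ k - 1).natAbs := Cl.Cls.dvd_natAbs_pow_sub_one_iff.2 hk.symm.dvd
  have h5 : s ∣ (a ^ l - 1).natAbs := Cl.Cls.dvd_natAbs_pow_sub_one_iff.2 hl.symm.dvd
  constructor
  · intro h
    refine ⟨lt_of_not_ge fun h6 => h ?_, fun h6 => h ?_⟩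
    · obtain ⟨μ, h7, rfl⟩ := Cl.Cls.exists_orderOf_eq (K := AlgebraicClosure F) p hcr
      obtain ⟨ν, h8, rfl⟩ := Cl.Cls.exists_orderOf_eq (K := AlgebraicClosure F) p hcs
      rw [← Nat.add_sub_cancel' h6]
      exact Cl.Cls.mem_ESpec_two_orb h7 h8 (by omega) (by omega)
        ((Cl.Cls.zpow_pow_eq_self_iff h7 _).2 h4) ((Cl.Cls.zpow_pow_eq_self_iff h8 _).2 h5) _
        (by rw [Cl.Cls.jdet_orb_eq_one h7 (Cl.Cls.dvd_specS_of_coprime h4 h2),
          Cl.Cls.jdet_orb_eq_one h8 (Cl.Cls.dvd_specS_of_coprime h5 h3), one_mul]) hc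
    · obtain ⟨μ, h7, h8⟩ := Cl.Cls.exists_orderOf_eq (K := AlgebraicClosure F) p (hcr.mul_left hcs)
      have h9 : orderOf μ ∣ (a ^ l - 1).natAbs := h8 ▸ hc.mul_dvd_of_dvd_of_dvd
        (Cl.Cls.dvd_natAbs_pow_sub_one_iff.2 (hk ▸ h6)) h5
      have h10 : (orderOf μ).Coprime (a - 1).natAbs := h8 ▸ h2.mul_left h3
      rw [← Nat.add_sub_cancel' hln, ← h8]
      exact Cl.Cls.mem_ESpec_orb_ones h7 (by omega) ((Cl.Cls.zpow_pow_eq_self_iff h7 _).2 h9) _
        (Cl.Cls.jdet_orb_eq_one h7 (Cl.Cls.dvd_specS_of_coprime h9 h10) _) h10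
  · rintro ⟨h6, h7⟩ ⟨J, hJ, -, h⟩
    obtain ⟨μ, h8, h9⟩ := Cl.Cls.exists_dvd_orderOf hJ h hp hr hrp (dvd_mul_right _ _)
    obtain ⟨ν, h10, h11⟩ := Cl.Cls.exists_dvd_orderOf hJ h hp hs hsp (dvd_mul_left _ _)
    have h12 := hk ▸ Cl.Cls.orderOf_zmod_dvd_per (a := a) (hJ.ne_zero_of_mem h8) h9
    have h13 := hl ▸ Cl.Cls.orderOf_zmod_dvd_per (a := a) (hJ.ne_zero_of_mem h10) h11
    have h14 := Nat.le_of_dvd (hJ.per_pos hinj h8) h12
    have h15 := Nat.le_of_dvd (hJ.per_pos hinj h10) h13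
    have h16 := hJ.per_le hinj h10
    obtain ⟨i, hi, hx⟩ := Cl.Cls.mem_unmult.1 h8
    obtain ⟨j, hj, hy⟩ := Cl.Cls.mem_unmult.1 h10
    obtain ⟨h17, -⟩ | h17 := hJ.per_eq_or hinj hx hy
    · refine h7 ?_
      rwa [← h17, Nat.eq_of_dvd_of_lt_two_mul (by omega) h13 (by omega)] at h12
    · have := Nat.le_mul_of_pos_left (Cl.Cls.per a μ) (Nat.pos_of_ne_zero hi)
      have := Nat.le_mul_of_pos_left (Cl.Cls.per a ν) (Nat.pos_of_ne_zero hj)
      simp only at h17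
      omega

end Cfsg.Agent.S2468
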