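import Mathlib
import Cfsg.Statements.S2469
import Cfsg.Agent.Cl.ClassSpOSpec

set_option autoImplicit false
open Cfsg

namespace Cfsg.Agent.S2469

/-- Adjacency of two odd primes in the prime graph of PSp(2n,q): let F be a finite field of characteristic p with q elements, n ≥ 2 with PSp(2n,F) simple, and let r ≠ s be odd primes different from p dividing the order of PSp(2n,F). Let k, l be the multiplicative orders of q modulo r and s, put η(m) = m for odd m and η(m) = m/2 for even m, and suppose η(k) ≤ η(l). Then PSp(2n,F) has NO element of order r·s if and only if η(k) + η(l) > n and l/k is not an odd integer. -/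
theorem result {F : Type*} [Field F] [Fintype F] (p : ℕ) [Fact p.Prime] [CharP F p] (n : ℕ) (hn : 2 ≤ n) (hsmall : n = 2 → 3 ≤ Fintype.card F)
    (r s : ℕ) (hr : r.Prime) (hs : s.Prime) (hr2 : r ≠ 2) (hs2 : s ≠ 2) (hrp : r ≠ p) (hsp : s ≠ p) (hrs : r ≠ s)
    (hrG : r ∣ Nat.card (Cfsg.PSp n F)) (hsG : s ∣ Nat.card (Cfsg.PSp n F))
    (k l ηk ηl : ℕ) (hk : k = orderOf ((Fintype.card F : ℕ) : ZMod r)) (hl : l = orderOf ((Fintype.card F : ℕ) : ZMod s))
    (hηk : (Odd k ∧ ηk = k) ∨ (Even k ∧ 2 * ηk = k)) (hηl : (Odd l ∧ ηl = l) ∨ (Even l ∧ 2 * ηl = l)) (hkl : ηk ≤ ηl) :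
    (r * s ∉ Set.range (orderOf : Cfsg.PSp n F → ℕ)) ↔ (n < ηk + ηl ∧ ¬ ∃ t : ℕ, Odd t ∧ l = k * t) := by
  classical
  have := Fact.mk hr
  have := Fact.mk hs
  have hq : 0 < Fintype.card F := Fintype.card_pos
  have hc := (Nat.coprime_primes hr hs).2 hrs
  have hk0 := Cl.SpO.eta_pos p hrp hk hηk
  have hl0 := Cl.SpO.eta_pos p hsp hl hηl
  have hr' := (hr.odd_of_ne_two hr2).coprime_two_right
  have hs' := (hs.odd_of_ne_two hs2).coprime_two_right
  constructor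
  · intro h
    by_contra h1
    rw [not_and_or, not_lt, not_not] at h1
    rcases h1 with h1 | ⟨t, ht, h1⟩
    · obtain ⟨μ, h2, h3, h4⟩ := Cl.SpO.exists_root_eta p (AlgebraicClosure F) hrp hk hηk
      obtain ⟨ν, h5, h6, h7⟩ := Cl.SpO.exists_root_eta p (AlgebraicClosure F) hsp hl hηl
      obtain ⟨x, h8, h9, -⟩ := Cl.SpO.exists_PSp_orbits p (n := n) h2 h5 hk0 h4 h7 h1
      exact h (Cl.spec_mem_of_dvd x (hc.mul_dvd_of_dvd_of_dvd
        (hr'.dvd_of_dvd_mul_left (h3 ▸ h8)) (hs'.dvd_of_dvd_mul_left (h6 ▸ h9 hl0))))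
    · obtain ⟨y, hy⟩ := exists_prime_orderOf_dvd_card' s hsG
      obtain ⟨g, rfl⟩ := QuotientGroup.mk_surjective y
      obtain ⟨ν, a1, a2, a3, a4⟩ := Cl.SpO.exists_orbit (K := AlgebraicClosure F) p g hs2 hsp
        hy.symm.dvd
      obtain ⟨e, R, b1, b2, -, b4, -⟩ :=
        Cl.SpO.split_orbit (Cl.evs_map_frob _) (Cl.evs_specSp_map g) a1 a3
      have h5 := Nat.le_of_dvd b1 (Cl.SpO.eta_le hl hηl a2 a4 b2)
      have h6 := congrArg Multiset.card b4
      rw [Cl.evs_specSp_card, Multiset.card_add, Cl.card_specPM] at h6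
      obtain ⟨μ, h2, h3, h4⟩ := Cl.spec_exists_torus_gen p (AlgebraicClosure F) (N := r * s) hl0 (by
        rcases hηl with ⟨c1, c2⟩ | ⟨c1, c2⟩
        · exact .inl (hc.mul_dvd_of_dvd_of_dvd
            ((Cl.Der.dvd_pow_sub_one_iff hq _).2 (hk ▸ ⟨t, c2.trans h1⟩))
            ((Cl.Der.dvd_pow_sub_one_iff hq _).2 (hl ▸ c2.symm.dvd)))
        · rw [h1, Nat.even_mul, or_iff_left (Nat.not_even_iff_odd.2 ht)] at c1
          obtain ⟨j, hj⟩ := c1
          obtain ⟨u, rfl⟩ := ht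
          refine .inr (hc.mul_dvd_of_dvd_of_dvd ?_ ?_) <;>
            rw [Cl.Der.dvd_pow_add_one_iff, Cl.SpO.pow_eq_neg_one_iff ‹_›]
          · rw [← hk, c2, h1, show ηl = k * u + j by nlinarith, Nat.dvd_add_right (dvd_mul_right _ _)]
            exact ⟨dvd_mul_right _ _, fun h => by have := Nat.le_of_dvd (by omega) h; omega⟩
          · rw [← hl]
            exact ⟨c2.symm.dvd, fun h => by have := Nat.le_of_dvd hl0 h; omega⟩)
      obtain ⟨x, h8, -⟩ := Cl.SpO.exists_PSp_orbits p (n := n) (ν := 1) (f := 0) h2 one_ne_zero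
        hl0 h4 (by simp) (by omega)
      exact h (Cl.spec_mem_of_dvd x ((hr'.mul_left hs').dvd_of_dvd_mul_left (h3 ▸ h8)))
  · rintro ⟨h, h'⟩ ⟨x, hx⟩
    obtain ⟨g, rfl⟩ := QuotientGroup.mk_surjective x
    obtain ⟨μ, h1, h2, h3, h4⟩ := Cl.SpO.exists_orbit (K := AlgebraicClosure F) p g hr2 hrp
      (hx ▸ dvd_mul_right r s)
    obtain ⟨ν, h5, h6, h7, h8⟩ := Cl.SpO.exists_orbit (K := AlgebraicClosure F) p g hs2 hsp
      (hx ▸ dvd_mul_left s r)
    obtain ⟨e, R, a1, a2, -, a4, a5, a6⟩ :=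
      Cl.SpO.split_orbit (Cl.evs_map_frob _) (Cl.evs_specSp_map g) h1 h3
    have c1 := Cl.SpO.eta_le hk hηk h2 h4 a2
    have c2 := congrArg Multiset.card a4
    rw [Cl.evs_specSp_card, Multiset.card_add, Cl.card_specPM] at c2
    rcases Multiset.mem_add.1 (a4 ▸ h5) with h9 | h9
    · have c3 : s ∣ orderOf μ := h8.trans (orderOf_dvd_of_pow_eq_one
        ((Cl.SpecOrb.of_mem_specPM h9).pow_eq_one (pow_orderOf_eq_one μ)))
      obtain ⟨u, rfl⟩ := Cl.SpO.eta_le hl hηl h2 c3 a2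
      obtain rfl : u = 1 := by
        rcases u with _ | _ | u
        · simp at a1
        · rfl
        · nlinarith
      rw [mul_one] at *
      rcases Cl.spec_orderOf_dvd_pm h2 a2 with c4 | c4
      · have c5 := (Cl.Der.dvd_pow_sub_one_iff hq _).1 (h4.trans c4)
        have c6 := Nat.le_of_dvd hl0 ((Cl.Der.dvd_pow_sub_one_iff hq _).1 (c3.trans c4))
        rw [← hk] at c5
        obtain ⟨t, ht⟩ := c5
        rcases hηl with ⟨c7, c8⟩ | ⟨c7, c8⟩
        · exact h' ⟨t, (Nat.odd_mul.1 (ht ▸ c8 ▸ c7)).2, c8 ▸ ht⟩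
        · omega
      · have c5 := (Cl.Der.dvd_pow_add_one_iff _ _).1 (h4.trans c4)
        have c6 := (Cl.Der.dvd_pow_add_one_iff _ _).1 (c3.trans c4)
        rw [Cl.SpO.pow_eq_neg_one_iff ‹_›] at c5 c6
        rw [← hk] at c5
        rw [← hl] at c6
        obtain ⟨⟨t, ht⟩, c7⟩ := c5
        rcases hηl with ⟨-, c8⟩ | ⟨-, c8⟩
        · exact c6.2 c8.symm.dvd
        · refine h' ⟨t, Nat.not_even_iff_odd.1 ?_, c8 ▸ ht⟩
          rintro ⟨v, rfl⟩
          exact c7 ⟨v, by nlinarith⟩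
    · obtain ⟨f, S, b1, b2, -, b4, -⟩ := Cl.SpO.split_orbit a5 a6 h9 h7
      have c3 := Nat.le_of_dvd b1 (Cl.SpO.eta_le hl hηl h6 h8 b2)
      have c4 := Nat.le_of_dvd a1 c1
      rw [b4, Multiset.card_add, Cl.card_specPM] at c2
      omega

end Cfsg.Agent.S2469
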