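import Mathlib
import Cfsg.Statements.S2470
import Cfsg.Agent.Cl.ClassOrdSmall
import Cfsg.Agent.Cl.DerArith

set_option autoImplicit false
open Cfsg

namespace Cfsg.Agent.S2470

/-- Adjacency of an odd prime and the characteristic in the prime graph of PSL(n,q): let F be a finite field of characteristic p with q elements, n ≥ 2 with PSL(n,F) simple, and let r ≠ p be an odd prime dividing the order of PSL(n,F), with k the multiplicative order of q modulo r. Then PSL(n,F) has NO element of order r·p if and only if either k > n − 2, or n = 3, r = 3 and 3 divides q − 1 exactly once. -/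
theorem result {F : Type*} [Field F] [Fintype F] (p : ℕ) [Fact p.Prime] [CharP F p] (n : ℕ) (hn : 2 ≤ n) (hsmall : n = 2 → 4 ≤ Fintype.card F)
    (r : ℕ) (hr : r.Prime) (hr2 : r ≠ 2) (hrp : r ≠ p) (hrG : r ∣ Nat.card (Matrix.ProjectiveSpecialLinearGroup (Fin n) F))
    (k : ℕ) (hk : k = orderOf ((Fintype.card F : ℕ) : ZMod r)) :
    (r * p ∉ Set.range (orderOf : Matrix.ProjectiveSpecialLinearGroup (Fin n) F → ℕ)) ↔
      (n - 2 < k ∨ (n = 3 ∧ r = 3 ∧ 3 ∣ Fintype.card F - 1 ∧ ¬ 9 ∣ Fintype.card F - 1)) := by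
  have := Fact.mk hr
  have hp : p.Prime := Fact.out
  have hinj := Cl.Cls.zpow_card_injective F (AlgebraicClosure F)
  have hpa := Cl.Cls.char_dvd_card F p
  have hk0 : 0 < k := hk ▸ Cl.Der.orderOf_pos_of_ne_zero (Cl.Der.natCast_ne_zero_of_card hrp)
  have hq : 1 ≤ Fintype.card F := Fintype.card_pos
  rw [Cl.Cls.range_orderOf_PSL_fin (AlgebraicClosure F) p,
    ← show ((Fintype.card F : ℤ) - 1).natAbs = Fintype.card F - 1 by omega]
  rw [← Int.cast_natCast] at hk
  generalize (Fintype.card F : ℤ) = a at *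
  have h1 : r ∣ (a - 1).natAbs ↔ k = 1 := by
    rw [← pow_one a, Cl.Cls.dvd_natAbs_pow_sub_one_iff, ← hk, Nat.dvd_one]
  have h2 : p ^ Nat.clog p 2 = p := by rw [Nat.clog_eq_one le_rfl hp.two_le, pow_one]
  have h3 : ¬ r ∣ p ^ Nat.clog p n := fun h =>
    hrp ((Nat.prime_dvd_prime_iff_eq hr hp).1 (hr.dvd_of_dvd_pow h))
  constructor
  · intro h
    by_contra h4
    rw [not_or, not_lt] at h4
    refine h ?_
    by_cases h5 : k = 1
    · obtain rfl | h6 : n = 3 ∨ 4 ≤ n := by omega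
      · by_cases h6 : r = 3
        · subst h6
          exact Cl.Cls.mul_mem_ESpec_three hpa (b := 9)
            (by_contra fun h6 => h4.2 ⟨rfl, rfl, h1.2 h5, h6⟩)
        · have h7 := Cl.Cls.mul_mem_ESpec_three (K := AlgebraicClosure F) hpa (h1.2 h5)
          rwa [(Nat.coprime_primes Nat.prime_three hr).2 (Ne.symm h6), Nat.div_one] at h7
      · have h7 := Cl.Cls.mul_mem_ESpec_of_dvd (K := AlgebraicClosure F) hpa (h1.2 h5) two_pos
          (n - 4)
        rwa [h2, show 1 + 1 + 2 + (n - 4) = n by omega] at h7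
    · have hc := (Nat.coprime_primes hr hp).2 hrp
      have h6 : r ∣ (a ^ k - 1).natAbs := Cl.Cls.dvd_natAbs_pow_sub_one_iff.2 hk.symm.dvd
      have h7 := (Nat.Prime.coprime_iff_not_dvd hr).2 (mt h1.1 h5)
      obtain ⟨μ, h0, rfl⟩ := Cl.Cls.exists_orderOf_eq (K := AlgebraicClosure F) p hc
      have h8 := Cl.Cls.mem_ESpec_orb_block (D := (· = 1)) h0 hk0
        ((Cl.Cls.zpow_pow_eq_self_iff h0 _).2 h6) two_pos (n - 2 - k)
        (Cl.Cls.jdet_orb_eq_one h0 (Cl.Cls.dvd_specS_of_coprime h6 h7) _) hc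
      rwa [h2, show k + 2 + (n - 2 - k) = n by omega] at h8
  · rintro h4 ⟨J, hJ, h5, h⟩
    obtain ⟨x, hx, h6⟩ := Cl.Cls.exists_two_le hinj hJ h hp hpa (dvd_mul_left _ _)
    obtain h4 | ⟨rfl, rfl, h7, h8⟩ := h4
    · obtain ⟨l, h7, h8, h9⟩ := Cl.Cls.exists_per_of_dvd hinj hJ h hp hpa hr hrp
        (dvd_mul_right _ _) (dvd_mul_left _ _)
      have := Nat.le_of_dvd h7 (hk ▸ Cl.Cls.dvd_natAbs_pow_sub_one_iff.1 h8)
      exact h3 ((dvd_mul_right _ _).trans (Cl.Cls.dvd_pow_clog_of_le hJ h hx (by omega)))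
    · have h9 := (dvd_mul_right _ _).trans ((h _).2 (Cl.Cls.jOrd_mul hJ
        (hJ.three_block hinj h5 hx h6) fun y hy => Cl.Cls.pow_clog_dvd (hJ.le hy)))
      rw [Nat.gcd_eq_left h7, Nat.Prime.dvd_mul hr, or_iff_left h3,
        Nat.dvd_div_iff_mul_dvd h7] at h9
      exact h8 h9

end Cfsg.Agent.S2470
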