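import Cfsg.Statements.S2477
import Cfsg.Agent.Sym.Order

set_option autoImplicit false
open Cfsg

namespace Cfsg.Agent.S2477

/-- The set of element orders of the alternating group of degree 10 is {1, 2, 3, 4, 5, 6, 7, 8, 9, 10, 12, 15, 21}. -/
theorem result : Set.range (orderOf : alternatingGroup (Fin 10) → ℕ) = {1, 2, 3, 4, 5, 6, 7, 8, 9, 10, 12, 15, 21} := by
  ext k
  rw [Sym.mem_range_orderOf_alternating_iff, Fintype.card_fin]
  constructor
  · rintro ⟨m, h1, h2, h3, rfl⟩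
    revert h3
    refine Sym.forall_multiset_of_partsLe (P := fun m => Even (m.sum + m.card) →
      m.lcm ∈ ({1, 2, 3, 4, 5, 6, 7, 8, 9, 10, 12, 15, 21} : Set ℕ)) ?_ m h1 h2
    simp only [Set.mem_insert_iff, Set.mem_singleton_iff]
    decide +kernel
  · have : ∀ k ∈ [1, 2, 3, 4, 5, 6, 7, 8, 9, 10, 12, 15, 21], ∃ l ∈ Sym.partsLe 10 10 10,
        (l : Multiset ℕ).sum ≤ 10 ∧ (∀ a ∈ (l : Multiset ℕ), 2 ≤ a) ∧
        Even ((l : Multiset ℕ).sum + (l : Multiset ℕ).card) ∧ (l : Multiset ℕ).lcm = k := by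
      decide +kernel
    intro hk
    obtain ⟨l, -, h⟩ := this k (by simpa using hk)
    exact ⟨l, h⟩

end Cfsg.Agent.S2477
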