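import Mathlib
import Cfsg.Agent.Inv.SylowNumber
import Cfsg.Agent.Chev.ReeUtil
import Cfsg.Statements.S2490

set_option autoImplicit false
open Cfsg

namespace Cfsg.Agent.S2490

/-- Let G be a finite group of order 7920 = 2⁴·3²·5·11 (the order of the smallest Mathieu group) and suppose its prime graph (vertices the prime divisors of the order, distinct p, q joined when there is an element of order pq) is disconnected: the prime divisors split into two non-empty parts with no element of order pq for p in one part and q in the other. Then G is simple. -/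
theorem result {G : Type*} [Group G] [Finite G] (hord : Nat.card G = 7920)
    (hdisc : (∃ A : Set ℕ, (∃ a ∈ A, a.Prime ∧ a ∣ Nat.card G) ∧ (∃ b ∉ A, b.Prime ∧ b ∣ Nat.card G) ∧
      ∀ a ∈ A, ∀ b ∉ A, a.Prime → b.Prime → a ∣ Nat.card G → b ∣ Nat.card G → ¬ ∃ g : G, orderOf g = a * b)) :
    IsSimpleGroup G := by
  by_contra hs
  have h11 : Fact (Nat.Prime 11) := ⟨by norm_num⟩
  have := Fact.mk Nat.prime_three
  have h := Inv.SN.card_sylow_mem (p := 11) (n := 7920) (by norm_num)
    (Inv.SN.noPow_of_list (by norm_num) [2, 3, 5] (by simp; norm_num) (by decide +kernel))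
    {1, 12} (by simp) (fun S _ _ _ h1 h2 h3 h4 => by
      have h5 := Inv.SN.card_mem_of_certs h1 (by norm_num) h3 h2 h11.out [660, 7920]
        [(22,2,11),(33,3,11),(44,2,11),(55,5,11),(66,11,0),(88,2,11),(99,3,11),(110,11,0),
         (132,11,0),(165,11,0),(176,2,11),(198,11,0),(220,11,0),(264,11,0),(330,11,0),(396,11,0),
         (440,11,0),(495,11,0),(528,11,0),(792,11,0),(880,11,0),(990,5,0),(1320,11,0),(1584,11,0),
         (1980,11,0),(2640,11,0),(3960,11,0)]
        (by decide +kernel)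
      simp only [List.mem_cons, h4, List.not_mem_nil, or_false] at h5
      obtain ⟨P⟩ : Nonempty (Sylow 11 S) := inferInstance
      have h6 := P.card_dvd_index
      have h7 := (P : Subgroup S).index_mul_card
      rw [Chev.ReeUtil.card_sylow_eq (k := 1) (n := 60) h5 (by norm_num) P, h5] at h7
      rw [show (P : Subgroup S).index = 60 by omega] at h6
      have h8 := card_sylow_modEq_one 11 S
      have h9 := Nat.le_of_dvd (by norm_num) h6
      unfold Nat.ModEq at h8
      simp only [Set.mem_insert_iff, Set.mem_singleton_iff]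
      interval_cases Nat.card (Sylow 11 S) <;> omega) _ G hord dvd_rfl fun _ => hs
  have h2 : ¬ 11 ^ 2 ∣ Nat.card G := by rw [hord]; norm_num
  obtain ⟨x, hx⟩ := exists_prime_orderOf_dvd_card' (G := G) 11 (by rw [hord]; norm_num)
  obtain ⟨e, he, hN⟩ := Inv.PS.exists_card_normalizer hx
  have h3 := (Subgroup.normalizer (Subgroup.zpowers x : Set G)).index_mul_card
  rw [← Inv.PS.card_sylow_eq h2 hx, hN, hord] at h3
  have hedge : ∀ (a b : ℕ) (y : G), a.Prime → b.Prime → a ≠ b → orderOf y = a →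
      b ∣ Nat.card (Subgroup.centralizer ({y} : Set G)) → (∃ g : G, orderOf g = a * b) ∧
        ∃ g : G, orderOf g = b * a := fun a b y ha hb hab hy hd => by
    have := Fact.mk hb
    obtain ⟨⟨z, hz⟩, hz'⟩ := exists_prime_orderOf_dvd_card' b hd
    replace hz' : orderOf z = b := (Subgroup.orderOf_mk _ _).symm.trans hz'
    have h4 := Commute.orderOf_mul_eq_mul_orderOf_of_coprime
      (Subgroup.mem_centralizer_singleton_iff.1 hz)
      (by rw [hy, hz']; exact (Nat.coprime_primes hb ha).2 hab.symm)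
    rw [hy, hz'] at h4
    exact ⟨⟨_, h4.trans (mul_comm _ _)⟩, _, h4⟩
  have h4 : 2 ∣ Nat.card (Subgroup.centralizer ({x} : Set G)) ∧
      3 ∣ Nat.card (Subgroup.centralizer ({x} : Set G)) ∧
      (5 ∣ Nat.card (Subgroup.centralizer ({x} : Set G)) ∨ 5 ∣ e) := by
    have h5 := Nat.le_of_dvd (by norm_num) he
    rcases h with h | h <;> rw [h] at h3 <;> interval_cases e <;> omega
  have e1 := hedge 11 2 x h11.out Nat.prime_two (by norm_num) hx h4.1
  have e2 := hedge 11 3 x h11.out Nat.prime_three (by norm_num) hx h4.2.1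
  have e3 : ((∃ g : G, orderOf g = 11 * 5) ∧ ∃ g : G, orderOf g = 5 * 11) ∨
      ((∃ g : G, orderOf g = 5 * 3) ∧ ∃ g : G, orderOf g = 3 * 5) := by
    by_cases h5 : 5 ∣ Nat.card (Subgroup.centralizer ({x} : Set G))
    · exact Or.inl (hedge 11 5 x h11.out Nat.prime_five (by norm_num) hx h5)
    have := Fact.mk Nat.prime_five
    obtain ⟨⟨y, hy⟩, hy'⟩ := exists_prime_orderOf_dvd_card'
      (G := Subgroup.normalizer (Subgroup.zpowers x : Set G)) 5
      (hN ▸ (h4.2.2.resolve_left h5).mul_right _)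
    replace hy' : orderOf y = 5 := (Subgroup.orderOf_mk _ _).symm.trans hy'
    obtain ⟨Q, -, hQ, hQ'⟩ := Inv.SN.exists_sylow_centralized Nat.prime_five (x := y) (k := 1)
      (by rw [pow_one, ← hy', pow_orderOf_eq_one]) (K := Subgroup.centralizer ({x} : Set G))
      (Inv.PS.centralizer_zpowers x ▸ Chev.ReeUtil.normalizer_le_normalizer_centralizer _ hy) h5
      (q := 3) fun j h6 h7 => by
        have h8 := h6.trans (Subgroup.card_subgroup_dvd_card _)
        rw [hord] at h8
        rcases j with _ | _ | _ | j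
        · rfl
        · norm_num at h7
        · norm_num at h7
        · exact absurd ((pow_dvd_pow 3 (show 3 ≤ j + 1 + 1 + 1 by omega)).trans h8) (by norm_num)
    refine Or.inr (hedge 5 3 y Nat.prime_five Nat.prime_three (by norm_num) hy'
      (Dvd.dvd.trans ?_ (Subgroup.card_dvd_of_le (H := Q) fun z hz =>
        Subgroup.mem_centralizer_singleton_iff.2 (hQ' z hz))))
    rw [hQ]
    exact dvd_pow_self 3 (Nat.prime_three.factorization_pos_of_dvd Nat.card_pos.ne' h4.2.1).ne'
  obtain ⟨A, ⟨a, ha, ha1, ha2⟩, ⟨b, hb, hb1, hb2⟩, hA⟩ := hdisc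
  have hpr : ∀ r : ℕ, r.Prime → r ∣ Nat.card G → r = 2 ∨ r = 3 ∨ r = 5 ∨ r = 11 := fun r hr hd => by
    rw [hord, show 7920 = 2 ^ 4 * (3 ^ 2 * (5 * 11)) from rfl, hr.dvd_mul, hr.dvd_mul,
      hr.dvd_mul] at hd
    rcases hd with hd | hd | hd | hd
    · exact Or.inl ((Nat.prime_dvd_prime_iff_eq hr Nat.prime_two).1 (hr.dvd_of_dvd_pow hd))
    · exact Or.inr (Or.inl ((Nat.prime_dvd_prime_iff_eq hr Nat.prime_three).1 (hr.dvd_of_dvd_pow hd)))
    · exact Or.inr (Or.inr (Or.inl ((Nat.prime_dvd_prime_iff_eq hr Nat.prime_five).1 hd)))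
    · exact Or.inr (Or.inr (Or.inr ((Nat.prime_dvd_prime_iff_eq hr h11.out).1 hd)))
  have hiff : ∀ r s : ℕ, r.Prime → s.Prime → r ∣ 7920 → s ∣ 7920 →
      (∃ g : G, orderOf g = r * s) ∧ (∃ g : G, orderOf g = s * r) → (r ∈ A ↔ s ∈ A) :=
    fun r s hr hs h5 h6 h7 => ⟨fun h8 => by_contra fun h9 => hA r h8 s h9 hr hs (hord ▸ h5)
      (hord ▸ h6) h7.1, fun h8 => by_contra fun h9 => hA s h8 r h9 hs hr (hord ▸ h6)
      (hord ▸ h5) h7.2⟩
  have i1 := hiff 11 2 h11.out Nat.prime_two (by norm_num) (by norm_num) e1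
  have i2 := hiff 11 3 h11.out Nat.prime_three (by norm_num) (by norm_num) e2
  have i3 : 11 ∈ A ↔ 5 ∈ A := e3.elim (hiff 11 5 h11.out Nat.prime_five (by norm_num) (by norm_num))
    fun h5 => i2.trans (hiff 5 3 Nat.prime_five Nat.prime_three (by norm_num) (by norm_num) h5).symm
  rcases hpr a ha1 ha2 with rfl | rfl | rfl | rfl <;>
    rcases hpr b hb1 hb2 with rfl | rfl | rfl | rfl <;> tauto

end Cfsg.Agent.S2490
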