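import Mathlib
import Cfsg.Statements.S2496
import Cfsg.Agent.Cl.ClassOrd
import Cfsg.Agent.NT.Zsigmondy
import Cfsg.Agent.S2671
import Cfsg.Agent.Cl.DerArith

set_option autoImplicit false
open Cfsg

namespace Cfsg.Agent.S2496

/-- Let q be an odd prime power, n ≥ 4 even, and U = PSU(n,q) (realised over the field with q² elements). Then U has an element of order q^(n/2) + (−1)^(n/2) — that is, q^(n/2) + 1 when n/2 is even and q^(n/2) − 1 when n/2 is odd — if and only if the 2-part of n exceeds the 2-part of q + 1. -/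
theorem result {F : Type*} [Field F] [Fintype F] {q : ℕ} (hF : Fintype.card F = q ^ 2) (hodd : Odd q)
    {n : ℕ} (hn : 4 ≤ n) (heven : Even n) :
    (∃ g : Cfsg.PSU n F q, orderOf g = if Even (n / 2) then q ^ (n / 2) + 1 else q ^ (n / 2) - 1) ↔
      padicValNat 2 (q + 1) < padicValNat 2 n := by
  obtain ⟨m, rfl⟩ := even_iff_two_dvd.1 heven
  obtain ⟨p, hp⟩ := CharP.exists F
  have := Fact.mk (CharP.char_is_prime F p)
  obtain ⟨σ, hσ⟩ := Cl.exists_uField hF
  have hq := hσ.two_le
  have hq2 : q ≠ 2 := fun h => by rw [h] at hodd; exact absurd hodd (by decide)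
  obtain ⟨r, hr, h1⟩ : ∃ r : ℕ, r.Prime ∧ orderOf (-(q : ZMod r)) = 2 * m := by
    obtain ⟨r, hr, h1⟩ := NT.zsigmondy_orderOf (a := q) (n := if Even m then 2 * m else m) hq
      (by split_ifs <;> omega) (fun h => hq2 h.1) (fun h => by
        have := h.1
        split_ifs at this with h2
        · omega
        · exact h2 (this ▸ even_two))
    have := Fact.mk hr
    have h0 : (q : ZMod r) ≠ 0 := fun h => by
      rw [h, orderOf_zero] at h1
      split_ifs at h1 <;> omega
    have h2 : r ≠ 2 := by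
      rintro rfl
      have := Cl.Der.orderOf_le_sub_one h0
      split_ifs at h1 <;> omega
    refine ⟨r, hr, ?_⟩
    rw [S2671.orderOf_neg hr h2 _ h0, h1]
    by_cases h3 : Even m
    · rw [if_pos h3, if_neg (by simp), if_neg (by rw [Nat.even_iff] at h3; omega)]
    · rw [if_neg h3, if_pos (Nat.not_even_iff_odd.1 h3)]
  have h := Cl.Cls.half_torus_iff (hσ.spec_zpow_injective (K := AlgebraicClosure F))
    (Cl.Cls.char_dvd_neg hσ p) (Cl.Cls.two_le_natAbs_neg hσ) (show 0 < m by omega)
    (Cl.Cls.range_orderOf_PSU _ p hσ (by omega)) hr (by rwa [Int.cast_neg, Int.cast_natCast])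
  rw [show (-(q : ℤ) - 1).natAbs = q + 1 by omega] at h
  rw [← h, Nat.mul_div_cancel_left _ two_pos]
  have h2 := Nat.one_le_pow m q (by omega)
  split_ifs with h3
  · rw [h3.neg_pow, ← Nat.cast_pow, show ((q ^ m : ℕ) + 1 : ℤ).natAbs = q ^ m + 1 by omega]
  · rw [(Nat.not_even_iff_odd.1 h3).neg_pow, ← Nat.cast_pow,
      show (-(q ^ m : ℕ) + 1 : ℤ).natAbs = q ^ m - 1 by omega]

end Cfsg.Agent.S2496
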