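import Cfsg.Statements.S2509
import Cfsg.Agent.Cl.PlnMain
-- import your own Cfsg.Agent.* helpers here

set_option autoImplicit false
open Cfsg

namespace Cfsg.Agent.S2509

/-- Let G be a finite direct product of groups PSp_{2m_i}(F_i) (the symplectic group on a 2m_i-dimensional space modulo its centre), where each m_i is a power of 2 (m_i = 1, giving PSL₂, is allowed), each F_i is a finite field of odd order, and each factor PSp_{2m_i}(F_i) is a simple group. Then every subgroup H of G of odd index is pronormal in G: for every g ∈ G the subgroups H and gHg⁻¹ are conjugate by an element of the subgroup they generate. -/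
theorem result {t : ℕ}
    (m : Fin t → ℕ) (F : Fin t → Type*) [∀ i, Field (F i)] [∀ i, Fintype (F i)]
    (hm : ∀ i, ∃ k : ℕ, m i = 2 ^ k) (hodd : ∀ i, Odd (Fintype.card (F i)))
    (hs : ∀ i, IsSimpleGroup (Cfsg.PSp (m i) (F i)))
    (H : Subgroup (Π i, Cfsg.PSp (m i) (F i))) (hH : Odd H.index) : Cfsg.IsPronormal H := by
  
  have hF : ∀ i, Odd (Nat.card (F i)) := fun i => by rw [Nat.card_eq_fintype_card]; exact hodd i
  have e := fun i => (Cfsg.Agent.Cl.Pln.exists_sp_equiv (F := F i) (ι := Fin (m i))
    (Cfsg.Agent.Cl.sp_two_ne_zero_of_odd (hF i))).some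
  refine (Cfsg.Agent.Cl.Pln.allPro_pi fun i =>
    Cfsg.Agent.Cl.Pln.good_unitary (hF i) (hm i).choose_spec).map
    (MonoidHom.piMap fun i => (QuotientGroup.mk' _).comp (e i).toMonoidHom) (fun y => ?_) H
    (by rwa [← even_iff_two_dvd, Nat.not_even_iff_odd])
  choose x hx using fun i => ((QuotientGroup.mk'_surjective _).comp (e i).surjective) (y i)
  exact ⟨x, funext hx⟩

end Cfsg.Agent.S2509
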