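import Cfsg.Statements.S2530
import Mathlib
import Cfsg.Agent.Sym.Present

set_option autoImplicit false
open Cfsg

namespace Cfsg.Agent.S2530

/-- The Coxeter presentation of the symmetric group: for every n, the symmetric group on n+1 letters is the Coxeter group of type A_n with the adjacent transpositions (i, i+1) as simple reflections; that is, it is presented by generators r_1, …, r_n subject to r_i² = 1, (r_i r_j)² = 1 for |i − j| > 1 and (r_i r_{i+1})³ = 1, with r_i mapping to (i, i+1). -/
theorem result (n : ℕ) :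
    ∃ cs : CoxeterSystem (CoxeterMatrix.A n) (Equiv.Perm (Fin (n + 1))), ∀ i : Fin n, cs.simple i = Equiv.swap i.castSucc i.succ := by
  let cs₀ := (CoxeterMatrix.A n).toCoxeterSystem
  have hA : ∀ i j : Fin n, (CoxeterMatrix.A n) i j =
      if i = j then 1 else (if (j : ℕ) + 1 = i ∨ (i : ℕ) + 1 = j then 3 else 2) := fun _ _ => rfl
  obtain ⟨φ, hφ⟩ := Sym.exists_hom_of_coxeter n cs₀.simple cs₀.simple_mul_simple_self
    (fun i j hij => by
      refine Sym.braid_of_pow_three (cs₀.simple_mul_simple_self i)
        (cs₀.simple_mul_simple_self j) ?_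
      have := cs₀.simple_mul_simple_pow i j
      rwa [hA, if_neg (by rintro rfl; omega), if_pos (Or.inr hij)] at this)
    (fun i j hij => by
      have := cs₀.simple_mul_simple_pow i j
      rw [hA, if_neg (by rintro rfl; omega), if_neg (by omega), pow_two] at this
      have e3 := eq_inv_of_mul_eq_one_left this
      rwa [mul_inv_rev, cs₀.inv_simple, cs₀.inv_simple] at e3)
  have hl : (CoxeterMatrix.A n).IsLiftable
      (fun i : Fin n => (Equiv.swap i.castSucc i.succ : Equiv.Perm (Fin (n + 1)))) := by
    intro i j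
    rw [hA]
    split_ifs with h1 h2
    · subst h1; simp
    · refine Sym.pow_three_of_braid (Equiv.swap_mul_self _ _) (Equiv.swap_mul_self _ _) ?_
      rcases h2 with h2 | h2
      · have e : i.castSucc = j.succ := Fin.ext (by simp [h2])
        simp only [e]
        exact (Sym.swap_braid (by simp [Fin.ext_iff]) (by simp [Fin.ext_iff]; omega)
          (by simp [Fin.ext_iff]; omega)).symm
      · have e : j.castSucc = i.succ := Fin.ext (by simp [h2])
        simp only [e]
        exact Sym.swap_braid (by simp [Fin.ext_iff]) (by simp [Fin.ext_iff]; omega)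
          (by simp [Fin.ext_iff]; omega)
    · have h1' : (i : ℕ) ≠ j := fun h => h1 (Fin.ext h)
      rw [(Sym.commute_swap_swap ?_ ?_ ?_ ?_).mul_pow]
      · simp [pow_two]
      all_goals simp [Fin.ext_iff]; omega
  let ψ := cs₀.lift ⟨_, hl⟩
  have hψ : ∀ i, ψ (cs₀.simple i) = Equiv.swap i.castSucc i.succ := fun i =>
    cs₀.lift_apply_simple hl i
  have h1 : ψ.comp φ = MonoidHom.id _ := by
    refine MonoidHom.eq_of_eqOn_dense (Sym.closure_swap_castSucc_succ n) ?_
    rintro _ ⟨i, rfl⟩
    simp [hφ, hψ]
  have h2 : φ.comp ψ = MonoidHom.id _ := by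
    refine cs₀.ext_simple fun i => ?_
    simp [hφ, hψ]
  exact ⟨cs₀.map (MonoidHom.toMulEquiv ψ φ h2 h1), fun i => hψ i⟩

end Cfsg.Agent.S2530
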