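import Mathlib
import Cfsg.Statements.S2649
import Cfsg.Agent.Spor.X23.Cm

set_option autoImplicit false
set_option linter.style.haveILetI false
set_option linter.unusedVariables false
open Cfsg

namespace Cfsg.Agent.S2649

/-- Extensions of the Mathieu group M₂₃ by its code module split. Let E be a finite group with a normal subgroup N, an isomorphism φ from E/N onto M₂₃ = `Spor.M23` (the stabiliser of the extra point `none` in M₂₄ acting on the 24 points `GolayPt`), and an injective additive homomorphism ψ from N onto the set of words of the binary Golay code `golayCode` that vanish at `none` (an 11-dimensional space over the field with two elements), such that conjugation by g ∈ E on N corresponds under ψ to the coordinate permutation w ↦ w ∘ σ⁻¹, σ the permutation φ(gN). Then N has a complement in E: some subgroup H meets N trivially and generates E together with N. (Equivalently, the second cohomology group of M₂₃ with coefficients in this module vanishes.) -/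
theorem result
    {E : Type*} [Group E] [Finite E] (N : Subgroup E) [hN : N.Normal]
    (φ : E ⧸ N ≃* ↥Cfsg.Spor.M23)
    (ψ : Additive ↥N →+ (Cfsg.GolayPt → ZMod 2)) (hinj : Function.Injective ψ)
    (hrange : ∀ w : Cfsg.GolayPt → ZMod 2, w ∈ Set.range ψ ↔ (w ∈ Cfsg.golayCode ∧ w none = 0))
    (hψ : ∀ (g : E) (n : ↥N),
      ψ (Additive.ofMul ⟨g * n * g⁻¹, hN.conj_mem n n.2 g⟩)
        = ψ (Additive.ofMul n) ∘ ⇑(((φ (QuotientGroup.mk g) : ↥Cfsg.Spor.M23) : Equiv.Perm Cfsg.GolayPt)⁻¹)) :
    ∃ H : Subgroup E, H ⊓ N = ⊥ ∧ H ⊔ N = ⊤ := by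
  have X : Spor.X23.Ext (φ.toMonoidHom.comp (QuotientGroup.mk' N))
      fun m w => ∃ h : m ∈ N, ψ (Additive.ofMul ⟨m, h⟩) = w :=
    { surj := φ.surjective.comp (QuotientGroup.mk'_surjective N)
      ker := fun m w ⟨h, _⟩ => by simpa using h
      ex := fun m hm => ⟨_, by simpa using hm, rfl⟩
      mul := by
        rintro m _ m' _ ⟨h, rfl⟩ ⟨h', rfl⟩
        exact ⟨N.mul_mem h h', by rw [← map_add]; rfl⟩
      one := ⟨N.one_mem, map_zero ψ⟩
      zero := by
        rintro m ⟨h, h1⟩
        exact congrArg Subtype.val (congrArg Additive.toMul (hinj (h1.trans (map_zero ψ).symm)))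
      conj := by
        rintro g m _ ⟨h, rfl⟩
        exact ⟨hN.conj_mem m h g, hψ g ⟨m, h⟩⟩ }
  have := Spor.X23.split_C X (fun w => by
    rw [← hrange]
    exact ⟨fun ⟨m, h, h1⟩ => ⟨_, h1⟩, fun ⟨a, ha⟩ => ⟨a.toMul.1, a.toMul.2, ha⟩⟩) (by
    rintro m _ _ ⟨h, rfl⟩ ⟨h', rfl⟩
    rfl)
  rwa [Spor.X23.ker_phi] at this

end Cfsg.Agent.S2649
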