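import Mathlib
import Cfsg.Agent.Spor.FC.J
import Cfsg.Statements.S2652
-- import your own Cfsg.Agent.* helpers here

set_option autoImplicit false
open Cfsg

namespace Cfsg.Agent.S2652

/-- Let T be a Sylow 2-subgroup of the Fischer group Fi₂₃ (the finitely presented group `Spor.Fi23`; T has order 2¹⁸). Then every elementary abelian subgroup of Fi₂₃ contained in T and normal in T has order at most 2¹¹, and there is exactly one such subgroup of order 2¹¹. -/
theorem result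
    (T : Sylow 2 Cfsg.Spor.Fi23) :
    (∀ A : Subgroup Cfsg.Spor.Fi23, A ≤ T → (A.subgroupOf T).Normal → Cfsg.IsElementaryAbelian 2 A →
        Nat.card A ≤ 2 ^ 11) ∧
    ∃! A : Subgroup Cfsg.Spor.Fi23, A ≤ T ∧ (A.subgroupOf T).Normal ∧ Cfsg.IsElementaryAbelian 2 A ∧
        Nat.card A = 2 ^ 11 := by
  have h := Cfsg.Agent.Spor.TT.g23_E23
  have k := Cfsg.Agent.Spor.FC.big23 h T
  have hV := Cfsg.Agent.Spor.FC.VT_elem h.fis.set T.isPGroup'
  refine ⟨fun A h1 _ h2 => k.card_le h1 h2, _, ⟨Cfsg.Agent.Spor.FC.VT_le, ?_, hV, k.1⟩,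
    fun A hA => k.eq hA.1 hA.2.2.1 hA.2.2.2⟩
  rw [← k.thJ hV]
  exact (Subgroup.normal_subgroupOf_iff_le_normalizer (Cfsg.Agent.GT.thJ_le _ _)).2
    (Cfsg.Agent.GT.le_normalizer_thJ _ _)

end Cfsg.Agent.S2652
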