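import Mathlib
import Cfsg.Statements.S2800
import Cfsg.Agent.GT.ThompsonWeak

set_option autoImplicit false
open Cfsg

namespace Cfsg.Agent.S2800

open Subgroup Cfsg.Agent.GT
open scoped commutatorElement Pointwise

/-- Let S be a Sylow p-subgroup of the finite group G and J(S) the subgroup generated by the abelian subgroups of S of largest order. Suppose p is odd, or the symmetric group of degree 4 is not involved in G. If both C_G(Z(S)) and N_G(J(S)) have normal p-complements, then G has a normal p-complement. -/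
theorem result {G : Type*} [Group G] [Finite G] {p : ℕ} [Fact p.Prime] (S : Sylow p G) (h : p ≠ 2 ∨ ¬ Cfsg.Involves (Equiv.Perm (Fin 4)) G) (hC : Cfsg.HasNormalPComplement p ↥(Subgroup.centralizer (((S : Subgroup G) ⊓ Subgroup.centralizer ((S : Subgroup G) : Set G) : Subgroup G) : Set G))) (hN : Cfsg.HasNormalPComplement p ↥(Subgroup.normalizer ((Cfsg.thompsonSubgroupAOf (S : Subgroup G)) : Set G))) : Cfsg.HasNormalPComplement p G := by
  rw [thompsonSubgroupAOf_eq] at hN
  refine th_reduction (p := p) (fun G _ => p ≠ 2 ∨ ¬ Involves (Equiv.Perm (Fin 4)) G) (ThHyp p 0)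
    (fun _ _ _ H h => h.imp_right fun h1 h2 =>
      h1 (Loc.CF.involves_trans h2 (Loc.CF.involves_subgroup H)))
    (fun _ _ _ N _ h => h.imp_right fun h1 h2 =>
      h1 (Loc.CF.involves_trans h2 (Loc.CF.involves_quotient N)))
    (fun _ _ _ => ThHyp.sub) (fun _ _ _ => ThHyp.quot) (fun _ _ _ => ThHyp.loc (dvd_zero p))
    ?_ G S h ⟨hN, hC⟩
  intro G _ _ P hC hm h
  have h1 : normalizer (thJ 0 (P : Subgroup G) : Set G) = P := by
    rcases (le_normalizer_thJ 0 (P : Subgroup G)).eq_or_lt with h1 | h1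
    · exact h1.symm
    · exact absurd (th_hasNPC_of_eq_top h.1 (hm.coatom.2 _ h1)) hm.not_nilp
  refine hm.not_nilp (th_hasNPC_of_eq_top h.2 (eq_top_iff.2 fun g _ x hx => ?_))
  have h2 : x ∈ pCore p G := hm.charP (centralizer_le (pCore_le_sylow P) hx.2)
  exact (mul_inv_eq_iff_eq_mul.1 (weaklyClosed_of_thJ P hx.1 (h1.symm ▸ hx.2)
    (hC.imp_right Or.inr) g (pCore_le_sylow P (Normal.conj_mem inferInstance x h2 g)))).symm

end Cfsg.Agent.S2800
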