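import Cfsg.Statements.S2803
import Cfsg.Agent.Loc.MssRed

set_option autoImplicit false
open Cfsg

namespace Cfsg.Agent.S2803

open Cfsg.Agent.GT Cfsg.Agent.Loc.Mss Subgroup
open scoped commutatorElement

/-- Let L be a finite group and p a prime with C_L(O_p(L)) ≤ O_p(L), T a Sylow p-subgroup, and Y the largest p-reduced normal subgroup of L. Put T_L = C_T(Y) and L_T = N_L(T_L). Then L = L_T · C_L(Y) (elementwise), T_L = O_p(L_T), and Y = Ω₁(Z(T_L)). -/
theorem result {L : Type*} [Group L] [Finite L] {p : ℕ} [Fact p.Prime] (hchar : Subgroup.centralizer (Cfsg.pCore p L : Set L) ≤ Cfsg.pCore p L) (T : Sylow p L) (Y : Subgroup L) (hY : (Cfsg.IsPReducedNormal p Y ∧ ∀ V : Subgroup L, Cfsg.IsPReducedNormal p V → V ≤ Y)) (TL : Subgroup L) (hTL : TL = (T : Subgroup L) ⊓ Subgroup.centralizer (Y : Set L)) : (∀ g : L, ∃ a ∈ Subgroup.normalizer (TL : Set L), ∃ c ∈ Subgroup.centralizer (Y : Set L), g = a * c) ∧ (Cfsg.pCore p ↥(Subgroup.normalizer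 (TL : Set L))).map (Subgroup.normalizer (TL : Set L)).subtype = TL ∧ Y = Cfsg.omegaOne p (TL ⊓ Subgroup.centralizer (TL : Set L)) := by
  have hY' := Y_top_eq_of hY
  have hr := isPReducedNormal_iff_top.mp hY.1
  have hS : Syl p TL (⊤ ⊓ 𝐂[Y]) := hTL ▸ syl_inf_cent (Syl.of_sylow T) hr.norm
  refine ⟨fun g => ?_, ?_, ?_⟩
  · obtain ⟨k, hk, m, hm, e⟩ := hS.frattini' (n := g)
      (norm_inf (X := ⊤) le_normalizer (norm_cent hr.norm) (mem_top g))
    exact ⟨k, hk, m, hm.2, e⟩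
  · have := hr.core_norm_syl hS
    rwa [top_inf_eq] at this
  · rw [← hY'] at hS ⊢
    exact Y_eq_oz (chP_top.mpr hchar) hS

end Cfsg.Agent.S2803
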