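import Cfsg.Statements.S2806
import Cfsg.Agent.Loc.MssTrace
import Cfsg.Agent.GT.Subnormal3
import Cfsg.Agent.GT.PGroupChain
import Cfsg.Agent.GT.PElementClosure

set_option autoImplicit false
open Cfsg

namespace Cfsg.Agent.S2806

open Cfsg.Agent.GT Cfsg.Agent.Loc.Mss Subgroup
open scoped commutatorElement

theorem kieler_loc {H : Type*} [Group H] [Finite H] {p : ℕ} [Fact p.Prime]
    (hH : ∀ P : Subgroup H, IsPGroup p P → P ≠ ⊥ → ChP p 𝐍[P]) {T L : Subgroup H}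
    (hT : Syl p T ⊤) (hL : SubnormalIn L ⊤) :
    T ⊓ L ≠ ⊥ → L ⊓ 𝐂[ΩZ[p, T]] = L ⊓ 𝐂[ΩZ[p, T ⊓ L]] := by
  refine hL.induction_on
    (motive := fun L => T ⊓ L ≠ ⊥ → L ⊓ 𝐂[ΩZ[p, T]] = L ⊓ 𝐂[ΩZ[p, T ⊓ L]])
    (fun _ => by rw [inf_top_eq]) ?_
  intro K M hKM hn hM ih hne
  have hR : Syl p (T ⊓ M) M := hT.inf_subnormal hM
  have e : T ⊓ M ⊓ K = T ⊓ K := by rw [inf_assoc, inf_eq_right.mpr hKM]
  have h2 : ∀ C, K ⊓ C = K ⊓ (M ⊓ C) := fun C => by rw [← inf_assoc, inf_eq_left.mpr hKM]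
  rw [h2, ih fun h => hne (eq_bot_iff.mpr ((inf_le_inf_left T hKM).trans h.le)), ← h2]
  have hRn : T ⊓ M ≤ 𝐍[ΩZ[p, T ⊓ K]] :=
    norm_oz (norm_inf (norm_of_le inf_le_left) (inf_le_right.trans hn))
  have hZ : ΩZ[p, T ⊓ K] ≠ ⊥ := oz_ne_bot hT.pg.to_inf_left hne
  have hD : ΩZ[p, T ⊓ K] ⊓ ΩZ[p, T ⊓ M] ≠ ⊥ := by
    intro h
    refine PG.inf_centralizer_ne_bot_of_isPGroup (ea_oz (p := p) (T ⊓ K)).isPGroup hR.pg hRn hZ (eq_bot_iff.mpr ?_)
    refine le_trans (le_inf inf_le_left (le_oz ((ea_oz _).mono inf_le_left)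
      (inf_le_left.trans ((oz_le _).trans (inf_le_inf_left T hKM))) inf_le_right)) h.le
  set D := ΩZ[p, T ⊓ K] ⊓ ΩZ[p, T ⊓ M]
  have hRD : T ⊓ M ≤ 𝐍[D] := norm_inf hRn (norm_oz le_normalizer)
  have hN : ChP p (M ⊓ 𝐍[D]) :=
    (hH D (ea_oz (p := p) (T ⊓ K)).isPGroup.to_inf_left hD).of_subnormal (hM.inf_right le_top)
  have h3 := kieler_normal hN (hR.mono (le_inf inf_le_right hRD) inf_le_left)
    (inf_le_inf_right 𝐍[D] hKM) (norm_inf (inf_le_left.trans hn) (norm_of_le inf_le_right))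
  rw [← inf_assoc, e, inf_eq_left.mpr ((inf_le_inf_left T hKM).trans hRD), inf_assoc K, inf_assoc K,
    inf_eq_right.mpr ((cent_anti (inf_le_right : D ≤ _)).trans (cent_le_norm D)),
    inf_eq_right.mpr ((cent_anti (inf_le_left : D ≤ _)).trans (cent_le_norm D))] at h3
  exact h3

theorem ps_eq {H : Type*} [Group H] [Finite H] {p : ℕ} [hp : Fact p.Prime]
    (hH : ∀ P : Subgroup H, IsPGroup p P → P ≠ ⊥ → ChP p 𝐍[P]) {T L : Subgroup H}
    (hT : Syl p T ⊤) (hL : SubnormalIn L ⊤) :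
    pointStabilizer p L (T ⊓ L) = pElementClosure p (L ⊓ 𝐂[ΩZ[p, T]]) := by
  change pElementClosure p (L ⊓ 𝐂[ΩZ[p, T ⊓ L]]) = _
  by_cases h : T ⊓ L = ⊥
  · have h1 := (pElementClosure_eq_bot_iff hp.out).mpr ((hT.inf_subnormal hL).eq_bot_iff.mp h)
    rw [eq_bot_iff.mpr ((pElementClosure_mono inf_le_left).trans h1.le),
      eq_bot_iff.mpr ((pElementClosure_mono inf_le_left).trans h1.le)]
  · rw [kieler_loc hH hT hL h]

/-- Let H be a finite group of local characteristic p, T a Sylow p-subgroup, and L₁, L₂ subnormal subgroups of H generating the subgroup L. Then the point stabilizer of L with respect to T ∩ L is generated by the point stabilizers of L₁ and L₂ with respect to T ∩ L₁ and T ∩ L₂ (point stabilizer of X w.r.t. R: the subgroup generated by the p-elements of X centralizing Ω₁(Z(R))). -/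
theorem result {H : Type*} [Group H] [Finite H] {p : ℕ} [Fact p.Prime] (hH : Cfsg.IsOfLocalCharacteristic p H) (T : Sylow p H) (L₁ L₂ : Subgroup H) (h₁ : L₁.IsSubnormal) (h₂ : L₂.IsSubnormal) : Cfsg.pointStabilizer p (L₁ ⊔ L₂) ((T : Subgroup H) ⊓ (L₁ ⊔ L₂)) = Cfsg.pointStabilizer p L₁ ((T : Subgroup H) ⊓ L₁) ⊔ Cfsg.pointStabilizer p L₂ ((T : Subgroup H) ⊓ L₂) := by
  have hH' : ∀ P : Subgroup H, IsPGroup p P → P ≠ ⊥ → ChP p 𝐍[P] := fun P h1 h2 =>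
    chP_iff.mp (hH.2 P h1 h2)
  have hT := Syl.of_sylow T
  rw [ps_eq hH' hT (subnormalIn_top_iff.mpr h₁), ps_eq hH' hT (subnormalIn_top_iff.mpr h₂),
    ps_eq hH' hT (subnormalIn_top_iff.mpr (isSubnormal_sup h₁ h₂))]
  refine le_antisymm (pElementClosure_le_iff.mpr ?_) (sup_le
    (pElementClosure_mono (inf_le_inf_right _ le_sup_left))
    (pElementClosure_mono (inf_le_inf_right _ le_sup_right)))
  rintro x ⟨hx, hxC⟩ ⟨k, hk⟩
  have hC := hT.mono (le_cent_oz (p := p) (T : Subgroup H)) le_top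
  have hxp : IsPGroup p (zpowers x) := IsPGroup.of_card (by rw [Nat.card_zpowers, hk])
  obtain ⟨g, hg, hxg⟩ := hC.le_conj hxp (zpowers_le.mpr hxC)
  obtain ⟨T', hT'⟩ := (hT.cj_mem (mem_top g)).exists_sylow_top
  have hTC : (T' : Subgroup H) ≤ 𝐂[ΩZ[p, (T : Subgroup H)]] := hT' ▸ (hC.cj_mem hg).le
  have h3 : x ∈ (L₁ ⊔ L₂) ⊓ T' := ⟨hx, hT' ▸ hxg (mem_zpowers x)⟩
  rw [sup_inf_sylow_of_isSubnormal T' h₁ h₂] at h3
  exact sup_le_sup (le_pElementClosure T'.isPGroup'.to_inf_right (inf_le_inf_left _ hTC))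
    (le_pElementClosure T'.isPGroup'.to_inf_right (inf_le_inf_left _ hTC)) h3

end Cfsg.Agent.S2806
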