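import Cfsg.Statements.S2810
import Cfsg.Agent.Loc.MssSyl

set_option autoImplicit false
open Cfsg

namespace Cfsg.Agent.S2810

open Cfsg.Agent.GT Cfsg.Agent.Loc.Mss Subgroup
open scoped commutatorElement

/-- Let H be a finite group of characteristic p and L a subgroup of H centralizing every factor of some H-invariant chain 1 = A₀ ≤ A₁ ≤ … ≤ Aₙ = O_p(H) of normal subgroups (that is, [A_{i+1}, L] ≤ Aᵢ for each i). Then L ≤ O_p(H). -/
theorem result {H : Type*} [Group H] [Finite H] {p : ℕ} [Fact p.Prime] (hchar : Subgroup.centralizer (Cfsg.pCore p H : Set H) ≤ Cfsg.pCore p H) (L : Subgroup H) (n : ℕ) (A : Fin (n + 1) → Subgroup H) (h0 : A 0 = ⊥) (hn : A (Fin.last n) = Cfsg.pCore p H) (hmono : Monotone A) (hnorm : ∀ i, (A i).Normal) (hcent : ∀ i : Fin n, ⁅A i.succ, L⁆ ≤ A i.castSucc) : L ≤ Cfsg.pCore p H := by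
  set D : Subgroup H := ⨅ i : Fin n, cmod (A i.succ) (A i.castSucc) with hD
  have hLD : L ≤ D := le_iInf fun i => le_cmod.mpr ⟨have := hnorm i.castSucc; norm_normal _ _, hcent i⟩
  have hDn : D.Normal := normal_iInf_normal fun i => normal_of_top (norm_cmod
    (have := hnorm i.succ; norm_normal _ _) (have := hnorm i.castSucc; norm_normal _ _))
  have key : ∀ i, ⁅pCore p H, pResidualOf p D⁆ ≤ A i := by
    intro i
    induction i using Fin.reverseInduction with
    | last => rw [hn]; exact comm_le_left (norm_normal _ _)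
    | cast i ih =>
      exact comm_res_le_of_le (isPGroup_pCore p) (norm_normal _ _) ih
        ((commutator_mono le_rfl ((res_le D).trans (iInf_le _ i))).trans (comm_cmod_le _ _))
  have h1 := key 0
  rw [h0, le_bot_iff, comm_eq_bot_iff'] at h1
  exact hLD.trans (le_pCore (pg_of_res_le (isPGroup_pCore p) (h1.trans hchar)))

end Cfsg.Agent.S2810
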