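import Cfsg.Statements.S2813
import Cfsg.Agent.Loc.MssSyl

set_option autoImplicit false
open Cfsg

namespace Cfsg.Agent.S2813

open Cfsg.Agent.GT Cfsg.Agent.Loc.Mss Subgroup
open scoped commutatorElement

/-- Let K be a subgroup of the finite group H with O_p(K) = 1 and Y a p-subgroup of N_H(K) with [K, Y, Y] = 1. Then [K, Y] = 1. -/
theorem result {H : Type*} [Group H] [Finite H] {p : ℕ} [Fact p.Prime] (K : Subgroup H) (hO : Cfsg.pCore p ↥K = ⊥) (Y : Subgroup H) (hY : IsPGroup p ↥Y) (hYK : Y ≤ Subgroup.normalizer (K : Set H)) (hq : ⁅⁅K, Y⁆, Y⁆ = ⊥) : ⁅K, Y⁆ = ⊥ := by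
  have h1 : ncl K Y ≤ 𝐍[Y] := by
    rw [ncl_eq]; exact sup_le (norm_of_cent (comm_eq_bot_iff.mp hq)) le_normalizer
  have h2 : SubnormalIn Y (K ⊔ Y) :=
    SubnormalIn.step (le_ncl K Y) h1 (SubnormalIn.of_le_normalizer
      (ncl_le le_sup_right (norm_of_le le_sup_left))
      (sup_le (le_norm_ncl K Y) (norm_of_le (le_ncl K Y))))
  have h3 : ⁅K, Y⁆ ≤ pCoreOf p (K ⊔ Y) ⊓ K :=
    le_inf ((commutator_mono le_rfl (le_core_of_subnormal h2 hY)).trans
      (comm_le_right (le_sup_left.trans (le_norm_core _)))) (comm_le_left hYK)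
  exact eq_bot_iff.mpr (h3.trans ((pCoreOf_inf_le le_sup_left).trans
    (pCoreOf_eq_bot_iff.mpr hO).le))

end Cfsg.Agent.S2813
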