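import Cfsg.Statements.S2815
import Cfsg.Agent.Loc.MssFStar

set_option autoImplicit false
open Cfsg

namespace Cfsg.Agent.S2815

open Cfsg.Agent.GT Cfsg.Agent.Loc.Mss Subgroup
open scoped commutatorElement

/-- Let H be a finite group and p a prime dividing its order with O_p(H) = 1, and suppose K = O^p(H) (generated by the elements of order prime to p) is quasisimple. Then K = F*(H); for every nontrivial p-subgroup Y of H, K = [K, Y] and K lies in the subgroup generated by the K-conjugates of Y; every normal subgroup of H not containing K has order prime to p; and H is p-irreducible. -/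
theorem result {H : Type*} [Group H] [Finite H] {p : ℕ} [Fact p.Prime] (hp : p ∣ Nat.card H) (hO : Cfsg.pCore p H = ⊥) (hq : Cfsg.IsQuasisimple ↥(Cfsg.pResidual p H)) : Cfsg.pResidual p H = Cfsg.generalizedFittingSubgroup H ∧ (∀ Y : Subgroup H, IsPGroup p ↥Y → Y ≠ ⊥ → ⁅Cfsg.pResidual p H, Y⁆ = Cfsg.pResidual p H ∧ Cfsg.pResidual p H ≤ ⨆ k : ↥(Cfsg.pResidual p H), Y.map (MulAut.conj (k : H)).toMonoidHom) ∧ (∀ C : Subgroup H, C.Normal → ¬ Cfsg.pResidual p H ≤ C → (Nat.card ↥C).Coprime p) ∧ Cfsg.IsPIrreducible p H := by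
  have hK : IsComponent (pResidual p H) := isComponent_iff.mpr ⟨Normal.isSubnormal inferInstance, hq⟩
  have h1 := coprime_cent_res hO
  have h2 : 𝐂[pResidual p H] ≤ pResidual p H := le_pResidual h1
  have h3 : ∀ C : Subgroup H, C.Normal → ¬ pResidual p H ≤ C → (Nat.card C).Coprime p :=
    fun C hC h => Nat.Coprime.coprime_dvd_left (card_dvd_of_le (cent_comm
      ((hK.le_or_le_centralizer hC.isSubnormal).resolve_left h))) h1
  refine ⟨le_antisymm hK.le_genFitting (genFitting_le_of_centralizer_le hK.isSubnormal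
    ((cent_comm hK.le_centralizer_fitting).trans h2) h2), fun Y hY h0 => ?_, h3, fun h => ?_,
    fun N hN h => ?_⟩
  · have h4 := comm_res_of_quasisimple hO hq hY h0
    exact ⟨h4, h4.ge.trans (le_sup_left.trans (ncl_eq _ Y).ge)⟩
  · have h4 := pCl_iff_syl.mp (isPClosed_iff_top.mp h)
    rw [pCoreOf_top, hO] at h4
    have h5 := h4.eq_bot_iff.mp rfl
    rw [card_top] at h5
    exact (Nat.Prime.coprime_iff_not_dvd Fact.out).mp h5.symm hp
  · by_contra h4
    exact h (isPClosed_iff.mpr (pCl_of_coprime (h3 N hN h4)))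

end Cfsg.Agent.S2815
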