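import Cfsg.Statements.S2816
import Cfsg.Agent.Loc.MssFStar

set_option autoImplicit false
open Cfsg

namespace Cfsg.Agent.S2816

open Cfsg.Agent.GT Cfsg.Agent.Loc.Mss Subgroup
open scoped commutatorElement

/-- Let H be a finite group and p a prime with O_p(H) = 1, and Y a p-subgroup of H. Then for every subnormal subgroup K of H containing Y, [F*(H), Y] = [F*(K), Y] = [F*(K), Y, Y]; and if Y₀ ≤ Y with [F*(H), Y, Y₀] = 1 then Y₀ = 1 (in particular [F*(H), Y] = 1 forces Y = 1). -/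
theorem result {H : Type*} [Group H] [Finite H] {p : ℕ} [Fact p.Prime] (hO : Cfsg.pCore p H = ⊥) (Y : Subgroup H) (hY : IsPGroup p ↥Y) : (∀ K : Subgroup H, K.IsSubnormal → Y ≤ K → ⁅Cfsg.generalizedFittingSubgroup H, Y⁆ = ⁅(Cfsg.generalizedFittingSubgroup ↥K).map K.subtype, Y⁆ ∧ ⁅(Cfsg.generalizedFittingSubgroup ↥K).map K.subtype, Y⁆ = ⁅⁅(Cfsg.generalizedFittingSubgroup ↥K).map K.subtype, Y⁆, Y⁆) ∧ (∀ Y₀ : Subgroup H, Y₀ ≤ Y → ⁅⁅Cfsg.generalizedFittingSubgroup H, Y⁆, Y₀⁆ = ⊥ → Y₀ = ⊥) := by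
  have h1 := (fstar_comm_top hO (Normal.isSubnormal inferInstance) le_rfl hY (norm_normal _ _)).2
  refine ⟨fun K hK hYK => ?_, fun Y₀ h h0 => eq_bot_of_comm_fstar hO (hY.to_le h)
    (eq_bot_iff.mpr ((commutator_mono (commutator_mono le_rfl h) le_rfl).trans h0.le))⟩
  have h2 : ⁅generalizedFittingSubgroup H, Y⁆ ≤ K := by
    revert hYK
    refine (subnormalIn_top_iff.mpr hK).induction_on
      (motive := fun K => Y ≤ K → ⁅generalizedFittingSubgroup H, Y⁆ ≤ K) (fun _ => le_top) ?_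
    intro A B hAB hn _ ih hYA
    exact h1.ge.trans ((commutator_mono (ih (hYA.trans hAB)) hYA).trans (comm_le_right hn))
  have h3 : ⁅generalizedFittingSubgroup H, Y⁆ = ⁅genFittingOf K, Y⁆ := by
    rw [genFittingOf_eq_inf_of_isSubnormal hK]
    exact le_antisymm (h1.ge.trans (commutator_mono
      (le_inf (comm_le_left (norm_normal _ _)) h2) le_rfl)) (commutator_mono inf_le_left le_rfl)
  exact ⟨h3, by rw [← h3, h1]⟩

end Cfsg.Agent.S2816
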