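import Cfsg.Statements.S2817
import Cfsg.Agent.Loc.MssFStar

set_option autoImplicit false
open Cfsg

namespace Cfsg.Agent.S2817

open Cfsg.Agent.GT Cfsg.Agent.Loc.Mss Subgroup
open scoped commutatorElement

/-- Let H be a finite group and p a prime with O_p(H) = 1, Q a p-subgroup of H, L = [F*(H), Q], and F the largest normal subgroup of F*(H) centralized by Q (a normal subgroup of F*(H) centralized by Q and containing every such). Then F = C_{F*(H)}(LQ); L = [L, Q]; L ∩ F ≤ Φ(L); every p-subgroup B of N_H(Q) with [L, B] ≤ F satisfies [L, B] = 1; and C_H(FL) has order prime to p. -/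
theorem result {H : Type*} [Group H] [Finite H] {p : ℕ} [Fact p.Prime] (hO : Cfsg.pCore p H = ⊥) (Q : Subgroup H) (hQ : IsPGroup p ↥Q) (L : Subgroup H) (hL : L = ⁅Cfsg.generalizedFittingSubgroup H, Q⁆) (F : Subgroup H) (hF : F ≤ Cfsg.generalizedFittingSubgroup H ∧ Cfsg.generalizedFittingSubgroup H ≤ Subgroup.normalizer (F : Set H) ∧ Q ≤ Subgroup.centralizer (F : Set H) ∧ ∀ N : Subgroup H, N ≤ Cfsg.generalizedFittingSubgroup H → Cfsg.generalizedFittingSubgroup H ≤ Subgroup.normalizer (N : Set H) → Q ≤ Subgroup.centralizer (N : Set H) → N ≤ F) : F = Cfsg.generalizedFittingSubgroup H ⊓ Subgroup.centralizer ((L ⊔ Q : Subgroup H) : Set H) ∧ ⁅L, Q⁆ = L ∧ L ⊓ F ≤ (frattini ↥L).map L.subtype ∧ (∀ B : Subgroup H, IsPGroup p ↥B → B ≤ Subgroup.normalizer (Q : Set H) → ⁅L, B⁆ ≤ F → ⁅L, B⁆ = ⊥) ∧ (Nat.card ↥(Subgroup.centralizer ((F ⊔ L : Subgroup H) : Set H))).Coprime p := by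
  obtain ⟨hF1, hF2, hF3, hF4⟩ := hF
  set S := generalizedFittingSubgroup H with hS
  have hSs : S.IsSubnormal := Normal.isSubnormal inferInstance
  have hLS : L ≤ S := hL ▸ comm_le_left (norm_normal _ _)
  have hLn : S ≤ 𝐍[L] := hL ▸ normalizer_commutator_ge_left _ _
  have hQL : Q ≤ 𝐍[L] := hL ▸ normalizer_commutator_ge_right _ _
  have hLs : L.IsSubnormal := (SubnormalIn.of_le_normalizer hLS hLn).isSubnormal hSs
  have hX : ncl S Q = L ⊔ Q := hL ▸ ncl_eq S Q
  have h1 : F = S ⊓ 𝐂[L ⊔ Q] := by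
    refine le_antisymm (le_inf hF1 (cent_comm (hX ▸ ncl_le_cent hF3 hF2))) (hF4 _ inf_le_left ?_
      (cent_comm (inf_le_right.trans (cent_anti le_sup_right))))
    exact norm_inf le_normalizer (norm_cent (hX ▸ le_norm_ncl S Q))
  have h2 : ⁅L, Q⁆ = L := by
    rw [hL]; exact (fstar_comm_top hO hSs le_rfl hQ (norm_normal _ _)).2
  have hLF : genFittingOf L = L :=
    (genFittingOf_eq_inf_of_isSubnormal hLs).trans (inf_eq_right.mpr hLS)
  have hOL : pCoreOf p L = ⊥ := by
    rw [pCoreOf_eq_inf_of_isSubnormal hLs, hO, bot_inf_eq]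
  have hSX : ⁅S, L ⊔ Q⁆ ≤ L := comm_sup_le le_normalizer hQL (comm_le_right hLn) hL.ge
  have hOX : pCoreOf p (L ⊔ Q) = ⊥ := by
    refine eq_bot_of_comm_fstar hO (pg_core _) (eq_bot_iff.mpr ((commutator_mono
      ((commutator_mono le_rfl (pCoreOf_le _)).trans hSX) le_rfl).trans (le_trans (le_inf ?_ ?_)
      ((pCoreOf_inf_le (le_sup_left : L ≤ L ⊔ Q)).trans hOL.le))))
    · exact comm_le_right (le_sup_left.trans (le_norm_core _))
    · exact comm_le_left ((pCoreOf_le _).trans (sup_le le_normalizer hQL))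
  have h3 : L ⊓ F ≤ Φ[L] := by
    have h4 := frat_eq_res hOX
    rw [res_sup_eq hQL hQ, res_eq_of_fstar hLF hOL] at h4
    rw [← h4]
    refine le_frat_of_cent hOX (inf_le_left.trans le_sup_left)
      (cent_comm (inf_le_right.trans (h1.le.trans inf_le_right))) fun M hM => ?_
    have h5 : ncl L Q = L ⊔ Q := by rw [ncl_eq, h2]
    rw [← h5]
    exact ncl_le_iff.mpr fun g hg => hM _ (cj_le_of_mem le_sup_right (mem_sup_left hg)) (pg_cj hQ g)
  refine ⟨h1, h2, h3, fun B hB hBQ hc => ?_, coprime_of_forall_pg fun P hP hp => ?_⟩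
  · have hBL : B ≤ 𝐍[L] := hL ▸ norm_comm (norm_normal _ _) hBQ
    have h4 := eq_of_sup_of_le_map_frattini (K := L ⊓ 𝐂[B]) inf_le_left
      ((le_inf (comm_le_left hBL) hc).trans h3)
      ((fstar_comm hLF hOL hB hBL).1.ge.trans (sup_comm _ _).le)
    exact comm_eq_bot_iff.mpr (h4.ge.trans inf_le_right)
  · have hC : S ≤ 𝐍[𝐂[F ⊔ L]] := norm_cent (norm_sup hF2 hLn)
    have h4 : S ⊓ 𝐂[F ⊔ L] ≤ F ⊔ L := by
      rw [← (fstar_comm_top hO ((SubnormalIn.of_le_normalizer inf_le_left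
        (norm_inf le_normalizer hC)).isSubnormal hSs) inf_le_left hQ (norm_inf (norm_normal _ _)
        (norm_cent (norm_sup (norm_of_cent hF3) hQL)))).1]
      refine sup_le (((commutator_mono inf_le_left le_rfl).trans hL.ge).trans le_sup_right)
        (le_trans ?_ le_sup_left)
      rw [h1]
      exact le_inf (inf_le_left.trans inf_le_left) (le_cent_sup (inf_le_left.trans
        (inf_le_right.trans (h1 ▸ cent_anti le_sup_right))) inf_le_right)
    refine eq_bot_of_comm_fstar hO hp (comm_eq_bot_iff.mpr (le_trans (le_trans (le_inf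
      (comm_le_left (norm_normal _ _)) ?_) h4) (cent_comm hP)))
    exact (commutator_mono le_rfl hP).trans (comm_le_right hC)

end Cfsg.Agent.S2817
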