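import Cfsg.Statements.S2818
import Cfsg.Agent.Loc.MssRed

set_option autoImplicit false
open Cfsg

namespace Cfsg.Agent.S2818

open Cfsg.Agent.GT Cfsg.Agent.Loc.Mss Subgroup
open scoped commutatorElement

/-- Let P be a finite p-subgroup of a group G and H a subgroup of N_G(P) with [P, H] ≤ Ω₁(Z(P)) (the elements of order dividing p in the centre of P). Then H centralizes the Frattini subgroup of P. -/
theorem result {G : Type*} [Group G] [Finite G] {p : ℕ} [Fact p.Prime] (P : Subgroup G) (hP : IsPGroup p ↥P) (H : Subgroup G) (hH : H ≤ Subgroup.normalizer (P : Set G)) (h : ⁅P, H⁆ ≤ Cfsg.omegaOne p (P ⊓ Subgroup.centralizer (P : Set G))) : ⁅(frattini ↥P).map P.subtype, H⁆ = ⊥ := by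
  rw [comm_eq_bot_iff, PG.map_frattini_subtype_le_iff hP]
  have h1 : ⁅⁅P, H⁆, P⁆ = ⊥ := comm_eq_bot_iff.mpr (h.trans (oz_le_cent P))
  refine ⟨comm_eq_bot_iff.mp (commutator_commutator_eq_bot_of_rotate h1 ?_), fun x hx => ?_⟩
  · rwa [commutator_comm H]
  · refine mem_cent.mpr fun g hg => ?_
    obtain ⟨-, h2, h3⟩ := mem_oz.mp (h (commutator_mem_commutator hx hg))
    have h4 : g * x * g⁻¹ = ⁅x, g⁆⁻¹ * x := by simp [commutatorElement_def, mul_assoc]
    have h5 : Commute ⁅x, g⁆⁻¹ x := (Commute.symm (mem_cent.mp h2 x hx)).inv_left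
    have h6 : g * x ^ p * g⁻¹ = x ^ p := by
      rw [← conj_pow, h4, h5.mul_pow, inv_pow, h3, inv_one, one_mul]
    exact mul_inv_eq_iff_eq_mul.mp h6

end Cfsg.Agent.S2818
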