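import Cfsg.Statements.S2819
import Cfsg.Agent.Loc.MssTrace

set_option autoImplicit false
open Cfsg

namespace Cfsg.Agent.S2819

open Cfsg.Agent.GT Cfsg.Agent.Loc.Mss Subgroup
open scoped commutatorElement

theorem pow_mul_mem {G : Type*} [Group G] {P : Subgroup G} {a b : G} (ha : a ∈ P) (hb : b ∈ P)
    (n : ℕ) : (a * b) ^ n * (b ^ n)⁻¹ * (a ^ n)⁻¹ ∈ ⁅P, P⁆ := by
  have hn : P ≤ 𝐍[⁅P, P⁆] := norm_comm le_normalizer le_normalizer
  induction n with
  | zero => simp
  | succ n ih =>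
    have e : (a * b) ^ (n + 1) * (b ^ (n + 1))⁻¹ * (a ^ (n + 1))⁻¹ =
        a * (b * ((a * b) ^ n * (b ^ n)⁻¹ * (a ^ n)⁻¹) * b⁻¹ * ⁅b, a ^ n⁆) * a⁻¹ := by
      rw [pow_succ' (a * b), pow_succ' b, pow_succ' a, commutatorElement_def]; group
    rw [e]
    exact conj_mem_of_norm (hn ha) (mul_mem (conj_mem_of_norm (hn hb) ih)
      (commutator_mem_commutator hb (pow_mem ha n)))

/-- Let P be a finite p-subgroup of a group G, H a subgroup of N_G(P), and Y a subgroup of H centralizing the derived subgroup P' such that [P, Y] is elementary abelian. Then O^p(⟨Y^H⟩), the subgroup of the normal closure of Y in H generated by its elements of order prime to p, centralizes the Frattini subgroup of P. -/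
theorem result {G : Type*} [Group G] [Finite G] {p : ℕ} [Fact p.Prime] (P : Subgroup G) (hP : IsPGroup p ↥P) (H : Subgroup G) (hH : H ≤ Subgroup.normalizer (P : Set G)) (Y : Subgroup G) (hYH : Y ≤ H) (hYc : Y ≤ Subgroup.centralizer ((⁅P, P⁆ : Subgroup G) : Set G)) (hel : Cfsg.IsElementaryAbelian p ⁅P, Y⁆) (NY : Subgroup G) (hNY : NY = (Subgroup.normalClosure ((Y.subgroupOf H : Subgroup ↥H) : Set ↥H)).map H.subtype) : (Cfsg.pResidual p ↥NY).map NY.subtype ≤ Subgroup.centralizer (((frattini ↥P).map P.subtype : Subgroup G) : Set G) := by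
  rw [map_normalClosure_subgroupOf hYH] at hNY
  have hF : H ≤ 𝐍[(frattini P).map P.subtype] :=
    hH.trans (normalizer_le_normalizer_map_subtype P _)
  have hPP : H ≤ 𝐍[⁅P, P⁆] := norm_comm hH hH
  have hPn : P ≤ 𝐍[⁅P, P⁆] := norm_comm le_normalizer le_normalizer
  have h1 : (frattini P).map P.subtype ≤ cmod Y ⁅P, P⁆ := by
    rw [PG.map_frattini_subtype_le_iff hP]
    refine ⟨le_cmod.mpr ⟨le_normalizer, (comm_eq_bot_iff.mpr hYc).le.trans bot_le⟩,
      fun x hx => ⟨hPn (pow_mem hx p), fun y hy => ?_⟩⟩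
    have h2 : ⁅y, x⁆ ∈ ⁅P, Y⁆ := by
      rw [commutator_comm]; exact commutator_mem_commutator hy hx
    have h3 := pow_mul_mem (comm_le_left (hYH.trans hH) h2) hx p
    rw [hel.2 _ h2, inv_one, mul_one,
      show ⁅y, x⁆ * x = y * x * y⁻¹ by simp [commutatorElement_def], conj_pow] at h3
    exact h3
  have h4 : NY ≤ cmod ((frattini P).map P.subtype) ⁅P, P⁆ := by
    rw [hNY]
    refine ncl_le (le_cmod.mpr ⟨hYH.trans hPP, ?_⟩) (norm_cmod hF hPP)
    rw [commutator_comm]; exact (le_cmod.mp h1).2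
  have h5 : NY ≤ H := hNY ▸ ncl_le_self hYH
  have h6 : NY ≤ 𝐂[⁅P, P⁆] := hNY ▸ ncl_le_cent hYc hPP
  exact res_le_cent_of_two (hP.to_le (map_subtype_le _)) (((res_le NY).trans h5).trans hF)
    ((commutator_mono le_rfl (res_le NY)).trans (le_cmod.mp h4).2) ((res_le NY).trans h6)

end Cfsg.Agent.S2819
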