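import Cfsg.Statements.S2823
import Cfsg.Agent.Loc.MssTrace

set_option autoImplicit false
open Cfsg

namespace Cfsg.Agent.S2823

open Cfsg.Agent.GT Cfsg.Agent.Loc.Mss Subgroup
open scoped commutatorElement

/-- Let H be a finite group, p a prime, T a Sylow p-subgroup and L a subgroup of characteristic p containing T; let Z_L be the subgroup generated by the Ω₁(Z(S)) over the Sylow p-subgroups S of L and O^p(L) the subgroup generated by the elements of L of order prime to p. Then Z_L = Ω₁(Z(L))·[Z_L, O^p(L)] and [Z_L, L] = [Z_L, O^p(L)]. -/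
theorem result {H : Type*} [Group H] [Finite H] {p : ℕ} [Fact p.Prime] (T : Sylow p H) (L : Subgroup H) (hTL : (T : Subgroup H) ≤ L) (hL : Subgroup.centralizer (Cfsg.pCore p ↥L : Set ↥L) ≤ Cfsg.pCore p ↥L) : Cfsg.sylowCenterClosure p L = (Cfsg.omegaOne p (L ⊓ Subgroup.centralizer ((L : Subgroup H) : Set H))) ⊔ ⁅Cfsg.sylowCenterClosure p L, (Cfsg.pResidual p ↥L).map L.subtype⁆ ∧ ⁅Cfsg.sylowCenterClosure p L, L⁆ = ⁅Cfsg.sylowCenterClosure p L, (Cfsg.pResidual p ↥L).map L.subtype⁆ := by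
  have hL' := chP_iff.mp hL
  have hT := Syl.of_sylow_le T hTL
  change sylowCenterClosure p L = ΩZ[p, L] ⊔ ⁅sylowCenterClosure p L, pResidualOf p L⁆ ∧
    ⁅sylowCenterClosure p L, L⁆ = ⁅sylowCenterClosure p L, pResidualOf p L⁆
  rw [scc_eq_ncl hT]
  set Z := ncl L ΩZ[p, (T : Subgroup H)] with hZ
  have hn : L ≤ 𝐍[Z] := le_norm_ncl _ _
  have hea : IsElementaryAbelian p Z := (ea_Y L).mono (ncl_le (oz_le_Y hL' hT) (le_norm_Y L))
  have hZL : Z ≤ L := ncl_le_self ((oz_le _).trans hTL)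
  have hW : L ≤ 𝐍[⁅Z, pResidualOf p L⁆] := norm_comm hn (le_norm_res L)
  have h1 : Z = ΩZ[p, L] ⊔ ⁅Z, pResidualOf p L⁆ := by
    refine le_antisymm (ncl_le ?_ (norm_sup (norm_oz le_normalizer) hW))
      (sup_le ((oz_le_oz_syl hT).trans (le_ncl _ _)) (comm_le_left ((res_le L).trans hn)))
    refine (le_inf (le_ncl L _) (oz_le_cent _)).trans
      ((cent_syl_le hea.1 hea.isPGroup hn hT).trans (sup_le_sup_right ?_ _))
    exact le_oz (hea.mono inf_le_left) (inf_le_left.trans hZL) inf_le_right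
  refine ⟨h1, le_antisymm ?_ (commutator_mono le_rfl (res_le L))⟩
  conv_lhs => rw [h1]
  exact sup_comm_le ((oz_le L).trans hW) le_normalizer
    ((comm_eq_bot_iff.mpr (oz_le_cent L)).le.trans bot_le) (comm_le_left hW)

end Cfsg.Agent.S2823
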