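import Cfsg.Statements.S2825
import Cfsg.Agent.Loc.MssIrr

set_option autoImplicit false
open Cfsg

namespace Cfsg.Agent.S2825

open Cfsg.Agent.GT Cfsg.Agent.Loc.Mss Subgroup
open scoped commutatorElement

/-- Let L be a subnormal subgroup of the finite group H, p a prime, Y_H and Y_L the largest p-reduced normal subgroups. Then Y_H ∩ L = Y_H ∩ Y_L and this subgroup is a p-reduced normal subgroup of L; C_L(Y_L) = C_L(Y_H) = C_L(Y_H ∩ L); and if O^p(H) ≤ L, then [Y_L, L] = 1 if and only if [Y_H, H] = 1. -/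
theorem result {H : Type*} [Group H] [Finite H] {p : ℕ} [Fact p.Prime] (L : Subgroup H) (hL : L.IsSubnormal) : Cfsg.largestPReduced p H ⊓ L = Cfsg.largestPReduced p H ⊓ (Cfsg.largestPReducedOf p L) ∧ Cfsg.IsPReducedNormal p ((Cfsg.largestPReduced p H ⊓ L).subgroupOf L) ∧ L ⊓ Subgroup.centralizer ((Cfsg.largestPReducedOf p L : Subgroup H) : Set H) = L ⊓ Subgroup.centralizer (Cfsg.largestPReduced p H : Set H) ∧ L ⊓ Subgroup.centralizer (Cfsg.largestPReduced p H : Set H) = L ⊓ Subgroup.centralizer ((Cfsg.largestPReduced p H ⊓ L : Subgroup H) : Set H) ∧ (Cfsg.pResidual p H ≤ L → (⁅(Cfsg.largestPReducedOf p L), L⁆ = ⊥ ↔ ⁅Cfsg.largestPReduced p H, (⊤ : Subgroup H)⁆ = ⊥)) := by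
  have hL' := subnormalIn_top_iff.mpr hL
  rw [← Y_top, ← pResidualOf_top]
  obtain ⟨h1, h2⟩ := (red_Y (p := p) (⊤ : Subgroup H)).inf_subnormal hL'
  have h3 : L ⊓ 𝐂[𝐘[p, L]] = L ⊓ 𝐂[𝐘[p, (⊤ : Subgroup H)]] :=
    le_antisymm (le_inf inf_le_left ((inf_le_inf_left L (cent_anti h1.le_Y)).trans h2))
      (le_inf inf_le_left (cent_Y_subnormal hL'))
  refine ⟨le_antisymm (le_inf inf_le_left h1.le_Y) (inf_le_inf_left _ (Y_le L)),
    (isPReducedNormal_subgroupOf_iff inf_le_right).mpr h1, h3,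
    le_antisymm (inf_le_inf_left L (cent_anti inf_le_left)) (le_inf inf_le_left h2), fun h => ?_⟩
  rw [comm_eq_bot_iff', comm_eq_bot_iff']
  exact ⟨fun h' => (red_Y ⊤).red ⊤ le_rfl le_normalizer
    (h.trans ((le_inf le_rfl h').trans (h3.le.trans inf_le_right))),
    fun h' => (le_inf le_rfl (le_top.trans h')).trans (h3.ge.trans inf_le_right)⟩

end Cfsg.Agent.S2825
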