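import Cfsg.Statements.S2826
import Cfsg.Agent.Loc.MssTrace

set_option autoImplicit false
open Cfsg

namespace Cfsg.Agent.S2826

open Cfsg.Agent.GT Cfsg.Agent.Loc.Mss Subgroup
open scoped commutatorElement

/-- Let H be a finite group of characteristic p, T a Sylow p-subgroup, and V a normal elementary abelian p-subgroup of H containing Ω₁(Z(T)). Then C_H(Ω₁(Z(T))) = C_H([V, O^p(H)] ∩ Ω₁(Z(T))), O^p(H) being generated by the elements of order prime to p. -/
theorem result {H : Type*} [Group H] [Finite H] {p : ℕ} [Fact p.Prime] (hH : Subgroup.centralizer (Cfsg.pCore p H : Set H) ≤ Cfsg.pCore p H) (T : Sylow p H) (V : Subgroup H) [V.Normal] (hV : Cfsg.IsElementaryAbelian p V) (hZV : (Cfsg.omegaOne p ((T : Subgroup H) ⊓ Subgroup.centralizer (((T : Subgroup H) : Subgroup H) : Set H))) ≤ V) : Subgroup.centralizer ((Cfsg.omegaOne p ((T : Subgroup H) ⊓ Subgroup.centralizer (((T : Subgroup H) : Subgroup H) : Set H))) : Set H) = Subgroup.centralizer (((⁅V, Cfsg.pResidual p H⁆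 ⊓ (Cfsg.omegaOne p ((T : Subgroup H) ⊓ Subgroup.centralizer (((T : Subgroup H) : Subgroup H) : Set H)))) : Subgroup H) : Set H) := by
  refine le_antisymm (cent_anti inf_le_right) (cent_comm ?_)
  have hT := Syl.of_sylow T
  have h1 := cent_syl_le hV.1 hV.isPGroup (norm_normal _ _) hT
  rw [pResidualOf_top] at h1
  have h2 : ⁅V, pResidual p H⁆ ≤ V := comm_le_left (norm_normal _ _)
  have h3 : V ⊓ 𝐂[(⊤ : Subgroup H)] ≤ ΩZ[p, (T : Subgroup H)] :=
    (le_oz (hV.mono inf_le_left) le_top inf_le_right).trans (oz_le_oz_syl hT)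
  have h4 := dedekind (N := V ⊓ 𝐂[(⊤ : Subgroup H)]) (H := ⁅V, pResidual p H⁆)
    (norm_of_cent (h2.trans (hV.le_centralizer.trans (cent_anti inf_le_left)))) h3
  refine ((le_inf ((le_inf hZV (oz_le_cent _)).trans h1) le_rfl).trans h4.le).trans
    (sup_le (inf_le_right.trans (cent_anti le_top)) (cent_comm le_rfl))

end Cfsg.Agent.S2826
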