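import Cfsg.Statements.S2832
import Cfsg.Agent.Loc.MssIrr

set_option autoImplicit false
open Cfsg

namespace Cfsg.Agent.S2832

open Cfsg.Agent.GT Cfsg.Agent.Loc.Mss Subgroup
open scoped commutatorElement

/-- Let H be a finite group with Sylow p-subgroup T such that H is T-minimal (generated by the conjugates of T, with T in exactly one maximal subgroup), and let N be a normal subgroup of H. Then either H/N is a p-group or H/N is minimal over the image of T in the same sense. -/
theorem result {H : Type*} [Group H] [Finite H] {p : ℕ} [Fact p.Prime] (T : Sylow p H) (hmin : Cfsg.IsMinimalOver (T : Subgroup H)) (N : Subgroup H) [N.Normal] : IsPGroup p (H ⧸ N) ∨ Cfsg.IsMinimalOver ((T : Subgroup H).map (QuotientGroup.mk' N)) := by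
  obtain ⟨h1, M, hM⟩ := isMinimalOver_iff_top.mp hmin
  have hs := QuotientGroup.mk'_surjective N
  by_cases h : N ⊔ T = ⊤
  · left
    rw [← pResidual_le_iff_isPGroup, ← pResidualOf_top]
    exact res_le_of_le_sup (norm_normal _ _) T.isPGroup' h.ge
  · right
    have h2 : N ≤ M := le_sup_left.trans (hM.2.2 _ le_sup_right (lt_top_iff_ne_top.mpr h))
    refine isMinimalOver_iff_top.mpr ⟨by rw [← map_top_mk' N, ← map_ncl, h1],
      M.map (QuotientGroup.mk' N), map_mono hM.1, lt_top_iff_ne_top.mpr fun e => hM.2.1.ne ?_,
      fun X h3 h4 => ?_⟩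
    · have := congrArg (comap (QuotientGroup.mk' N)) e
      rwa [comap_map_eq, QuotientGroup.ker_mk', sup_eq_left.mpr h2, comap_top] at this
    · rw [← map_comap_eq_self_of_surjective hs X]
      refine map_mono (hM.2.2 _ (map_le_iff_le_comap.mp h3) (lt_top_iff_ne_top.mpr fun e => h4.ne ?_))
      rw [← map_comap_eq_self_of_surjective hs X, e, map_top_mk']

end Cfsg.Agent.S2832
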