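import Cfsg.Statements.S2836
import Cfsg.Agent.Loc.MssIrr

set_option autoImplicit false
open Cfsg

namespace Cfsg.Agent.S2836

open Cfsg.Agent.GT Cfsg.Agent.Loc.Mss Subgroup
open scoped commutatorElement

/-- Let L be a finite group, L₀ a maximal subgroup, T a Sylow p-subgroup of L₀, Y ≤ T, and suppose L is Y-minimal. Let D be the intersection of the conjugates of L₀ (the core of L₀). Then D contains O_p(L) and D/O_p(L) is the Frattini subgroup of L/O_p(L), so D is p-closed; and every normal subgroup N of L contained in L₀ is p-closed with N/O_p(N) a nilpotent group of order prime to p. -/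
theorem result {L : Type*} [Group L] [Finite L] {p : ℕ} [Fact p.Prime] (L₀ : Subgroup L) (hL₀ : IsCoatom L₀) (T : Sylow p ↥L₀) (Y : Subgroup L) (hYT : Y ≤ (T : Subgroup ↥L₀).map L₀.subtype) (hmin : Cfsg.IsMinimalOver Y) : (Cfsg.pCore p L ≤ L₀.normalCore ∧ (L₀.normalCore).map (QuotientGroup.mk' (Cfsg.pCore p L)) = frattini (L ⧸ Cfsg.pCore p L) ∧ Cfsg.IsPClosed p ↥(L₀.normalCore)) ∧ ∀ (N : Subgroup L) [N.Normal], N ≤ L₀ → Cfsg.IsPClosed p ↥N ∧ Group.IsNilpotent (↥N ⧸ Cfsg.pCore p ↥N) ∧ (Nat.card (↥N ⧸ Cfsg.pCore p ↥N)).Coprime p := by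
  have hT := Syl.of_sylow_sub T
  have h1 := (isMinimalOver_iff_top.mp hmin).1
  have hM := uMax_of_unique hmin.2 hL₀ (hYT.trans hT.le)
  have h2 := hM.syl h1 hT hYT
  have hO : pCore p L ≤ L₀ := pCoreOf_top.ge.trans (h2.core_le.trans hT.le)
  have hs := QuotientGroup.mk'_surjective (pCore p L)
  have key : ∀ (N : Subgroup L) [N.Normal], N ≤ L₀ → PCl p N ∧
      N.map (QuotientGroup.mk' (pCore p L)) ≤ frattini (L ⧸ pCore p L) := by
    intro N _ hN
    obtain ⟨h3, h4⟩ := frat_top (N := N) h2 fun X hX e => by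
      by_contra hne
      exact hL₀.1 (top_le_iff.mp (e.ge.trans
        (sup_le (hM.2.2 X (hYT.trans hX) (lt_top_iff_ne_top.mpr hne)) hN)))
    refine ⟨?_, h4⟩
    have hR := h2.inf (M := N) le_top (norm_normal _ _)
    rw [pCl_iff_syl, le_antisymm hR.core_le
      (le_core_of_le le_top (h3.trans pCoreOf_top.ge) inf_le_right)]
    exact hR
  refine ⟨⟨normal_le_normalCore.mpr hO, le_antisymm (key _ (normalCore_le L₀)).2 ?_,
    isPClosed_iff.mpr (key _ (normalCore_le L₀)).1⟩, fun N _ hN => ⟨isPClosed_iff.mpr (key N hN).1,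
    ?_, ?_⟩⟩
  · rw [← map_comap_eq_self_of_surjective hs (frattini _)]
    refine map_mono (normal_le_normalCore.mpr ?_)
    have h3 : frattini (L ⧸ pCore p L) ≤ L₀.map (QuotientGroup.mk' (pCore p L)) := by
      refine frattini_le_coatom ⟨fun e => hL₀.1 ?_, fun X hX => ?_⟩
      · have := congrArg (comap (QuotientGroup.mk' (pCore p L))) e
        rwa [comap_map_eq, QuotientGroup.ker_mk', sup_eq_left.mpr hO, comap_top] at this
      · rw [← map_comap_eq_self_of_surjective hs X, hL₀.2 (X.comap _) (lt_of_le_of_ne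
          (map_le_iff_le_comap.mp hX.le) fun e => hX.ne ?_), map_top_mk']
        rw [e, map_comap_eq_self_of_surjective hs]
    refine (comap_mono h3).trans ?_
    rw [comap_map_eq, QuotientGroup.ker_mk', sup_eq_left.mpr hO]
  · have h3 : Group.IsNilpotent (frattini (L ⧸ pCore p L)) := frattini_nilpotent
    have h4 := isNilpotent_of_le (key N hN).2
    let f : N →* N.map (QuotientGroup.mk' (pCore p L)) :=
      (QuotientGroup.mk' (pCore p L)).subgroupMap N
    have h5 : f.ker = pCore p N := by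
      rw [← pCoreOf_subgroupOf, pCoreOf_eq_inf]
      ext x
      rw [MonoidHom.mem_ker, mem_subgroupOf, mem_inf, Subtype.ext_iff]
      exact ⟨fun h => ⟨(QuotientGroup.eq_one_iff _).mp h, x.2⟩,
        fun h => (QuotientGroup.eq_one_iff _).mpr h.1⟩
    exact nilpotent_of_mulEquiv ((QuotientGroup.quotientMulEquivOfEq h5.symm).trans
      (QuotientGroup.quotientKerEquivOfSurjective f
        ((QuotientGroup.mk' _).subgroupMap_surjective N))).symm
  · have h3 := (pCl_iff_syl.mp (key N hN).1).nd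
    rw [relIndex, pCoreOf_subgroupOf] at h3
    exact ((Nat.Prime.coprime_iff_not_dvd Fact.out).mpr h3).symm

end Cfsg.Agent.S2836
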