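import Cfsg.Statements.S2837
import Cfsg.Agent.Loc.MssIrr

set_option autoImplicit false
open Cfsg

namespace Cfsg.Agent.S2837

open Cfsg.Agent.GT Cfsg.Agent.Loc.Mss Subgroup
open scoped commutatorElement

/-- Let L be a finite group of characteristic p, L₀ a maximal subgroup, Y an elementary abelian p-subgroup of L₀ with L Y-minimal and O_p(L) ≤ N_L(Y). Put A = the normal closure of O_p(L) ∩ Y in L. Then for every g ∈ L outside L₀: Φ(A) = A' = [A ∩ Y, A] = [A ∩ Y, A ∩ gYg⁻¹] ≤ C_Y(L), and Y ∩ gYg⁻¹ = (A ∩ Y) ∩ (A ∩ gYg⁻¹) = C_Y(L) = C_A(L). -/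
theorem result {L : Type*} [Group L] [Finite L] {p : ℕ} [Fact p.Prime] (hchar : Subgroup.centralizer (Cfsg.pCore p L : Set L) ≤ Cfsg.pCore p L) (L₀ : Subgroup L) (hL₀ : IsCoatom L₀) (Y : Subgroup L) (hYL₀ : Y ≤ L₀) (hYel : Cfsg.IsElementaryAbelian p Y) (hmin : Cfsg.IsMinimalOver Y) (hOY : Cfsg.pCore p L ≤ Subgroup.normalizer (Y : Set L)) (A : Subgroup L) (hA : A = Subgroup.normalClosure (((Cfsg.pCore p L ⊓ Y : Subgroup L)) : Set L)) (g : L) (hg : g ∉ L₀) : (frattini ↥A).map A.subtype = ⁅A, A⁆ ∧ ⁅A, A⁆ = ⁅A ⊓ Y, A⁆ ∧ ⁅A ⊓ Y, A⁆ = ⁅A ⊓ Y, A ⊓ Y.map (MulAut.conj g).toMonoidHom⁆ ∧ ⁅A ⊓ Y, A⁆ ≤ Y ⊓ Subgroup.center L ∧ Y ⊓ Y.map (MulAut.conj g).toMonoidHom = Y ⊓ Subgroup.center L ∧ (A ⊓ Y) ⊓ (A ⊓ Y.map (MulAut.conj g).toMonoidHom) = Y ⊓ Subgroup.center L ∧ A ⊓ Subgroup.center L = Y ⊓ Subgroup.center L := by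
  have h1 := (isMinimalOver_iff_top.mp hmin).1
  have hM := uMax_of_unique hmin.2 hL₀ hYL₀
  have hgen := hM.sup_cj h1 (mem_top g) hg
  have hY := hYel.le_centralizer
  have h2 : Y ⊓ cj(g, Y) = Y ⊓ center L := by
    rw [inf_cj_eq_inf_cent hY (mem_top g) hgen, cent_top]
  rw [← ncl_top] at hA
  set O := pCore p L with hO
  set B := O ⊓ Y with hB
  have hB' : cj(g, B) = O ⊓ cj(g, Y) := by rw [cj_inf, cj_normal]
  have hOY' : O ≤ 𝐍[cj(g, Y)] := by
    rw [← cj_norm]; exact (cj_normal O g).ge.trans (cj_mono g hOY)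
  have hOB : O ≤ 𝐍[B] := norm_inf le_normalizer hOY
  have hOB' : O ≤ 𝐍[cj(g, B)] := hB' ▸ norm_inf le_normalizer hOY'
  have hBO : B ⊔ cj(g, B) ≤ O := sup_le inf_le_left (hB'.le.trans inf_le_left)
  have hAB : A = B ⊔ cj(g, B) := by
    rw [hA]
    refine le_antisymm (ncl_le le_sup_left ?_) (sup_le (le_ncl _ _) (cj_le_ncl _ (mem_top g)))
    rw [← hgen]
    refine sup_le (norm_of_comm_le hBO (le_trans ?_ le_sup_left))
      (norm_of_comm_le hBO (le_trans ?_ le_sup_right))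
    · exact le_inf (comm_le_left (norm_normal _ _)) (comm_le_right hOY)
    · exact hB' ▸ le_inf (comm_le_left (norm_normal _ _)) (comm_le_right hOY')
  have hAO : A ≤ O := hAB ▸ hBO
  have h3 : A ⊓ Y = B :=
    le_antisymm (inf_le_inf_right Y hAO) (le_inf (hAB ▸ le_sup_left) inf_le_right)
  have h4 : A ⊓ cj(g, Y) = cj(g, B) :=
    le_antisymm (hB' ▸ inf_le_inf_right _ hAO) (le_inf (hAB ▸ le_sup_right) (cj_mono g inf_le_right))
  have h5 : ⁅B, cj(g, B)⁆ ≤ Y ⊓ center L := by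
    rw [← h2]
    exact le_inf ((comm_le_left ((hB'.le.trans inf_le_left).trans hOB)).trans inf_le_right)
      ((comm_le_right (inf_le_left.trans hOB')).trans (cj_mono g inf_le_right))
  have hn : ∀ X : Subgroup L, X ≤ 𝐍[⁅B, cj(g, B)⁆] := fun X =>
    norm_of_cent (cent_comm ((h5.trans inf_le_right).trans (center_le_centralizer _)))
  have hBB : ⁅B, B⁆ = ⊥ := comm_eq_bot_iff.mpr (hYel.mono inf_le_right).le_centralizer
  have hBB' : ⁅cj(g, B), cj(g, B)⁆ = ⊥ := by rw [← cj_comm, hBB, cj_bot]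
  have h6 : ⁅B, A⁆ = ⁅B, cj(g, B)⁆ := by
    rw [hAB]
    exact le_antisymm (comm_sup_le (hn _) (hn _) (hBB.le.trans bot_le) le_rfl)
      (commutator_mono le_rfl le_sup_right)
  have h7 : ⁅A, A⁆ = ⁅B, A⁆ := by
    refine le_antisymm ?_ (commutator_mono (h3.ge.trans inf_le_left) le_rfl)
    rw [h6]
    nth_rw 1 [hAB]
    refine sup_comm_le (hn _) (hn _) h6.le ?_
    rw [hAB]
    exact comm_sup_le (hn _) (hn _) (commutator_comm _ _).le (hBB'.le.trans bot_le)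
  have hAp : IsPGroup p A := (isPGroup_pCore p).to_le hAO
  have hZ : center L ≤ O := (center_le_centralizer _).trans hchar
  rw [h3, h4]
  refine ⟨?_, h7, h6, h6.le.trans h5, h2, ?_, ?_⟩
  · refine le_antisymm ((PG.map_frattini_subtype_le_iff hAp).mpr ⟨le_rfl, fun x hx => ?_⟩)
      ((PG.map_frattini_subtype_le_iff hAp).mp le_rfl).1
    obtain ⟨a, ha, b, hb, rfl⟩ := (mem_sup_norm ((hB'.le.trans inf_le_left).trans hOB)).mp (hAB.le hx)
    have h8 := pow_mul_mem_comm (hAB.ge (mem_sup_left ha)) (hAB.ge (mem_sup_right hb)) p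
    rwa [hYel.2 a ha.2, ((hYel.mono inf_le_right).map _).2 b hb, inv_one, mul_one, mul_one] at h8
  · rw [hB', hB, inf_inf_inf_comm, inf_idem, h2, inf_eq_right]
    exact inf_le_right.trans hZ
  · refine le_antisymm (le_inf ?_ inf_le_right) (inf_le_inf (le_refl _) le_rfl |>.trans
      (le_inf ((le_inf (inf_le_right.trans hZ) inf_le_left).trans (h3.ge.trans inf_le_left))
        inf_le_right))
    have h8 := dedekind (M := 𝐂[Y]) ((hB'.le.trans inf_le_left).trans hOB) (inf_le_right.trans hY)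
    rw [← hAB] at h8
    refine (inf_le_inf_left A (center_le_centralizer _)).trans (h8.le.trans (sup_le inf_le_right ?_))
    have h9 : cj(g, B) ⊓ 𝐂[Y] ≤ 𝐂[(⊤ : Subgroup L)] := by
      rw [← hgen]
      exact le_cent_sup inf_le_right (inf_le_left.trans ((cj_mono g (inf_le_right.trans hY)).trans
        (cj_cent Y g).le))
    refine (cj_of_cent (cent_comm h9 (mem_top g⁻¹))).ge.trans ?_
    rw [cj_le_iff_le_inv, inv_inv]
    exact inf_le_left.trans (cj_mono g inf_le_right)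

end Cfsg.Agent.S2837
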