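import Cfsg.Statements.S2839
import Cfsg.Agent.Loc.MssWC

set_option autoImplicit false
open Cfsg

namespace Cfsg.Agent.S2839

open Cfsg.Agent.GT Cfsg.Agent.Loc.Mss Subgroup
open scoped commutatorElement

/-- Let Q be a nontrivial p-subgroup of the finite group H that is a weakly closed subgroup, K a subgroup containing Q and N a normal subgroup of H. Then Q is a weakly closed subgroup of K; every H-conjugate of Q contained in K is a K-conjugate of Q; N_K(Q) contains a Sylow p-subgroup of K; N = N_N(Q)·O^p(N); and QN/N is a weakly closed subgroup of H/N. -/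
theorem result {H : Type*} [Group H] [Finite H] {p : ℕ} [Fact p.Prime] (Q : Subgroup H) (hQp : IsPGroup p ↥Q) (hQ1 : Q ≠ ⊥) (hwc : Cfsg.IsWeaklyClosedSubgroup p Q) (K : Subgroup H) (hQK : Q ≤ K) (N' : Subgroup H) [N'.Normal] : Cfsg.IsWeaklyClosedSubgroup p (Q.subgroupOf K) ∧ (∀ g : H, ((Q : Subgroup H).map (MulAut.conj (g : H)).toMonoidHom) ≤ K → ∃ k ∈ K, ((Q : Subgroup H).map (MulAut.conj (g : H)).toMonoidHom) = ((Q : Subgroup H).map (MulAut.conj (k : H)).toMonoidHom)) ∧ Cfsg.IsParabolic p ((Subgroup.normalizer ((Q : Subgroup H) : Set H)).subgroupOf K) ∧ (N' ⊓ Subgroup.normalizer ((Q : Subgroup H) : Set H)) ⊔ (Cfsg.pResidual p ↥N').map N'.subtype = N' ∧ Cfsg.IsWeaklyClosedSubgroup p (Q.map (QuotientGroup.mk' N')) := by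
  have h := isWeaklyClosedSubgroup_iff_top.mp hwc
  refine ⟨(isWeaklyClosedSubgroup_iff hQK).mpr (h.mono hQK le_top),
    fun g hg => h.conj_in hQK le_top (mem_top g) hg, ?_, ?_, ?_⟩
  · obtain ⟨T, hQT, hT⟩ := Syl.exists_ge hQp hQK
    obtain ⟨P, hP, -⟩ := hT.exists_sylow
    exact ⟨P, hP.le.trans (comap_mono (h.pg_le_norm hT.pg hQT le_top))⟩
  · obtain ⟨T, hQT, hT⟩ := Syl.exists_ge hQp (le_top : Q ≤ ⊤)
    refine le_antisymm (sup_le inf_le_left (map_subtype_le _)) ?_
    exact (hT.inf (M := N') le_top (norm_normal _ _)).le_of_res_le le_sup_right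
      ((le_inf inf_le_right (inf_le_left.trans (h.pg_le_norm hT.pg hQT le_top))).trans le_sup_left)
  · have := h.map (QuotientGroup.mk' N')
    rw [map_top_mk'] at this
    exact isWeaklyClosedSubgroup_iff_top.mpr this

end Cfsg.Agent.S2839
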