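import Cfsg.Statements.S2841
import Cfsg.Agent.Loc.MssWC

set_option autoImplicit false
open Cfsg

namespace Cfsg.Agent.S2841

open Cfsg.Agent.GT Cfsg.Agent.Loc.Mss Subgroup
open scoped commutatorElement

/-- Let Q be a nontrivial p-subgroup of the finite group H that is a weakly closed subgroup and N a normal subgroup of H. Then N = N_N(Q)·[N, Q] and [N, Q] = (Q ∩ [N, Q])·[N, Q, Q]. -/
theorem result {H : Type*} [Group H] [Finite H] {p : ℕ} [Fact p.Prime] (Q : Subgroup H) (hQp : IsPGroup p ↥Q) (hQ1 : Q ≠ ⊥) (hwc : Cfsg.IsWeaklyClosedSubgroup p Q) (N' : Subgroup H) [N'.Normal] : (∀ n : H, n ∈ N' → ∃ a ∈ N' ⊓ Subgroup.normalizer ((Q : Subgroup H) : Set H), ∃ b ∈ ⁅N', Q⁆, n = a * b) ∧ (∀ c : H, c ∈ ⁅N', Q⁆ → ∃ a ∈ Q ⊓ ⁅N', Q⁆, ∃ b ∈ ⁅⁅N', Q⁆, Q⁆, c = a * b) := by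
  have h := isWeaklyClosedSubgroup_iff_top.mp hwc
  have h0 : ⁅N', Q⁆ ≤ N' := comm_le_left (norm_normal _ _)
  have hn : Q ≤ 𝐍[⁅N', Q⁆] := normalizer_commutator_ge_right _ _
  refine ⟨fun n hn' => ?_, fun c hc => ?_⟩
  · obtain ⟨k, hk, a, ha, e⟩ := h.frattini (le_ncl N' Q) le_top (mem_top n⁻¹)
      (cj_le_ncl Q (inv_mem hn'))
    obtain ⟨b, hb, q, hq, rfl⟩ := (mem_sup_norm hn).mp ((ncl_eq N' Q).le hk)
    have e' : n = (q * a)⁻¹ * b⁻¹ := by rw [← mul_inv_rev, ← mul_assoc, ← e, inv_inv]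
    refine ⟨(q * a)⁻¹, mem_inf.mpr ⟨?_, inv_mem (mul_mem (le_normalizer hq) ha)⟩, b⁻¹, inv_mem hb, e'⟩
    have := mul_mem hn' (h0 hb)
    rwa [e', inv_mul_cancel_right] at this
  · have h1 : ncl N' Q ≤ ncl ⁅N', Q⁆ Q := by
      rw [← h.ncl_ncl (X := N') le_top]
      refine ncl_le_of_mul fun g hg => ?_
      obtain ⟨b, hb, q, hq, e⟩ := (mem_sup_norm hn).mp ((ncl_eq N' Q).le hg)
      exact ⟨b, hb, q, le_normalizer hq, e.symm⟩
    have h2 := (ncl_eq _ _).le (h1 ((ncl_eq N' Q).ge (mem_sup_left hc)))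
    rw [sup_comm] at h2
    obtain ⟨a, ha, b, hb, e⟩ := (mem_sup_norm' (normalizer_commutator_ge_right _ _)).mp h2
    refine ⟨a, mem_inf.mpr ⟨ha, ?_⟩, b, hb, e.symm⟩
    have := mul_mem hc (inv_mem (comm_le_left hn hb))
    rwa [← e, mul_inv_cancel_right] at this

end Cfsg.Agent.S2841
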