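import Cfsg.Statements.S2842
import Cfsg.Agent.Loc.MssWC

set_option autoImplicit false
open Cfsg

namespace Cfsg.Agent.S2842

open Cfsg.Agent.GT Cfsg.Agent.Loc.Mss Subgroup
open scoped commutatorElement

/-- Let Q be a nontrivial p-subgroup of the finite group H that is a weakly closed subgroup with C_H(Q) ≤ Q, and Q ≤ L ≤ H. Suppose H has characteristic p, or more generally that C_H(y) has characteristic p for some nonidentity y ∈ C_{O_p(L)}(Q). Then [Q, C_H(O_p(L))] ≤ Q ∩ O_p(L), C_H(O_p(L)) is a p-group, and L has characteristic p. -/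
theorem result {H : Type*} [Group H] [Finite H] {p : ℕ} [Fact p.Prime] (Q : Subgroup H) (hQp : IsPGroup p ↥Q) (hQ1 : Q ≠ ⊥) (hwc : Cfsg.IsWeaklyClosedSubgroup p Q) (hCQ : Subgroup.centralizer ((Q : Subgroup H) : Set H) ≤ Q) (L : Subgroup H) (hQL : Q ≤ L) (hyp : Subgroup.centralizer (Cfsg.pCore p H : Set H) ≤ Cfsg.pCore p H ∨ ∃ y : H, y ≠ 1 ∧ y ∈ (Cfsg.pCoreOf p L) ⊓ Subgroup.centralizer ((Q : Subgroup H) : Set H) ∧ Subgroup.centralizer (Cfsg.pCore p ↥(Subgroup.centralizer ({y} : Set H)) : Set ↥(Subgroup.centralizer ({y} : Set H))) ≤ Cfsg.pCore p ↥(Subgroup.centralizer ({y} : Set H))) : ⁅Q, Subgroup.centralizer (((Cfsg.pCoreOf p L) : Subgroup H) : Set H)⁆ ≤ Q ⊓ (Cfsg.pCoreOf p L) ∧ IsPGroup p ↥(Subgroup.centralizer (((Cfsg.pCoreOf p L) : Subgroup H) : Set H)) ∧ Subgroup.centralizer (Cfsg.pCore p ↥L : Set ↥L) ≤ Cfsg.pCore p ↥L := by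
  have h := isWeaklyClosedSubgroup_iff_top.mp hwc
  have key : ∀ K : Subgroup H, ChP p K → Q ≤ K → 𝐂[pCoreOf p L] ≤ K →
      ⁅Q, 𝐂[pCoreOf p L]⁆ ≤ Q ⊓ pCoreOf p L ∧ IsPGroup p 𝐂[pCoreOf p L] ∧
      centralizer (pCore p L : Set L) ≤ pCore p L := fun K hK h1 h2 => by
    obtain ⟨h3, h4⟩ := h.cent_core hCQ hQL hK h1 h2 le_rfl (norm_cent (le_norm_core L))
    exact ⟨h3, h4, chP_iff.mpr (chP_of_pg_cent h4.to_inf_right)⟩
  rcases hyp with h1 | ⟨y, -, hy, h1⟩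
  · exact key ⊤ (chP_top.mpr h1) le_top le_top
  · exact key _ (chP_iff.mp h1)
      (fun q hq => mem_centralizer_singleton_iff.mpr (mem_cent.mp hy.2 q hq))
      (centralizer_le (Set.singleton_subset_iff.mpr hy.1))

end Cfsg.Agent.S2842
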