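import Cfsg.Statements.S2844
import Cfsg.Agent.Loc.MssWC

set_option autoImplicit false
open Cfsg

namespace Cfsg.Agent.S2844

open Cfsg.Agent.GT Cfsg.Agent.Loc.Mss Subgroup
open scoped commutatorElement

/-- Let Q be a nontrivial large p-subgroup of the finite group H and Q• = O_p(N_H(Q)). Then for every g ∈ H outside N_H(Q): C_H(Q) ∩ C_H(gQg⁻¹) = 1, C_H(Q•) ∩ C_H(gQ•g⁻¹) = 1, Z(Q) ∩ Z(gQg⁻¹) = 1 and Z(Q•) ∩ Z(gQ•g⁻¹) = 1; moreover N_H(Q) = N_H(Q•) and Q• is large in H. -/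
theorem result {H : Type*} [Group H] [Finite H] {p : ℕ} [Fact p.Prime] (Q : Subgroup H) (hQp : IsPGroup p ↥Q) (hQ1 : Q ≠ ⊥) (hL : Cfsg.IsLarge Q) (Qb : Subgroup H) (hQb : Qb = Cfsg.largeBullet p Q) : (∀ g : H, g ∉ Subgroup.normalizer ((Q : Subgroup H) : Set H) → Subgroup.centralizer ((Q : Subgroup H) : Set H) ⊓ Subgroup.centralizer ((((Q : Subgroup H).map (MulAut.conj (g : H)).toMonoidHom) : Subgroup H) : Set H) = ⊥ ∧ Subgroup.centralizer ((Qb : Subgroup H) : Set H) ⊓ Subgroup.centralizer ((((Qb : Subgroup H).map (MulAut.conj (g : H)).toMonoidHom) : Subgroup H) : Set H) = ⊥ ∧ (Q ⊓ Subgroup.centralizer ((Q : Subgroup H) : Set H)) ⊓ (((Q : Subgroup H).map (MulAut.conj (g : H)).toMonoidHom) ⊓ Subgroup.centralizer ((((Q : Subgroup H).map (MulAut.conj (g : H)).toMonoidHom) : Subgroup H) : Set H)) = ⊥ ∧ (Qb ⊓ Subgroup.centralizer ((Qb : Subgroup H) : Set H)) ⊓ (((Qb : Subgroup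 H).map (MulAut.conj (g : H)).toMonoidHom) ⊓ Subgroup.centralizer ((((Qb : Subgroup H).map (MulAut.conj (g : H)).toMonoidHom) : Subgroup H) : Set H)) = ⊥) ∧ Subgroup.normalizer ((Q : Subgroup H) : Set H) = Subgroup.normalizer ((Qb : Subgroup H) : Set H) ∧ Cfsg.IsLarge Qb := by
  have h : Lg p Q := ⟨hQp, hQ1, hL⟩
  have h1 : Q ≤ Qb := hQb ▸ le_pCoreOf le_normalizer le_rfl hQp
  have h2 : 𝐍[Q] = 𝐍[Qb] := le_antisymm (hQb ▸ le_norm_core _)
    ((le_inf le_top le_rfl).trans (h.wc.norm_le (hQb ▸ pg_core _) h1))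
  refine ⟨fun g hg => ?_, h2, (cent_anti h1).trans (hL.1.trans h1),
    fun U hU h0 => h2 ▸ hL.2 U (hU.trans (cent_anti h1)) h0⟩
  have h3 := h.cent_inf_cent hg
  have h4 : 𝐂[Qb] ⊓ 𝐂[cj(g, Qb)] = ⊥ :=
    eq_bot_iff.mpr ((inf_le_inf (cent_anti h1) (cent_anti (cj_mono g h1))).trans h3.le)
  exact ⟨h3, h4, eq_bot_iff.mpr ((inf_le_inf inf_le_right inf_le_right).trans h3.le),
    eq_bot_iff.mpr ((inf_le_inf inf_le_right inf_le_right).trans h4.le)⟩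

end Cfsg.Agent.S2844
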