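import Cfsg.Statements.S2845
import Cfsg.Agent.Loc.MssWC

set_option autoImplicit false
open Cfsg

namespace Cfsg.Agent.S2845

open Cfsg.Agent.GT Cfsg.Agent.Loc.Mss Subgroup
open scoped commutatorElement

/-- Let Q be a nontrivial large p-subgroup of the finite group H. Then for every subgroup L ≥ Q with O_p(L) ≠ 1, C_H(O_p(L)) is a p-group and L has characteristic p, and either the weak closure L° of Q in L equals Q or C_H(L°) = 1; for every subgroup R of H containing a Sylow p-subgroup of H with O_p(R) ≠ 1, C_H(O_p(R)) ≤ O_p(R); and H has parabolic characteristic p. -/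
theorem result {H : Type*} [Group H] [Finite H] {p : ℕ} [Fact p.Prime] (Q : Subgroup H) (hQp : IsPGroup p ↥Q) (hQ1 : Q ≠ ⊥) (hL : Cfsg.IsLarge Q) : (∀ L : Subgroup H, Q ≤ L → Cfsg.pCore p ↥L ≠ ⊥ → IsPGroup p ↥(Subgroup.centralizer (((Cfsg.pCoreOf p L) : Subgroup H) : Set H)) ∧ Subgroup.centralizer (Cfsg.pCore p ↥L : Set ↥L) ≤ Cfsg.pCore p ↥L ∧ (Cfsg.weakClosure Q L = Q ∨ Subgroup.centralizer (((Cfsg.weakClosure Q L) : Subgroup H) : Set H) = ⊥)) ∧ (∀ R : Subgroup H, Cfsg.IsParabolic p R → Cfsg.pCore p ↥R ≠ ⊥ → Subgroup.centralizer (((Cfsg.pCoreOf p R) : Subgroup H) : Set H) ≤ (Cfsg.pCoreOf p R)) ∧ Cfsg.IsOfParabolicCharacteristic p H := by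
  have h : Lg p Q := ⟨hQp, hQ1, hL⟩
  refine ⟨fun L hQL h0 => ?_, fun R ⟨T, hT⟩ h0 =>
    h.cent_core_le (Syl.of_sylow T) hT (mt pCoreOf_eq_bot_iff.mp h0), h.parabolic⟩
  have h0' := mt pCoreOf_eq_bot_iff.mp h0
  refine ⟨h.pg_cent_core hQL h0', chP_iff.mpr (h.chP hQL h0'), ?_⟩
  rw [h.wc.weakClosure_eq hQL]
  by_cases h1 : L ≤ 𝐍[Q]
  · exact Or.inl (ncl_eq_self h1)
  · obtain ⟨g, hg, hg'⟩ := SetLike.not_le_iff_exists.mp h1
    exact Or.inr (eq_bot_iff.mpr ((le_inf (cent_anti (le_ncl L Q))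
      (cent_anti (cj_le_ncl Q hg))).trans (h.cent_inf_cent hg').le))

end Cfsg.Agent.S2845
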