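import Cfsg.Statements.S2851
import Cfsg.Agent.Loc.MssFrakM

set_option autoImplicit false
open Cfsg

namespace Cfsg.Agent.S2851

open Cfsg.Agent.GT Cfsg.Agent.Loc.Mss Subgroup
open scoped commutatorElement

/-- Standing hypotheses: G a finite group, S a Sylow p-subgroup, Q a nontrivial large p-subgroup of G contained in S, M a subgroup containing S with the basic property (M ∈ 𝔐_G(S)); Y_M the largest p-reduced normal subgroup of M and M† = M·C_G(Y_M). Let F be the preimage in M† of the generalized Fitting subgroup of M†/C_{M†}(Y_M). If Y_M is asymmetric in G and H is a subgroup of characteristic p containing F, then Y_M ≤ Y_H. -/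
theorem result {G : Type*} [Group G] [Finite G] {p : ℕ} [Fact p.Prime] (S : Sylow p G) (Q : Subgroup G) (hQp : IsPGroup p ↥Q) (hQ1 : Q ≠ ⊥) (hQS : Q ≤ (S : Subgroup G)) (hQ : Cfsg.IsLarge Q) (M : Subgroup G) (hSM : (S : Subgroup G) ≤ M) (hM : Cfsg.IsInFrakM p M) (hasym : ¬ Cfsg.IsSymmetricIn (Cfsg.largestPReducedOf p M)) [hn : ((Subgroup.centralizer (((Cfsg.largestPReducedOf p M) : Subgroup G) : Set G)).subgroupOf (M ⊔ Subgroup.centralizer (((Cfsg.largestPReducedOf p M) : Subgroup G) : Set G))).Normal] (F : Subgroup G) (hF : F = ((Cfsg.generalizedFittingSubgroup (↥(M ⊔ Subgroup.centralizer (((Cfsg.largestPReducedOf p M) : Subgroup G) : Set G)) ⧸ (Subgroup.centralizer (((Cfsg.largestPReducedOf p M) : Subgroup G) : Set G)).subgroupOf (M ⊔ Subgroup.centralizer (((Cfsg.largestPReducedOf p M) : Subgroup G) : Set G)))).comap (QuotientGroup.mk' ((Subgroup.centralizer (((Cfsg.largestPReducedOf p M) : Subgroup G) : Set G)).subgroupOf (M ⊔ Subgroup.centralizer (((Cfsg.largestPReducedOf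 p M) : Subgroup G) : Set G))))).map ((M ⊔ Subgroup.centralizer (((Cfsg.largestPReducedOf p M) : Subgroup G) : Set G))).subtype) (H : Subgroup G) (hFH : F ≤ H) (hH : Subgroup.centralizer (Cfsg.pCore p ↥H : Set ↥H) ≤ Cfsg.pCore p ↥H) : (Cfsg.largestPReducedOf p M) ≤ Cfsg.largestPReducedOf p H := by
  have h := Std.mk' S hQp hQ1 hQ hSM hM
  set D := dag[p, M] with hD
  set C := 𝐂[𝐘[p, M]] with hC
  let f := QuotientGroup.mk' (C.subgroupOf D)
  have hr : Red p D 𝐘[p, M] := (red_Y M).up le_sup_left le_rfl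
  have hO : pCore p (D ⧸ C.subgroupOf D) = ⊥ := pCore_quotient_sub_eq_bot_iff.mpr hr.red
  have hFD : F ≤ D := hF ▸ map_subtype_le _
  have hFf : (F.subgroupOf D).map f = generalizedFittingSubgroup _ := by
    rw [hF, subgroupOf_map_subtype_self,
      map_comap_eq_self_of_surjective (QuotientGroup.mk'_surjective _)]
  have hCF : C ≤ F := by
    rw [hF]
    exact le_map_subtype_of_subgroupOf_le le_sup_right
      ((QuotientGroup.ker_mk' _).ge.trans (ker_le_comap _ _))
  obtain ⟨T, -, hT, h1⟩ := h.exists_syl hasym ((core_le_cent_Y M).trans (hCF.trans hFH))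
  have h2 : Red p (H ⊓ D) 𝐘[p, M] := by
    refine ⟨le_inf ((Y_le_cent M).trans (hCF.trans hFH)) hr.le, inf_le_right.trans hr.norm, ea_Y M,
      fun E hE hEn hc => ?_⟩
    have hED : E ≤ D := hE.trans inf_le_right
    have h3 : IsPGroup p ((E.subgroupOf D).map f) := by
      refine pg_iff.mpr ?_
      rintro _ ⟨x, hx, rfl⟩
      obtain ⟨k, hk⟩ := res_le_iff_pow.mp hc x hx
      exact ⟨k, by rw [← map_pow]; exact (QuotientGroup.eq_one_iff _).mpr hk⟩
    have h4 : generalizedFittingSubgroup _ ≤ 𝐍[(E.subgroupOf D).map f] := by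
      rw [← hFf]
      refine map_norm_le f ?_
      rw [norm_subgroupOf hED]
      exact comap_mono ((le_inf hFH hFD).trans hEn)
    have h5 : ∀ X, X ≤ generalizedFittingSubgroup (D ⧸ C.subgroupOf D) →
        generalizedFittingSubgroup (D ⧸ C.subgroupOf D) ≤ 𝐍[X] → IsPGroup p X → X = ⊥ :=
      fun X a b c => eq_bot_iff.mpr ((le_pCoreOf a b c).trans ((pCoreOf_le_pCore _).trans hO.le))
    have h6 := h5 ⁅(E.subgroupOf D).map f, generalizedFittingSubgroup _⁆
      (comm_le_right (norm_normal _ _)) (normalizer_commutator_ge_right _ _)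
      (h3.to_le (comm_le_left h4))
    have h7 := h5 _ ((comm_eq_bot_iff.mp h6).trans centralizer_genFitting_le) h4 h3
    rw [Subgroup.map_eq_bot_iff, QuotientGroup.ker_mk'] at h7
    exact fun x hx => h7 (show (⟨x, hED hx⟩ : D) ∈ E.subgroupOf D from hx)
  exact (le_ncl H _).trans (Red.ncl (chP_iff.mp hH) hT
    (le_inf hT.le (h1.trans h.norm_core_le_dag)) inf_le_left h2).le_Y

end Cfsg.Agent.S2851
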