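import Cfsg.Statements.S2854
import Cfsg.Agent.Loc.MssFrakM

set_option autoImplicit false
open Cfsg

namespace Cfsg.Agent.S2854

open Cfsg.Agent.GT Cfsg.Agent.Loc.Mss Subgroup
open scoped commutatorElement

/-- Standing hypotheses: G a finite group, S a Sylow p-subgroup, Q a nontrivial large p-subgroup of G contained in S, M a subgroup containing S with the basic property (M ∈ 𝔐_G(S)); Y_M the largest p-reduced normal subgroup of M and M† = M·C_G(Y_M). Suppose Y_M is asymmetric in G, H ∈ ℌ_G(O_p(M)), and H ≤ N_G(gQg⁻¹) for some g ∈ G. Then gQg⁻¹ ≤ O_p(H·gQg⁻¹) ≤ N_G(O_p(M)) ≤ N_G(Y_M) = M†; H is normal in H·gQg⁻¹ with O^p(H) = O^p(H·gQg⁻¹); and H·gQg⁻¹ is p-irreducible. -/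
theorem result {G : Type*} [Group G] [Finite G] {p : ℕ} [Fact p.Prime] (S : Sylow p G) (Q : Subgroup G) (hQp : IsPGroup p ↥Q) (hQ1 : Q ≠ ⊥) (hQS : Q ≤ (S : Subgroup G)) (hQ : Cfsg.IsLarge Q) (M : Subgroup G) (hSM : (S : Subgroup G) ≤ M) (hM : Cfsg.IsInFrakM p M) (hasym : ¬ Cfsg.IsSymmetricIn (Cfsg.largestPReducedOf p M)) (H : Subgroup G) (hH : Cfsg.IsInFrakH p M H) (g : G) (hHQ : H ≤ Subgroup.normalizer ((((Q : Subgroup G).map (MulAut.conj (g : G)).toMonoidHom) : Subgroup G) : Set G)) : ((Q : Subgroup G).map (MulAut.conj (g : G)).toMonoidHom) ≤ Cfsg.pCoreOf p (H ⊔ ((Q : Subgroup G).map (MulAut.conj (g : G)).toMonoidHom)) ∧ Cfsg.pCoreOf p (H ⊔ ((Q : Subgroup G).map (MulAut.conj (g : G)).toMonoidHom)) ≤ Subgroup.normalizer (((Cfsg.pCoreOf p M) : Subgroup G) : Set G) ∧ Subgroup.normalizer (((Cfsg.pCoreOf p M) : Subgroup G) : Set G) ≤ Subgroup.normalizer (((Cfsg.largestPReducedOf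 p M) : Subgroup G) : Set G) ∧ Subgroup.normalizer (((Cfsg.largestPReducedOf p M) : Subgroup G) : Set G) = (M ⊔ Subgroup.centralizer (((Cfsg.largestPReducedOf p M) : Subgroup G) : Set G)) ∧ (H.subgroupOf (H ⊔ ((Q : Subgroup G).map (MulAut.conj (g : G)).toMonoidHom))).Normal ∧ (Cfsg.pResidual p ↥H).map H.subtype = (Cfsg.pResidual p ↥(H ⊔ ((Q : Subgroup G).map (MulAut.conj (g : G)).toMonoidHom))).map (H ⊔ ((Q : Subgroup G).map (MulAut.conj (g : G)).toMonoidHom)).subtype ∧ Cfsg.IsPIrreducible p ↥(H ⊔ ((Q : Subgroup G).map (MulAut.conj (g : G)).toMonoidHom)) := by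
  have h := Std.mk' S hQp hQ1 hQ hSM hM
  have hQ' := pg_cj hQp g
  set Q₁ := cj(g, Q) with hQ₁
  have h1 : Q₁ ≤ pCoreOf p (H ⊔ Q₁) := le_pCoreOf le_sup_right (sup_le hHQ le_normalizer) hQ'
  have h2 : pCoreOf p (H ⊔ Q₁) ≤ 𝐍[pCoreOf p M] :=
    (h.wc hasym).core_le_norm le_top (norm_of_le (hH.2.1.trans le_sup_left))
  have h3 : Q₁ ≤ 𝐍[𝐘[p, M]] := (h1.trans h2).trans h.norm_core_le
  have hY := frakH_Y_le hH
  have h4 : ncl H 𝐘[p, M] ≤ cmod Q₁ (ncl H 𝐘[p, M]) :=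
    ncl_le (le_cmod.mpr ⟨norm_of_le (le_ncl _ _), (comm_le_right h3).trans (le_ncl _ _)⟩)
      (norm_cmod hHQ (le_norm_ncl _ _))
  have h5 : Q₁ ≤ 𝐍[pResidualOf p (ncl H 𝐘[p, M])] :=
    norm_res (le_normalizer_iff_commutator_le_right.mpr (le_cmod.mp h4).2)
  rw [← frakH_ncl_Y hH, res_sup_eq (hY.trans (le_norm_res H)) (pg_Y M), res_res] at h5
  have h6 : Q₁ ≤ 𝐍[H] := by
    rw [← frakH_res_sup hH]; exact norm_sup h5 (h1.trans h2)
  exact ⟨h1, h2, h.norm_core_le, h.norm_Y_eq,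
    (normal_subgroupOf_iff_le_normalizer le_sup_left).mpr (sup_le le_normalizer h6),
    (res_sup_eq h6 hQ').symm, isPIrreducible_iff.mpr ((frakH_pIrr hH).sup hQ' hHQ)⟩

end Cfsg.Agent.S2854
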