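import Cfsg.Statements.S2855
import Cfsg.Agent.Loc.MssIrr
import Cfsg.Agent.S2813

set_option autoImplicit false
open Cfsg

namespace Cfsg.Agent.S2855

open Cfsg.Agent.GT Cfsg.Agent.Loc.Mss Subgroup
open scoped commutatorElement

variable {G : Type*} [Group G] [Finite G] {p : ℕ} [Fact p.Prime]

theorem comm_le_core {X E : Subgroup G} (hE : PIrr p E) (hX : X.IsSubnormal) (hn : E ≤ 𝐍[X])
    (h : ⁅⁅X, E⁆, E⁆ ≤ pCore p G) : ⁅X, E⁆ ≤ pCore p G := by
  obtain ⟨T, hT⟩ := Syl.exists p E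
  refine (le_cmod.mp ((hE.ncl_syl hT).ge.trans (ncl_le (le_cmod.mpr ⟨norm_normal _ _, ?_⟩)
    (norm_cmod hn (norm_normal _ _))))).2
  set f := QuotientGroup.mk' (pCore p G) with hf
  have h1 : SubnormalIn (X.map f) ⊤ := map_top_mk' (pCore p G) ▸ (subnormalIn_top_iff.mpr hX).map f
  have h2 := S2813.result (X.map f) (pCoreOf_eq_bot_iff.mp (eq_bot_iff.mpr
    ((core_le_core_of_subnormal h1).trans (pCoreOf_top.trans pCore_quotient_pCore).le)))
    (T.map f) (hT.pg.map f) (map_norm_le f (hT.le.trans hn)) (by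
      rw [← map_commutator, ← map_commutator, Subgroup.map_eq_bot_iff, QuotientGroup.ker_mk']
      exact (commutator_mono (commutator_mono le_rfl hT.le) hT.le).trans h)
  rwa [← map_commutator, Subgroup.map_eq_bot_iff, QuotientGroup.ker_mk'] at h2

theorem yMin_sup {E T O : Subgroup G} [O.Normal] (hO : IsPGroup p O) (hT : Syl p T E)
    (h : YMin E T) {S : Subgroup G} (hS : Syl p S (E ⊔ O)) : YMin (E ⊔ O) S := by
  obtain ⟨h1, M, hM⟩ := h
  obtain ⟨g, hg, e⟩ := (hT.sup hO (norm_normal _ _)).conj_eq hS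
  rw [← e, ← cj_of_mem hg, yMin_map_iff (cj_inj g)]
  have h2 : O ⊓ E ≤ M := (hT.le_of_norm hO.to_inf_left inf_le_right
    (norm_inf (norm_normal _ _) (norm_of_le hT.le))).trans hM.1
  refine ⟨le_antisymm (ncl_le_self (sup_le_sup_right hT.le O)) (sup_le (h1.ge.trans
    (ncl_mono le_sup_left le_sup_left)) (le_sup_right.trans (le_ncl _ _))), M ⊔ O,
    sup_le_sup_right hM.1 O, lt_of_le_of_ne (sup_le_sup_right hM.2.1.le O) fun e' => hM.2.1.not_ge ?_,
    fun X h3 h4 => ?_⟩
  · have := dedekind' (N := O) (H := M) (M := E) (norm_normal _ _) hM.2.1.le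
    rw [sup_comm O, e', inf_eq_right.mpr le_sup_left, sup_eq_right.mpr h2] at this
    exact this.le
  · have := dedekind (N := O) (H := E) (M := X) (norm_normal _ _) (le_sup_right.trans h3)
    rw [sup_comm O, inf_eq_right.mpr h4.le] at this
    rw [this, sup_comm]
    exact sup_le_sup_right (hM.le_of_not_le (le_sup_left.trans h3) fun h5 =>
      h4.not_ge (sup_le h5 (le_sup_right.trans h3))) O

/-- Let H be a finite group, p a prime, and 𝒦 a nonempty set of subgroups of H permuted transitively by conjugation, with R the subgroup generated by the members of 𝒦. Suppose O^p(H) ≤ R, each E ∈ 𝒦 has E·O_p(H) normal in R·O_p(H), and each E ∈ 𝒦 is p-minimal (generated by the conjugates of a Sylow p-subgroup T_E of E, with T_E in exactly one maximal subgroup of E). Then H is p-minimal in the same sense. If instead each E ∈ 𝒦 is strongly p-irreducible, then H is p-irreducible and, for E, K ∈ 𝒦, either O^p(E·O_p(H)) = O^p(K·O_p(H)) or [E, K] ≤ O_p(H). -/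
theorem result {H : Type*} [Group H] [Finite H] {p : ℕ} [Fact p.Prime] (𝒦 : Set (Subgroup H)) (hne : 𝒦.Nonempty) (hinv : ∀ h : H, ∀ E ∈ 𝒦, E.map (MulAut.conj h).toMonoidHom ∈ 𝒦) (htr : ∀ E ∈ 𝒦, ∀ K ∈ 𝒦, ∃ h : H, K = E.map (MulAut.conj h).toMonoidHom) (hres : Cfsg.pResidual p H ≤ sSup 𝒦) (hnorm : ∀ E ∈ 𝒦, sSup 𝒦 ⊔ Cfsg.pCore p H ≤ Subgroup.normalizer ((E ⊔ Cfsg.pCore p H : Subgroup H) : Set H)) : ((∀ E ∈ 𝒦, ∀ T : Sylow p ↥E, Cfsg.IsMinimalOver (T : Subgroup ↥E)) → ∀ T : Sylow p H, Cfsg.IsMinimalOver (T : Subgroup H)) ∧ ((∀ E ∈ 𝒦, Cfsg.IsStronglyPIrreducible p ↥E) → Cfsg.IsPIrreducible p H ∧ ∀ E ∈ 𝒦, ∀ K ∈ 𝒦, (Cfsg.pResidual p ↥(E ⊔ Cfsg.pCore p H)).map (E ⊔ Cfsg.pCore p H).subtype = (Cfsg.pResidual p ↥(K ⊔ Cfsg.pCore p H)).map (K ⊔ Cfsg.pCore p H).subtype ∨ ⁅E, K⁆ ≤ Cfsg.pCore p H) := by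
  set O := pCore p H with hO
  set R := sSup 𝒦 with hR
  have hOp : IsPGroup p O := isPGroup_pCore p
  have hRn : R.Normal := normal_of_top (le_normalizer_sSup_of_conj_closed fun g _ => hinv g)
  have hsn : ∀ E ∈ 𝒦, (E ⊔ O).IsSubnormal := fun E hE =>
    (SubnormalIn.of_le_normalizer (sup_le_sup_right (le_sSup hE) O) (hnorm E hE)).isSubnormal
      (Normal.isSubnormal inferInstance)
  have hcj : ∀ (g : H) (E : Subgroup H), cj(g, E ⊔ O) = cj(g, E) ⊔ O := fun g E => by
    rw [cj_sup, cj_normal O]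
  obtain ⟨E₀, hE₀⟩ := hne
  refine ⟨fun hmin T => ?_, fun hirr => ?_⟩
  · have hT := Syl.of_sylow T
    have hT' : ∀ E ∈ 𝒦, Syl p (T ⊓ (E ⊔ O)) (E ⊔ O) := fun E hE =>
      hT.inf_subnormal (subnormalIn_top_iff.mpr (hsn E hE))
    have hY : ∀ E ∈ 𝒦, YMin (E ⊔ O) (T ⊓ (E ⊔ O)) := fun E hE => by
      obtain ⟨P⟩ : Nonempty (Sylow p E) := inferInstance
      exact yMin_sup hOp (Syl.of_sylow_sub P) (isMinimalOver_iff.mp (hmin E hE P)) (hT' E hE)
    have hRT : ⊤ ≤ R ⊔ T := hT.sup_of_res_le (pResidualOf_top.le.trans hres)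
    let P : H → Prop := fun g => ∀ K ∈ 𝒦, ∀ M, UMax (K ⊔ O) (T ⊓ (K ⊔ O)) M →
      UMax (cj(g, K) ⊔ O) (T ⊓ (cj(g, K) ⊔ O)) cj(g, M)
    have hP : ∀ X : Subgroup H, (T : Subgroup H) ≤ X → X < ⊤ → ∀ g ∈ X, P g := by
      intro X hTX hX g hg K hK M hM
      have h1 : ∀ E ∈ 𝒦, ¬ E ⊔ O ≤ X := fun E hE h => by
        refine hX.not_ge (hRT.trans (sup_le (sSup_le fun F hF => ?_) hTX))
        obtain ⟨k, rfl⟩ := htr E hE F hF
        obtain ⟨t, ht, r, hr, rfl⟩ := (mem_sup_norm' (norm_normal _ R)).mp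
          ((hRT.trans (sup_comm _ _).le) (mem_top k))
        refine (cj_mono _ (le_sup_left : E ≤ E ⊔ O)).trans ?_
        rw [← cj_cj, cj_of_norm (hnorm E hE (mem_sup_left hr))]
        exact cj_le_of_mem h (hTX ht)
      obtain ⟨-, M', hM'⟩ := hY _ (hinv g K hK)
      have h2 := hM.cj g
      rw [hcj] at h2
      have h3 : cj(g, T ⊓ (K ⊔ O)) ≤ M' := le_trans (le_inf h2.le (cj_le_of_mem
        (inf_le_left.trans hTX) hg)) (hM'.le_of_not_le (inf_le_left.trans hTX) (h1 _ (hinv g K hK)))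
      have h4 := h2.2.2 M' h3 hM'.2.1
      rwa [le_antisymm (hM'.2.2 _ (hM'.1.trans h4) h2.2.1) h4]
    let M : Subgroup H :=
      { carrier := {g | P g ∧ P g⁻¹}
        one_mem' := by
          have : P 1 := fun K _ M hM => by rwa [cj_one, cj_one]
          exact ⟨this, by rwa [inv_one]⟩
        mul_mem' := by
          have : ∀ a b, P a → P b → P (a * b) := fun a b ha hb K hK M hM => by
            rw [← cj_cj, ← cj_cj]; exact ha _ (hinv b K hK) _ (hb K hK M hM)
          rintro a b ⟨ha, ha'⟩ ⟨hb, hb'⟩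
          exact ⟨this a b ha hb, by rw [mul_inv_rev]; exact this _ _ hb' ha'⟩
        inv_mem' := fun ⟨h1, h2⟩ => ⟨h2, by rwa [inv_inv]⟩ }
    have hM : ∀ X : Subgroup H, (T : Subgroup H) ≤ X → X < ⊤ → X ≤ M := fun X h1 h2 g hg =>
      ⟨hP X h1 h2 g hg, hP X h1 h2 _ (inv_mem hg)⟩
    obtain ⟨h1, M₀, hM₀⟩ := hY E₀ hE₀
    refine isMinimalOver_iff_top.mpr ⟨top_le_iff.mp (hRT.trans (sup_le (sSup_le fun E hE =>
      le_sup_left.trans ((hY E hE).1.ge.trans (ncl_mono le_top inf_le_left))) (le_ncl _ _))),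
      M, hM T le_rfl (lt_top_iff_ne_top.mpr fun e => hM₀.2.1.not_ge ?_),
      lt_top_iff_ne_top.mpr fun e => ?_, hM⟩
    · exact (le_inf (le_top.trans e.ge) le_rfl).trans hM₀.1
    · obtain ⟨g, hg, hg'⟩ := SetLike.exists_of_lt hM₀.2.1
      have h2 := (e.ge (mem_top g)).1 E₀ hE₀ M₀ hM₀
      rw [← hcj, cj_of_mem hg] at h2
      exact hg' (hM₀.mem_of_le_cj h1 hg h2.1)
  · have hS : ∀ E ∈ 𝒦, SIrr p E := fun E hE => isStronglyPIrreducible_iff.mp (hirr E hE)
    have hOE : ∀ E ∈ 𝒦, pCoreOf p E ≤ O := fun E hE => by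
      refine le_sup_left.trans ((le_pCoreOf (sup_le_sup_right (pCoreOf_le E) O) (sup_le (norm_sup
        (le_norm_core E) (norm_normal _ _)) (norm_of_le le_sup_right)) (pg_sup (pg_core E) hOp
        (norm_normal _ _))).trans ?_)
      exact (core_le_core_of_subnormal (subnormalIn_top_iff.mpr (hsn E hE))).trans pCoreOf_top.le
    have key : ∀ E ∈ 𝒦, ∀ W : Subgroup H, O ≤ W → E ≤ 𝐍[W] → ¬ pResidualOf p E ≤ W →
        ⁅W ⊓ (E ⊔ O), E⁆ ≤ O := fun E hE W hW hn h => by
      have h1 : ⁅E ⊓ W, E⁆ ≤ pCoreOf p E := by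
        by_contra h2
        exact h (((hS E hE).2 _ inf_le_left (norm_inf le_normalizer hn) h2).trans inf_le_right)
      rw [inf_comm, sup_comm E, dedekind (norm_normal _ _) hW]
      exact sup_comm_le le_normalizer (norm_normal _ _) (comm_le_left (norm_normal _ _))
        (h1.trans (hOE E hE))
    have hA : ∀ (W : Subgroup H) [W.Normal], O ≤ W → pResidualOf p E₀ ≤ W →
        pResidualOf p ⊤ ≤ W := fun W _ hW h => by
      set f := QuotientGroup.mk' W with hf
      have hk : ∀ {X : Subgroup H}, X.map f = ⊥ ↔ X ≤ W := by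
        intro X; rw [Subgroup.map_eq_bot_iff, QuotientGroup.ker_mk']
      have h1 : R.map f ≤ pCoreOf p ⊤ := map_le_iff_le_comap.mpr (sSup_le fun E hE => by
        obtain ⟨k, rfl⟩ := htr E₀ hE₀ E hE
        have h2 := (subnormalIn_top_iff.mpr (hsn _ hE)).map f
        rw [map_top_mk', Subgroup.map_sup, hk.mpr hW, sup_bot_eq] at h2
        refine map_le_iff_le_comap.mp (le_core_of_subnormal h2 (pg_of_res_eq_bot ?_))
        rw [← map_pResidualOf, hk, ← cj_res]
        exact cj_le_of_norm h (norm_normal ⊤ W (mem_top k)))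
      refine (res_le_res (pResidualOf_top.le.trans hres)).trans (hk.mp ?_)
      rw [map_pResidualOf]
      exact res_eq_bot_of_pg ((pg_core _).to_le h1)
    refine ⟨isPIrreducible_iff_top.mpr ⟨fun h => (hS E₀ hE₀).1 (h.mono le_top),
      fun N _ hn hc => ?_⟩, fun E hE K hK => ?_⟩
    · have := normal_of_top hn
      by_cases h1 : pResidualOf p E₀ ≤ N ⊔ O
      · rw [← res_res]
        exact res_le_of_le_sup (norm_normal _ _) hOp (hA _ le_sup_right h1)
      exfalso
      have h2 : ⁅N ⊓ (R ⊔ O), R⁆ ≤ O := by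
        refine (le_cmod.mp (sSup_le fun E hE => le_cmod.mpr ⟨norm_normal _ _, ?_⟩)).2
        refine comm_le_core (hS E hE).pIrr (Normal.isSubnormal inferInstance) (norm_normal _ _)
          ((commutator_mono (le_inf ?_ ?_) le_rfl).trans (key E hE (N ⊔ O) le_sup_right
            (norm_normal _ _) fun h3 => h1 ?_))
        · exact ((comm_le_left (norm_normal _ _)).trans inf_le_left).trans le_sup_left
        · exact (commutator_mono inf_le_right le_sup_left).trans (comm_le_right (hnorm E hE))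
        · obtain ⟨k, rfl⟩ := htr E hE E₀ hE₀
          rw [← cj_res]
          exact cj_le_of_norm h3 (norm_normal ⊤ _ (mem_top k))
      have h3 : ⁅⁅N, R⁆, R⁆ ≤ O := (commutator_mono (le_inf (comm_le_left (norm_normal _ _))
        ((comm_le_right (norm_normal _ _)).trans le_sup_left)) le_rfl).trans h2
      have h4 : ⁅⁅R, R⁆, N⁆ ≤ O := three_subgroups (norm_normal _ _) (norm_normal _ _)
        (norm_normal _ _) (by rwa [commutator_comm R]) h3
      have h5 : ⁅N, pResidualOf p ⊤⁆ ≤ O := by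
        refine (commutator_mono le_rfl (hA (⁅R, R⁆ ⊔ O) le_sup_right ((hS E₀ hE₀).pIrr.res_le_comm.trans
          ((commutator_mono (le_sSup hE₀) (le_sSup hE₀)).trans le_sup_left)))).trans ?_
        exact comm_sup_le (norm_normal _ _) (norm_normal _ _) (by rwa [commutator_comm])
          (comm_le_right (norm_normal _ _))
      obtain ⟨T, hT⟩ := Syl.exists p (⊤ : Subgroup H)
      have hP := hT.inf (M := N) le_top (norm_normal _ _)
      have h6 : ⊤ ≤ 𝐍[(T ⊓ N) ⊔ O] := hT.res_sup.ge.trans (sup_le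
        (le_normalizer_iff_commutator_le_left.mpr ((sup_comm_le (norm_normal _ _) (norm_normal _ _)
          ((commutator_mono inf_le_right le_rfl).trans h5) (comm_le_left (norm_normal _ _))).trans
          le_sup_right))
        (norm_sup (norm_inf le_normalizer (norm_normal _ _)) (norm_normal _ _)))
      have h7 : T ⊓ N ≤ pCoreOf p N := le_core_of_le le_top (le_sup_left.trans
        (le_pCoreOf le_top h6 (pg_sup hP.pg hOp (norm_normal _ _)))) inf_le_right
      refine hc (pCl_iff_syl.mpr ?_)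
      rw [le_antisymm hP.core_le h7]; exact hP
    · have hn : E ≤ 𝐍[K ⊔ O] := ((le_sSup hE).trans le_sup_left).trans (hnorm K hK)
      by_cases h1 : pResidualOf p E ≤ K ⊔ O
      · left
        have h2 : pResidualOf p (E ⊔ O) ≤ pResidualOf p (K ⊔ O) :=
          res_le_res (res_sup_le_of_norm (norm_normal _ _) hn (norm_of_le le_sup_right) h1
            ((res_le O).trans le_sup_right))
        obtain ⟨k, rfl⟩ := htr E hE K hK
        have h3 : pResidualOf p (E ⊔ O) = pResidualOf p (cj(k, E) ⊔ O) :=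
          PG.eq_of_le_of_card_le h2 (by rw [← hcj, ← cj_res, card_cj])
        exact h3
      · right
        rw [commutator_comm]
        refine (commutator_mono le_sup_left le_rfl).trans (comm_le_core (hS E hE).pIrr (hsn K hK) hn
          ((commutator_mono (le_inf (comm_le_left hn) ?_) le_rfl).trans (key E hE _ le_sup_right hn h1)))
        exact (commutator_mono (sup_le_sup_right (le_sSup hK) O) le_sup_left).trans
          (comm_le_right (hnorm E hE))

end Cfsg.Agent.S2855
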