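import Cfsg.Statements.S2859
import Cfsg.Agent.Loc.MssWC

set_option autoImplicit false
open Cfsg

namespace Cfsg.Agent.S2859

open Cfsg.Agent.GT Cfsg.Agent.Loc.Mss Subgroup
open scoped commutatorElement

theorem aux {G : Type*} [Group G] [Finite G] {p : ℕ} [Fact p.Prime] {Q H H₁ H₂ : Subgroup G}
    (h : WC p ⊤ Q) (hQ : Q ≤ H) (hH : ncl H Q = H) (hn₁ : H₁ ≤ H ∧ H ≤ 𝐍[H₁])
    (hn₂ : H₂ ≤ H ∧ H ≤ 𝐍[H₂]) (hprod : H₁ ⊔ H₂ = H) (hcomm : ⁅H₁, H₂⁆ ≤ 𝐍[Q]) {K : Subgroup G}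
    (hK : K = pResidualOf p (ncl (H₁ ⊔ Q) Q)) :
    (⁅K, Q⁆ = K ∧ ⁅K, H₁⁆ = K ∧ K ≤ ⁅H₁, H₁⁆ ∧ H ≤ 𝐍[K]) ∧ ⁅K, H₂⁆ ≤ pCoreOf p H ∧
      K ≤ pResidualOf p H ∧ H₁ ≤ 𝐍[Q ⊔ K] ∧ K ≤ H₁ := by
  have hs := (h.mono (le_sup_right : Q ≤ H₁ ⊔ Q) le_top).isScl
  have hKQ : ⁅K, Q⁆ = K := hK ▸ hs.comm_res h.pg
  have hE : ncl (H₁ ⊔ Q) Q ≤ H := ncl_le hQ (norm_of_le (sup_le hn₁.1 hQ))
  have hQ₁ := hQ.trans hn₁.2
  have hK₁ : K ≤ ⁅H₁, H⁆ := by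
    rw [hK]
    refine res_le_of_le_sup (hQ.trans (normalizer_commutator_ge_right _ _)) h.pg
      (ncl_le le_sup_right (sup_le ?_ (norm_of_le le_sup_right)))
    exact le_normalizer_iff_commutator_le_right.mpr ((commutator_mono le_rfl
      (sup_le ((comm_le_left hn₁.2).trans hn₁.1) hQ)).trans le_sup_left)
  have hKH₁ : K ≤ H₁ := hK₁.trans (comm_le_left hn₁.2)
  have hO : H ≤ 𝐍[pCoreOf p H] := le_norm_core H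
  have hN : H ≤ 𝐍[⁅H₁, H₂⁆] := norm_comm hn₁.2 hn₂.2
  have hNH : ⁅H₁, H₂⁆ ≤ H := (comm_le_left (hn₂.1.trans hn₁.2)).trans hn₁.1
  have h1 : ⁅⁅H₁, H₂⁆, H⁆ ≤ pCoreOf p H := by
    refine (le_cmod.mp (hH.ge.trans (ncl_le (le_cmod.mpr ⟨hQ.trans hO, ?_⟩) (norm_cmod hN hO)))).2
    exact (le_pCoreOf (comm_le_left (hQ.trans hN)) (normalizer_commutator_ge_left _ _)
      (h.pg.to_le (comm_le_right hcomm))).trans (pCoreOf_le_pCoreOf hNH hN)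
  have h11 : H ≤ 𝐍[⁅H₁, H₁⁆] := norm_comm hn₁.2 hn₁.2
  have h2 : ⁅⁅H₁, H₁⁆, H₂⁆ ≤ pCoreOf p H := by
    have := (commutator_mono le_rfl hn₁.1).trans h1
    exact three_subgroups (hn₁.1.trans hO) (hn₁.1.trans hO) (hn₂.1.trans hO) this
      (by rwa [commutator_comm H₂])
  have h3 : ⁅K, H₂⁆ ≤ pCoreOf p H := by
    have h4 : ⁅H₁, H⁆ ≤ ⁅H₁, H₁⁆ ⊔ ⁅H₁, H₂⁆ := by
      conv_lhs => rw [← hprod]
      exact comm_sup_le (hn₁.1.trans (norm_sup h11 hN)) (hn₂.1.trans (norm_sup h11 hN))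
        le_sup_left le_sup_right
    exact (commutator_mono (hK₁.trans h4) le_rfl).trans (sup_comm_le
      (((comm_le_left le_normalizer).trans hn₁.1).trans hO) (hNH.trans hO) h2
      ((commutator_mono le_rfl hn₂.1).trans h1))
  have hOQ : pCoreOf p H ≤ 𝐍[Q] := h.core_le_norm le_top (norm_of_le hQ)
  have hOK : pCoreOf p H ≤ 𝐍[K] :=
    hK ▸ norm_res (norm_ncl (norm_sup ((pCoreOf_le H).trans hn₁.2) hOQ) hOQ)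
  have hK₁n : H₁ ≤ 𝐍[K] := hK ▸ norm_res (le_sup_left.trans (le_norm_ncl _ _))
  have hKK : pResidualOf p K = K := hK ▸ res_res _
  have hKn : H ≤ 𝐍[K] := by
    rw [← hprod]
    refine sup_le hK₁n ?_
    rw [← hKK, ← res_sup_eq hOK (pg_core H)]
    refine norm_res (le_normalizer_iff_commutator_le_left.mpr (le_trans (sup_comm_le
      ((hKH₁.trans hn₁.1).trans hO) le_normalizer h3 (comm_le_left (hn₂.1.trans hO))) le_sup_right))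
  have h5 : ⁅K, H₁⁆ = K := by
    refine le_antisymm (comm_le_left hK₁n) ?_
    have hW := norm_comm hKn hn₁.2
    conv_lhs => rw [← hKK]
    refine res_le_of_le_sup ((pCoreOf_le H).trans hW) (pg_core H)
      (hKQ.ge.trans ((commutator_mono le_rfl (hQ.trans hprod.ge)).trans ?_))
    exact comm_sup_le (hn₁.1.trans (norm_sup hW hO)) (hn₂.1.trans (norm_sup hW hO)) le_sup_left
      (h3.trans le_sup_right)
  refine ⟨⟨hKQ, h5, h5.ge.trans (commutator_mono hKH₁ le_rfl), hKn⟩, h3, hK ▸ res_mono hE, ?_, hKH₁⟩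
  rw [hK, hs.sup_res]
  exact le_sup_left.trans (le_norm_ncl _ _)

/-- Let Q be a nontrivial p-subgroup of the finite group H that is a weakly closed subgroup, H° the weak closure of Q in H (generated by the conjugates of Q) and H_∘ = O^p(H°). Suppose H₁, H₂ are normal subgroups of H° with H° = H₁H₂ and [H₁, H₂] ≤ N_H(Q), and put Kᵢ = O^p of the weak closure of Q in HᵢQ. Then for i = 1, 2: Kᵢ = [Kᵢ, Q] = [Kᵢ, Hᵢ] ≤ Hᵢ′ and Kᵢ is normal in H°; H_∘ = K₁K₂; and [K₁, K₂] ≤ O_p(H°). -/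
theorem result {G : Type*} [Group G] [Finite G] {p : ℕ} [Fact p.Prime] (Q : Subgroup G) (hQp : IsPGroup p ↥Q) (hQ1 : Q ≠ ⊥) (hwc : Cfsg.IsWeaklyClosedSubgroup p Q) (Hc : Subgroup G) (hHc : Hc = Cfsg.weakClosure Q ⊤) (H₁ H₂ : Subgroup G) (hn₁ : H₁ ≤ Hc ∧ Hc ≤ Subgroup.normalizer ((H₁ : Subgroup G) : Set G)) (hn₂ : H₂ ≤ Hc ∧ Hc ≤ Subgroup.normalizer ((H₂ : Subgroup G) : Set G)) (hprod : H₁ ⊔ H₂ = Hc) (hcomm : ⁅H₁, H₂⁆ ≤ Subgroup.normalizer ((Q : Subgroup G) : Set G)) (K₁ K₂ : Subgroup G) (hK₁ : K₁ = ((Cfsg.pResidual p ↥(Cfsg.weakClosure Q (H₁ ⊔ Q))).map ((Cfsg.weakClosure Q (H₁ ⊔ Q))).subtype)) (hK₂ : K₂ = ((Cfsg.pResidual p ↥(Cfsg.weakClosure Q (H₂ ⊔ Q))).map ((Cfsg.weakClosure Q (H₂ ⊔ Q))).subtype)) : (⁅K₁, Q⁆ = K₁ ∧ ⁅K₁, H₁⁆ = K₁ ∧ K₁ ≤ ⁅H₁, H₁⁆ ∧ Hc ≤ Subgroup.normalizer ((K₁ : Subgroup G) : Set G)) ∧ (⁅K₂, Q⁆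 = K₂ ∧ ⁅K₂, H₂⁆ = K₂ ∧ K₂ ≤ ⁅H₂, H₂⁆ ∧ Hc ≤ Subgroup.normalizer ((K₂ : Subgroup G) : Set G)) ∧ K₁ ⊔ K₂ = ((Cfsg.pResidual p ↥Hc).map (Hc).subtype) ∧ ⁅K₁, K₂⁆ ≤ (Cfsg.pCoreOf p Hc) := by
  have h := isWeaklyClosedSubgroup_iff_top.mp hwc
  rw [h.weakClosure_eq le_top] at hHc
  rw [h.weakClosure_eq le_sup_right] at hK₁ hK₂
  have hQ : Q ≤ Hc := hHc ▸ le_ncl _ _
  have hH : ncl Hc Q = Hc := hHc ▸ h.ncl_ncl le_rfl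
  obtain ⟨a1, a2, a3, a4, a5⟩ := aux h hQ hH hn₁ hn₂ hprod hcomm hK₁
  obtain ⟨b1, b2, b3, b4, b5⟩ := aux h hQ hH hn₂ hn₁ ((sup_comm _ _).trans hprod)
    (by rwa [commutator_comm]) hK₂
  refine ⟨a1, b1, le_antisymm (sup_le a3 b3) ?_, (commutator_mono le_rfl b5).trans a2⟩
  refine res_le_of_le_sup (hQ.trans (norm_sup a1.2.2.2 b1.2.2.2)) hQp
    (hH.ge.trans (ncl_le le_sup_right ?_))
  conv_lhs => rw [← hprod]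
  refine sup_le ?_ ?_
  · rw [sup_comm K₁, sup_assoc, sup_comm K₁]
    exact norm_sup (hn₁.1.trans b1.2.2.2) a4
  · rw [sup_assoc, sup_comm K₂]
    exact norm_sup (hn₂.1.trans a1.2.2.2) b4

end Cfsg.Agent.S2859
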