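import Cfsg.Statements.S2860
import Cfsg.Agent.Loc.MssFStar
import Cfsg.Agent.Loc.MssWC

set_option autoImplicit false
open Cfsg

namespace Cfsg.Agent.S2860

open Cfsg.Agent.GT Cfsg.Agent.Loc.Mss Subgroup
open scoped commutatorElement

/-- Let Q be a nontrivial large p-subgroup of the finite group H, U a nontrivial elementary abelian p-subgroup of H, and Q ≤ E ≤ N_H(U) with Q not normal in E. Suppose O_p(E/C_E(U)) = 1 and O^p(E)·C_E(U)/C_E(U) is quasisimple. Let E° be the weak closure of Q in E (generated by the conjugates of Q inside E) and E_∘ = O^p(E°). Then O^p(E)·C_E(U) = E_∘·C_E(U); E_∘ is perfect and equals O^p(E_∘); E_∘/C_{E_∘}(U) and E_∘/O_p(E_∘) are quasisimple; and E_∘ = [E_∘, Y] for every p-subgroup Y of E not centralizing U. -/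
theorem result {G : Type*} [Group G] [Finite G] {p : ℕ} [Fact p.Prime] (Q : Subgroup G) (hQp : IsPGroup p ↥Q) (hQ1 : Q ≠ ⊥) (hQ : Cfsg.IsLarge Q) (U : Subgroup G) (hU : Cfsg.IsElementaryAbelian p U) (hU1 : U ≠ ⊥) (E : Subgroup G) (hQE : Q ≤ E) (hEU : E ≤ Subgroup.normalizer ((U : Subgroup G) : Set G)) (hQn : ¬ E ≤ Subgroup.normalizer ((Q : Subgroup G) : Set G)) [hn : ((Subgroup.centralizer ((U : Subgroup G) : Set G)).subgroupOf E).Normal] (hred : Cfsg.pCore p (↥E ⧸ (Subgroup.centralizer ((U : Subgroup G) : Set G)).subgroupOf E) = ⊥) (hqs : Cfsg.IsQuasisimple ↥(((Cfsg.pResidual p ↥E) ⊔ (Subgroup.centralizer ((U : Subgroup G) : Set G)).subgroupOf E).map (QuotientGroup.mk' ((Subgroup.centralizer ((U : Subgroup G) : Set G)).subgroupOf E)))) (Er : Subgroup G) (hEr : Er = ((Cfsg.pResidual p ↥(Cfsg.weakClosure Q E)).map ((Cfsg.weakClosure Q E)).subtype)) [hn2 : ((Subgroup.centralizer ((U : Subgroup G) : Set G)).subgroupOf Er).Normal] : ((Cfsg.pResidual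 p ↥E).map (E).subtype) ⊔ (E ⊓ Subgroup.centralizer ((U : Subgroup G) : Set G)) = Er ⊔ (E ⊓ Subgroup.centralizer ((U : Subgroup G) : Set G)) ∧ ⁅Er, Er⁆ = Er ∧ ((Cfsg.pResidual p ↥Er).map (Er).subtype) = Er ∧ Cfsg.IsQuasisimple (↥Er ⧸ (Subgroup.centralizer ((U : Subgroup G) : Set G)).subgroupOf Er) ∧ Cfsg.IsQuasisimple (↥Er ⧸ Cfsg.pCore p ↥Er) ∧ ∀ Y : Subgroup G, Y ≤ E → IsPGroup p ↥Y → ¬ Y ≤ Subgroup.centralizer ((U : Subgroup G) : Set G) → ⁅Er, Y⁆ = Er := by
  have h : Lg p Q := ⟨hQp, hQ1, hQ⟩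
  rw [h.wc.weakClosure_eq hQE] at hEr
  set C := 𝐂[U] with hC
  set f := QuotientGroup.mk' (C.subgroupOf E) with hf
  have hs : Function.Surjective f := QuotientGroup.mk'_surjective _
  have hker : f.ker = C.subgroupOf E := QuotientGroup.ker_mk' _
  have hlift : ∀ {A B : Subgroup G}, A ≤ E → B ≤ E →
      ((A.subgroupOf E).map f ≤ (B.subgroupOf E).map f ↔ A ≤ B ⊔ (E ⊓ C)) := by
    intro A B hA hB
    rw [map_le_iff_le_comap, comap_map_eq, hker, subgroupOf_le_iff hA, Subgroup.map_sup,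
      map_subtype_subgroupOf_of_le hB, subgroupOf_map_subtype, inf_comm]
  have hcomm : ∀ {A B : Subgroup G}, A ≤ E → B ≤ E →
      ⁅A.subgroupOf E, B.subgroupOf E⁆ = ⁅A, B⁆.subgroupOf E := by
    intro A B hA hB
    apply map_injective E.subtype_injective
    rw [map_commutator, map_subtype_subgroupOf_of_le hA, map_subtype_subgroupOf_of_le hB,
      map_subtype_subgroupOf_of_le ((commutator_le_sup A B).trans (sup_le hA hB))]
  set R := pResidualOf p E with hR
  have hRE : R ≤ E := res_le E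
  have hK : (R.subgroupOf E).map f = pResidual p (E ⧸ C.subgroupOf E) := by
    rw [← map_pResidual_of_surjective hs, hR, pResidualOf, subgroupOf_map_subtype_self]
  have hq : IsQuasisimple (pResidual p (E ⧸ C.subgroupOf E)) := by
    rwa [Subgroup.map_sup, (Subgroup.map_eq_bot_iff _).mpr hker.ge, sup_bot_eq,
      map_pResidual_of_surjective hs] at hqs
  have K1 : ∀ Y ≤ E, IsPGroup p Y → ¬ Y ≤ C → R ≤ ⁅R, Y⁆ ⊔ (E ⊓ C) := fun Y hY hp hc => by
    rw [← hlift hRE ((commutator_le_sup _ _).trans (sup_le hRE hY)), ← hcomm hRE hY,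
      map_commutator, hK]
    refine (comm_res_of_quasisimple hred hq (hp.comap_subtype.map f) fun e => hc ?_).ge
    rw [Subgroup.map_eq_bot_iff, hker] at e
    exact fun x hx => e (show (⟨x, hY hx⟩ : E) ∈ Y.subgroupOf E from hx)
  have hQC : ¬ Q ≤ C := fun h' => hQn (hEU.trans (hQ.2 U (cent_comm h') hU1))
  have hs' := (h.wc.mono hQE le_top).isScl
  set D := ncl E Q with hD
  have hEr' : Er = pResidualOf p D := hEr
  have hDE : D ≤ E := ncl_le_self hQE
  have hErD : Er ≤ D := hEr' ▸ res_le D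
  have hErE : Er ≤ E := hErD.trans hDE
  have hErn : E ≤ 𝐍[Er] := hEr' ▸ norm_res (le_norm_ncl E Q)
  have hC0 : E ≤ 𝐍[E ⊓ C] := norm_inf le_normalizer (norm_cent hEU)
  have hErR : Er ≤ R := hEr' ▸ res_mono hDE
  have hrr : pResidualOf p Er = Er := hEr' ▸ res_res D
  have h1 : R ≤ Er ⊔ (E ⊓ C) := by
    have h2 : R ≤ D ⊔ (E ⊓ C) := (K1 Q hQE hQp hQC).trans (sup_le_sup_right
      ((commutator_mono hRE le_rfl).trans (le_sup_left.trans (ncl_eq E Q).ge)) _)
    exact (res_le_res h2).trans (res_sup_le_of_norm (hDE.trans hC0) (hDE.trans (norm_sup hErn hC0))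
      (norm_of_le le_sup_right) (hEr'.ge.trans le_sup_left) ((res_le _).trans le_sup_right))
  have hK' : (Er.subgroupOf E).map f = pResidual p (E ⧸ C.subgroupOf E) := by
    rw [← hK]
    exact le_antisymm (map_mono (comap_mono hErR)) ((hlift hRE hErE).mpr h1)
  have hO : ⁅D, C⁆ ≤ pCoreOf p D := h.comm_ncl_cent hQE hU.isPGroup hU1 hEU
  have hO' : ⁅Er, C ⊓ Er⁆ ≤ pCoreOf p Er :=
    (le_inf ((commutator_mono hErD inf_le_left).trans hO)
      (comm_le_left (norm_of_le inf_le_right))).trans (pCoreOf_inf_le hErD)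
  have hded : ∀ {A}, A ≤ Er → Er ≤ A ⊔ (E ⊓ C) → Er ≤ (C ⊓ Er) ⊔ A := fun {A} hA h' => by
    have := dedekind' (N := E ⊓ C) (M := Er) ((hA.trans hErE).trans hC0) hA
    exact (le_inf (h'.trans (sup_comm _ _).le) le_rfl).trans
      (this.le.trans (sup_le_sup_right (inf_le_inf_right _ inf_le_right) _))
  have hperf : ⁅Er, Er⁆ = Er := by
    have h2 : ⁅Er, Er⁆ ≤ Er := comm_le_left le_normalizer
    have h3 : Er ≤ ⁅Er, Er⁆ ⊔ (E ⊓ C) := by
      rw [← hlift hErE (h2.trans hErE), ← hcomm hErE hErE, map_commutator, hK', hq.commutator_eq]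
    have h4 : E ≤ 𝐍[⁅Er, Er⁆] := norm_comm hErn hErn
    have h5 : E ≤ 𝐍[⁅Er, Er⁆ ⊔ pCoreOf p D] := norm_sup h4 (norm_core (le_norm_ncl E Q))
    refine le_antisymm h2 ?_
    conv_lhs => rw [← hrr]
    refine res_le_of_le_sup (((pCoreOf_le D).trans hDE).trans h4) (pg_core D) ?_
    have h6 : ⁅Er, Q⁆ = Er := hEr' ▸ hs'.comm_res hQp
    refine h6.ge.trans ((commutator_mono (hded h2 h3) le_rfl).trans (sup_comm_le
      ((inf_le_right.trans hErE).trans h5) (norm_of_le le_sup_left) ?_ ?_))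
    · rw [commutator_comm]
      exact ((commutator_mono hs'.1 inf_le_left).trans hO).trans le_sup_right
    · exact (comm_le_left (hQE.trans h4)).trans le_sup_left
  let g : Er →* E ⧸ C.subgroupOf E := f.comp (inclusion hErE)
  have hgk : g.ker = C.subgroupOf Er := by
    ext x
    rw [MonoidHom.mem_ker, MonoidHom.comp_apply, ← MonoidHom.mem_ker, hker]
    rfl
  have hgr : IsQuasisimple g.range := by
    rw [MonoidHom.range_comp, inclusion_range, hK']; exact hq
  refine ⟨le_antisymm (sup_le h1 le_sup_right) (sup_le_sup_right hErR _), hperf, hrr,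
    hgr.of_mulEquiv ((QuotientGroup.quotientMulEquivOfEq hgk.symm).trans
      (QuotientGroup.quotientKerEquivRange g)).symm, ?_, fun Y hY hp hc => ?_⟩
  · have h2 : pCore p Er ≤ g.ker := by
      rw [hgk, ← pCoreOf_subgroupOf]
      exact comap_mono (pCore_quotient_sub_eq_bot_iff.mp hred _ ((pCoreOf_le Er).trans hErE)
        (norm_core hErn) ((res_eq_bot_of_pg (pg_core Er)).le.trans bot_le))
    have h3 : ⁅(⊤ : Subgroup Er), ⊤⁆ = ⊤ := map_injective Er.subtype_injective (by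
      rw [map_commutator, map_subtype_top, hperf])
    refine isQuasisimple_top_iff.mp (IsQuasisimple.of_map (f := QuotientGroup.lift _ g h2) ?_ ?_ ?_)
    · rw [← map_top_mk', map_map, QuotientGroup.lift_comp_mk', ← MonoidHom.range_eq_map]
      exact hgr
    · rw [← map_top_mk', ← map_commutator, h3]
    · rw [QuotientGroup.ker_lift, inf_top_eq, ← comm_eq_bot_iff', ← map_top_mk', ← map_commutator,
        Subgroup.map_eq_bot_iff, QuotientGroup.ker_mk', ← map_subtype_le_iff, map_commutator,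
        map_subtype_top, hgk, subgroupOf_map_subtype]
      exact hO'
  · have h2 : ⁅Er, Y⁆ ≤ Er := comm_le_left (hY.trans hErn)
    have h3 : Er ≤ 𝐍[⁅Er, Y⁆] := normalizer_commutator_ge_left _ _
    have h4 : Er ≤ ⁅Er, Y⁆ ⊔ (E ⊓ C) := hErR.trans ((K1 Y hY hp hc).trans (sup_le
      ((commutator_mono h1 le_rfl).trans (sup_comm_le (norm_sup h3 (hErE.trans hC0))
        (norm_of_le le_sup_right) le_sup_left ((comm_le_left (hY.trans hC0)).trans le_sup_right)))
      le_sup_right))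
    have h5 : Er ≤ 𝐍[⁅Er, Y⁆ ⊔ pCoreOf p Er] := norm_sup h3 (le_norm_core Er)
    refine le_antisymm h2 ?_
    conv_lhs => rw [← hrr]
    refine res_le_of_le_sup ((pCoreOf_le Er).trans h3) (pg_core Er) (hperf.ge.trans
      ((commutator_mono le_rfl (hded h2 h4)).trans (comm_sup_le (inf_le_right.trans h5)
        (norm_of_le le_sup_left) (hO'.trans le_sup_right) ((comm_le_right h3).trans le_sup_left))))

end Cfsg.Agent.S2860
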