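import Cfsg.Statements.S2861
import Cfsg.Agent.Loc.MssRk1

set_option autoImplicit false
open Cfsg

namespace Cfsg.Agent.S2861

open Cfsg.Agent.GT Cfsg.Agent.Loc.Mss Subgroup
open scoped commutatorElement

/-- Standing hypotheses: G a finite group, S a Sylow p-subgroup, Q a nontrivial large p-subgroup of G contained in S, M a subgroup containing S with the basic property (M ∈ 𝔐_G(S)); Y_M the largest p-reduced normal subgroup of M and M† = M·C_G(Y_M). Let L ∈ 𝔏_G(Y_M) (L ∈ 𝔏_G(Y_M): Y_M ≤ L; O_p(L) is the normal closure in L of Y_M ∩ O_p(L) and normalizes Y_M; L is Y_M-minimal of characteristic p with N_L(Y_M) its unique maximal subgroup over Y_M; and L/O_p(L) ≅ SL₂(q) with q = |Y_M : Y_M ∩ O_p(L)|, or p = 2 and L/O_p(L) is a Suzuki group Sz(q) or dihedral of order 2r, r an odd prime) and A = O_p(L). Then Y_M·A/A is the unique nontrivial elementary abelian normal p-subgroup of N_L(Y_M)/A. -/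
theorem result {G : Type*} [Group G] [Finite G] {p : ℕ} [Fact p.Prime] (S : Sylow p G) (Q : Subgroup G) (hQp : IsPGroup p ↥Q) (hQ1 : Q ≠ ⊥) (hQS : Q ≤ (S : Subgroup G)) (hQ : Cfsg.IsLarge Q) (M : Subgroup G) (hSM : (S : Subgroup G) ≤ M) (hM : Cfsg.IsInFrakM p M) (L : Subgroup G) (hL : Cfsg.IsInFrakL p M L) (NL : Subgroup G) (hNL : NL = L ⊓ Subgroup.normalizer (((Cfsg.largestPReducedOf p M) : Subgroup G) : Set G)) [hn : (((Cfsg.pCoreOf p L)).subgroupOf NL).Normal] : let Ybar : Subgroup (↥NL ⧸ ((Cfsg.pCoreOf p L)).subgroupOf NL) := (((Cfsg.largestPReducedOf p M)).subgroupOf NL).map (QuotientGroup.mk' (((Cfsg.pCoreOf p L)).subgroupOf NL)); Ybar ≠ ⊥ ∧ Ybar.Normal ∧ Cfsg.IsElementaryAbelian p Ybar ∧ ∀ (V : Subgroup (↥NL ⧸ ((Cfsg.pCoreOf p L)).subgroupOf NL)), V.Normal → Cfsg.IsElementaryAbelian p V → V ≠ ⊥ → V = Ybar := by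
  intro Ybar
  have hrk := rk1_of_frakL hL
  obtain ⟨hu, hncl, hA⟩ := uMax_of_frakL hL
  have hYL := hL.1
  have hNLL : NL ≤ L := hNL ▸ inf_le_left
  have hYN : 𝐘[p, M] ≤ NL := hNL ▸ le_inf hYL le_normalizer
  let φ : NL →* L ⧸ pCore p L := (QuotientGroup.mk' _).comp (inclusion hNLL)
  have hker : φ.ker = (pCoreOf p L).subgroupOf NL := by
    ext x
    rw [MonoidHom.mem_ker, mem_subgroupOf]
    exact (QuotientGroup.eq_one_iff _).trans (mem_map_iff_mem L.subtype_injective).symm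
  let ψ := QuotientGroup.lift ((pCoreOf p L).subgroupOf NL) φ hker.ge
  have hψ : Function.Injective ψ := by
    rw [injective_iff_map_eq_one]
    intro x hx
    obtain ⟨x, rfl⟩ := QuotientGroup.mk_surjective x
    exact (QuotientGroup.eq_one_iff _).mpr (hker.le hx)
  have hY : Ybar.map ψ = ((𝐘[p, M]).subgroupOf L).map (QuotientGroup.mk' (pCore p L)) := by
    rw [Subgroup.map_map, show ψ.comp (QuotientGroup.mk' _) = φ from rfl, ← Subgroup.map_map]
    congr 1
    apply map_injective L.subtype_injective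
    rw [Subgroup.map_map, subtype_comp_inclusion, map_subgroupOf_eq_of_le hYN,
      map_subgroupOf_eq_of_le hYL]
  have hYn : Ybar.Normal := Normal.map ((normal_subgroupOf_iff_le_normalizer hYN).mpr
    (hNL ▸ inf_le_right)) _ (QuotientGroup.mk'_surjective _)
  have htop : (⊤ : Subgroup _).map ψ = 𝐍[Ybar.map ψ] := by
    refine le_antisymm (map_norm_le _ (norm_normal _ _)) fun x hx => ?_
    obtain ⟨x, rfl⟩ := QuotientGroup.mk'_surjective _ x
    have h1 := mem_norm_of_mk hu hncl hA (hY ▸ hx)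
    rw [norm_subgroupOf hYL] at h1
    exact ⟨QuotientGroup.mk ⟨x, hNL ▸ ⟨x.2, h1⟩⟩, mem_top _, rfl⟩
  refine ⟨fun h => ?_, hYn, ((ea_Y M).subgroupOf _).map _, fun V hV h1 h2 => ?_⟩
  · rw [h, Subgroup.map_bot, eq_comm, Subgroup.map_eq_bot_iff, QuotientGroup.ker_mk'] at hY
    exact hu.2.1.not_ge (hncl.ge.trans ((ncl_le hY (norm_normal _ _)).trans hA))
  · refine map_injective hψ ?_
    rw [hY]
    rw [hY] at htop
    exact hrk.1 _ ((map_mono le_top).trans htop.le) (htop.ge.trans (map_norm_le _ (norm_normal _ _)))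
      (h1.map _) fun e => h2 ((map_eq_bot_iff_of_injective _ hψ).mp e)

end Cfsg.Agent.S2861
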