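import Cfsg.Statements.S2862
import Cfsg.Agent.Loc.MssQuad
import Cfsg.Agent.GT.Zipper
import Cfsg.Agent.GT.PGroupChain

set_option autoImplicit false
open Cfsg

namespace Cfsg.Agent.S2862

open Cfsg.Agent.GT Cfsg.Agent.Loc.Mss Subgroup
open scoped commutatorElement

/-- the abstract setting -/
structure Ctx {G : Type*} [Group G] (p : ℕ) (Y P H L : Subgroup G) : Prop where
  wc : WC p ⊤ P
  ea : IsElementaryAbelian p Y
  PY : P ≤ 𝐂[Y]
  YP : Y ≤ P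
  syl : Syl p P 𝐂[Y]
  Pn : 𝐍[P] ≤ 𝐍[Y]
  ncl : ∀ R, Y ≤ R → R ≤ 𝐍[P] → IsElementaryAbelian p (ncl 𝐍[R] Y)
  ch : ChP p H
  PH : P ≤ H
  prop : ∀ X, P ≤ X → X < H → Y ≤ pCoreOf p X
  LH : L ≤ H
  YL : Y ≤ L
  YO : ¬ Y ≤ pCoreOf p L
  min : ∀ X, Y ≤ X → X < L → Y ≤ pCoreOf p X

variable {G : Type*} [Group G] [Finite G] {p : ℕ} [Fact p.Prime] {Y P H L : Subgroup G}

theorem Ctx.core (c : Ctx p Y P H L) {X : Subgroup G} (hX : P ≤ X) : pCoreOf p X ≤ 𝐍[P] :=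
  c.wc.core_le_norm le_top (norm_of_le hX)

theorem Ctx.LP (c : Ctx p Y P H L) : L ⊔ P = H := by
  by_contra hne
  exact c.YO (le_core_of_le le_sup_left
    (c.prop _ le_sup_right (lt_of_le_of_ne (sup_le c.LH c.PH) hne)) c.YL)

theorem Ctx.gen (c : Ctx p Y P H L) : ∃ g ∈ L, Y ⊔ cj(g, Y) = L := by
  by_contra hne
  push Not at hne
  refine c.YO (baer_suzuki_of c.YL fun g hg => ?_)
  have h1 := c.min _ le_sup_left
    (lt_of_le_of_ne (sup_le c.YL (cj_le_of_mem c.YL hg)) (hne g hg))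
  exact (pg_sup' (pg_core _) (pg_cj c.ea.isPGroup g)
    (le_sup_right.trans (le_norm_core _))).to_le (sup_le_sup_right h1 _)

/-- the facts on `B = [O, Y]`, `W = [O, L]`. -/
theorem Ctx.quad (c : Ctx p Y P H L) {g : G} (hg : g ∈ L) (hgen : Y ⊔ cj(g, Y) = L) :
    ∃ B W : Subgroup G, ⁅pCoreOf p H, Y⁆ = B ∧ ⁅pCoreOf p H, L⁆ = W ∧ B ≤ Y ∧
      B ⊔ cj(g, B) = W ∧ W ⊓ 𝐂[Y] = B ∧ W ≤ pCoreOf p H ∧ W ≤ L ∧ W ⊓ 𝐂[L] < W ∧
      W ⊓ cmod Y (pCoreOf p H ⊓ 𝐂[L]) ≤ B ∧ pCoreOf p H ⊓ 𝐂[Y] = (pCoreOf p H ⊓ 𝐂[L]) ⊔ B := by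
  have hYL := c.YL
  have hLO := c.LH.trans (le_norm_core (p := p) H)
  have hOY := (c.core c.PH).trans c.Pn
  have hYY := c.ea.le_centralizer
  have hOp := pg_core (p := p) H
  have hpg := fun h => c.ch.pg_of_res_le c.LH h
  generalize pCoreOf p H = O at *
  have hBY : ⁅O, Y⁆ ≤ Y := comm_le_right hOY
  have hBO : ⁅O, Y⁆ ≤ O := comm_le_left (hYL.trans hLO)
  obtain ⟨q1, q2, -, -⟩ := quad_gen hLO hg (comm_eq_bot_iff.mpr (hBY.trans hYY)) hgen
  have hcB : cj(g, ⁅O, Y⁆) = ⁅O, cj(g, Y)⁆ := by rw [cj_comm, cj_of_norm (hLO hg)]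
  have hB'O : ⁅O, cj(g, Y)⁆ ≤ O := comm_le_left ((cj_le_of_mem hYL hg).trans hLO)
  have hB'C : ⁅O, cj(g, Y)⁆ ≤ 𝐂[cj(g, Y)] := by
    rw [← hcB, ← cj_cent]; exact cj_mono g (hBY.trans hYY)
  have hOB : O ≤ 𝐍[⁅O, Y⁆] := norm_comm le_normalizer hOY
  refine ⟨_, _, rfl, rfl, hBY, hcB ▸ q1, q2, comm_le_left hLO, q1.ge.trans (sup_le (hBY.trans hYL)
    (hcB.ge.trans (cj_le_of_mem (hBY.trans hYL) hg))), ?_, ?_, ?_⟩
  · exact lt_of_le_of_ne inf_le_left fun e => c.YO (le_core_of_subnormal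
      (subnormalIn_of_isPGroup (p := p) (hpg (res_le_cent_of_two (W := ⁅O, L⁆) hOp
        ((res_le L).trans hLO) (commutator_mono le_rfl (res_le L))
        ((res_le L).trans (cent_comm (inf_eq_left.mp e))))) hYL) c.ea.isPGroup)
  · rw [← q1]
    refine (quad_fix_sup hOp hLO hg hgen (le_inf (hBY.trans hYL) (hBY.trans hYY))
      (le_inf hB'O hB'C) (hB'O.trans hOB)).trans (sup_le le_rfl ?_)
    exact (inf_le_inf (le_sup_right.trans q1.le) (cent_anti hYL)).trans q2.le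
  · exact le_antisymm (cent_le_of_quad hg hgen (le_inf hBO (hBY.trans hYY)) hB'C
      (hB'O.trans hOB) q1.ge) (sup_le (inf_le_inf_left O (cent_anti hYL))
      (le_inf hBO (hBY.trans hYY)))

theorem Ctx.max (c : Ctx p Y P H L) {X : Subgroup G} (hYX : Y ≤ X) (hXL : X < L) :
    X ≤ L ⊓ 𝐍[Y] := by
  obtain ⟨g, hg, hgen⟩ := c.gen
  obtain ⟨B, W, hB, hW, hBY, q1, q2, hWO, hWL, hWC, hfix, hU⟩ := c.quad hg hgen
  have hYL := c.YL
  have hLH := c.LH
  have hPH := c.PH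
  have hPY := c.PY
  have hHO := le_norm_core (p := p) H
  have hLO := hLH.trans hHO
  have hOP := c.core c.PH
  have hYY := c.ea.le_centralizer
  have hOp := pg_core (p := p) H
  have hpg := fun E A B => c.ch.pg_of_chain (E := E) (A := A) (B := B)
  generalize pCoreOf p H = O at *
  have hBW : B ≤ W := le_sup_left.trans q1.le
  have hLW : L ≤ 𝐍[W] := hW ▸ norm_comm hLO le_normalizer
  have hOB : O ≤ 𝐍[B] := hB ▸ norm_comm le_normalizer (hOP.trans c.Pn)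
  have hYR := c.min X hYX hXL
  have hC : L ≤ 𝐍[O ⊓ 𝐂[L]] := norm_inf hLO (norm_cent le_normalizer)
  have hRL : pCoreOf p X ≤ L := (pCoreOf_le X).trans hXL.le
  have hXB : X ≤ 𝐍[B] := by
    obtain ⟨D, hD⟩ : ∃ D, D = W ⊓ cmod (pCoreOf p X) (O ⊓ 𝐂[L]) := ⟨_, rfl⟩
    have hDB : D ≤ B := hD ▸ le_trans (inf_le_inf_left W (le_cmod.mpr ⟨cmod_le_norm _ _,
      (commutator_mono hYR le_rfl).trans (comm_cmod_le _ _)⟩)) hfix
    have hXD : X ≤ 𝐍[D] :=
      hD ▸ norm_inf (hXL.le.trans hLW) (norm_cmod (le_norm_core X) (hXL.le.trans hC))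
    have hDL : ¬ L ≤ 𝐍[D] := by
      intro hn
      obtain ⟨x, hx, hx1, -, -, hx2⟩ := PG.exists_step (hOp.to_le hWO) (pg_core (p := p) X)
        (hRL.trans hLW) (hRL.trans (norm_inf hLW (norm_cent le_normalizer))) hWC
      have hxD : x ∈ D := hD ▸ ⟨hx, mem_cmod.mpr ⟨hC (hWL hx), fun v hv => by
        rw [← commutatorElement_inv]
        exact inv_mem (mem_inf.mpr ⟨hWO (hx2 v hv).1, (hx2 v hv).2⟩)⟩⟩
      refine hx1 ⟨hx, ?_⟩
      have h1 : D ≤ Y ⊓ cj(g, Y) := le_inf (hDB.trans hBY)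
        ((cj_of_norm (hn hg)).ge.trans (cj_mono g (hDB.trans hBY)))
      rw [inf_cj_eq_inf_cent hYY hg hgen] at h1
      exact (h1 hxD).2
    have hPD : P ≤ H ⊓ 𝐍[D] := le_inf hPH (norm_of_cent (hPY.trans (cent_anti (hDB.trans hBY))))
    have h1 := c.prop (H ⊓ 𝐍[D]) hPD (lt_of_le_of_ne inf_le_left fun e =>
      hDL (hLH.trans (inf_eq_left.mp e)))
    have h2 := (c.ncl _ h1 (c.core hPD)).le_centralizer
    refine norm_of_forall_cj_le fun x hx => ?_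
    refine le_trans (le_inf (cj_le_of_norm hBW (hLW (hXL.le hx))) ?_) q2.le
    exact (cj_mono x hBY).trans ((cj_le_ncl Y (le_norm_core (H ⊓ 𝐍[D])
      (mem_inf.mpr ⟨hLH (hXL.le hx), hXD hx⟩))).trans (h2.trans (cent_anti (le_ncl _ _))))
  refine le_inf hXL.le fun x hx => c.Pn (cj_eq_iff.mp (c.wc.eq x (mem_top x) ?_))
  have hXU : X ≤ 𝐍[(O ⊓ 𝐂[L]) ⊔ B] := norm_sup (hXL.le.trans hC) hXB
  have hXc : X ≤ cmod ((O ⊓ 𝐂[L]) ⊔ B) B := le_cmod.mpr ⟨hXB, sup_comm_le (inf_le_left.trans hOB)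
    le_normalizer ((comm_eq_bot_iff.mpr (inf_le_right.trans (cent_anti hXL.le))).le.trans bot_le)
    (comm_le_left hXB)⟩
  rw [← hU] at hXU hXc
  have hPU : P ≤ 𝐍[O ⊓ 𝐂[Y]] := norm_inf (hPH.trans hHO) (norm_cent (le_normalizer.trans c.Pn))
  have hPB : P ≤ 𝐂[B] := hPY.trans (cent_anti hBY)
  have hOPU : ⁅O, P⁆ ≤ O ⊓ 𝐂[Y] := le_inf (comm_le_left (hPH.trans hHO))
    ((comm_le_right hOP).trans hPY)
  generalize O ⊓ 𝐂[Y] = U at hXU hXc hPU hOPU
  refine hpg _ B U (sup_le hPH (cj_le_of_mem hPH (hLH (hXL.le hx))))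
    ((commutator_mono le_rfl (res_le _)).trans (comm_sup_le hPU ?_ hOPU ?_)) ?_
    ((res_le _).trans (sup_le hPB ?_))
  · exact (cj_mono x hPU).trans (by rw [cj_norm, cj_of_norm (hXU hx)])
  · have := cj_mono x hOPU
    rwa [cj_comm, cj_of_norm (hXU hx), cj_of_norm (hLO (hXL.le hx))] at this
  · refine (commutator_mono le_rfl (res_le_of_le_sup (norm_cmod hPU (norm_of_cent hPB))
      c.syl.pg (sup_le le_sup_right ?_))).trans (comm_cmod_le _ _)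
    exact cj_le_of_mem le_sup_right (mem_sup_left (hXc hx))
  · exact (cj_mono x hPB).trans (by rw [cj_cent, cj_of_norm (hXB hx)])

theorem Ctx.umax (c : Ctx p Y P H L) : UMax L Y (L ⊓ 𝐍[Y]) :=
  ⟨le_inf c.YL le_normalizer, lt_of_le_of_ne inf_le_left fun e =>
    c.YO (le_pCoreOf c.YL (inf_eq_left.mp e) c.ea.isPGroup), fun _ => c.max⟩

theorem Ctx.inf_le (c : Ctx p Y P H L) : pCoreOf p L ⊓ Y ≤ pCoreOf p H := by
  obtain ⟨g, hg, hgen⟩ := c.gen
  obtain ⟨B, W, hB, hW, hBY, q1, -, hWO, hWL, -, -, -⟩ := c.quad hg hgen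
  have hA := (c.umax.core_le (ncl_eq_of_sup_cj hg hgen) c.ea.isPGroup).trans inf_le_right
  have hLA := le_norm_core (p := p) L
  have hYY := c.ea.le_centralizer
  have hHO := le_norm_core (p := p) H
  have hOY := (c.core c.PH).trans c.Pn
  have hAL := pCoreOf_le (p := p) L
  generalize pCoreOf p L = A at *
  obtain ⟨Z, hZ⟩ : ∃ Z, Z = Y ⊓ 𝐂[L] := ⟨_, rfl⟩
  have hZH : H ≤ 𝐂[Z] := by
    rw [← c.LP, hZ]
    exact sup_le (cent_comm inf_le_right) (c.PY.trans (cent_anti inf_le_left))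
  have hHZ := norm_of_cent hZH
  obtain ⟨C, hC⟩ : ∃ C, C = pCoreOf p H ⊓ cmod (A ⊓ Y) Z := ⟨_, rfl⟩
  have hWC : W ≤ C := by
    rw [hC]
    refine le_inf hWO (le_cmod.mpr ⟨(hWL.trans c.LH).trans hHZ, ?_⟩)
    rw [← q1]
    refine comm_sup_le ((le_sup_left.trans (q1.le.trans (hWL.trans c.LH))).trans hHZ)
      ((le_sup_right.trans (q1.le.trans (hWL.trans c.LH))).trans hHZ)
      ((comm_eq_bot_iff.mpr (inf_le_right.trans (hYY.trans (cent_anti hBY)))).le.trans bot_le) ?_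
    rw [hZ, ← inf_cj_eq_inf_cent hYY hg hgen]
    refine le_inf ((commutator_mono inf_le_right le_rfl).trans (comm_le_left
      ((le_sup_right.trans (q1.le.trans hWO)).trans hOY)))
      ((commutator_mono inf_le_left (cj_mono g hBY)).trans (comm_le_right ?_))
    exact (cj_of_norm (hLA hg)).ge.trans ((cj_mono g hA).trans (cj_norm Y g).le)
  have hHC : H ≤ 𝐍[C] := by
    rw [← c.LP]
    refine sup_le (norm_of_comm_le (B := pCoreOf p H) (hC ▸ inf_le_left) (hW ▸ hWC)) ?_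
    rw [hC]
    exact norm_inf (c.PH.trans hHO) (norm_cmod (norm_of_cent (c.PY.trans (cent_anti inf_le_right)))
      (c.PH.trans hHZ))
  obtain ⟨D, hD⟩ : ∃ D, D = H ⊓ (cmod (pCoreOf p H) C ⊓ cmod C Z) := ⟨_, rfl⟩
  have hDH : D ≤ H := hD ▸ inf_le_left
  refine le_trans ?_ (le_pCoreOf hDH (hD ▸ norm_inf le_normalizer
    (norm_inf (norm_cmod hHO hHC) (norm_cmod hHC hHZ))) (c.ch.pg_of_chain (A := Z) (B := C) hDH
      ?_ ?_ (((res_le D).trans hDH).trans hZH)))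
  · have h1 : A ⊓ Y ≤ H := inf_le_right.trans (c.YL.trans c.LH)
    rw [hD]
    refine le_inf h1 (le_inf (le_cmod.mpr ⟨h1.trans hHC, ?_⟩) (le_cmod.mpr ⟨h1.trans hHZ, ?_⟩))
    · exact (commutator_mono le_rfl (inf_le_right.trans c.YL)).trans (hW.le.trans hWC)
    · rw [commutator_comm, hC]
      exact (commutator_mono le_rfl inf_le_right).trans (comm_cmod_le _ _)
  · exact (commutator_mono le_rfl ((res_le D).trans (hD.le.trans
      (inf_le_right.trans inf_le_left)))).trans (comm_cmod_le _ _)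
  · exact (commutator_mono le_rfl ((res_le D).trans (hD.le.trans
      (inf_le_right.trans inf_le_right)))).trans (comm_cmod_le _ _)

/-- Standing hypotheses: G a finite group, S a Sylow p-subgroup, Q a nontrivial large p-subgroup of G contained in S, M a subgroup containing S with the basic property (M ∈ 𝔐_G(S)); Y_M the largest p-reduced normal subgroup of M and M† = M·C_G(Y_M). Suppose Y_M is char-p-tall and asymmetric in G, H ∈ ℌ_G(O_p(M)), and L is minimal among the subgroups of H containing Y_M with Y_M ≰ O_p(L). Then H = ⟨L, O_p(M)⟩ = ⟨hY_Mh⁻¹, O_p(M)⟩ for every h ∈ L outside N_L(Y_M); L is Y_M-minimal and of characteristic p, with N_L(Y_M) the unique maximal subgroup of L containing Y_M; [V, O^p(L)] ≠ 1 for every noncentral chief factor V/W of H inside O_p(H) (that is, O^p(L) does not act trivially on V/W); and the normal closure of O_p(L) ∩ Y_M in L lies in O_p(H). -/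
theorem result {G : Type*} [Group G] [Finite G] {p : ℕ} [Fact p.Prime] (S : Sylow p G) (Q : Subgroup G) (hQp : IsPGroup p ↥Q) (hQ1 : Q ≠ ⊥) (hQS : Q ≤ (S : Subgroup G)) (hQ : Cfsg.IsLarge Q) (M : Subgroup G) (hSM : (S : Subgroup G) ≤ M) (hM : Cfsg.IsInFrakM p M) (htall : Cfsg.IsCharPTall p (Cfsg.largestPReducedOf p M)) (hasym : ¬ Cfsg.IsSymmetricIn (Cfsg.largestPReducedOf p M)) (H : Subgroup G) (hH : Cfsg.IsInFrakH p M H) (L : Subgroup G) (hLH : L ≤ H) (hYL : (Cfsg.largestPReducedOf p M) ≤ L) (hYO : ¬ (Cfsg.largestPReducedOf p M) ≤ (Cfsg.pCoreOf p L)) (hmin : ∀ L' : Subgroup G, L' ≤ L → (Cfsg.largestPReducedOf p M) ≤ L' → ¬ (Cfsg.largestPReducedOf p M) ≤ (Cfsg.pCoreOf p L') → L' = L) : (L ⊔ (Cfsg.pCoreOf p M) = H ∧ ∀ h ∈ L, h ∉ Subgroup.normalizer (((Cfsg.largestPReducedOf p M) : Subgroup G) : Set G) → (((Cfsg.largestPReducedOf p M) : Subgroup G).map (MulAut.conj (h : G)).toMonoidHom)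 ⊔ (Cfsg.pCoreOf p M) = H) ∧ (Cfsg.IsMinimalOver (((Cfsg.largestPReducedOf p M)).subgroupOf L) ∧ Subgroup.centralizer (Cfsg.pCore p ↥L : Set ↥L) ≤ Cfsg.pCore p ↥L ∧ L ⊓ Subgroup.normalizer (((Cfsg.largestPReducedOf p M) : Subgroup G) : Set G) < L ∧ ∀ X : Subgroup G, (Cfsg.largestPReducedOf p M) ≤ X → X < L → X ≤ L ⊓ Subgroup.normalizer (((Cfsg.largestPReducedOf p M) : Subgroup G) : Set G)) ∧ (∀ V W' : Subgroup G, V ≤ (Cfsg.pCoreOf p H) → H ≤ Subgroup.normalizer ((V : Subgroup G) : Set G) → H ≤ Subgroup.normalizer ((W' : Subgroup G) : Set G) → W' < V → (∀ Z' : Subgroup G, H ≤ Subgroup.normalizer ((Z' : Subgroup G) : Set G) → W' ≤ Z' → Z' ≤ V → Z' = W' ∨ Z' = V) → ¬ ⁅V, H⁆ ≤ W' → ¬ ⁅V, ((Cfsg.pResidual p ↥L).map (L).subtype)⁆ ≤ W') ∧ (Subgroup.normalClosure (((((Cfsg.pCoreOf p L) ⊓ (Cfsg.largestPReducedOf p M)).subgroupOf L : Subgroup ↥L)) : Set ↥L)).map L.subtype ≤ (Cfsg.pCoreOf p H) :=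 by
  have h := Std.mk' S hQp hQ1 hQ hSM hM
  rw [chP_iff, map_normalClosure_subgroupOf (inf_le_right.trans hYL),
    isMinimalOver_subgroupOf_iff hYL]
  change _ ∧ _ ∧ (∀ V W' : Subgroup G, _ → _ → _ → _ → _ → _ → ¬ ⁅V, pResidualOf p L⁆ ≤ W') ∧ _
  have c : Ctx p 𝐘[p, M] (pCoreOf p M) H L :=
    ⟨h.wc hasym, ea_Y M, core_le_cent_Y M, Y_le_core M, h.syl_cent, h.norm_core_le,
      fun R h1 h2 => h.ea_ncl_norm hasym h1 (h2.trans h.norm_core_le_dag), chP_iff.mp hH.1, hH.2.1,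
      hH.2.2.2, hLH, hYL, hYO, fun X h1 h2 => by
        by_contra h3
        exact h2.ne (hmin X h2.le h1 h3)⟩
  have hres := frakH_res_le_ncl hH
  have hrs := frakH_res_sup hH
  clear hmin hH h hM htall hasym
  generalize 𝐘[p, M] = Y at *
  generalize pCoreOf p M = P at *
  obtain ⟨g, hg, hgen⟩ := c.gen
  have hncl := ncl_eq_of_sup_cj hg hgen
  obtain ⟨B, W, -, hW, -, -, -, -, hWL, -⟩ := c.quad hg hgen
  refine ⟨⟨c.LP, fun x hx hx' => ?_⟩, ⟨⟨hncl, _, c.umax⟩, c.ch.of_comm_le hLH (hW ▸ hWL),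
    c.umax.2.1, c.umax.2.2⟩, ?_, ncl_le c.inf_le (hLH.trans (le_norm_core H))⟩
  · rw [← c.LP, ← c.umax.sup_cj hncl hx fun h => hx' h.2, sup_right_comm, sup_eq_right.mpr c.YP,
      sup_comm]
  · intro V W' hV hHV hHW hlt hchief hnc hc
    have key : ∀ {E : Subgroup G}, E ≤ H → IsPGroup p E → H ≤ 𝐍[W' ⊔ ⁅V, E⁆] → ⁅V, E⁆ ≤ W' := by
      intro E hE hp hn
      rcases hchief _ hn le_sup_left (sup_le hlt.le (comm_le_left (hE.trans hHV))) with e | e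
      · exact le_sup_right.trans e.le
      · obtain ⟨n, hn⟩ := PG.exists_iterCommutator_eq_bot_of_isPGroup ((pg_core H).to_le hV) hp
          (hE.trans hHV)
        exact absurd (le_of_le_sup_comm hn (hE.trans hHW)
          ((hV.trans (pCoreOf_le H)).trans hHW) e.ge) hlt.not_ge
    have hle : ∀ {E : Subgroup G}, E ≤ H → W' ⊔ ⁅V, E⁆ ≤ V := fun hE =>
      sup_le hlt.le (comm_le_left (hE.trans hHV))
    have hYH := hYL.trans hLH
    have h1 : ⁅V, Y⁆ ≤ W' := by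
      refine key hYH c.ea.isPGroup ?_
      have hVY : ⁅V, Y⁆ ≤ Y := comm_le_right (hV.trans ((c.core c.PH).trans c.Pn))
      rw [← c.LP, ← sup_res_of_ncl (p := p) hYL hncl]
      exact sup_le (sup_le (norm_of_comm_le (hle hYH) le_sup_right)
        (norm_of_comm_le (hle hYH) (hc.trans le_sup_left)))
        (norm_sup (c.PH.trans hHW) (norm_of_cent (c.PY.trans (cent_anti hVY))))
    have h2 : ⁅V, pResidualOf p H⁆ ≤ W' := (commutator_mono le_rfl (hres.trans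
      (ncl_le (le_cmod.mpr ⟨hYH.trans hHW, h1⟩) (norm_cmod hHV hHW)))).trans (comm_cmod_le _ _)
    refine hnc (hrs ▸ comm_sup_le ((res_le H).trans hHW) (c.PH.trans hHW) h2
      (key c.PH c.syl.pg (hrs.ge.trans ?_)))
    exact sup_le (norm_of_comm_le (hle c.PH) (h2.trans le_sup_left))
      (norm_of_comm_le (hle c.PH) le_sup_right)

end Cfsg.Agent.S2862
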