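import Cfsg.Statements.S2863
import Cfsg.Agent.Loc.MssRk1
import Cfsg.Agent.S2837
import Cfsg.Agent.GT.PGroupChain

set_option autoImplicit false
open Cfsg

namespace Cfsg.Agent.S2863

open Cfsg.Agent.GT Cfsg.Agent.Loc.Mss Subgroup
open scoped commutatorElement

/-- elements commuting with `a` modulo `C` -/
def fx {G : Type*} [Group G] (C : Subgroup G) [hC : C.Normal] (a : G) : Subgroup G where
  carrier := {l | ⁅a, l⁆ ∈ C}
  one_mem' := by simp
  mul_mem' := fun {x y} hx hy => by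
    change ⁅a, x * y⁆ ∈ C
    rw [commutatorElement_mul_right_eq_mul_conj, mul_assoc, mul_assoc, ← mul_assoc x]
    exact mul_mem hx (hC.conj_mem _ hy x)
  inv_mem' := fun {x} hx => by
    change ⁅a, x⁻¹⁆ ∈ C
    rw [commutatorElement_inv_right, ← commutatorElement_inv]
    exact hC.conj_mem' _ (inv_mem hx) x

theorem fx_comm {G : Type*} [Group G] {C : Subgroup G} [C.Normal] {a l : G} (h : l ∈ fx C a) :
    a ∈ fx C l := by
  change ⁅l, a⁆ ∈ C
  rw [← commutatorElement_inv]; exact inv_mem h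

theorem fx_conj {G : Type*} [Group G] {C : Subgroup G} [hC : C.Normal] {a l : G} (h : l ∈ fx C a)
    (c : G) : c * l * c⁻¹ ∈ fx C (c * a * c⁻¹) := by
  change ⁅c * a * c⁻¹, c * l * c⁻¹⁆ ∈ C
  rw [← conjugate_commutatorElement]; exact hC.conj_mem _ h c

theorem aux {G : Type*} [Group G] [Finite G] {p : ℕ} [Fact p.Prime] {Y : Subgroup G}
    (hch : 𝐂[pCore p G] ≤ pCore p G) (hY : IsElementaryAbelian p Y) (hu : UMax ⊤ Y 𝐍[Y])
    (hn : ncl ⊤ Y = ⊤) (hA : pCore p G ≤ 𝐍[Y]) (hAe : pCore p G = ncl ⊤ (pCore p G ⊓ Y))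
    (hrk : Rk1 p (Y.map (QuotientGroup.mk' (pCore p G)))) {h a : G} (hnp : ¬ ∃ k, h ^ p ^ k = 1)
    (ha : a ∈ pCore p G) (hc : ⁅h, a⁆ ∈ Y ⊓ center G) : a ∈ Y ⊓ center G := by
  obtain ⟨g, -, hg⟩ := SetLike.exists_of_lt hu.2.1
  obtain ⟨-, e1, -, e2, -, -, e3⟩ := S2837.result hch _ hu.isCoatom Y le_normalizer hY
    (isMinimalOver_iff_top.mpr ⟨hn, _, hu⟩) hA _ (hAe.trans (ncl_top _)) g hg
  have hmk := fun x => mem_norm_of_mk hu hn hA (g := x)
  have hAp : IsPGroup p (pCore p G) := isPGroup_pCore p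
  have hZ : center G ≤ pCore p G := (center_le_centralizer _).trans hch
  have hpe : ∀ x : G, (∃ k, QuotientGroup.mk' (pCore p G) x ^ p ^ k = 1) → ∃ k, x ^ p ^ k = 1 := by
    rintro x ⟨k, hk⟩
    rw [← map_pow] at hk
    obtain ⟨j, hj⟩ := pg_iff.mp hAp _ ((QuotientGroup.eq_one_iff _).mp hk)
    exact ⟨k + j, by rw [pow_add, pow_mul, hj]⟩
  obtain ⟨A, hAd⟩ : ∃ A, A = pCore p G := ⟨_, rfl⟩
  have hAn : A.Normal := hAd ▸ inferInstance
  obtain ⟨X, _, f, hf, hker, hrk, hmk, hpe⟩ : ∃ (X : Type _) (_ : Group X) (f : G →* X),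
      Function.Surjective f ∧ (∀ x, f x = 1 ↔ x ∈ A) ∧ Rk1 p (Y.map f) ∧
      (∀ x, f x ∈ 𝐍[Y.map f] → x ∈ 𝐍[Y]) ∧ ∀ x, (∃ k, f x ^ p ^ k = 1) → ∃ k, x ^ p ^ k = 1 :=
    ⟨_, _, QuotientGroup.mk' (pCore p G), QuotientGroup.mk'_surjective _,
      fun x => hAd ▸ QuotientGroup.eq_one_iff x, hrk, hmk, hpe⟩
  rw [← hAd] at hA hAe ha e1 e2 e3 hAp hZ
  obtain ⟨C, hC⟩ : ∃ C, C = Y ⊓ center G := ⟨_, rfl⟩
  rw [← hC] at e2 e3 hc ⊢
  have hCZ : C ≤ center G := hC ▸ inf_le_right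
  have hCn : C.Normal := normal_of_top (norm_of_cent (cent_comm (hCZ.trans (cent_top.ge))))
  have hYY := hY.le_centralizer
  have hAA : ∀ w ∈ A, A ≤ fx C w := fun w hw x hx =>
    (e1.le.trans e2) (commutator_mem_commutator hw hx)
  have hint : ∀ x, x ∉ 𝐍[Y] → Y ⊓ cj(x, Y) = C := fun x hx => by
    rw [inf_cj_eq_inf_cent hYY (mem_top x) (hu.sup_cj hn (mem_top x) hx), cent_top, hC]
  have hAY : ∀ c, A ≤ 𝐍[cj(c, Y)] := fun c =>
    (cj_normal A c).ge.trans ((cj_mono c hA).trans (cj_norm Y c).le)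
  have hgen := hu.sup_cj hn (mem_top g) hg
  have hAB : A ≤ (A ⊓ Y) ⊔ (A ⊓ cj(g, Y)) := by
    have h1 : (A ⊓ Y) ⊔ (A ⊓ cj(g, Y)) ≤ A := sup_le inf_le_left inf_le_left
    refine hAe.le.trans (ncl_le le_sup_left (hgen.ge.trans (sup_le
      (norm_of_comm_le h1 (le_trans ?_ le_sup_left))
      (norm_of_comm_le h1 (le_trans ?_ le_sup_right)))))
    · exact le_inf (comm_le_left (norm_normal _ _)) (comm_le_right hA)
    · exact le_inf (comm_le_left (norm_normal _ _)) (comm_le_right (hAY g))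
  have F2 : ∀ y ∈ Y, y ∉ A → ∀ x ∈ A, y ∈ fx C x → x ∈ Y := by
    intro y hy hyA x hx hyx
    obtain ⟨b, hb, b', hb', rfl⟩ := (mem_sup_norm
      (inf_le_left.trans (norm_inf le_normalizer hA))).mp (hAB hx)
    have h1 : y ∈ fx C b' := by
      have h2 : b ∈ fx C y := by
        change ⁅y, b⁆ ∈ C
        rw [commutatorElement_eq_one_iff_mul_comm.mpr (hY.comm hy hb.2)]; exact one_mem _
      have := mul_mem (inv_mem h2) (fx_comm hyx)
      rw [inv_mul_cancel_left] at this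
      exact fx_comm this
    have hb'c : b' ∈ 𝐂[cj(g, Y)] := (cj_cent Y g).le (cj_mono g hYY hb'.2)
    have h2 : y ∉ 𝐍[cj(g, Y)] := fun h => by
      have h3 := map_norm_le f (zpowers_le.mpr h) (mem_map_of_mem _ (mem_zpowers y))
      rw [map_cj] at h3
      rcases hrk.2.1 _ _ (mem_map_of_mem _ hy) h3 with h4 | h4
      · exact hyA ((hker _).mp h4)
      · exact hg (hmk g h4)
    have h3 : ⊤ ≤ fx C b' := by
      have h4 := hu.cj g
      rw [cj_top, cj_norm] at h4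
      refine h4.le_of_not_le_max (fun z hz => ?_) fun h => h2 (h ⟨mem_top y, h1⟩)
      change ⁅b', z⁆ ∈ C
      rw [commutatorElement_eq_one_iff_mul_comm.mpr (mem_cent.mp hb'c z hz).symm]; exact one_mem _
    have h4 : b' ∈ 𝐂[(⊤ : Subgroup G)] := quad_fix hAp (norm_normal _ _) hgen
      (by rw [ncl_cj_eq (mem_top g), hn]) ⟨⟨hb'.1, hb'c⟩, mem_cmod.mpr
        ⟨norm_inf (norm_normal _ _) (norm_cent (norm_normal ⊤ ⊤)) (mem_top _), fun v _ => by
          rw [cent_top, e3]; exact fx_comm (h3 (mem_top v))⟩⟩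
    rw [cent_top] at h4
    exact mul_mem hb.2 (hC.le (e3.le ⟨hb'.1, h4⟩)).1
  have F3 : ∀ c, ∀ y ∈ cj(c, Y), y ∉ A → ∀ x ∈ A, y ∈ fx C x → x ∈ cj(c, Y) := by
    intro c y hy hyA x hx hyx
    refine mem_cj.mpr (F2 _ (mem_cj.mp hy) (fun h => hyA ?_) _ (hAn.conj_mem' x hx c) ?_)
    · simpa [mul_assoc] using hAn.conj_mem _ h c
    · have := fx_conj hyx c⁻¹
      rwa [inv_inv] at this
  by_contra haC
  obtain ⟨u, k, c₁, c₂, t₁, t₂, h1, h2, h3, h4, h5⟩ := hrk.2.2 (f h)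
  obtain ⟨u, rfl⟩ := hf u
  obtain ⟨c₁, rfl⟩ := hf c₁
  obtain ⟨c₂, rfl⟩ := hf c₂
  rw [← map_cj] at h3 h4
  obtain ⟨t₁, h3, rfl⟩ := h3
  obtain ⟨t₂, h4, rfl⟩ := h4
  have hCA : C ≤ A := hCZ.trans hZ
  have hlt : C < A ⊓ fx C h := by
    refine lt_of_le_of_ne (le_inf hCA fun x hx => ?_) fun e => haC (e.ge ⟨ha, hc⟩)
    change ⁅h, x⁆ ∈ C
    rw [commutatorElement_eq_one_iff_mul_comm.mpr (mem_center_iff.mp (hCZ hx) h)]; exact one_mem _
  have hup : IsPGroup p (zpowers u) := by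
    obtain ⟨j, hj⟩ := hpe u ⟨k, h1⟩
    obtain ⟨i, -, hi⟩ := (Nat.dvd_prime_pow Fact.out).mp (orderOf_dvd_of_pow_eq_one hj)
    exact IsPGroup.of_card (by rw [Nat.card_zpowers, hi])
  have hun : zpowers u ≤ 𝐍[A ⊓ fx C h] := by
    refine zpowers_le.mpr (mem_norm_of_cj_le (cj_le_iff.mpr fun w hw =>
      ⟨hAn.conj_mem _ hw.1 u, fx_comm ?_⟩))
    have h6 : (u * h * u⁻¹)⁻¹ * h ∈ A := (hker _).mp (by
      rw [map_mul, map_inv, map_mul, map_mul, ← h2.eq, map_inv, mul_inv_cancel_right, inv_mul_cancel])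
    have := mul_mem (fx_conj (fx_comm hw.2) u) (hAA _ (hAn.conj_mem _ hw.1 u) h6)
    rwa [mul_inv_cancel_left] at this
  obtain ⟨x, hx, hxC, -, -, hxu⟩ := PG.exists_step hAp.to_inf_left hup hun (norm_normal _ _) hlt
  have h6 : t₁ * t₂ ∈ fx C x := by
    have h7 : (h * u)⁻¹ * (t₁ * t₂) ∈ A := (hker _).mp (by
      rw [map_mul, map_inv, map_mul, map_mul, h5, inv_mul_cancel])
    have := mul_mem (mul_mem (fx_comm hx.2) (hxu u (mem_zpowers u))) (hAA _ hx.1 h7)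
    rwa [mul_inv_cancel_left] at this
  have hYc : ∀ c, IsElementaryAbelian p cj(c, Y) := fun c => hY.map _
  have h7 : ¬ (f t₁ * f t₂) ^ p = 1 := fun e => hnp (hpe h ⟨k + 1, by
    rw [eq_mul_inv_of_mul_eq h5, Commute.mul_pow, inv_pow, pow_succ', pow_mul, e, one_pow,
      ← pow_succ', pow_succ, pow_mul, h1, one_pow, inv_one, mul_one]
    rw [← h5]
    exact (h2.mul_left (Commute.refl _)).inv_right⟩)
  have h8 : t₁ ∉ A := fun e => h7 (by
    rw [(hker _).mpr e, one_mul, ← map_pow, (hYc c₂).2 _ h4, map_one])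
  have h9 : t₂ ∉ A := fun e => h7 (by
    rw [(hker _).mpr e, mul_one, ← map_pow, (hYc c₁).2 _ h3, map_one])
  have h10 : cj(c₁, Y) ⊓ cj(c₂, Y) = C := by
    have : c₁⁻¹ * c₂ ∉ 𝐍[Y] := fun e => h7 (by
      have e' : cj(c₂, Y) = cj(c₁, Y) := by
        rw [← mul_inv_cancel_left c₁ c₂, ← cj_cj, cj_of_norm e]
      rw [← map_mul, ← map_pow, (hYc c₁).2 _ (mul_mem h3 (e' ▸ h4)), map_one])
    rw [← cj_normal C c₁, ← hint _ this, cj_inf, cj_cj, mul_inv_cancel_left]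
  have h11 : t₂ ∈ fx C x := by
    change ⁅x, t₂⁆ ∈ C
    rw [← h10]
    refine ⟨?_, comm_le_right (hAY c₂) (commutator_mem_commutator hx.1 h4)⟩
    rw [← inv_mul_cancel_left t₁ t₂, commutatorElement_mul_right_eq_mul_conj, mul_assoc, mul_assoc,
      ← mul_assoc t₁⁻¹]
    exact mul_mem (comm_le_right (hAY c₁) (commutator_mem_commutator hx.1 (inv_mem h3)))
      ((h10.ge (hCn.conj_mem _ h6 _)).1)
  have h12 := mul_mem h6 (inv_mem h11)
  rw [mul_inv_cancel_right] at h12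
  exact hxC (h10.le ⟨F3 _ _ h3 h8 _ hx.1 h12, F3 _ _ h4 h9 _ hx.1 h11⟩)

/-- Standing hypotheses: G a finite group, S a Sylow p-subgroup, Q a nontrivial large p-subgroup of G contained in S, M a subgroup containing S with the basic property (M ∈ 𝔐_G(S)); Y_M the largest p-reduced normal subgroup of M and M† = M·C_G(Y_M). Let L ∈ 𝔏_G(Y_M) (L ∈ 𝔏_G(Y_M): Y_M ≤ L; O_p(L) is the normal closure in L of Y_M ∩ O_p(L) and normalizes Y_M; L is Y_M-minimal of characteristic p with N_L(Y_M) its unique maximal subgroup over Y_M; and L/O_p(L) ≅ SL₂(q) with q = |Y_M : Y_M ∩ O_p(L)|, or p = 2 and L/O_p(L) is a Suzuki group Sz(q) or dihedral of order 2r, r an odd prime), A = O_p(L), and C = C_{Y_M}(L). Then every element h of L whose order is not a power of p acts without nontrivial fixed points on A/C: for a ∈ A, hah⁻¹a⁻¹ ∈ C implies a ∈ C. -/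
theorem result {G : Type*} [Group G] [Finite G] {p : ℕ} [Fact p.Prime] (S : Sylow p G) (Q : Subgroup G) (hQp : IsPGroup p ↥Q) (hQ1 : Q ≠ ⊥) (hQS : Q ≤ (S : Subgroup G)) (hQ : Cfsg.IsLarge Q) (M : Subgroup G) (hSM : (S : Subgroup G) ≤ M) (hM : Cfsg.IsInFrakM p M) (L : Subgroup G) (hL : Cfsg.IsInFrakL p M L) (h : G) (hh : h ∈ L) (hnp : ¬ ∃ k : ℕ, orderOf h = p ^ k) : ∀ a ∈ (Cfsg.pCoreOf p L), h * a * h⁻¹ * a⁻¹ ∈ (Cfsg.largestPReducedOf p M) ⊓ Subgroup.centralizer ((L : Subgroup G) : Set G) → a ∈ (Cfsg.largestPReducedOf p M) ⊓ Subgroup.centralizer ((L : Subgroup G) : Set G) := by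
  rintro _ ⟨a, ha, rfl⟩ hc
  obtain ⟨hu, hn, hA⟩ := uMax_of_frakL hL
  have hYL := hL.1
  have e : ∀ x : L, x ∈ (𝐘[p, M]).subgroupOf L ⊓ center L ↔ (x : G) ∈ 𝐘[p, M] ⊓ 𝐂[L] := fun x => by
    rw [← centralizer_subgroupOf_self]; rfl
  refine (e a).mp (aux (h := ⟨h, hh⟩) hL.2.2.2.2.1 ((ea_Y M).subgroupOf L) hu hn hA ?_
    (rk1_of_frakL hL) ?_ ha ((e _).mpr hc))
  · apply map_injective L.subtype_injective
    refine hL.2.1.trans ?_
    rw [ncl_top, inf_comm]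
    congr 3
    rw [subgroupOf, comap_inf]
    congr 1
    exact comap_map_eq_self_of_injective L.subtype_injective _
  · rintro ⟨k, hk⟩
    obtain ⟨i, -, hi⟩ := (Nat.dvd_prime_pow Fact.out).mp (orderOf_dvd_of_pow_eq_one hk)
    exact hnp ⟨i, by rw [← hi, ← Subgroup.orderOf_coe]⟩

end Cfsg.Agent.S2863
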