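import Cfsg.Statements.S2864
import Cfsg.Agent.Loc.MssFrakM

set_option autoImplicit false
open Cfsg

namespace Cfsg.Agent.S2864

open Cfsg.Agent.GT Cfsg.Agent.Loc.Mss Subgroup
open scoped commutatorElement

/-- Standing hypotheses: G a finite group, S a Sylow p-subgroup, Q a nontrivial large p-subgroup of G contained in S, M a subgroup containing S with the basic property (M ∈ 𝔐_G(S)); Y_M the largest p-reduced normal subgroup of M and M† = M·C_G(Y_M). Let I be a nontrivial normal p-subgroup of M and Y ≤ O_p(M†); let L be a subgroup of G containing Y and A a normal p-subgroup of L with I ≤ A ≤ M. If [Y, A] ≤ [I, A], then Y ≤ O_p(L). -/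
theorem result {G : Type*} [Group G] [Finite G] {p : ℕ} [Fact p.Prime] (S : Sylow p G) (Q : Subgroup G) (hQp : IsPGroup p ↥Q) (hQ1 : Q ≠ ⊥) (hQS : Q ≤ (S : Subgroup G)) (hQ : Cfsg.IsLarge Q) (M : Subgroup G) (hSM : (S : Subgroup G) ≤ M) (hM : Cfsg.IsInFrakM p M) (I : Subgroup G) (hI1 : I ≠ ⊥) (hIp : IsPGroup p ↥I) (hIM : I ≤ M ∧ M ≤ Subgroup.normalizer ((I : Subgroup G) : Set G)) (Y : Subgroup G) (hY : Y ≤ (Cfsg.pCoreOf p (M ⊔ Subgroup.centralizer (((Cfsg.largestPReducedOf p M) : Subgroup G) : Set G)))) (L : Subgroup G) (hYL : Y ≤ L) (A : Subgroup G) (hAp : IsPGroup p ↥A) (hAL : A ≤ L ∧ L ≤ Subgroup.normalizer ((A : Subgroup G) : Set G)) (hIA : I ≤ A) (hAM : A ≤ M) (hc : ⁅Y, A⁆ ≤ ⁅I, A⁆) : Y ≤ (Cfsg.pCoreOf p L) := by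
  have h := Std.mk' S hQp hQ1 hQ hSM hM
  obtain ⟨K, hK⟩ := exists_isScl hYL
  have hKA : K ≤ 𝐍[A] := hK.2.1.le.trans hAL.2
  have hUA : ncl K I ≤ A := ncl_le hIA hKA
  have hW : K ≤ 𝐍[⁅ncl K I, A⁆] := norm_comm (le_norm_ncl K I) hKA
  have h1 : K ≤ cmod A ⁅ncl K I, A⁆ := by
    refine hK.ncl_eq.ge.trans (ncl_le (le_cmod.mpr ⟨hK.1.trans hW, ?_⟩) (norm_cmod hKA hW))
    rw [commutator_comm]
    exact hc.trans (commutator_mono (le_ncl K I) le_rfl)
  have := hAp.isNilpotent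
  obtain ⟨n, hn⟩ := PG.exists_iterCommutator_eq_bot_of_isNilpotent hUA (le_refl A)
  have h2 : ncl K I ≤ I := by
    refine le_of_le_sup_comm hn (hAM.trans hIM.2) ((hUA.trans hAM).trans hIM.2) ?_
    refine (ncl_eq K I).le.trans (sup_le (le_trans ?_ le_sup_right) le_sup_left)
    rw [commutator_comm]
    exact (commutator_mono hIA le_rfl).trans (le_cmod.mp h1).2
  have h3 : K ≤ dag[p, M] := by
    refine le_trans ?_ (h.norm_le_dag hIp hI1 hIM.2)
    rw [← le_antisymm h2 (le_ncl K I)]; exact le_norm_ncl K I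
  exact (le_core_of_le h3 hY hK.1).trans (core_le_core_of_subnormal hK.2.1)

end Cfsg.Agent.S2864
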