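import Mathlib
import Cfsg.Statements.S2872
import Cfsg.Agent.Loc.JCTransfer

set_option autoImplicit false
open Cfsg

namespace Cfsg.Agent.S2872

/-- Let S be a Sylow 2-subgroup of the finite group G. Then G has a proper normal subgroup of 2-power index (O²(G) ≠ G), or Ω₁(Z(S)) is contained in the Frattini subgroup of S, or N_G(S) acts nontrivially on Ω₁(Z(S)) by conjugation. -/
theorem result {G : Type*} [Group G] [Finite G] (S : Sylow 2 G) : Cfsg.pResidual 2 G ≠ ⊤ ∨ Cfsg.omegaOne 2 ((S : Subgroup G) ⊓ Subgroup.centralizer ((S : Subgroup G) : Set G)) ≤ (frattini ↥(S : Subgroup G)).map (S : Subgroup G).subtype ∨ ∃ g ∈ Subgroup.normalizer ((S : Subgroup G) : Set G), ∃ z ∈ Cfsg.omegaOne 2 ((S : Subgroup G) ⊓ Subgroup.centralizer ((S : Subgroup G) : Set G)), g * z * g⁻¹ ≠ z := by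
  open Subgroup Cfsg.Agent.GT Cfsg.Agent.Loc Cfsg.Agent.Loc.Mss in
  by_contra hc
  push Not at hc
  obtain ⟨h1, h2, h3⟩ := hc
  obtain ⟨z, hz, hz'⟩ := SetLike.not_le_iff_exists.mp h2
  have hz2 := Am.mem_omZ.mp hz
  obtain ⟨V, -, v2, t, v3, v4⟩ := JC.exists_extremal (Syl.of_sylow S) hz2.1
    (fun e => hz' (((PG.map_frattini_subtype_le_iff S.isPGroup').mp le_rfl).1 e)) hz2.2.2
    (h1 ▸ mem_top z) S.isPGroup' fun x hx => mem_cent.mp hz2.2.1 x hx
  exact v2 (h3 t (mem_norm_of_cj_le v4) z hz ▸ v3)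

end Cfsg.Agent.S2872
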