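import Mathlib
import Cfsg.Statements.S2873
import Cfsg.Agent.GT.CoprimeProd
import Cfsg.Agent.GT.CoprimeFixed
import Cfsg.Agent.GT.Conj
import Cfsg.Agent.GT.Cores
import Cfsg.Agent.GT.TransferSylow
import Cfsg.Agent.GT.PGroupChain
import Cfsg.Agent.Inv.Basic
-- import your own Cfsg.Agent.* helpers here

set_option autoImplicit false
open Cfsg

namespace Cfsg.Agent.S2873

open Subgroup DihedralGroup

theorem sr_of_two {r : ℕ} (hr : Odd r) {x : DihedralGroup r} (h1 : x ≠ 1) (h2 : x * x = 1) :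
    ∃ i, x = sr i := by
  rcases x with i | i
  · exfalso
    apply h1
    rw [r_mul_r, one_def, DihedralGroup.r.injEq] at h2
    have hu : IsUnit (2 : ZMod r) := by
      have := (ZMod.isUnit_iff_coprime 2 r).2 (Nat.coprime_two_left.2 hr)
      exact_mod_cast this
    rw [one_def, (hu.mul_right_eq_zero (b := i)).1 (by rw [two_mul, h2])]
  · exact ⟨i, rfl⟩

theorem r_pow_ne_one {r : ℕ} [hp : Fact r.Prime] (hr : r ≠ 2) {i : ZMod r} (hi : i ≠ 0) (k : ℕ) :
    (DihedralGroup.r i) ^ 2 ^ k ≠ 1 := by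
  rw [r_pow, one_def, Ne, DihedralGroup.r.injEq, mul_eq_zero, not_or]
  refine ⟨hi, ?_⟩
  rw [ZMod.natCast_eq_zero_iff]
  intro h
  exact hr ((Nat.prime_dvd_prime_iff_eq hp.out Nat.prime_two).1 (hp.out.dvd_of_dvd_pow h))


/-- Let G be a finite group and r an odd prime such that G ⧸ O₂(G) is dihedral of order 2r, and let R be a Sylow r-subgroup of G with C_{O₂(G)}(R) = 1. Then N_G(R) is dihedral of order 2r; for any involution a of N_G(R), every involution of G outside O₂(G) is conjugate to a; and |C_{O₂(G)}(a)|² = |O₂(G)|. -/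
theorem result {G : Type*} [Group G] [Finite G] {r : ℕ} [Fact r.Prime] (hr : r ≠ 2) [hN : (Cfsg.pCore 2 G).Normal] (hquot : Nonempty (G ⧸ Cfsg.pCore 2 G ≃* DihedralGroup r)) (R : Sylow r G) (hC : Cfsg.pCore 2 G ⊓ Subgroup.centralizer ((R : Subgroup G) : Set G) = ⊥) : Nonempty (↥(Subgroup.normalizer ((R : Subgroup G) : Set G)) ≃* DihedralGroup r) ∧ ∀ a : G, a ∈ Subgroup.normalizer ((R : Subgroup G) : Set G) → orderOf a = 2 → (∀ b : G, orderOf b = 2 → b ∉ Cfsg.pCore 2 G → ∃ g : G, g * a * g⁻¹ = b) ∧ Nat.card ↥(Cfsg.pCore 2 G ⊓ Subgroup.centralizer ({a} : Set G)) ^ 2 = Nat.card ↥(Cfsg.pCore 2 G) := by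
  classical
  obtain ⟨e⟩ := hquot
  have hp : r.Prime := Fact.out
  have hodd : Odd r := hp.odd_of_ne_two hr
  set Q := Cfsg.pCore 2 G
  have hQ : IsPGroup 2 Q := GT.isPGroup_pCore 2
  let π : G →* DihedralGroup r := e.toMonoidHom.comp (QuotientGroup.mk' Q)
  have hπs : Function.Surjective π := e.surjective.comp (QuotientGroup.mk'_surjective Q)
  have hker : ∀ x, π x = 1 ↔ x ∈ Q := fun x => by
    change e (x : G ⧸ Q) = 1 ↔ _
    rw [map_eq_one_iff e e.injective, QuotientGroup.eq_one_iff]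
  have hker' : π.ker = Q := by ext x; exact hker x
  have hcop : (Nat.card R).Coprime (Nat.card Q) := by
    obtain ⟨k, hk⟩ := GT.PG.card_eq_pow_of_isPGroup hQ
    obtain ⟨l, hl⟩ := GT.PG.card_eq_pow_of_isPGroup R.2
    rw [hk, hl]
    exact Nat.Coprime.pow _ _ ((Nat.coprime_primes hp Nat.prime_two).2 hr)
  have hrot : ∀ x ∈ (R : Subgroup G), ∃ i, π x = DihedralGroup.r i := fun x hx => by
    obtain ⟨k, hk⟩ := GT.PG.exists_pow_pow_eq_one_of_mem R.2 hx
    have h1 := congrArg π hk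
    rw [map_pow, map_one] at h1
    rcases h : π x with i | i
    · exact ⟨i, rfl⟩
    · have h2 := orderOf_dvd_of_pow_eq_one h1
      rw [h, orderOf_sr] at h2
      exact absurd ((hodd.pow (n := k)).of_dvd_nat h2) (by decide)
  have hinj : ∀ x ∈ normalizer ((R : Subgroup G) : Set G), π x = 1 → x = 1 := fun x hx h => by
    have h1 : x ∈ Q ⊓ normalizer ((R : Subgroup G) : Set G) := mem_inf.2 ⟨(hker x).1 h, hx⟩
    rw [GT.CopAct.inf_normalizer_eq_inf_centralizer (le_normalizer_of_normal)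
      (GT.CopAct.inf_eq_bot_of_coprime hcop), hC] at h1
    exact h1
  have hsurj : ∀ d, ∃ x ∈ normalizer ((R : Subgroup G) : Set G), π x = d := fun d => by
    have h1 := GT.CopAct.map_normalizer_of_surjective π hπs (A := R) (hker' ▸ hcop)
      (Or.inl (GT.CopAct.isSolvable_of_isPGroup R.2))
    have h2 : d ∈ normalizer (((R : Subgroup G).map π : Subgroup _) : Set (DihedralGroup r)) := by
      refine GT.mem_normalizer_iff_of_finite.2 ?_
      rintro _ ⟨x, hx, rfl⟩
      obtain ⟨i, hi⟩ := hrot x hx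
      rcases d with j | j
      · refine ⟨x, hx, ?_⟩
        rw [hi]; simp
      · refine ⟨x⁻¹, inv_mem hx, ?_⟩
        rw [map_inv, hi]; simp
    rw [← h1] at h2
    exact h2
  -- elements of order `r` generate conjugates of `R`
  have hgen : ∀ y : G, y ^ r = 1 → y ≠ 1 → ∃ h : G, zpowers (h * y * h⁻¹) = R := by
    intro y hy hy1
    have ho := orderOf_eq_prime hy hy1
    obtain ⟨h, hh⟩ := GT.Tr.exists_conj_le_sylow R (T := zpowers y)
      (IsPGroup.of_card (n := 1) (by rw [Nat.card_zpowers, ho, pow_one]))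
    refine ⟨h, GT.PG.eq_of_le_of_card_le (zpowers_le.2 (hh y (mem_zpowers y))) ?_⟩
    rw [Nat.card_zpowers, Inv.orderOf_conj', ho]
    choose f hf using hrot
    have : Function.Injective fun x : (R : Subgroup G) => f x x.2 := by
      intro x y hxy
      have h1 : π (x⁻¹ * y : (R : Subgroup G)) = 1 := by
        simp only at hxy
        simp [hf x x.2, hf y y.2, hxy]
      have := hinj _ (le_normalizer (x⁻¹ * y).2) h1
      exact inv_mul_eq_one.1 (Subtype.ext this)
    simpa using Nat.card_le_card_of_injective _ this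
  have hpow : ∀ (y : G) (i : ZMod r), i ≠ 0 → π y = DihedralGroup.r i →
      ∃ k, (y ^ 2 ^ k) ^ r = 1 ∧ y ^ 2 ^ k ≠ 1 := fun y i hi h => by
    have h1 : y ^ r ∈ Q := (hker _).1 (by rw [map_pow, h, r_pow, ZMod.natCast_self, mul_zero, one_def])
    obtain ⟨k, hk⟩ := GT.PG.exists_pow_pow_eq_one_of_mem hQ h1
    refine ⟨k, by rw [← pow_mul, mul_comm, pow_mul, hk], fun h2 => r_pow_ne_one hr hi k ?_⟩
    rw [← h, ← map_pow, h2, map_one]
  have hcent : ∀ (y : G) (i : ZMod r), i ≠ 0 → π y = DihedralGroup.r i →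
      ∀ q ∈ Q, Commute q y → q = 1 := fun y i hi h q hq hc => by
    obtain ⟨k, h1, h2⟩ := hpow y i hi h
    obtain ⟨g, hg⟩ := hgen _ h1 h2
    have h3 : g * q * g⁻¹ ∈ Q ⊓ centralizer ((R : Subgroup G) : Set G) := by
      refine mem_inf.2 ⟨hN.conj_mem q hq g, ?_⟩
      rw [← hg, GT.centralizer_zpowers, mem_centralizer_singleton_iff, conj_mul, conj_mul,
        (hc.pow_right _).eq]
    rw [hC] at h3
    simpa using h3
  have h2ne : (2 : ZMod r) ≠ 0 := by
    intro h
    have := (ZMod.natCast_eq_zero_iff 2 r).1 (by exact_mod_cast h)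
    exact hr ((Nat.prime_dvd_prime_iff_eq hp Nat.prime_two).1 this)
  obtain ⟨x, hx⟩ := hπs (DihedralGroup.r 1)
  refine ⟨⟨MulEquiv.ofBijective (π.comp (Subgroup.subtype _)) ⟨(injective_iff_map_eq_one _).2 fun a ha =>
    Subtype.ext (hinj a a.2 ha), fun d => ?_⟩⟩, fun a ha ho => ?_⟩
  · obtain ⟨y, hy, h⟩ := hsurj d
    exact ⟨⟨y, hy⟩, h⟩
  have haa := Inv.mul_self_of_two ho
  obtain ⟨i, hi⟩ := sr_of_two hodd (x := π a) (fun h => Inv.ne_one_of_two ho (hinj a ha h))
    (by rw [← map_mul, haa, map_one])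
  refine ⟨fun b hb hbQ => ?_, ?_⟩
  · have hbb := Inv.mul_self_of_two hb
    obtain ⟨j, hj⟩ := sr_of_two hodd (x := π b) (fun h => hbQ ((hker b).1 h))
      (by rw [← map_mul, hbb, map_one])
    obtain ⟨k, h1, h2⟩ := hpow (b * (x * b * x⁻¹)) (-2) (neg_ne_zero.2 h2ne) (by
      simp only [map_mul, map_inv, hj, hx]; simp; ring)
    obtain ⟨g, hg⟩ := hgen _ h1 h2
    have h3 := Inv.conj_pow_of_inverts (Inv.left_inverts_mul hbb (y := x * b * x⁻¹)
      (by rw [conj_mul, hbb]; simp)) (2 ^ k)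
    set y := (b * (x * b * x⁻¹)) ^ 2 ^ k
    have h4 : g * b * g⁻¹ ∈ normalizer ((R : Subgroup G) : Set G) := by
      rw [← hg]
      refine GT.mem_normalizer_iff_of_finite.2 fun z hz => ?_
      rw [Inv.inverts_of_mem_zpowers (c := g * y * g⁻¹) _ hz]
      · exact inv_mem hz
      · rw [conj_inv, conj_mul, conj_mul, h3, conj_inv]
    obtain ⟨l, hl⟩ := sr_of_two hodd (x := π (g * b * g⁻¹))
      (fun h => Inv.ne_one_of_two (by rw [Inv.orderOf_conj', hb]) (hinj _ h4 h))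
      (by rw [← map_mul, conj_mul, hbb]; simp)
    obtain ⟨n, hn, hn'⟩ := hsurj (DihedralGroup.r ((i - l) / 2))
    have h5 : n * a * n⁻¹ = g * b * g⁻¹ := by
      rw [← mul_inv_eq_one]
      refine hinj _ (mul_mem (mul_mem (mul_mem hn ha) (inv_mem hn)) (inv_mem h4)) ?_
      rw [map_mul, map_inv, hl]
      simp only [map_mul, map_inv, hn', hi]
      simp only [inv_r, inv_sr, r_mul_sr, sr_mul_r, sr_mul_sr, one_def, DihedralGroup.r.injEq]
      field_simp
      ring
    exact ⟨g⁻¹ * n, by rw [show g⁻¹ * n * a * (g⁻¹ * n)⁻¹ = g⁻¹ * (n * a * n⁻¹) * g by group, h5]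
                       group⟩
  set a' := x * a * x⁻¹ with ha'
  have haa' : a' * a' = 1 := by rw [conj_mul, haa]; simp
  have hπ : π (a * a') = DihedralGroup.r (-2) := by
    simp only [ha', map_mul, map_inv, hi, hx]; simp; ring
  set C := Q ⊓ centralizer ({a} : Set G)
  set C' := Q ⊓ centralizer ({a'} : Set G)
  have hCC : Nat.card C' = Nat.card C := by
    rw [← GT.card_map_conj C x, GT.map_conj_inf, GT.map_conj_eq_of_normal,
      ← GT.centralizer_singleton_conj]
  have hbot : C ⊓ C' = ⊥ := by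
    refine eq_bot_iff.2 fun q hq => hcent _ _ (neg_ne_zero.2 h2ne) hπ q hq.1.1 ?_
    exact Commute.mul_right (mem_centralizer_singleton_iff.1 hq.1.2)
      (mem_centralizer_singleton_iff.1 hq.2.2)
  have h1 := GT.CopAct.card_mul_card_le_of_le (X := C) (Y := C') (K := Q) inf_le_left inf_le_left
  rw [hbot, card_bot, mul_one, hCC] at h1
  have hπq : ∀ q : Q, π q = 1 := fun q => (hker _).2 q.2
  let Φ : Q → Q → Q := fun q q' => ⟨(a * a')⁻¹ * ((q * a * q⁻¹) * (q' * a' * q'⁻¹)),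
    (hker _).1 (by simp [hπq])⟩
  have hΦ : ∀ q q' s s' : Q, Φ q q' = Φ s s' →
      (q⁻¹ * s : Q) ∈ C.subgroupOf Q ∧ (q'⁻¹ * s' : Q) ∈ C'.subgroupOf Q := by
    intro q q' s s' h
    have h2 : ((q : G) * a * (q : G)⁻¹) * (q' * a' * (q' : G)⁻¹) =
        (s * a * (s : G)⁻¹) * (s' * a' * (s' : G)⁻¹) := by
      simpa [Φ] using h
    have hs : ∀ (u c : G), c * c = 1 → u * c * u⁻¹ * (u * c * u⁻¹) = 1 := fun u c hc => by
      rw [conj_mul, hc]; simp
    have h3 := Inv.left_inverts_mul (hs q a haa) (hs q' a' haa')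
    have h4 := Inv.left_inverts_mul (hs s a haa) (hs s' a' haa')
    rw [h2] at h3
    set y := (s * a * (s : G)⁻¹) * (s' * a' * (s' : G)⁻¹) with hy
    have h5 : ((q : G) * a * (q : G)⁻¹)⁻¹ * (s * a * (s : G)⁻¹) = 1 := by
      refine hcent y _ (neg_ne_zero.2 h2ne) (by rw [← hπ]; simp [hy, hπq]) _
        ((hker _).1 (by simp [hπq])) ?_
      set u := (q : G) * a * (q : G)⁻¹
      set v := (s : G) * a * (s : G)⁻¹
      calc u⁻¹ * v * y = u⁻¹ * (v * y * v⁻¹) * v := by group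
        _ = u⁻¹ * (u * y * u⁻¹) * v := by rw [h3, h4]
        _ = y * (u⁻¹ * v) := by group
    have h6 : (q : G) * a * (q : G)⁻¹ = s * a * (s : G)⁻¹ := inv_mul_eq_one.1 h5
    rw [hy, ← h6, mul_left_cancel_iff] at h2
    have key : ∀ (u v c : G), u * c * u⁻¹ = v * c * v⁻¹ → u⁻¹ * v ∈ centralizer ({c} : Set G) :=
      fun u v c h => mem_centralizer_singleton_iff.2 (by
        calc u⁻¹ * v * c = u⁻¹ * (v * c * v⁻¹) * v := by group
          _ = c * (u⁻¹ * v) := by rw [← h]; group)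
    exact ⟨mem_inf.2 ⟨(q⁻¹ * s).2, key _ _ _ h6⟩, mem_inf.2 ⟨(q'⁻¹ * s').2, key _ _ _ h2⟩⟩
  have h2 : C.relIndex Q * C'.relIndex Q ≤ Nat.card Q := by
    have : Function.Injective fun c : (Q ⧸ C.subgroupOf Q) × (Q ⧸ C'.subgroupOf Q) =>
        Φ c.1.out c.2.out := by
      rintro ⟨c, c'⟩ ⟨d, d'⟩ h
      obtain ⟨h3, h4⟩ := hΦ _ _ _ _ h
      rw [← QuotientGroup.eq, QuotientGroup.out_eq', QuotientGroup.out_eq'] at h3 h4
      exact Prod.ext h3 h4
    have h5 := Nat.card_le_card_of_injective _ this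
    rwa [Nat.card_prod] at h5
  have h3 := GT.PG.relIndex_mul_card (H := C) (K := Q) inf_le_left
  have h4 := GT.PG.relIndex_mul_card (H := C') (K := Q) inf_le_left
  rw [hCC] at h4
  have hpos : 0 < Nat.card C := Nat.card_pos
  have hposQ : 0 < Nat.card Q := Nat.card_pos
  have h5 : C'.relIndex Q = C.relIndex Q := Nat.eq_of_mul_eq_mul_right hpos (h4.trans h3.symm)
  rw [h5] at h2
  have h6 : C.relIndex Q ≤ Nat.card C := by
    by_contra h
    nlinarith
  nlinarith

end Cfsg.Agent.S2873
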