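import Mathlib
import Cfsg.Statements.S2874


set_option autoImplicit false
open Cfsg

namespace Cfsg.Agent.S2874

section
open Subgroup Equiv Matrix
theorem isUnit_of_cast {k : ℕ} (hk : 2 ∣ 2 ^ k) {a : ZMod (2 ^ k)}
    (h : ZMod.castHom hk (ZMod 2) a = 1) : IsUnit a := by
  rw [← ZMod.natCast_zmod_val a] at h ⊢
  rw [map_natCast] at h
  rw [ZMod.isUnit_iff_coprime]
  refine Nat.Coprime.pow_right _ ((Nat.coprime_two_right).2 ?_)
  exact ZMod.natCast_eq_one_iff_odd.1 h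

theorem two_torsion {k : ℕ} (hk : 2 ≤ k) {a : ZMod (2 ^ k)} (h : 2 * a = 0) :
    a = 0 ∨ a = 2 ^ (k - 1) := by
  obtain ⟨m, rfl⟩ : ∃ m, k = m + 1 := ⟨k - 1, by omega⟩
  have h1 : ((2 * a.val : ℕ) : ZMod (2 ^ (m + 1))) = 0 := by simpa using h
  rw [ZMod.natCast_eq_zero_iff] at h1
  obtain ⟨c, hc⟩ : 2 ^ m ∣ a.val :=
    Nat.dvd_of_mul_dvd_mul_left two_pos ((pow_succ' 2 m).symm.dvd.trans h1)
  have h2 := (ZMod.val_lt a).trans_eq (pow_succ 2 m)
  rw [hc] at h2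
  have h3 : c < 2 := lt_of_mul_lt_mul_left h2 (by positivity)
  rw [← ZMod.natCast_zmod_val a, hc]
  interval_cases c <;> simp

theorem half_facts {k : ℕ} (hk : 2 ≤ k) : (2 : ZMod (2 ^ k)) * 2 ^ (k - 1) = 0 ∧
    (2 : ZMod (2 ^ k)) ^ (k - 1) * 2 ^ (k - 1) = 0 := by
  obtain ⟨m, rfl⟩ : ∃ m, k = m + 2 := ⟨k - 2, by omega⟩
  have h : (2 : ZMod (2 ^ (m + 2))) ^ (m + 2) = 0 := by
    exact_mod_cast ZMod.natCast_self (2 ^ (m + 2))
  refine ⟨by rw [← h]; simp [pow_succ, mul_comm], ?_⟩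
  rw [show m + 2 - 1 = m + 1 from rfl]
  linear_combination (2 : ZMod (2 ^ (m + 2))) ^ m * h

def x0 (R : Type*) [CommRing R] : GL (Fin 2) R :=
  ⟨!![0, -1; 1, -1], !![-1, 1; -1, 0], by ext i j; fin_cases i <;> fin_cases j <;> simp,
    by ext i j; fin_cases i <;> fin_cases j <;> simp⟩

theorem conj_x0 {k : ℕ} (hk : 2 ≤ k) {x : GL (Fin 2) (ZMod (2 ^ k))} (h3 : x ^ 3 = 1) (h1 : x ≠ 1) :
    ∃ g : GL (Fin 2) (ZMod (2 ^ k)), g * x * g⁻¹ = x0 _ := by
  have hd : 2 ∣ 2 ^ k := dvd_pow_self 2 (by omega)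
  set f := ZMod.castHom hd (ZMod 2)
  set X : Matrix (Fin 2) (Fin 2) (ZMod (2 ^ k)) := x.1 with hX
  have h3' : X ^ 3 = 1 := by simpa using congrArg Units.val h3
  have hm : (X - 1) * (X ^ 2 + X + 1) = 0 := by rw [← sub_eq_zero] at h3'; rw [← h3']; noncomm_ring
  have hm' : (X ^ 2 + X + 1) * (X - 1) = 0 := by rw [← sub_eq_zero] at h3'; rw [← h3']; noncomm_ring
  have key : ∀ Y : Matrix (Fin 2) (Fin 2) (ZMod 2), Y ^ 3 = 1 →
      (Y ^ 2 + Y + 1).det = 1 ∨ ((Y - 1).det = 1 ∧ Y 1 0 = 1) := by decide +kernel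
  rcases key (f.mapMatrix X) (by rw [← map_pow, h3', map_one]) with h | ⟨h, hc⟩
  · have hu : IsUnit (X ^ 2 + X + 1) := (isUnit_iff_isUnit_det _).2 (isUnit_of_cast hd (by
      rw [RingHom.map_det, map_add, map_add, map_pow, map_one]; exact h))
    exact absurd (Units.ext (sub_eq_zero.1 (hu.mul_left_eq_zero.1 hm))) h1
  have hu : IsUnit (X - 1) := (isUnit_iff_isUnit_det _).2 (isUnit_of_cast hd (by
    rw [RingHom.map_det, map_sub, map_one]; exact h))
  have h0 := hu.mul_right_eq_zero.1 hm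
  have hP : IsUnit !![1, X 0 0; 0, X 1 0] := (isUnit_iff_isUnit_det _).2 (by
    simpa using isUnit_of_cast hd hc)
  obtain ⟨P, hP⟩ := hP
  refine ⟨P⁻¹, ?_⟩
  rw [inv_inv, mul_assoc, inv_mul_eq_iff_eq_mul]
  ext1
  rw [Units.val_mul, Units.val_mul, hP, ← hX]
  have e0 := congrFun (congrFun h0 0) 0
  have e1 := congrFun (congrFun h0 1) 0
  simp [pow_two, Matrix.mul_apply, Fin.sum_univ_two] at e0 e1
  ext i j
  fin_cases i <;> fin_cases j <;> simp [x0, Matrix.mul_apply, Fin.sum_univ_two]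
  · linear_combination e0
  · linear_combination e1

theorem shape {k : ℕ} (hk : 2 ≤ k) {t : GL (Fin 2) (ZMod (2 ^ k))} (h2 : t * t = 1)
    (h : t * (x0 _ * t * (x0 _)⁻¹) = x0 _ * (x0 _ * t * (x0 _)⁻¹) * (x0 _)⁻¹) :
    ∃ p q : ZMod (2 ^ k), 2 * p = 0 ∧ 2 * q = 0 ∧ t.1 = !![1 + p, q; p + q, 1 + p] := by
  set T : Matrix (Fin 2) (Fin 2) (ZMod (2 ^ k)) := t.1 with hT
  have hdet : T.det = 1 := by
    have := congrArg GeneralLinearGroup.det h
    simp only [map_mul, map_inv, mul_inv_cancel_comm, mul_eq_left] at this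
    exact congrArg Units.val this
  have h2' : T * T = 1 := congrArg Units.val h2
  have e1 : T.trace • T = (2 : ZMod (2 ^ k)) • 1 := by
    have a0 := congrFun (congrFun h2' 0) 0
    have a1 := congrFun (congrFun h2' 0) 1
    have a2 := congrFun (congrFun h2' 1) 0
    have a3 := congrFun (congrFun h2' 1) 1
    rw [det_fin_two] at hdet
    simp [Matrix.mul_apply, Fin.sum_univ_two] at a0 a1 a2 a3
    ext i j
    fin_cases i <;> fin_cases j <;> simp [trace_fin_two]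
    · linear_combination a0 + hdet
    · linear_combination a1
    · linear_combination a2
    · linear_combination a3 + hdet
  have e2 : (2 : ZMod (2 ^ k)) • T = T.trace • 1 := by
    rw [← h2', ← smul_mul_assoc, e1, smul_mul_assoc, one_mul]
  have h' : T * ((x0 _).1 * T * (x0 _)⁻¹.1) =
      (x0 _).1 * ((x0 _).1 * T * (x0 _)⁻¹.1) * (x0 _)⁻¹.1 := congrArg Units.val h
  have e3 : (2 : ZMod (2 ^ k)) • T = (2 : ZMod (2 ^ k)) • 1 := by
    have cj : ∀ (c d : ZMod (2 ^ k)) (M : Matrix (Fin 2) (Fin 2) (ZMod (2 ^ k))), c • M = d • 1 →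
        c • ((x0 _).1 * M * (x0 _)⁻¹.1) = d • 1 := fun c d M hM => by
      rw [← smul_mul_assoc, ← mul_smul_comm, hM, mul_smul_comm, smul_mul_assoc, mul_one,
        Units.mul_inv]
    rw [e2, ← cj _ _ _ (cj _ _ _ e2), ← h', ← smul_mul_assoc, e2, smul_mul_assoc, one_mul,
      cj _ _ _ e1]
  obtain ⟨a, b, c, d, hT'⟩ : ∃ a b c d, T = !![1 + a, b; c, 1 + d] :=
    ⟨T 0 0 - 1, T 0 1, T 1 0, T 1 1 - 1, by simpa using eta_fin_two T⟩
  rw [hT'] at e3 h' ⊢
  have a0 := congrFun (congrFun e3 0) 0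
  have a1 := congrFun (congrFun e3 0) 1
  have a2 := congrFun (congrFun e3 1) 0
  have a3 := congrFun (congrFun e3 1) 1
  have b0 := congrFun (congrFun h' 0) 0
  have b1 := congrFun (congrFun h' 0) 1
  simp [x0, Matrix.mul_apply, Fin.sum_univ_two] at a0 a1 a2 a3 b0 b1
  have ha : 2 * a = 0 := by linear_combination a0
  have hd : 2 * d = 0 := by linear_combination a3
  have z : ∀ {u v : ZMod (2 ^ k)}, 2 * u = 0 → 2 * v = 0 → u * v = 0 := fun hu hv => by
    rcases two_torsion hk hu with rfl | rfl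
    · simp
    rcases two_torsion hk hv with rfl | rfl
    · simp
    · exact (half_facts hk).2
  have hda : d = a := by
    linear_combination b1 + z ha a2 - z ha a1 + z a1 a2
  have hc : c = a + b := by
    linear_combination b0 - z ha a2 - z ha hd - z a1 a2 + z ha a1 - z a1 hd + z a1 a1 - ha - a1
  exact ⟨a, b, ha, a1, by rw [hda, hc]⟩

theorem shape_conj {R : Type*} [CommRing R] {t : GL (Fin 2) R} {p q : R} (hp : 2 * p = 0)
    (hq : 2 * q = 0) (h : t.1 = !![1 + p, q; p + q, 1 + p]) :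
    (x0 R * t * (x0 R)⁻¹).1 = !![1 + q, p + q; q + (p + q), 1 + q] := by
  rw [Units.val_mul, Units.val_mul, h]
  ext i j
  fin_cases i <;> fin_cases j <;> simp [x0, Matrix.mul_apply, Fin.sum_univ_two]
  · linear_combination hp
  · linear_combination -hp - hq
  · linear_combination -hq
  · linear_combination -hq

theorem mem_of_shape {k : ℕ} (hk : 2 ≤ k) {t u : GL (Fin 2) (ZMod (2 ^ k))} (ht1 : t ≠ 1)
    (ht2 : t * t = 1)
    (ht : t * (x0 _ * t * (x0 _)⁻¹) = x0 _ * (x0 _ * t * (x0 _)⁻¹) * (x0 _)⁻¹) (hu2 : u * u = 1)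
    (hu : u * (x0 _ * u * (x0 _)⁻¹) = x0 _ * (x0 _ * u * (x0 _)⁻¹) * (x0 _)⁻¹) :
    u ∈ Subgroup.closure {x0 _, t} := by
  obtain ⟨p, q, hp, hq, e0⟩ := shape hk ht2 ht
  obtain ⟨p', q', hp', hq', e⟩ := shape hk hu2 hu
  have hpq : 2 * (p + q) = 0 := by linear_combination hp + hq
  have e1 := shape_conj hp hq e0
  have e2 := shape_conj hq hpq e1
  have hx : x0 _ ∈ Subgroup.closure {x0 _, t} := Subgroup.subset_closure (by simp)
  have m0 : t ∈ Subgroup.closure {x0 _, t} := Subgroup.subset_closure (by simp)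
  have m1 := mul_mem (mul_mem hx m0) (inv_mem hx)
  have m2 := mul_mem (mul_mem hx m1) (inv_mem hx)
  have hh : (2 : ZMod (2 ^ k)) ^ (k - 1) + 2 ^ (k - 1) = 0 := by
    linear_combination (half_facts hk).1
  have key : u = 1 ∨ u = t ∨ u = x0 _ * t * (x0 _)⁻¹ ∨
      u = x0 _ * (x0 _ * t * (x0 _)⁻¹) * (x0 _)⁻¹ := by
    have n1 : ¬ (p = 0 ∧ q = 0) := by
      rintro ⟨rfl, rfl⟩
      exact ht1 (Units.ext (by rw [e0]; simp [one_fin_two]))
    simp only [Units.ext_iff, e, e0, e1, e2, Units.val_one, one_fin_two]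
    rcases two_torsion hk hp with rfl | rfl <;> rcases two_torsion hk hq with rfl | rfl <;>
      rcases two_torsion hk hp' with rfl | rfl <;> rcases two_torsion hk hq' with rfl | rfl <;>
      simp [hh] at n1 ⊢
  rcases key with rfl | rfl | rfl | rfl
  exacts [one_mem _, m0, m1, m2]

theorem gens {G : Type*} [Group G] {H : Subgroup G} (e : H ≃* alternatingGroup (Fin 4)) :
    ∃ x t : G, x ^ 3 = 1 ∧ x ≠ 1 ∧ t * t = 1 ∧ t ≠ 1 ∧ t * (x * t * x⁻¹) = x * (x * t * x⁻¹) * x⁻¹ ∧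
      H = Subgroup.closure {x, t} := by
  obtain ⟨a, b, h1, h2, h3, h4, h5, h6⟩ : ∃ a b : alternatingGroup (Fin 4), a ^ 3 = 1 ∧ a ≠ 1 ∧
      b * b = 1 ∧ b ≠ 1 ∧ b * (a * b * a⁻¹) = a * (a * b * a⁻¹) * a⁻¹ ∧
      ∀ g, ∃ i j l : Fin 3, g = a ^ i.val * b ^ j.val * a ^ l.val :=
    ⟨⟨swap 0 1 * swap 1 2, Perm.mem_alternatingGroup.2 (by decide)⟩,
      ⟨swap 0 1 * swap 2 3, Perm.mem_alternatingGroup.2 (by decide)⟩, by decide +kernel⟩
  refine ⟨e.symm a, e.symm b, ?_, ?_, ?_, ?_, ?_, le_antisymm (fun g hg => ?_) ?_⟩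
  · exact_mod_cast congrArg Subtype.val (by rw [← map_pow, h1, map_one] : e.symm a ^ 3 = 1)
  · simpa using h2
  · exact_mod_cast congrArg Subtype.val (by rw [← map_mul, h3, map_one] : e.symm b * e.symm b = 1)
  · simpa using h4
  · simpa using congrArg (fun g => (e.symm g : G)) h5
  · obtain ⟨i, j, l, h⟩ := h6 (e ⟨g, hg⟩)
    have := congrArg (fun g => (e.symm g : G)) h
    simp only [MulEquiv.symm_apply_apply, map_mul, map_pow, Subgroup.coe_mul,
      SubgroupClass.coe_pow] at this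
    rw [this]
    exact mul_mem (mul_mem (pow_mem (Subgroup.subset_closure (by simp)) _)
      (pow_mem (Subgroup.subset_closure (by simp)) _))
      (pow_mem (Subgroup.subset_closure (by simp)) _)
  · rw [Subgroup.closure_le]
    rintro _ (rfl | rfl) <;> exact Subtype.prop _

theorem normal_form {k : ℕ} (hk : 2 ≤ k) {H : Subgroup (GL (Fin 2) (ZMod (2 ^ k)))}
    (e : H ≃* alternatingGroup (Fin 4)) : ∃ g t : GL (Fin 2) (ZMod (2 ^ k)), t * t = 1 ∧ t ≠ 1 ∧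
      t * (x0 _ * t * (x0 _)⁻¹) = x0 _ * (x0 _ * t * (x0 _)⁻¹) * (x0 _)⁻¹ ∧
      H.map (MulAut.conj g).toMonoidHom = Subgroup.closure {x0 _, t} := by
  obtain ⟨x, t, h1, h2, h3, h4, h5, rfl⟩ := gens e
  obtain ⟨g, hg⟩ := conj_x0 hk h1 h2
  refine ⟨g, g * t * g⁻¹, by rw [conj_mul, h3]; simp, by simpa using h4, ?_, ?_⟩
  · rw [← hg]
    simpa [mul_assoc] using congrArg (fun y => g * y * g⁻¹) h5
  · rw [MonoidHom.map_closure, Set.image_pair, ← hg]; rfl

end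

/-- For k ≥ 2, any two subgroups of GL₂(ℤ/2ᵏℤ) (the automorphism group of the homocyclic group ℤ/2ᵏ × ℤ/2ᵏ) that are isomorphic to the alternating group of degree 4 are conjugate. -/
theorem result (k : ℕ) (hk : 2 ≤ k) (H₁ H₂ : Subgroup (GL (Fin 2) (ZMod (2 ^ k)))) (h₁ : Nonempty (↥H₁ ≃* ↥(alternatingGroup (Fin 4)))) (h₂ : Nonempty (↥H₂ ≃* ↥(alternatingGroup (Fin 4)))) : ∃ g : GL (Fin 2) (ZMod (2 ^ k)), H₂ = H₁.map (MulAut.conj g).toMonoidHom := by
  obtain ⟨e₁⟩ := h₁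
  obtain ⟨e₂⟩ := h₂
  obtain ⟨g₁, t₁, a1, a2, a3, a4⟩ := normal_form hk e₁
  obtain ⟨g₂, t₂, b1, b2, b3, b4⟩ := normal_form hk e₂
  have h : H₂.map (MulAut.conj g₂).toMonoidHom = H₁.map (MulAut.conj g₁).toMonoidHom := by
    rw [a4, b4]
    refine le_antisymm ((Subgroup.closure_le _).2 ?_) ((Subgroup.closure_le _).2 ?_)
    · rintro _ (rfl | rfl)
      exacts [Subgroup.subset_closure (by simp), mem_of_shape hk a2 a1 a3 b1 b3]
    · rintro _ (rfl | rfl)
      exacts [Subgroup.subset_closure (by simp), mem_of_shape hk b2 b1 b3 a1 a3]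
  refine ⟨g₂⁻¹ * g₁, ?_⟩
  have := congrArg (Subgroup.map (MulAut.conj g₂⁻¹).toMonoidHom) h
  rw [Subgroup.map_map, Subgroup.map_map] at this
  convert this using 2
  · conv_lhs => rw [← Subgroup.map_id H₂]
    congr 1
    ext1 y; simp [mul_assoc]
  · ext1 y; simp [mul_assoc]

end Cfsg.Agent.S2874
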