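import Mathlib
import Cfsg.Statements.S2879
import Cfsg.Agent.GT.PSolvable
import Cfsg.Agent.GT.PGroupMaxTwo
import Cfsg.Agent.GT.TransferSL23
import Cfsg.Agent.GT.Conj
import Cfsg.Agent.GT.PGroupExtraspecial
import Cfsg.Agent.Inv.QuatAut
import Cfsg.Agent.Inv.TwoAut
import Cfsg.Agent.Inv.Basic
import Cfsg.Agent.FG.H93Cyc
-- import your own Cfsg.Agent.* helpers here

set_option autoImplicit false
open Cfsg

namespace Cfsg.Agent.S2879

open Subgroup

theorem aux {T Q : Type*} [Group T] [Group Q] [Finite T] [Finite Q] {m : ℕ} {a b : T}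
    (h : GT.PG.MaxTwo m a b) (j : Q →* T) (hj : Function.Injective j) {ψ : MulAut Q}
    (hψ : Odd (orderOf ψ)) (hz : ∀ q, j q = a ^ 2 ^ m → ψ q = q) {u : Q} (hu : u * u = 1)
    (hu' : j u ∉ zpowers a) : ψ = 1 := by
  haveI := h.normal
  set A := (zpowers a).comap j
  have hQ : IsPGroup 2 Q := h.isPGroup.of_injective j hj
  have hi : A.index ∣ 2 := by
    rw [index_comap, ← h.index_eq]; exact relIndex_dvd_index_of_normal _ _
  have hi2 : A.index = 2 := by
    rcases (Nat.dvd_prime Nat.prime_two).1 hi with h1 | h1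
    · exact absurd (show u ∈ A by rw [index_eq_one.1 h1]; trivial) hu'
    · exact h1
  haveI : IsCyclic A := isCyclic_of_injective
    ((j.comp A.subtype).codRestrict (zpowers a) fun x => x.2)
    fun x y hxy => Subtype.ext (hj (congrArg Subtype.val hxy))
  obtain ⟨x, hx⟩ := FG.H93.exists_zpowers_eq A
  have hxA : x ∈ A := hx ▸ mem_zpowers x
  have key : ψ x = x := by
    by_cases h1 : ψ x ∈ A
    · obtain ⟨k, hk⟩ := hQ x
      exact Inv.Fz.fix_of_mem_zpowers hψ hk (hx ▸ h1)
    have h2 : x ^ 4 = 1 := ψ.injective (hj (by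
      rw [map_pow, map_pow, map_one, map_one]; exact h.pow_four_eq_one h1))
    have h3 : u * x * u⁻¹ = x⁻¹ := by
      apply hj
      obtain ⟨i, hi⟩ := mem_zpowers_iff.1 hxA
      rw [map_mul, map_mul, map_inv, map_inv, ← hi]
      by_cases hm : 2 ≤ m
      · have h4 : a ^ (i * 4) = 1 := by
          rw [zpow_mul, hi]; exact_mod_cast (by rw [← map_pow, h2, map_one] : j x ^ 4 = 1)
        have h5 := orderOf_dvd_iff_zpow_eq_one.2 h4
        rw [h.orderOf_eq] at h5
        have h6 : (2 : ℤ) ^ 3 ∣ i * 4 := (pow_dvd_pow 2 (show 3 ≤ m + 1 by omega)).trans (by exact_mod_cast h5)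
        obtain ⟨k, rfl⟩ : ∃ k, i = 2 * k := ⟨i / 2, by omega⟩
        exact h.conj_sq_zpow hu' k
      · have h4 : b * a * b⁻¹ = a⁻¹ := by
          rcases h.rel with h5 | h5 | h5
          exacts [h5.2, h5.2, absurd h5.1 hm]
        rw [← conj_zpow, h.conj_eq_of_notMem hu', h4, inv_zpow]
    have h4 : ψ x * u ∈ A := by
      rw [mul_mem_iff_of_index_two hi2]; exact iff_of_false h1 hu'
    have h5 := Inv.inverts_of_mem_zpowers h3 (hx ▸ h4)
    have h6 : ψ x * ψ x = 1 := by
      have hu1 := Inv.inv_of_mul_self hu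
      calc ψ x * ψ x = ψ x * u * (u * (ψ x * u) * u⁻¹) := by
            rw [← mul_assoc u, mul_inv_cancel_right, mul_assoc, ← mul_assoc u, hu, one_mul]
        _ = 1 := by rw [h5]; group
    have h7 : x * x = 1 := ψ.injective (by rw [map_mul, h6, map_one])
    by_cases h8 : x = 1
    · rw [h8, map_one]
    refine hz x (Inv.involution_unique_of_mem_zpowers ?_ h.orderOf_z hxA
      (pow_mem (mem_zpowers a) _))
    rw [orderOf_injective j hj]; exact Inv.orderOf_two_of h7 h8
  refine Inv.Fz.eq_one_of_fix_index_two hψ (hQ.to_subgroup A) hi fun y hy => ?_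
  obtain ⟨i, rfl⟩ := mem_zpowers_iff.1 (hx ▸ hy)
  rw [map_zpow, key]


/-- Let G be a finite solvable group with O(G) = 1 whose Sylow 2-subgroup T is dihedral of order at least 8 or semidihedral, with G ≠ T and Z(T) normal in G. Then G has a normal subgroup isomorphic to SL₂(3). -/
theorem result {G : Type*} [Group G] [Finite G] (hsol : IsSolvable G) (hO : Cfsg.oddCore G = ⊥) (T : Sylow 2 G) (hT : (∃ n : ℕ, 4 ≤ n ∧ Nonempty (↥(T : Subgroup G) ≃* DihedralGroup n)) ∨ Cfsg.IsQuasiDihedral ↥(T : Subgroup G)) (hne : (T : Subgroup G) ≠ ⊤) (hZ : ((T : Subgroup G) ⊓ Subgroup.centralizer ((T : Subgroup G) : Set G)).Normal) : ∃ U : Subgroup G, U.Normal ∧ Nonempty (↥U ≃* Matrix.SpecialLinearGroup (Fin 2) (ZMod 3)) := by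
  obtain ⟨m, a, b, h⟩ : ∃ (m : ℕ) (a b : (T : Subgroup G)), GT.PG.MaxTwo m a b := by
    rcases hT with ⟨n, hn, ⟨e⟩⟩ | hT
    · have hna : ¬ IsMulCommutative (T : Subgroup G) := fun hc =>
        DihedralGroup.not_commutative (n := n) (by omega) (by omega) ⟨⟨fun x y => by
          obtain ⟨x, rfl⟩ := e.surjective x
          obtain ⟨y, rfl⟩ := e.surjective y
          rw [← map_mul, ← map_mul, hc.is_comm.comm]⟩⟩
      obtain ⟨m, a, b, -, h, -⟩ := GT.PG.exists_maxTwo_of_dihedral' T.2 hna e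
      exact ⟨m, a, b, h⟩
    · obtain ⟨m, a, b, -, h, -⟩ := GT.PG.exists_maxTwo_of_isQuasiDihedral hT
      exact ⟨m, a, b, h⟩
  set Q := pCore 2 G
  have hQ : IsPGroup 2 Q := GT.isPGroup_pCore 2
  have hC : centralizer (Q : Set G) ≤ Q := (GT.isPSolvable_of_isSolvable hsol).centralizer_pCore_le hO
  have hQT : Q ≤ T := hQ.le_sylow_of_normal T
  -- an element of odd order
  obtain ⟨g, hg1, hg⟩ : ∃ g : G, g ≠ 1 ∧ Odd (orderOf g) := by
    have h1 : (T : Subgroup G).index ≠ 1 := fun h => hne (index_eq_one.1 h)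
    obtain ⟨q, hq, hd⟩ := Nat.exists_prime_and_dvd h1
    haveI := Fact.mk hq
    obtain ⟨g, hg⟩ := exists_prime_orderOf_dvd_card' q (hd.trans (index_dvd_card _))
    refine ⟨g, fun h => hq.ne_one (by rw [← hg, h, orderOf_one]), hg ▸ hq.odd_of_ne_two ?_⟩
    rintro rfl
    exact T.not_dvd_index hd
  have hodd : ∀ x ∈ Q, Odd (orderOf x) → x = 1 := fun x hx ho =>
    GT.Tr.eq_one_of_coprime_of_isPGroup hQ hx (Nat.coprime_two_right.2 ho)
  have hgC : g ∉ centralizer (Q : Set G) := fun h => hg1 (hodd g (hC h) hg)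
  have hgN : g ∈ normalizer (Q : Set G) := by rw [normalizer_eq_top]; trivial
  have hψ1 := GT.Tr.normalizerMonoidHom_ne_one hgN hgC
  set ψ := Q.normalizerMonoidHom ⟨g, hgN⟩ with hψ
  have hψo : Odd (orderOf ψ) := hg.of_dvd_nat ((orderOf_map_dvd _ _).trans
    (Subgroup.orderOf_coe (⟨g, hgN⟩ : normalizer (Q : Set G))).symm.dvd)
  have hzc : ∀ q : G, q = (a ^ 2 ^ m : (T : Subgroup G)) → g * q * g⁻¹ = q := by
    rintro q rfl
    have h1 : ((a ^ 2 ^ m : (T : Subgroup G)) : G) ∈
        (T : Subgroup G) ⊓ centralizer ((T : Subgroup G) : Set G) := by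
      rw [← GT.PG.map_center_subtype']; exact ⟨_, h.z_mem_center, rfl⟩
    have h2 := hZ.conj_mem _ h1 g
    rw [← GT.PG.map_center_subtype'] at h2
    obtain ⟨y, hy, h3⟩ := h2
    rcases h.mem_center_iff.1 hy with rfl | rfl
    · exact absurd (Subtype.ext (by simpa using h3.symm)) h.z_ne_one
    · exact h3.symm
  obtain ⟨e⟩ : Nonempty (Q ≃* QuaternionGroup 2) := by
    have h1 : ∀ u : Q, orderOf u = 2 → inclusion hQT u = a ^ 2 ^ m := fun u hu => by
      by_cases h2 : inclusion hQT u ∈ zpowers a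
      · exact Inv.involution_unique_of_mem_zpowers
          (by rw [orderOf_injective _ (inclusion_injective hQT), hu]) h.orderOf_z h2
          (pow_mem (mem_zpowers a) _)
      · exact absurd (aux h (inclusion hQT) (inclusion_injective hQT) hψo
          (fun q hq => Subtype.ext (hzc q (congrArg Subtype.val hq))) (Inv.mul_self_of_two hu) h2) hψ1
    rcases Inv.QA.isPGroup_mulAut_or_quaternion hQ (GT.Tr.pRankLE_one_of_unique_involution
      fun x y hx hy => inclusion_injective hQT ((h1 x hx).trans (h1 y hy).symm)) with h2 | h2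
    · exact absurd (GT.Tr.eq_one_of_coprime_of_isPGroup (h2.to_subgroup ⊤) (mem_top ψ)
        (Nat.coprime_two_right.2 hψo)) hψ1
    · exact h2
  obtain ⟨f, hf1, hf2⟩ := GT.Tr.exists_surjective_sl_two_three e hgN
    (Nat.coprime_two_right.2 hg) hgC
  have h3 : g ^ 3 ∈ Q := by
    have h1 := GT.Tr.pow_three_eq_one_of_quaternion e (Nat.coprime_two_right.2 hψo)
    rw [hψ, ← map_pow, ← MonoidHom.mem_ker, normalizerMonoidHom_ker] at h1
    exact hC h1
  have hcQ : Nat.card Q = 8 := by rw [Nat.card_congr e.toEquiv]; simp [QuaternionGroup.card]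
  have hcU : Nat.card (Q ⊔ zpowers g : Subgroup G) = 24 := by
    rw [GT.PG.card_sup_zpowers Nat.prime_three hgN (fun h => hg1 (hodd g h hg)) h3, hcQ]
  have hcG : Nat.card G ≤ 48 := by
    have h1 : (centralizer (Q : Set G)).index ≤ 24 := by
      have h0 : (MulAut.conjNormal (H := Q)).ker = centralizer (Q : Set G) := by
        ext x
        rw [MonoidHom.mem_ker, mem_centralizer_iff]
        refine ⟨fun hx q hq => ?_, fun hx => MulEquiv.ext fun q => Subtype.ext ?_⟩
        · have := congrArg (fun φ : MulAut Q => (φ ⟨q, hq⟩ : G)) hx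
          simp only [MulAut.conjNormal_apply, MulAut.one_apply] at this
          exact (mul_inv_eq_iff_eq_mul.1 this).symm
        · rw [MulAut.conjNormal_apply, ← hx q q.2]; simp
      rw [← h0, index_ker]
      exact (Nat.card_le_card_of_injective _ Subtype.val_injective).trans
        (Inv.QA.card_mulAut_le_of_quaternion e)
    have h2 : Nat.card (centralizer (Q : Set G)) = 2 := by
      rw [← Inv.QA.card_center_of_quaternion e, GT.PG.card_center_subgroup, inf_eq_right.2 hC]
    rw [← card_mul_index (centralizer (Q : Set G)), h2]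
    omega
  have hN : (Q ⊔ zpowers g : Subgroup G).Normal := by
    have h1 := card_mul_index (Q ⊔ zpowers g : Subgroup G)
    have h2 : (Q ⊔ zpowers g : Subgroup G).index ≠ 0 := index_ne_zero_of_finite
    rw [hcU] at h1
    by_cases h4 : (Q ⊔ zpowers g : Subgroup G).index = 1
    · rw [index_eq_one.1 h4]; infer_instance
    · exact normal_of_index_eq_two (by omega)
  refine ⟨_, hN, ⟨MulEquiv.ofBijective f ⟨(injective_iff_map_eq_one f).2 fun x hx => ?_, hf1⟩⟩⟩
  refine hf2 x hx (hC fun q hq => ?_)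
  let q' : (Q ⊔ zpowers g : Subgroup G) := ⟨q, mem_sup_left hq⟩
  have h1 := hf2 (q' * x * q'⁻¹ * x⁻¹) (by simp [MonoidHom.mem_ker, hx]) (by
    have := mul_mem hq ((inferInstance : Q.Normal).conj_mem _ (inv_mem hq) x)
    simpa [q', mul_assoc] using this)
  have h2 := congrArg Subtype.val h1
  simp only [q', coe_mul, coe_inv, coe_one] at h2
  rwa [mul_inv_eq_one, mul_inv_eq_iff_eq_mul] at h2

end Cfsg.Agent.S2879
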