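import Mathlib
import Cfsg.Statements.S2880
import Cfsg.Agent.GT.PGroupGauss

set_option autoImplicit false
open Cfsg

namespace Cfsg.Agent.S2880

/-- Let E be an extraspecial 2-group of order 2^(2m+1) of plus type, that is, containing an elementary abelian subgroup of order 2^(m+1) (equivalently, a central product of m dihedral groups of order 8). Then E has exactly 2^(2m) − 2^m elements of order 4. -/
theorem result {E : Type*} [Group E] [Finite E] (m : ℕ) (hm : 1 ≤ m) (hE : Cfsg.IsExtraspecial 2 E) (hcard : Nat.card E = 2 ^ (2 * m + 1)) (hplus : ∃ A : Subgroup E, Cfsg.IsElementaryAbelian 2 A ∧ Nat.card A = 2 ^ (m + 1)) : Nat.card {x : E // orderOf x = 4} = 2 ^ (2 * m) - 2 ^ m := by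
  open Subgroup Cfsg.Agent.GT in
  classical
  obtain ⟨A, hA, hA'⟩ := hplus
  have h1 : Nat.card {x : E // x ^ 2 = 1} = 2 ^ (2 * m) + 2 ^ m := by
    rcases PG.extraspecial_two_rank hE hcard with h | h
    · exact h.1
    · have := h.2.1 A hA.1 hA.2
      rw [hA'] at this
      exact absurd ((Nat.pow_le_pow_iff_right one_lt_two).mp this) (by omega)
  obtain ⟨z, hz, -⟩ := hE.exists_esz_top
  have h2 : ∀ x : E, orderOf x = 4 ↔ ¬ x ^ 2 = 1 := fun x =>
    ⟨fun h e => by have := orderOf_dvd_of_pow_eq_one e; rw [h] at this; omega,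
      fun h => orderOf_eq_prime_pow (p := 2) (n := 1) h (hz.pow_sq_eq_one (mem_top x))⟩
  have := Fintype.ofFinite E
  rw [Nat.card_congr (Equiv.subtypeEquivRight h2), Nat.card_eq_fintype_card,
    Fintype.card_subtype_compl, ← Nat.card_eq_fintype_card, ← Nat.card_eq_fintype_card, h1, hcard,
    pow_succ]
  omega

end Cfsg.Agent.S2880
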