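import Mathlib
import Cfsg.Statements.S2881
import Cfsg.Agent.S2880

set_option autoImplicit false
open Cfsg

namespace Cfsg.Agent.S2881

/-- Let E be an extraspecial 2-group of order 2^(2m+1) of plus type (containing an elementary abelian subgroup of order 2^(m+1)), and let ω be an automorphism of E of order 5 whose fixed points are exactly the centre of E. Then m is divisible by 4. -/
theorem result {E : Type*} [Group E] [Finite E] (m : ℕ) (hm : 1 ≤ m) (hE : Cfsg.IsExtraspecial 2 E) (hcard : Nat.card E = 2 ^ (2 * m + 1)) (hplus : ∃ A : Subgroup E, Cfsg.IsElementaryAbelian 2 A ∧ Nat.card A = 2 ^ (m + 1)) (ω : E ≃* E) (hω : orderOf ω = 5) (hfix : ∀ x : E, ω x = x ↔ x ∈ Subgroup.center E) : 4 ∣ m := by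
  open Subgroup Cfsg.Agent.GT in
  have h1 := S2880.result m hm hE hcard hplus
  let f : Function.End {x : E // orderOf x = 4} := fun x => ⟨ω x, by rw [MulEquiv.orderOf_eq, x.2]⟩
  have hf : ∀ n : ℕ, ∀ x, ((f ^ n) x : E) = (ω ^ n) x := by
    intro n
    induction n with
    | zero => intro x; rfl
    | succ n ih => intro x; rw [pow_succ', pow_succ']; exact congrArg ω (ih x)
  classical
  have := Fintype.ofFinite E
  have : Fact (Nat.Prime 5) := ⟨by norm_num⟩
  have h2 := Equiv.Perm.card_fixedPoints_modEq (f := f) (p := 5) (n := 1) (by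
    refine funext fun x => Subtype.ext ?_
    rw [pow_one, hf, ← hω, pow_orderOf_eq_one]; rfl)
  have h3 : IsEmpty (Function.fixedPoints f) := ⟨fun x => by
    have := orderOf_dvd_of_pow_eq_one (hE.1.pow_eq_one_of_mem_center
      ((hfix _).mp (congrArg Subtype.val x.2)))
    rw [x.1.2] at this
    omega⟩
  rw [Fintype.card_eq_zero (α := Function.fixedPoints f), ← Nat.card_eq_fintype_card, h1,
    Nat.modEq_zero_iff_dvd, two_mul, pow_add, ← Nat.mul_sub_one] at h2
  have h4 := (Nat.Coprime.dvd_mul_left (Nat.Coprime.pow_right m (by norm_num))).mp h2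
  have h5 : 2 ^ m % 5 = 1 := by
    have : 0 < 2 ^ m := by positivity
    omega
  rw [← Nat.div_add_mod m 4, pow_add, pow_mul, Nat.mul_mod, Nat.pow_mod] at h5
  have h6 : m % 4 < 4 := Nat.mod_lt _ (by norm_num)
  refine Nat.dvd_of_mod_eq_zero ?_
  interval_cases m % 4 <;> simp_all

end Cfsg.Agent.S2881
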