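import Mathlib
import Cfsg.Agent.Spor.MB.Fam
import Cfsg.Statements.S2882
-- import your own Cfsg.Agent.* helpers here

set_option autoImplicit false
open Cfsg

namespace Cfsg.Agent.S2882

open Cfsg.Agent.Spor Cfsg.Agent.Spor.MB MulAction

open scoped Pointwise

theorem card_le : Nat.card ↥(CZ zA ⊓ stabilizer PG T0 ⊓ stabilizer PG S0) ≤ 1024 := by
  have h1 := mul_card_inf_le (trioM.le_ncard_orbit (CZ_le zA) gens_gCA
    (trioM_R (a := 8536111) (b := 6889680) (c := 1351424) (by decide +kernel))
    7 8 0x87005657 (by decide +kernel))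
  have h2 := mul_card_inf_le (sexM.le_ncard_orbit (H := CZ zA ⊓ stabilizer PG T0)
    (inf_le_left.trans (CZ_le zA)) (gs := [17056541084428696192737540526802478, 601744100152610241450367108089201765])
    ((gens_CZ code_zA (by decide +kernel)).inf_stabFam (by decide +kernel))
    (sexM_R (m := 8388615) (l := [4268048, 147496, 2621632, 1082880, 268544]) (by decide +kernel))
    3 2 0x21 (by decide +kernel))
  rw [card_CZ_zA] at h1
  exact Nat.le_of_mul_le_mul_left (c := 3) (h2.trans
    (Nat.le_of_mul_le_mul_left (c := 7) h1 (by norm_num))) (by norm_num)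

theorem norm_le : M24 ⊓ Subgroup.normalizer (clo gP2 : Set PG) ≤
    CZ zA ⊓ stabilizer PG T0 ⊓ stabilizer PG S0 := by
  rintro n ⟨hn, h⟩
  refine ⟨⟨mem_CZ.2 ⟨hn, ?_⟩, eq_T0_of_P2 (smul_mem_trios hn T0_mem)
    (forall_smul_of_mem_normalizer h P2_smul_T0)⟩, eq_S0_of_P2 (smul_mem_sextets hn S0_mem)
    (forall_smul_of_mem_normalizer h P2_smul_S0)⟩
  rw [← mul_inv_eq_iff_eq_mul]
  refine eq_zA_of_central ((Subgroup.mem_normalizer_iff.1 h zA).1 zA_mem_P2) ?_ fun g hg => ?_
  · rw [Ne, conj_eq_one_iff]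
    intro e
    have := orderOf_zA
    rw [e, orderOf_one] at this
    omega
  · have := (mem_CZ.1 (P2_le_CZ ((Subgroup.mem_normalizer_iff''.1 h g).1 hg))).2
    calc g * (n * zA * n⁻¹) = n * (n⁻¹ * g * n * zA) * n⁻¹ := by group
      _ = _ := by rw [this]; group

/-- In the Mathieu group of degree 24 (realised as the automorphism group of the extended binary Golay code) every Sylow 2-subgroup is self-normalizing. -/
theorem result (S : Sylow 2 ↥Cfsg.M24) : Subgroup.normalizer ((S : Subgroup ↥Cfsg.M24) : Set ↥Cfsg.M24) = (S : Subgroup ↥Cfsg.M24) := by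
  have : Fact (Nat.Prime 2) := ⟨by norm_num⟩
  have hf : (Nat.card M24).factorization 2 = 10 :=
    factorization_M24 _ _ (factorization_eq_of (by norm_num) (by norm_num) (by norm_num))
  let P : Sylow 2 M24 := Sylow.ofCard ((clo gP2).subgroupOf M24) (by
    rw [hf, ← card_P2]
    exact Nat.card_congr (Subgroup.subgroupOfEquivOfLe gens_gP2.clo_le).toEquiv)
  have h1 : Nat.card (Subgroup.normalizer ((P : Subgroup M24) : Set M24)) ≤ 1024 := by
    refine le_trans (le_of_eq ?_) ((Subgroup.card_le_of_le norm_le).trans card_le)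
    refine card_eq_of_M24 _ _ inf_le_left fun x => ?_
    change x ∈ Subgroup.normalizer (((clo gP2).subgroupOf M24 : Subgroup M24) : Set M24) ↔ _
    rw [← Subgroup.subgroupOf_normalizer_eq gens_gP2.clo_le, Subgroup.mem_subgroupOf]
    simp
  have h2 := (Subgroup.normalizer ((P : Subgroup M24) : Set M24)).index_mul_card
  have h3 := (Subgroup.normalizer ((S : Subgroup M24) : Set M24)).index_mul_card
  rw [Sylow.coe_coe, ← Sylow.card_eq_index_normalizer] at h2 h3
  have h4 := Nat.eq_of_mul_eq_mul_left Nat.card_pos (h3.trans h2.symm)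
  symm
  apply Subgroup.eq_of_le_of_card_ge Subgroup.le_normalizer
  rw [Sylow.card_eq_multiplicity, hf]
  exact h4.le.trans h1

end Cfsg.Agent.S2882
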