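import Mathlib
import Cfsg.Statements.S2911
import Cfsg.Agent.Loc.JCTransfer
import Cfsg.Agent.Inv.MxFusion

set_option autoImplicit false
open Cfsg

namespace Cfsg.Agent.S2911

section
open Subgroup Cfsg.Agent.GT Cfsg.Agent.Loc Cfsg.Agent.Loc.Mss
theorem center_cases : ∀ c : Multiplicative (ZMod 2) × DihedralGroup 4, (∀ x, x * c = c * x) →
    ∃ d : Multiplicative (ZMod 2) × DihedralGroup 4, (d = c ∨ d = c * (.ofAdd 1, 1)) ∧
      ∃ x y, d = x * y * x⁻¹ * y⁻¹ := by decide

theorem z_central : ∀ x : Multiplicative (ZMod 2) × DihedralGroup 4,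
    x * (.ofAdd 1, 1) = (.ofAdd 1, 1) * x := by decide

end

/-- A finite group whose Sylow 2-subgroups are isomorphic to the direct product of a group of order 2 and a dihedral group of order 8 has a subgroup of index two. -/
theorem result {G : Type*} [Group G] [Finite G] (S : Sylow 2 G) (hS : Nonempty (↥(S : Subgroup G) ≃* Multiplicative (ZMod 2) × DihedralGroup 4)) : ∃ H : Subgroup G, H.index = 2 := by
  open Subgroup Cfsg.Agent.GT Cfsg.Agent.Loc Cfsg.Agent.Loc.Mss in
  obtain ⟨e⟩ := hS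
  by_contra hc
  push Not at hc
  have h1 := Inv.Fz.no_index_two_iff.mp hc
  set z := e.symm (.ofAdd 1, 1) with hz
  have z1 : ∀ x ∈ (S : Subgroup G), x * z = z * x := fun x hx => congrArg Subtype.val
    (e.injective (by simpa [hz] using z_central (e ⟨x, hx⟩)) : (⟨x, hx⟩ : S) * z = z * ⟨x, hx⟩)
  have z2 : z ^ 2 = 1 := by rw [hz, ← map_pow, map_eq_one_iff _ e.symm.injective]; decide
  have z3 : (z : G) ∉ ⁅(S : Subgroup G), (S : Subgroup G)⁆ := fun h => by
    rw [← map_subtype_commutator] at h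
    obtain ⟨y, hy, h⟩ := h
    obtain rfl : y = z := Subtype.ext h
    have := Abelianization.commutator_subset_ker
      ((MonoidHom.fst _ _).comp e.toMonoidHom) hy
    simp [hz, mem_prod] at this
  obtain ⟨V, v1, v2, t, v3, v4⟩ := JC.exists_extremal (Syl.of_sylow S) z.2 z3
    (congrArg Subtype.val z2) (h1 ▸ mem_top _) S.isPGroup' z1
  have ht := mem_norm_of_cj_le v4
  set c : S := ⟨t * z * t⁻¹, conj_mem_of_norm ht z.2⟩ with hc
  obtain ⟨d, h2, x, y, h3⟩ := center_cases (e c) fun x => by
    obtain ⟨x, rfl⟩ := e.surjective x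
    rw [← map_mul, ← map_mul]
    refine congrArg e (Subtype.ext ?_)
    have := z1 _ (conj_mem_of_norm' ht x.2)
    simp only [hc, coe_mul]
    calc (x : G) * (t * z * t⁻¹) = t * (t⁻¹ * x * t * z) * t⁻¹ := by group
      _ = _ := by rw [this]; group
  have h4 : ((e.symm d : S) : G) ∈ ⁅(S : Subgroup G), (S : Subgroup G)⁆ := by
    rw [h3, map_mul, map_mul, map_mul, map_inv, map_inv]
    exact commutator_mem_commutator (e.symm x).2 (e.symm y).2
  rcases h2 with rfl | rfl
  · rw [MulEquiv.symm_apply_apply] at h4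
    exact z3 (by simpa [hc, mul_assoc] using conj_mem_of_norm' (norm_comm le_rfl le_rfl ht) h4)
  · rw [map_mul, MulEquiv.symm_apply_apply] at h4
    exact v2 ((mul_mem_cancel_left v3).mp (v1 h4))

end Cfsg.Agent.S2911
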