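import Mathlib
import Cfsg.Statements.S2917
import Cfsg.Agent.Rec.G23.Setup

set_option autoImplicit false
open Cfsg

namespace Cfsg.Agent.S2917

/-- Let G be a finite group with subgroups H and M such that: H has normal subgroups H₁, H₂ both isomorphic to SL₂(3) with H₁ ∩ H₂ = Z(H₁) = Z(H₂), the product H₁H₂ has index 2 in H, and H = C_G(H₁ ∩ H₂); and M ⧸ O₂(M) ≅ SL₃(2) with O₂(M) elementary abelian of order 8 containing Z(H₁). Then G is isomorphic to the Chevalley group G₂(3). -/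
theorem result {G : Type*} [Group G] [Finite G] (H H₁ H₂ M : Subgroup G) (h1 : H₁ ≤ H) (h2 : H₂ ≤ H) (hn1 : (H₁.subgroupOf H).Normal) (hn2 : (H₂.subgroupOf H).Normal) (hiso1 : Nonempty (↥H₁ ≃* Matrix.SpecialLinearGroup (Fin 2) (ZMod 3))) (hiso2 : Nonempty (↥H₂ ≃* Matrix.SpecialLinearGroup (Fin 2) (ZMod 3))) (hidx : (H₁ ⊔ H₂).relIndex H = 2) (hint1 : H₁ ⊓ H₂ = H₁ ⊓ Subgroup.centralizer (H₁ : Set G)) (hint2 : H₁ ⊓ H₂ = H₂ ⊓ Subgroup.centralizer (H₂ : Set G)) (hHC : H = Subgroup.centralizer ((H₁ ⊓ H₂ : Subgroup G) : Set G)) [hOM : (Cfsg.pCore 2 ↥M).Normal] (hM : Nonempty ((↥M ⧸ Cfsg.pCore 2 ↥M) ≃* Matrix.SpecialLinearGroup (Fin 3) (ZMod 2))) (hOel : Cfsg.IsElementaryAbelian 2 (Cfsg.pCore 2 ↥M)) (hOcard : Nat.card ↥(Cfsg.pCore 2 ↥M) = 8) (hZin : H₁ ⊓ H₂ ≤ (Cfsg.pCore 2 ↥M).map M.subtype) : ∃ (F : Type) (_ : Field F) (_ : Fintype F), Fintype.card F = 3 ∧ Nonempty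 (G ≃* ↥(Cfsg.Lie.chevG2.group F)) := by
  obtain ⟨e1⟩ := hiso1
  obtain ⟨e2⟩ := hiso2
  obtain ⟨φ⟩ := hM
  obtain ⟨z, x1, m1, q1, m2, z2, z1, a1, a2, a3, a4, c1⟩ := Rec.G23.sl_letters e1
  obtain ⟨z', x2, m3, q2, m4, -, z1', b1, b2, b3, b4, c2⟩ := Rec.G23.sl_letters e2
  rw [← hint1] at a4
  rw [← hint2] at b4
  obtain rfl : z' = z := ((a4 z').1 ((b4 z').2 (.inr rfl))).resolve_left z1'
  have hz : z' ∈ H₁ ⊓ H₂ := (a4 z').2 (.inr rfl)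
  have hH : H = Subgroup.centralizer {z'} := by
    rw [hHC]; ext g
    refine ⟨fun h => Rec.mem_cen.2 (h _ hz).symm, fun h a ha => ?_⟩
    rcases (a4 a).1 ha with rfl | rfl
    exacts [by simp, (Rec.mem_cen.1 h).symm]
  subst hH
  rw [Subgroup.normal_subgroupOf_iff_le_normalizer h1] at hn1
  rw [Subgroup.normal_subgroupOf_iff_le_normalizer h2] at hn2
  have k1 : ∀ a ∈ H₁, a ^ 3 = 1 → ∀ b ∈ H₂, a * b = b * a := fun a ha h b hb => by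
    rcases (a4 (a * b * a⁻¹ * b⁻¹)).1 ⟨by
      simpa [mul_assoc] using H₁.mul_mem ha (Rec.conj_mem_of_mem_norm (hn1 (h2 hb)) (H₁.inv_mem ha)),
      H₂.mul_mem (Rec.conj_mem_of_mem_norm (hn2 (h1 ha)) hb) (H₂.inv_mem hb)⟩ with e | e
    · rwa [mul_inv_eq_one, mul_inv_eq_iff_eq_mul] at e
    · have e' : a * b * a⁻¹ = z' * b := mul_inv_eq_iff_eq_mul.1 e
      have e4 : a * z' * a⁻¹ = z' := Rec.mem_cen'.1 (h1 ha)
      have e5 : a ^ 3 * b * (a ^ 3)⁻¹ = z' * b := by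
        calc _ = a * (a * (a * b * a⁻¹) * a⁻¹) * a⁻¹ := by rw [pow_three]; group
          _ = a * (a * z' * a⁻¹ * (a * b * a⁻¹)) * a⁻¹ := by nth_rewrite 1 [e']; group
          _ = _ := by rw [e4, e', ← mul_assoc z', z2, one_mul, e']
      rw [h] at e5
      exact absurd (by simpa using e5) z1
  have k2 : ∀ b ∈ H₂, q1 * b = b * q1 := fun b hb => by
    have := (Commute.mul_left (k1 _ (mul_mem m2 m1) a3 b hb) (Commute.inv_left (k1 _ m1 a2 b hb))).eq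
    simpa using this
  have rl : Rec.G23.RelL z' x1 q1 x2 q2 :=
    ⟨z2, a1, b1, a2, b2, a3, b3, k1 _ m1 a2 _ m3, k1 _ m1 a2 _ m4, k2 _ m3, k2 _ m4⟩
  have k3 : ∀ {x1 q1 x2 q2 : G} {K : Subgroup G}, Rec.G23.RelL z' x1 q1 x2 q2 → x1 ∈ K → q1 ∈ K → Nat.card K = 24 →
      Rec.clos [x1, q1] = K := fun h a b c => by
    obtain ⟨C, hC⟩ := h.cod z1
    exact Subgroup.eq_of_le_of_card_ge (Rec.clos_le.2 (by simp [a, b]))
      (c.trans ((hC.pick [1, 3]).gen Rec.G23.H.H1_ok).2.symm).le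
  have k4 := k3 rl m1 m2 c1
  have k5 := k3 rl.swap m3 m4 c2
  let p : Rec.G23.Pre G := ⟨z', x1, q1, x2, q2, rl, z1, fun g hg => k4 ▸ hn1 (Rec.mem_cen.2 hg),
    fun g hg => k5 ▸ hn2 (Rec.mem_cen.2 hg)⟩
  have k6 : p.L = H₁ ⊔ H₂ := le_antisymm (Rec.clos_le.2 (by
    simp [p, Subgroup.mem_sup_left hz.1, Subgroup.mem_sup_left m1, Subgroup.mem_sup_left m2, Subgroup.mem_sup_right m3,
      Subgroup.mem_sup_right m4])) (sup_le (k4 ▸ p.f0.1) (k5 ▸ p.f0.2.1))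
  obtain ⟨⟨z, hzM⟩, hzV, rfl : z = z'⟩ := hZin hz
  have k7 := Rec.G23.oct φ hOel hOcard hzV (fun h => z1 (congrArg Subtype.val h)) fun h => by
    have a := Subgroup.card_dvd_of_le (show M ≤ Subgroup.centralizer {z} from fun g hg => Rec.mem_cen.2 (congrArg Subtype.val (h ⟨g, hg⟩)))
    rw [← Inv.Fz.card_mul_relIndex (sup_le h1 h2), hidx, ← k6, p.gL.2, ← (Cfsg.pCore 2 M).index_mul_card, hOcard,
      Subgroup.index_eq_card, Nat.card_congr φ.toEquiv, Cl.card_sl_three] at a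
    simp at a
  obtain ⟨f⟩ := p.exists_fl (k6 ▸ hidx) k7.map
  exact ⟨ZMod 3, inferInstance, inferInstance, ZMod.card 3, f.fin⟩

end Cfsg.Agent.S2917
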