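import Cfsg.Statements.S2932
import Cfsg.Agent.Loc.NatA7c
-- import your own Cfsg.Agent.* helpers here

set_option autoImplicit false
open Cfsg

namespace Cfsg.Agent.S2932

open Cfsg.Agent.Loc.NatA7 Matrix
open scoped MatrixGroups Pointwise

theorem exists_S {G : Type*} [Group G] [Finite G] {p : ℕ} [Fact p.Prime] {N U S0 : Subgroup G}
    (hU : IsPGroup p U) (hUN : U ≤ N) (h0 : IsPGroup p S0) (h0N : S0 ≤ N)
    (hc : ∀ P : Sylow p G, Nat.card S0 = Nat.card P) :
    ∃ S : Subgroup G, IsPGroup p S ∧ U ≤ S ∧ S ≤ N ∧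
      ∀ P : Subgroup G, IsPGroup p P → ∃ g : G, ∀ x ∈ P, g * x * g⁻¹ ∈ S := by
  obtain ⟨T, hT⟩ := (hU.comap_of_injective N.subtype N.subtype_injective).exists_le_sylow
  obtain ⟨T', hT'⟩ := (h0.comap_of_injective N.subtype N.subtype_injective).exists_le_sylow
  have pS : IsPGroup p ((T : Subgroup N).map N.subtype) := T.isPGroup'.map _
  obtain ⟨P', hP'⟩ := pS.exists_le_sylow
  have e : (T : Subgroup N).map N.subtype = P' := by
    refine Subgroup.eq_of_le_of_card_ge hP' ?_
    rw [← hc, Subgroup.card_map_of_injective N.subtype_injective, Sylow.card_eq_multiplicity,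
      ← T'.card_eq_multiplicity, ← Nat.card_congr (Subgroup.subgroupOfEquivOfLe h0N).toEquiv]
    exact Subgroup.card_le_of_le hT'
  refine ⟨_, pS, fun u hu => ⟨⟨u, hUN hu⟩, hT hu, rfl⟩, Subgroup.map_subtype_le _, fun P hP => ?_⟩
  obtain ⟨R, hR⟩ := hP.exists_le_sylow
  obtain ⟨g, hg⟩ := MulAction.exists_smul_eq G R P'
  refine ⟨g, fun x hx => ?_⟩
  rw [e, ← hg, Sylow.coe_subgroup_smul]
  exact Subgroup.smul_mem_pointwise_smul _ _ _ (hR hx)

/-- Let p be a prime. Inside a finite ambient group let V be an elementary abelian p-subgroup and G a subgroup normalizing V and acting faithfully on it (G ∩ C(V) = 1), and let L ≤ G act on V as SL₂(F) on its natural module, F a finite field of characteristic p, with L ≅ SL₂(F). If every Sylow p-subgroup of N_G(L) is a Sylow p-subgroup of G, then either L is normal in G, or F has 4 elements and G is isomorphic to the alternating group of degree 7. -/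
theorem result {X : Type*} [Group X] [Finite X] {p : ℕ} [Fact p.Prime] (F : Type) [Field F] [Fintype F] [CharP F p] (V G L : Subgroup X) (hV : Cfsg.IsElementaryAbelian p V) (hGV : G ≤ Subgroup.normalizer (V : Set X)) (hfaith : G ⊓ Subgroup.centralizer (V : Set X) = ⊥) (hLG : L ≤ G) (hnat : Cfsg.IsNaturalSL2Module F V L) (hLiso : Nonempty (↥L ≃* Matrix.SpecialLinearGroup (Fin 2) F)) (hSyl : ∀ S : Sylow p ↥(G ⊓ Subgroup.normalizer (L : Set X)), ∀ P : Sylow p ↥G, Nat.card S = Nat.card P) : (L.subgroupOf G).Normal ∨ (Fintype.card F = 4 ∧ Nonempty (↥G ≃* ↥(alternatingGroup (Fin 7)))) := by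
  obtain ⟨-, ρ, ψ, hs, hk, hρ⟩ := hnat
  have mem : ∀ (g : G) (v : V), (g : X) * v * (g : X)⁻¹ ∈ V := fun g v =>
    (Subgroup.mem_normalizer_iff.1 (hGV g.2) v).1 v.2
  let act : G → (Fin 2 → F) → (Fin 2 → F) := fun g a =>
    ψ (Additive.ofMul ⟨_, mem g (Additive.toMul (ψ.symm a))⟩)
  have hact : ∀ (g : G) (v : V), act g (ψ (Additive.ofMul v)) = ψ (Additive.ofMul ⟨_, mem g v⟩) :=
    fun g v => by simp [act]
  have ind : ∀ {P : (Fin 2 → F) → Prop}, (∀ v : V, P (ψ (Additive.ofMul v))) → ∀ a, P a := fun h a => by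
    simpa using h (Additive.toMul (ψ.symm a))
  let : DistribMulAction G (Fin 2 → F) :=
    { smul := act
      one_smul := ind fun v => by
        change act 1 _ = _
        rw [hact]; simp
      mul_smul := fun g h => ind fun v => by
        change act (g * h) _ = act g (act h _)
        rw [hact (g * h), hact h, hact g]; simp [mul_assoc]
      smul_zero := fun g => by
        change act g _ = _
        rw [← map_zero ψ, ← ofMul_one, hact]
        congr 2
        ext; simp
      smul_add := fun g => ind fun v => ind fun w => by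
        change act g _ = act g _ + act g _
        rw [← map_add, ← ofMul_mul, hact, hact, hact, ← map_add, ← ofMul_mul]
        congr 2
        ext; simp [mul_assoc] }
  have inj : Function.Injective ρ := by
    rw [← MonoidHom.ker_eq_bot_iff, hk, Subgroup.eq_bot_iff_forall]
    intro l hl
    exact Subtype.ext (Subgroup.mem_bot.1 (hfaith.le ⟨hLG l.2, hl⟩))
  let e := MulEquiv.ofBijective ρ ⟨inj, hs⟩
  let σ : SL(2, F) →* G := (Subgroup.inclusion hLG).comp e.symm.toMonoidHom
  have rσ : σ.range = L.subgroupOf G := by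
    ext g
    constructor
    · rintro ⟨m, rfl⟩
      exact (e.symm m).2
    · intro hg
      exact ⟨e ⟨g, hg⟩, Subtype.ext (by simp [σ])⟩
  have faith : ∀ g : G, (∀ v : Fin 2 → F, g • v = v) → g = 1 := fun g h => by
    refine Subtype.ext (Subgroup.mem_bot.1 (hfaith.le ⟨g.2, fun v hv => ?_⟩))
    have := h (ψ (Additive.ofMul ⟨v, hv⟩))
    change act g _ = _ at this
    rw [hact] at this
    have := congrArg Subtype.val (Additive.ofMul.injective (ψ.injective this))
    exact (mul_inv_eq_iff_eq_mul.1 this).symm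
  have hσ : ∀ (m : SL(2, F)) (v : Fin 2 → F), σ m • v = m.1 *ᵥ v := fun m => ind fun v => by
    obtain ⟨l, rfl⟩ := e.surjective m
    obtain ⟨w, h1, h2⟩ := hρ l v
    change act _ _ = (ρ l).1 *ᵥ _
    rw [hact, ← h2]
    congr 2
    ext
    simp [σ, h1]
  have nrm : Subgroup.normalizer (σ.range : Set G) = (Subgroup.normalizer (L : Set X)).subgroupOf G := by
    rw [rσ, Subgroup.subgroupOf_normalizer_eq hLG]
  obtain ⟨S0⟩ : Nonempty (Sylow p ↥(G ⊓ Subgroup.normalizer (L : Set X))) := inferInstance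
  obtain ⟨S, pS, uS, nS, syl⟩ := exists_S (p := p) (N := Subgroup.normalizer (σ.range : Set G))
    (U := Q G (W0 F) ⊓ σ.range) (S0 := (S0 : Subgroup ↥(G ⊓ Subgroup.normalizer (L : Set X))).map
      (Subgroup.inclusion (inf_le_left : G ⊓ Subgroup.normalizer (L : Set X) ≤ G)))
    ((isPGroup_Q p_smul faith _).to_le inf_le_left) (inf_le_right.trans Subgroup.le_normalizer)
    (S0.isPGroup'.map _) (by
      rintro _ ⟨x, -, rfl⟩
      rw [nrm]
      exact (Subgroup.mem_inf.1 x.2).2) fun P => by
      rw [Subgroup.card_map_of_injective (Subgroup.inclusion_injective _), hSyl S0 P]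
  have H : Hyp p σ S := ⟨faith, hσ, pS, fun t => uS ⟨⟨fun y hy => by
      rw [hσ, uu_mulVec]; ext i; fin_cases i <;> simp [mem_W0.1 hy], fun v => by
      rw [hσ, uu_mulVec, mem_W0, Pi.sub_apply]; simp⟩, t |> uu, rfl⟩, nS, syl⟩
  rw [← rσ, ← Nat.card_eq_fintype_card]
  exact H.main

end Cfsg.Agent.S2932
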