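import Mathlib
import Cfsg.Statements.S2953
import Cfsg.Agent.Loc.JCPair

set_option autoImplicit false
open Cfsg

namespace Cfsg.Agent.S2953

/-- Let G be a finite group of characteristic 2 type in which every 2-local subgroup is solvable and the centralizer of Ω₁(Z(S)) lies in N_G(S) for every Sylow 2-subgroup S; suppose O₂(G) = 1, fix a Sylow 2-subgroup S and a 2-local subgroup M containing N_G(J(S)) (J the Thompson subgroup generated by the elementary abelian 2-subgroups of largest order). Let T be maximal (for the order of a largest elementary abelian subgroup, then the order of J(T), then the order of T) among the nontrivial 2-subgroups of M lying in a 2-local subgroup not inside M. Then there are two distinct J(T)-components K₁, K₂ such that, with Pᵢ = ⟨Kᵢ, T⟩: C_G(O₂(Pᵢ)) ≤ O₂(Pᵢ), T is a Sylow 2-subgroup of Pᵢ, O₂(Pᵢ) has index 6 in Pᵢ with Pᵢ/O₂(Pᵢ) non-abelian, [Ω₁(Z(T)),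 Pᵢ] ≠ 1, O₂(⟨P₁, P₂⟩) = 1, and each Pᵢ lies in exactly one maximal 2-local subgroup Lᵢ of G, in which T is a Sylow 2-subgroup. -/
theorem result {G : Type*} [Group G] [Finite G] (hL : Cfsg.IsCharacteristicTwoType G) (hN : ∀ N : Subgroup G, Cfsg.IsTwoLocal N → Group.IsSolvable ↥N)
    (hZ : ∀ S : Sylow 2 G, Subgroup.centralizer (Cfsg.omegaCenterOf (S : Subgroup G) : Set G) ≤ Subgroup.normalizer ((S : Subgroup G) : Set G)) (hO : Cfsg.pCore 2 G = ⊥) (S : Sylow 2 G) (M : Subgroup G) (hM : Cfsg.IsTwoLocal M)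
    (hMJ : Subgroup.normalizer (Cfsg.thompsonSubgroupOf 2 (S : Subgroup G) : Set G) ≤ M) (T : Subgroup G) (hT : T ∈ Cfsg.maxStraddlingTwoSubgroups M) :
    ∃ K₁ K₂ : Subgroup G, K₁ ≠ K₂ ∧ Cfsg.IsJComponent T K₁ ∧ Cfsg.IsJComponent T K₂ ∧
      Cfsg.pCoreOf 2 ((K₁ ⊔ T) ⊔ (K₂ ⊔ T)) = ⊥ ∧
      ∀ P ∈ [K₁ ⊔ T, K₂ ⊔ T],
        Subgroup.centralizer (Cfsg.pCoreOf 2 P : Set G) ≤ Cfsg.pCoreOf 2 P ∧ Cfsg.IsSylowTwoIn T P ∧
        (Cfsg.pCoreOf 2 P).relIndex P = 6 ∧ ¬ ⁅P, P⁆ ≤ Cfsg.pCoreOf 2 P ∧ ⁅Cfsg.omegaCenterOf T, P⁆ ≠ ⊥ ∧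
        ∃ L : Subgroup G, Cfsg.IsMaximalTwoLocal L ∧ P ≤ L ∧ Cfsg.IsSylowTwoIn T L ∧
          ∀ L' : Subgroup G, Cfsg.IsMaximalTwoLocal L' → P ≤ L' → L' = L := by
  open Subgroup Cfsg.Agent.GT Cfsg.Agent.Loc.Mss Cfsg.Agent.Loc.JC in
  have hG := ZN.mk hL hN hZ
  obtain ⟨K, L, h, -⟩ := (mx_of_mem S hMJ hT).exists_uq hG
  obtain ⟨K', L', h', hne⟩ := h.exists_other hG hO
  refine ⟨K, K', fun e => h.not_le_of_ne h' hne (e ▸ h.le), isJComponent_iff.mpr h.jc,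
    isJComponent_iff.mpr h'.jc, h.core_sup_sup h' hne, ?_⟩
  have key : ∀ K L K' L', UQ T K L → UQ T K' L' → L ≠ L' → ∀ P, P = K ⊔ T →
      𝐂[pCoreOf 2 P] ≤ pCoreOf 2 P ∧ IsSylowTwoIn T P ∧ (pCoreOf 2 P).relIndex P = 6 ∧
        ¬ ⁅P, P⁆ ≤ pCoreOf 2 P ∧ ⁅omegaCenterOf T, P⁆ ≠ ⊥ ∧ ∃ L : Subgroup G,
          IsMaximalTwoLocal L ∧ P ≤ L ∧ IsSylowTwoIn T L ∧
            ∀ L' : Subgroup G, IsMaximalTwoLocal L' → P ≤ L' → L' = L := by
    rintro K L K' L' h h' hne _ rfl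
    exact ⟨h.cent_core_le, isSylowTwoIn_iff.mpr h.syl_sup, h.relIndex_core (h.le_norm' h' hne hG),
      h.not_comm_le, fun e => h.not_le_cent_omZ (h.omZ_eq' h' hne hG) (comm_eq_bot_iff'.mp e), L,
      h.max, h.sup_le, isSylowTwoIn_iff.mpr h.lp.syl,
      fun L' a b => h.eq_max a ((sup_le_sup_left (thJ_le 2 T) K).trans b)⟩
  intro P hP
  simp only [List.mem_cons, List.not_mem_nil, or_false] at hP
  rcases hP with e | e
  · exact key K L K' L' h h' hne P e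
  · exact key K' L' K L h' h hne.symm P e

end Cfsg.Agent.S2953
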