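import Mathlib
import Cfsg.Statements.S2968
import Cfsg.Agent.Loc.Isolated

set_option autoImplicit false
open Cfsg

namespace Cfsg.Agent.S2968

/-- Let G be a finite group, p a prime, P a Sylow p-subgroup of G and x ∈ P an element of p-power order which is isolated in G (the only conjugate of x commuting with x is x itself). Then x lies in the centre of P, and the subgroup generated by x is both strongly closed and weakly closed in P with respect to G. -/
theorem result {G : Type*} [Group G] [Finite G] {p : ℕ} [Fact p.Prime] (P : Sylow p G) (x : G) (hxP : x ∈ (P : Subgroup G)) (hx : ∃ k : ℕ, orderOf x = p ^ k) (hiso : Cfsg.IsIsolated x) : x ∈ (P : Subgroup G) ⊓ Subgroup.centralizer ((P : Subgroup G) : Set G) ∧ Cfsg.IsStronglyClosed (Subgroup.zpowers x) (P : Subgroup G) ∧ Cfsg.IsWeaklyClosed (Subgroup.zpowers x) (P : Subgroup G) := by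
  refine ⟨⟨hxP, Loc.zpowers_le_centralizer_iff.2
    (Loc.IsIsolated.le_centralizer hiso P.isPGroup' hxP) (Subgroup.mem_zpowers x)⟩,
    ⟨Subgroup.zpowers_le.2 hxP, fun y hy g hg => ?_⟩, Subgroup.zpowers_le.2 hxP, fun g hg => ?_⟩
  · rw [Loc.IsIsolated.eq_of_conj_mem_of_mem_zpowers hiso P.isPGroup' hxP hy hg]
    exact hy
  · have h := Loc.IsIsolated.eq_of_conj_mem hiso P.isPGroup' hxP
      (hg (Loc.Am.conj_mem_cj g (Subgroup.mem_zpowers x)))
    rw [MonoidHom.map_zpowers]
    congr 1

end Cfsg.Agent.S2968
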