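import Mathlib
import Cfsg.Statements.S3022
import Cfsg.Agent.Loc.CGSmPi

set_option autoImplicit false
open Cfsg

namespace Cfsg.Agent.S3022

open Cfsg.Agent.GT Cfsg.Agent.Loc Cfsg.Agent.Loc.Mss Cfsg.Agent.Loc.PU Cfsg.Agent.Loc.Blk
  Cfsg.Agent.Loc.CG Subgroup
open scoped commutatorElement

/-- Let G be a finite group all of whose non-abelian simple sections are known simple groups, such that a Sylow 2-subgroup of G lies in exactly one maximal subgroup of G and C_G(O₂(G)) ≤ O₂(G). Let S be a Sylow 2-subgroup of G and A a group of automorphisms of S of odd order. Then some nontrivial A-invariant subgroup of S is normal in G. -/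
theorem result {G : Type*} [Group G] [Finite G] (hK : Cfsg.IsKGroup G) (hirr : ∀ S : Sylow 2 G, ∃! M : Subgroup G, IsCoatom M ∧ (S : Subgroup G) ≤ M) (hchar : Subgroup.centralizer (Cfsg.pCore 2 G : Set G) ≤ Cfsg.pCore 2 G) (S : Sylow 2 G) (A : Subgroup (MulAut ↥(S : Subgroup G))) (hA : Odd (Nat.card A)) : ∃ U : Subgroup G, U ≠ ⊥ ∧ U.Normal ∧ U ≤ (S : Subgroup G) ∧ ∀ a ∈ A, ∀ x : ↥(S : Subgroup G), (x : G) ∈ U → ((a x : ↥(S : Subgroup G)) : G) ∈ U := by
  by_contra hcon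
  push Not at hcon
  obtain ⟨M, ⟨hM, hSM⟩, hu⟩ := hirr S
  have hT := Syl.of_sylow S
  have hmax : ∀ X : Subgroup G, (S : Subgroup G) ≤ X → X ≠ ⊤ → X ≤ M := fun X h1 h2 => by
    obtain ⟨Y, hY, h3⟩ := (eq_top_or_exists_le_coatom X).resolve_left h2
    exact hu Y ⟨hY, h1.trans h3⟩ ▸ h3
  have hS : (S : Subgroup G) ≠ ⊥ := fun e => by
    have h1 : pCore 2 G = ⊥ :=
      le_bot_iff.1 (e ▸ (Am.pCoreOf_top (X := G) 2 ▸ hT.core_le : pCore 2 G ≤ S))
    rw [h1, cent_bot] at hchar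
    exact hM.1 (top_le_iff.1 (hchar.trans bot_le))
  have hC : cStarOf 2 (S : Subgroup G) ≤ M := (TBlk.cStarOf_le hT.pg hS).trans
    (iSup_le fun ⟨C, h1, h2, h3⟩ => hmax _ ((normal_subgroupOf_iff_le_normalizer h1).1 inferInstance)
      fun e => by
        obtain ⟨a, -, x, hx, hx'⟩ := hcon C h2 (normalizer_eq_top_iff.1 e) h1
        exact hx' ((characteristic_iff_map_le.1 h3 a)
          (mem_map_of_mem _ (show x ∈ C.subgroupOf S from hx))))
  obtain ⟨E, A₀, K, _, _, ρ, φ, h, -, hE⟩ := exists_sdw hchar S le_top hC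
    fun l => hM.1 (top_le_iff.1 l)
  have hB := blk_of hchar S h.blk
  have hO : 𝐎[2, E] = 𝐖[2, E] := by
    rcases hB.cases with ⟨F, _, _, -, e | e⟩ | ⟨m, -, e⟩
    · exact e.trans (hB.W₀_eq e).symm
    · exact absurd e.three (by norm_num)
    · exact e.trans (hB.W₀_eq e).symm
  have hP := h.pi hB
  have hcore := h.core.trans hO.le
  have hd3 := fun b w => h.cases_of_comm hB (b := b) (w := w)
  have hBS : 𝐁[2, (S : Subgroup G)] ≤ S := bB_le _
  have hch := TBlk.characteristic_baumann 2 (S : Subgroup G)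
  have hWV := hB.W_le_V
  have hWE := hB.not_W_le
  clear h hO hB hC
  generalize 𝐖[2, E] = W at *
  generalize 𝐁[2, (S : Subgroup G)] = B at *
  have hWS : W ≤ S := hP.le.trans hBS
  have hP' : Pi (Nat.card K) (B.subgroupOf S) (W.subgroupOf S) :=
    (pi_map_iff (S : Subgroup G).subtype_injective).1 (by
      rwa [map_subgroupOf_eq_of_le hBS, map_subgroupOf_eq_of_le hWS])
  have hR : ∀ r ∈ B.subgroupOf S ⊓ 𝐂[W.subgroupOf S], (r : G) ∈ B ⊓ 𝐂[W] := fun r hr =>
    ⟨hr.1, (cent_subgroupOf hWS).le hr.2⟩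
  have hRE : ⁅⁅B ⊓ 𝐂[W], B ⊓ 𝐂[W]⁆, E⁆ ≤ ⊥ := by
    have : ⁅⁅B ⊓ 𝐂[W], E⁆, B ⊓ 𝐂[W]⁆ ≤ ⊥ := (commutator_mono hcore le_rfl).trans
      (comm_eq_bot_iff'.2 inf_le_right).le
    exact three_subgroups (norm_normal _ _) (norm_normal _ _) (norm_normal _ _) this
      (by rwa [Subgroup.commutator_comm E])
  let I : Subgroup (MulAut (S : Subgroup G)) := (MulAut.conj (G := (S : Subgroup G))).range
  have hI : I.Normal := ⟨by
    rintro _ ⟨s, rfl⟩ g
    exact ⟨g s, by ext x; simp⟩⟩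
  have key : ∀ γ ∈ A ⊔ I, (W.subgroupOf S).map γ.toMonoidHom ≤ 𝐂[W.subgroupOf S] := fun γ hγ => by
    obtain ⟨α, hα, i, hi, rfl⟩ := (mem_sup_norm' (norm_normal A I)).1 hγ
    obtain ⟨s, hs⟩ : (α * i) ^ Nat.card A ∈ I := by
      rw [← QuotientGroup.eq_one_iff, QuotientGroup.mk_pow, QuotientGroup.mk_mul,
        (QuotientGroup.eq_one_iff i).2 hi, mul_one, ← QuotientGroup.mk_pow,
        show α ^ Nat.card A = 1 from congrArg Subtype.val (pow_card_eq_one' (x := (⟨α, hα⟩ : A))),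
        QuotientGroup.mk_one]
    refine hP'.map_le_cent (D := (𝐂[E]).subgroupOf S) (fun r hr s hs => ?_) (fun r hr => ?_)
      (fun b hb w hw e => Subtype.ext ?_) (fun s => ?_) hA hs.symm
    · exact comm_eq_bot_iff.1 (le_bot_iff.1 hRE) (commutator_mem_commutator (hR r hr) (hR s hs))
    · refine mem_cent.2 fun e he => ?_
      have h1 := hcore (commutator_mem_commutator (hR r hr) he)
      have h2 := hP.sq _ h1
      have h3 := mem_cent.1 (hR r hr).2 _ h1
      rw [eq_comm, ← commutatorElement_eq_one_iff_mul_comm, ← h2]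
      calc ⁅((r * r : S) : G), e⁆ = r * ⁅(r : G), e⁆ * (r : G)⁻¹ * ⁅(r : G), e⁆ := by
            simp only [coe_mul, commutatorElement_def]; group
        _ = _ := by rw [← h3]; group
    · rcases hd3 _ _ hb hw e with l | l
      · exact (mem_cent.1 l _ hw).symm
      · exact mem_cent.1 l _ hb
    · rw [cj_subgroupOf, cent_subgroupOf hWS]
      exact comap_mono ((cj_le_of_norm hWV (norm_oc (norm_normal ⊤ _) (mem_top _))).trans
        ((oc_comm _).trans (cent_anti hWV)))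
  let U : Subgroup (S : Subgroup G) := ⨆ γ : ↥(A ⊔ I), (W.subgroupOf S).map γ.1.toMonoidHom
  have hU : ∀ δ ∈ A ⊔ I, U.map δ.toMonoidHom ≤ U := fun δ hδ => by
    rw [Subgroup.map_iSup]
    refine iSup_le fun γ => ?_
    rw [← map_aut_mul]
    exact le_iSup (fun γ : ↥(A ⊔ I) => (W.subgroupOf S).map γ.1.toMonoidHom) ⟨_, mul_mem hδ γ.2⟩
  have hWU : W ≤ U.map (S : Subgroup G).subtype := by
    rw [← subgroupOf_le_iff hWS, ← map_aut_one (W.subgroupOf S)]
    exact le_iSup (fun γ : ↥(A ⊔ I) => (W.subgroupOf S).map γ.1.toMonoidHom) 1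
  have hUR : U.map (S : Subgroup G).subtype ≤ B ⊓ 𝐂[W] := by
    rintro _ ⟨x, hx, rfl⟩
    refine hR x ((iSup_le fun γ => le_inf ?_ (key γ γ.2) : U ≤ _) hx)
    exact (map_mono hP'.le).trans (characteristic_iff_map_le.1 hch _)
  have hn : 𝐍[U.map (S : Subgroup G).subtype] = ⊤ := by
    by_contra e
    refine hE ((norm_of_comm_le le_rfl (((commutator_mono hUR le_rfl).trans hcore).trans hWU)).trans
      (hmax _ ?_ e))
    have : (⊤ : Subgroup (S : Subgroup G)) ≤ 𝐍[U] :=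
      norm_of_forall_cj_le fun s _ => hU _ (mem_sup_right ⟨s, rfl⟩)
    exact (map_subtype_top _).ge.trans (map_norm_le _ this)
  obtain ⟨a, ha, x, hx, hx'⟩ := hcon _ (fun e => hWE (hWU.trans (e.le.trans bot_le)))
    (normalizer_eq_top_iff.1 hn) (map_subtype_le U)
  obtain ⟨y, hy, e⟩ := hx
  exact hx' (mem_map_of_mem _ (hU a (mem_sup_left ha) (mem_map_of_mem _ (Subtype.ext e ▸ hy))))

end Cfsg.Agent.S3022
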