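import Mathlib
import Cfsg.Statements.S3043
import Cfsg.Agent.Loc.TICountD

set_option autoImplicit false
open Cfsg

namespace Cfsg.Agent.S3043

open Cfsg.Agent.Loc.H78 Cfsg.Agent.Perm.Zass

/-- Let M be a nontrivial subgroup of a finite group G meeting each of its other conjugates trivially, with N_G(M) = M · C_{N_G(M)}(z) for some involution z ∈ N_G(M), and with C_G(x) of odd order for every nontrivial x ∈ M. Then one of the following holds: M is normal in G; the number of involutions of G is at most |G : M|; G is isomorphic to PGL₂(F) or to PSL₂(F) for a finite field F with |F| = |M|, M is an elementary abelian p-group for the characteristic p of F, and |F| ≡ 1 (mod 4) in the PSL₂ case; G is isomorphic to PSL₂(F) with |F| = 2^e, e > 1, and M is cyclic of order 2^e + 1; or for some d ≥ 1, G has an elementary abelian normal subgroup of order 2^{2d} complemented by N_G(M), and N_G(M) is dihedral of order 2(2^d + 1). -/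
theorem result {G : Type*} [Group G] [Finite G] (M : Subgroup G) (hM1 : M ≠ ⊥)
    (hTI : ∀ g : G, M ⊓ M.map (MulAut.conj g).toMonoidHom ≠ ⊥ → M.map (MulAut.conj g).toMonoidHom = M)
    (z : G) (hz : orderOf z = 2) (hzN : z ∈ Subgroup.normalizer (M : Set G))
    (hfac : M ⊔ (Subgroup.normalizer (M : Set G) ⊓ Subgroup.centralizer ({z} : Set G)) = Subgroup.normalizer (M : Set G))
    (hodd : ∀ x ∈ M, x ≠ 1 → Odd (Nat.card ↥(Subgroup.centralizer ({x} : Set G)))) :
    M.Normal ∨
    Nat.card {g : G // orderOf g = 2} ≤ M.index ∨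
    (∃ (F : Type) (_ : Field F) (_ : Fintype F) (p : ℕ) (_ : Fact p.Prime) (_ : CharP F p), Fintype.card F = Nat.card M ∧ Cfsg.IsElementaryAbelian p M ∧
        (Nonempty (G ≃* (GL (Fin 2) F ⧸ Subgroup.center (GL (Fin 2) F))) ∨
         (Fintype.card F % 4 = 1 ∧ Nonempty (G ≃* Matrix.ProjectiveSpecialLinearGroup (Fin 2) F)))) ∨
    (∃ (F : Type) (_ : Field F) (_ : Fintype F) (e : ℕ), 1 < e ∧ Fintype.card F = 2 ^ e ∧ IsCyclic ↥M ∧ Nat.card M = 2 ^ e + 1 ∧
        Nonempty (G ≃* Matrix.ProjectiveSpecialLinearGroup (Fin 2) F)) ∨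
    (∃ (d : ℕ) (E : Subgroup G), 1 ≤ d ∧ E.Normal ∧ Cfsg.IsElementaryAbelian 2 E ∧ Nat.card E = 2 ^ (2 * d) ∧
        E ⊓ Subgroup.normalizer (M : Set G) = ⊥ ∧ E ⊔ Subgroup.normalizer (M : Set G) = ⊤ ∧
        Nonempty (↥(Subgroup.normalizer (M : Set G)) ≃* DihedralGroup (2 ^ d + 1))) := by
  have hz' := orderOf_eq_two_iff'.1 hz
  have h : TIH M z := by
    refine ⟨hM1, fun g x hx hx1 hg => ?_, hz'.1, hz'.2, hzN, fun n hn => ?_, fun x hx t ht hc => ?_⟩
    · have h1 := hTI g (fun e => conj_ne_one (g := g) hx1 ((Subgroup.eq_bot_iff_forall _).1 e _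
        (Subgroup.mem_inf.2 ⟨hg, ⟨x, hx, rfl⟩⟩)))
      rw [Subgroup.mem_normalizer_iff]
      intro y
      constructor
      · intro hy
        rw [← SetLike.mem_coe, SetLike.mem_coe, ← h1]
        exact ⟨y, hy, rfl⟩
      · intro hy
        rw [← SetLike.mem_coe, SetLike.mem_coe, ← h1] at hy
        obtain ⟨y', hy', e⟩ := hy
        have e' : g * y' * g⁻¹ = g * y * g⁻¹ := e
        have : y' = y := mul_left_cancel (mul_right_cancel e')
        exact this ▸ hy'
    · have h1 : n ∈ ((M ⊔ (Subgroup.normalizer (M : Set G) ⊓ Subgroup.centralizer ({z} : Set G)) :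
          Subgroup G) : Set G) := by rw [hfac]; exact hn
      rw [Subgroup.coe_mul_of_right_le_normalizer_left _ _ inf_le_left] at h1
      obtain ⟨x, hx, k, hk, rfl⟩ := h1
      exact ⟨x, hx, k, (Subgroup.mem_inf.1 hk).1,
        Subgroup.mem_centralizer_singleton_iff.1 (Subgroup.mem_inf.1 hk).2, rfl⟩
    · by_contra hne
      push Not at hne
      have h1 := Subgroup.orderOf_dvd_natCard _ (Subgroup.mem_centralizer_singleton_iff.2 hc)
      rw [orderOf_eq_two_iff'.2 ⟨ht, hne.2⟩] at h1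
      exact (Nat.not_even_iff_odd.2 (hodd x hx hne.1)) (even_iff_two_dvd.2 h1)
  by_cases hn : M.Normal
  · exact Or.inl hn
  by_cases hi : Nat.card {g : G // orderOf g = 2} ≤ M.index
  · exact Or.inr (Or.inl hi)
  have hs := h.star (not_le.1 hi)
  obtain ⟨t, htz, htN⟩ := h.exists_out hs hn
  refine Or.inr (Or.inr ?_)
  by_cases hA : ∀ s : G, s * z = z * s → s ∉ Subgroup.normalizer (M : Set G) →
      t * s ∈ Subgroup.normalizer (M : Set G)
  · obtain ⟨F, i1, i2, p, i3, i4, hF, hp, hiso⟩ := h.caseA hs htz htN hA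
    exact Or.inl ⟨F, i1, i2, p, i3, i4, hF, ⟨⟨⟨fun a b => Subtype.ext (h.comm a.2 b.2)⟩⟩, hp⟩, hiso⟩
  push Not at hA
  obtain ⟨s, hsz, hsN, hts⟩ := hA
  have hK := h.smallK hs htz htN hsz hsN hts
  rcases h.count_cases hs hK hn with ⟨h0, hm⟩ | ⟨h0, hm⟩
  · exact Or.inr (Or.inl (h.caseB1 hs hK hn h0 hm))
  · exact Or.inr (Or.inr (h.caseB2 hs hK h0 hm))

end Cfsg.Agent.S3043
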