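import Mathlib
import Cfsg.Statements.S3052
import Cfsg.Agent.Loc.GCMain
import Cfsg.Agent.S3224

set_option autoImplicit false
open Cfsg

namespace Cfsg.Agent.S3052

open Cfsg.Agent.GT Cfsg.Agent.Loc.Mss Subgroup
open scoped commutatorElement

/-- Let G be a finite group of local characteristic 2 (every 2-local subgroup N has C_N(O₂(N)) ≤ O₂(N)) with T a Sylow 2-subgroup, O₂(G) = 1, O²(G) = G, and G ≠ C*(G,T), the subgroup generated by the centralizer of Ω₁(Z(T)) and the normalizers of the nontrivial characteristic subgroups of the Baumann subgroup B(T). Then one of the following holds: G has a strongly embedded subgroup; T is dihedral or quasi-dihedral; T has order at most 2¹⁰; or T equals its Baumann subgroup, T has nilpotency class 2, and G has a B(T)-block E not contained in C*(G,T) with E/O₂(E) isomorphic to SL(2,2ⁿ) for some n ≥ 3. -/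
theorem result {G : Type*} [Group G] [Finite G] (hloc : Cfsg.IsOfLocalCharacteristic 2 G) (T : Sylow 2 G)
    (hO : Cfsg.pCore 2 G = ⊥) (hO2 : Cfsg.pResidual 2 G = ⊤) (hC : Cfsg.cStarOf 2 (T : Subgroup G) ≠ ⊤)
    [Group.IsNilpotent ↥(T : Subgroup G)] :
    (∃ H : Subgroup G, Cfsg.IsStronglyEmbedded H) ∨
      ((∃ m : ℕ, Nonempty (↥(T : Subgroup G) ≃* DihedralGroup m)) ∨ Cfsg.IsQuasiDihedral ↥(T : Subgroup G)) ∨
      Nat.card (T : Subgroup G) ≤ 2 ^ 10 ∨
      (Cfsg.baumannSubgroupOf 2 (T : Subgroup G) = T ∧ Group.nilpotencyClass ↥(T : Subgroup G) = 2 ∧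
        ∃ (E : Subgroup G) (hE : ((Cfsg.pCoreOf 2 E).subgroupOf E).Normal) (F : Type) (_ : Field F) (_ : Fintype F) (n : ℕ),
          3 ≤ n ∧ Fintype.card F = 2 ^ n ∧ Cfsg.IsBaumannBlock 2 (T : Subgroup G) E ∧ ¬ E ≤ Cfsg.cStarOf 2 (T : Subgroup G) ∧
          Nonempty (↥E ⧸ (Cfsg.pCoreOf 2 E).subgroupOf E ≃* Matrix.SpecialLinearGroup (Fin 2) F)) := by
  open Cfsg.Agent.Loc Cfsg.Agent.Loc.GC in
  by_cases h1 : (T : Subgroup G) = ⊥
  · exact .inr (.inr (.inl (by rw [h1, Subgroup.card_bot]; norm_num)))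
  rcases trichotomy (Mss.Syl.of_sylow T) (LC.of_loc hloc) hO le_rfl hC h1 with
    h | ⟨S, L₁, L₂, V, W, q, h⟩ | ⟨M, K, L, h, hn⟩
  · exact .inl h
  · by_cases hq : 8 ≤ q
    · obtain ⟨rfl, hB⟩ := h.eq_of_eight hq hO2
      have b := h.bd0
      rw [hB] at b
      exact .inr (.inr (.inr ⟨hB, b.class_two, h.block hq hB⟩))
    rcases h.norm_or with l | ⟨a, b⟩
    · exact .inr (.inr (.inl (h.card_le (not_le.1 hq) l)))
    obtain ⟨x, h2, h3⟩ := h.four a b
    rcases S3224.result T.isPGroup' x h2 h3 with l | l | l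
    · exact .inr (.inl (.inl l))
    · exact .inr (.inl (.inr l))
    · exact .inr (.inr (.inl (by rw [l]; norm_num)))
  · exact .inr (.inr (.inl ((h.card_le hn).trans (by norm_num))))

end Cfsg.Agent.S3052
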