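import Mathlib
import Cfsg.Statements.S3090
import Cfsg.Agent.Loc.C2PE

set_option autoImplicit false
open Cfsg

namespace Cfsg.Agent.S3090

open Cfsg.Agent.GT Cfsg.Agent.Loc.Mss Cfsg.Agent.Loc.PU Cfsg.Agent.Loc.GC Cfsg.Agent.Loc.C2P

/-- Let G be a finite group of characteristic 2 type, H a subgroup, K = O²(H) (the subgroup generated by the elements of H of odd order), M = N_G(K), and T a Sylow 2-subgroup of H. Assume: K/O₂(K) (that is, O²(H/O₂(H))) is cyclic of order 3 or isomorphic to L₂(2ⁿ) = SL(2, 2ⁿ) for some n ≥ 1; O₂(H) is a Sylow 2-subgroup of the centralizer in M of K/O₂(K) (every 2-subgroup of M containing O₂(H) and acting trivially on K/O₂(K) equals O₂(H)); and M is the unique maximal 2-local subgroup of G containing H. Then N_G(T) ≤ M, or G has sectional 2-rank at most 4. -/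
theorem result
    {G : Type*} [Group G] [Finite G] (hG : Cfsg.IsCharacteristicTwoType G)
    (H : Subgroup G) (T : Sylow 2 ↥H)
    (hstar : Nonempty (↥(Cfsg.oddGenerated H) ⧸ Cfsg.pCore 2 ↥(Cfsg.oddGenerated H) ≃* Multiplicative (ZMod 3)) ∨
      ∃ n : ℕ, 1 ≤ n ∧ Nonempty (↥(Cfsg.oddGenerated H) ⧸ Cfsg.pCore 2 ↥(Cfsg.oddGenerated H) ≃* Matrix.SpecialLinearGroup (Fin 2) (GaloisField 2 n)))
    (hsyl : ∀ S : Subgroup G, IsPGroup 2 ↥S → (Cfsg.pCore 2 ↥H).map H.subtype ≤ S →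
      S ≤ Subgroup.normalizer (Cfsg.oddGenerated H : Set G) →
      (∀ s ∈ S, ∀ k ∈ Cfsg.oddGenerated H, s * k * s⁻¹ * k⁻¹ ∈ (Cfsg.pCore 2 ↥(Cfsg.oddGenerated H)).map (Cfsg.oddGenerated H).subtype) →
      S = (Cfsg.pCore 2 ↥H).map H.subtype)
    (huniq : Cfsg.maxTwoLocalsContaining H = {Subgroup.normalizer (Cfsg.oddGenerated H : Set G)}) :
    Subgroup.normalizer (((T : Subgroup ↥H).map H.subtype : Subgroup G) : Set G) ≤ Subgroup.normalizer (Cfsg.oddGenerated H : Set G) ∨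
      Cfsg.SectionalPRankLE 2 4 G := by
  refine or_iff_not_imp_left.2 fun out => ?_
  rw [oddGenerated_eq_pResidualOf] at hstar hsyl huniq out
  have lc : LC G := fun X h1 h2 => chP_iff.1 (hG.2 X h2 h1)
  have hT := Syl.of_sylow_sub T
  obtain ⟨Bo, h1, h2⟩ := umax_amb (hT.inf (res_le (p := 2) H) (hT.le.trans (le_norm_res H)))
    fun S hS => hstar.elim (fun ⟨e⟩ => umax_three hS e) fun ⟨_, _, ⟨e⟩⟩ => umax_sl hS e
  obtain ⟨⟨⟨X, a, b, c⟩, -⟩, -⟩ := huniq.ge (Set.mem_singleton _)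
  refine Hy.sec ⟨lc, hT, h1, h2, fun Y y0 y1 y2 => ?_, c ▸ lc X b a, fun S s1 s2 s3 =>
    (hsyl S s1 s2 (s3.trans inf_le_left) fun s hs k hk => comm_swap.1 ((s3 hs).2.2 k hk)).le, out⟩
  obtain ⟨M, m1, m2⟩ := exists_max_local ⟨Y, y1, y0, rfl⟩
  exact m2.trans (Set.mem_singleton_iff.1 (huniq.le ⟨m1, y2.trans m2⟩)).le

end Cfsg.Agent.S3090
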