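import Cfsg.Statements.S3139
import Cfsg.Agent.L33.Core
import Cfsg.Agent.L33.FrA
import Cfsg.Agent.L33.FrC
import Cfsg.Agent.L33.FrD
import Cfsg.Agent.GT.FStar

set_option autoImplicit false
open Cfsg

namespace Cfsg.Agent.S3139

open Cfsg.Agent.L33 Subgroup

theorem aux {G : Type*} [Group G] [Finite G] {X : Subgroup G} (hX : ∀ N : Subgroup G, N.Normal → N ≠ ⊥ → X ≤ N)
    (hc : ¬ IsMulCommutative X) (h2 : 2 ∣ Nat.card X) {t : G} {L : Subgroup G} {π : L →* L3} (h : Hyp t L π) : Bd G := by
  obtain ⟨κ, q, a, d, f, σ, ρ, K, h1⟩ := h.pre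
  refine (h1.cfg ?_ ?_).bd
  · by_contra e
    exact (Nat.not_even_iff_odd.2 (Cfsg.Agent.GT.odd_card_oddCore (G := G)))
      (even_iff_two_dvd.2 (h2.trans (card_dvd_of_le (hX _ inferInstance e))))
  · by_contra e
    exact hc ⟨⟨fun x y => Subtype.ext (mem_center_iff.1 (hX _ inferInstance e y.2) x)⟩⟩

/-- Let G be a finite group whose generalized Fitting subgroup F*(G) is a non-abelian simple group, and let t be an involution of G with centralizer H. Suppose H has a 2-component L such that L modulo its largest normal odd-order subgroup O(L) is isomorphic to the projective special linear group of dimension 3 over the field with 3 elements, and such that every 2-subgroup of H whose elements act trivially on L/O(L) by conjugation is cyclic (the centralizer of L/O(L) in H has cyclic Sylow 2-subgroups). Then the 2-part of the order of F*(G) is at most 2¹⁰. -/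
theorem result {G : Type*} [Group G] [Finite G]
    (hF : IsSimpleGroup ↥(Cfsg.generalizedFittingSubgroup G)) (hF' : ¬ IsMulCommutative ↥(Cfsg.generalizedFittingSubgroup G))
    (t : G) (ht : orderOf t = 2) (L : Subgroup ↥(Subgroup.centralizer ({t} : Set G))) (hL : Cfsg.IsPComponent 2 L)
    {F : Type*} [Field F] [Fintype F] (hF3 : Fintype.card F = 3)
    (hLX : Nonempty ((↥L ⧸ Cfsg.oddCore ↥L) ≃* Matrix.ProjectiveSpecialLinearGroup (Fin 3) F))
    (hc : ∀ P : Subgroup ↥(Subgroup.centralizer ({t} : Set G)), IsPGroup 2 ↥P →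
      (∀ g ∈ P, ∀ l ∈ L, ∃ o ∈ Cfsg.oddCore ↥L, g * (l : ↥(Subgroup.centralizer ({t} : Set G))) * g⁻¹ = l * o) → IsCyclic ↥P) :
    ¬ 2 ^ 11 ∣ Nat.card ↥(Cfsg.generalizedFittingSubgroup G) := by
  intro h11
  obtain ⟨M, π, h⟩ := hyp_of_comp t ht L hL hF3 hLX hc
  have := Cfsg.Agent.GT.genFitting_normal (G := G)
  have h2 : 2 ∣ Nat.card (generalizedFittingSubgroup G) := (dvd_pow_self 2 (by norm_num)).trans h11
  by_cases hX : t ∈ generalizedFittingSubgroup G
  · obtain ⟨M', π', h'⟩ := h.restrict _ hF' hX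
    refine (aux (X := ⊤) (fun N hN e => (hN.eq_bot_or_eq_top.resolve_left e).ge)
      (fun e => hF' ⟨⟨fun x y => congrArg Subtype.val (e.1.1 ⟨x, trivial⟩ ⟨y, trivial⟩)⟩⟩) (by simpa using h2) h').2
      (fun H e => ?_) h11
    rcases (normal_of_index_eq_two e).eq_bot_or_eq_top with rfl | rfl
    · rw [← index_bot, e] at h11; omega
    · simp at e
  · refine (aux (fun N hN e => ?_) hF' h2 h).1 ?_
    · refine subgroupOf_eq_top.1 ((hN.subgroupOf _).eq_bot_or_eq_top.resolve_left fun e' => ?_)
      exact Cfsg.Agent.GT.inf_genFitting_ne_bot hN.isSubnormal e (by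
        rw [inf_comm, ← disjoint_iff]; exact subgroupOf_eq_bot.1 e')
    · rw [← (generalizedFittingSubgroup G).card_mul_index, pow_succ]
      refine mul_dvd_mul h11 ?_
      have h3 : orderOf (t : G ⧸ generalizedFittingSubgroup G) = 2 := orderOf_eq_prime (by
        rw [← QuotientGroup.mk_pow, ← ht, pow_orderOf_eq_one]; rfl) (by rwa [Ne, QuotientGroup.eq_one_iff])
      exact h3 ▸ orderOf_dvd_natCard _

end Cfsg.Agent.S3139
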