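import Mathlib
import Cfsg.Statements.S3150
import Cfsg.Agent.Std.Co0Std
import Cfsg.Agent.S2069

set_option autoImplicit false
open Cfsg

namespace Cfsg.Agent.S3150

open scoped commutatorElement in
open Cfsg.Agent.Spor.Leech in
/-- Every automorphism of `Co0` is inner. -/
theorem inner (φ : Co0 ≃* Co0) : ∃ a, ∀ b, φ b = a * b * a⁻¹ := by
  have hc : (Subgroup.center Co0).map (φ : Co0 →* Co0) = Subgroup.center Co0 :=
    Subgroup.characteristic_iff_map_eq.1 inferInstance φ
  have h1 : Subsingleton (Out Spor.Co1) := (Nat.card_eq_one_iff_unique.1 S2069.result).1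
  obtain ⟨x, hx⟩ : (QuotientGroup.congr _ _ φ hc : MulAut Spor.Co1) ∈ Inn Spor.Co1 :=
    (QuotientGroup.eq_one_iff _).1 (Subsingleton.elim _ _)
  obtain ⟨a, rfl⟩ := QuotientGroup.mk_surjective x
  have h2 : ∀ b, (φ b)⁻¹ * (a * b * a⁻¹) ∈ Subgroup.center Co0 := fun b =>
    QuotientGroup.eq.1 (DFunLike.congr_fun hx (b : Spor.Co1)).symm
  refine ⟨a, fun b => ?_⟩
  have hb : b ∈ commutator Co0 := commutator_Co0 ▸ Subgroup.mem_top b
  rw [commutator_eq_closure] at hb
  induction hb using Subgroup.closure_induction with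
  | mem _ h =>
    obtain ⟨p, q, rfl⟩ := h
    have e : ∀ b, a * b * a⁻¹ = φ b * ((φ b)⁻¹ * (a * b * a⁻¹)) := fun b => by group
    have e2 : a * ⁅p, q⁆ * a⁻¹ = ⁅a * p * a⁻¹, a * q * a⁻¹⁆ := by
      simp only [commutatorElement_def]; group
    rw [e2, e p, e q, map_commutatorElement]
    have c1 := Subgroup.mem_center_iff.1 (h2 p)
    have c2 := Subgroup.mem_center_iff.1 (h2 q)
    generalize (φ p)⁻¹ * (a * p * a⁻¹) = u at c1
    generalize (φ q)⁻¹ * (a * q * a⁻¹) = v at c2
    simp only [commutatorElement_def, mul_inv_rev]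
    calc _ = φ p * φ q * (u * v * u⁻¹ * (φ p)⁻¹ * v⁻¹) * (φ q)⁻¹ := by
          rw [c2 u, mul_inv_cancel_right, ← c2, mul_inv_cancel_right]
      _ = _ := by rw [mul_assoc (φ p) u, ← mul_assoc u, ← c1 (φ q)]; group
  | one => simp
  | mul x y _ _ a b => rw [map_mul, a, b, conj_mul]
  | inv x _ a => rw [map_inv, a, conj_inv]

/-- Let G be a finite group with no nontrivial normal subgroup of odd order and A a standard subgroup of G isomorphic to the automorphism group of the Leech lattice (the double cover of the first Conway group). If the centralizer of A in G has cyclic Sylow 2-subgroups, then A is normal in G. -/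
theorem result {G : Type*} [Group G] [Finite G] (hO : Cfsg.oddCore G = ⊥) (A : Subgroup G) (hA : Cfsg.IsStandardSubgroup A)
    (hAX : Nonempty (↥A ≃* ↥Cfsg.Co0)) (hR : ∀ R : Sylow 2 ↥(Subgroup.centralizer (A : Set G)), IsCyclic ↥(R : Subgroup ↥(Subgroup.centralizer (A : Set G)))) : A.Normal := by
  obtain ⟨e⟩ := hAX
  have h : (A.subtype.comp e.symm.toMonoidHom).range = A := by
    rw [MonoidHom.range_comp, MonoidHom.range_eq_top.2 e.symm.surjective, ← MonoidHom.range_eq_map,
      Subgroup.range_subtype]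
  rw [← h] at hA hR ⊢
  exact Std.normal_of_Co0 inner hO (A.subtype_injective.comp e.symm.injective) hA hR

end Cfsg.Agent.S3150
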