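import Mathlib
import Cfsg.Statements.S3189
import Cfsg.Agent.Inv.CoreSig
import Cfsg.Agent.Inv.CoreKill0
import Cfsg.Agent.Inv.BenderOrd
import Cfsg.Agent.Inv.BrauerFowler
import Cfsg.Agent.Inv.SylowTools

set_option autoImplicit false
open Cfsg

namespace Cfsg.Agent.S3189

open Subgroup Cfsg.Agent.GT Cfsg.Agent.Inv Cfsg.Agent.Inv.CS

/-- A simple group with abelian Sylow 2-subgroups of rank at least 3 and 2-constrained involution
centralizers has a strongly embedded subgroup. -/
theorem exists_stronglyEmbedded {G : Type*} [Group G] [Finite G]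
    [IsSimpleGroup G] (hG : ¬ IsMulCommutative G) (S : Sylow 2 G)
    (hS : IsMulCommutative (S : Subgroup G)) (h3 : ¬ PRankLE 2 2 G)
    (hc : ∀ t : G, orderOf t = 2 → IsPConstrained 2 (centralizer ({t} : Set G))) :
    ∃ H : Subgroup G, IsStronglyEmbedded H := by
  have h3S : ¬ PRankLE 2 2 (S : Subgroup G) := by rwa [PG.pRankLE_sylow_iff]
  have hconn : IsFourConnected (S : Subgroup G) := fun U V hU hV =>
    Relation.ReflTransGen.single ⟨hU, hV, fun a _ b _ => mul_comm' a b⟩
  have h1S : ¬ PRankLE 2 1 (S : Subgroup G) := fun h => h3S (h.mono two_pos one_le_two)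
  obtain ⟨V, hVS, hV⟩ := exists_four_of_not_rank_one h1S
  have hb := isBalanced_of_constrained hc
  have heven : 2 ∣ Nat.card (S : Subgroup G) :=
    (show 2 ∣ Nat.card V by rw [hV.2]; norm_num).trans (card_dvd_of_le hVS)
  rcases CS0.normalizer_W_eq_top_or hc hconn h3 hV with h | h
  swap
  · exact ⟨_, h⟩
  have hW : W V = ⊥ := by
    rcases (normalizer_eq_top_iff.1 h).eq_bot_or_eq_top with e | e
    · exact e
    · have h1 := odd_W hb hconn h3 hV
      rw [e, card_top] at h1
      exact absurd (heven.trans (card_subgroup_dvd_card _)) h1.not_two_dvd_nat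
  have key : ∀ t ∈ (S : Subgroup G), orderOf t = 2 →
      centralizer {t} ≤ normalizer ((S : Subgroup G) : Set G) := by
    intro t htS ht
    have h1 := core_le_W hb hconn S.2 hV hVS htS ht
    rw [hW, le_bot_iff] at h1
    have h2 := charP_iff_pCoreOf.1 ((hc t ht).charP (pPrimeCoreOf_eq_bot_iff.1 h1))
    have hSC : (S : Subgroup G) ≤ centralizer {t} := fun s hs =>
      mem_centralizer_singleton_iff.2 (congrArg Subtype.val (mul_comm' (⟨s, hs⟩ : (S : Subgroup G)) ⟨t, htS⟩))
    have h4 : pCoreOf 2 (centralizer ({t} : Set G)) ≤ S := by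
      rintro _ ⟨x, hx, rfl⟩
      exact pCore_le_sylow (S.subtype hSC) hx
    have h5 : (S : Subgroup G) ≤ pCoreOf 2 (centralizer ({t} : Set G)) :=
      (le_inf hSC ((PG.isMulCommutative_iff_le_centralizer.1 hS).trans
        (centralizer_le (SetLike.coe_subset_coe.2 h4)))).trans h2
    rw [le_antisymm h5 h4]
    exact le_normalizer_pCoreOf _
  have hmem : ∀ t ∈ normalizer ((S : Subgroup G) : Set G), orderOf t = 2 → t ∈ (S : Subgroup G) := by
    intro t htN ht
    have h1 : IsPGroup 2 ((S : Subgroup G) ⊔ zpowers t : Subgroup G) :=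
      IsPGroup.to_sup_of_normal_left' S.2 (IsPGroup.of_card (n := 1) (by simp [ht]))
        (zpowers_le.2 htN)
    rw [← S.is_maximal' h1 le_sup_left]
    exact mem_sup_right (mem_zpowers t)
  refine ⟨normalizer ((S : Subgroup G) : Set G), isStronglyEmbedded_iff.2 ⟨fun e => ?_,
    even_iff_two_dvd.2 (heven.trans (card_dvd_of_le le_normalizer)), fun t htN ht g hg => ?_⟩⟩
  · rcases (normalizer_eq_top_iff.1 e).eq_bot_or_eq_top with e | e
    · rw [e] at heven; simp at heven
    · rw [e] at hS
      exact hG ⟨⟨fun a b => congrArg Subtype.val (mul_comm' (⟨a, trivial⟩ : (⊤ : Subgroup G)) ⟨b, trivial⟩)⟩⟩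
  · have ht' : orderOf (g * t * g⁻¹) = 2 := by rw [orderOf_conj', ht]
    have h1 := key _ (hmem _ hg ht') ht'
    obtain ⟨n, hn, h2⟩ := ST.exists_mul_mem_normalizer_sylow S (N := centralizer {g * t * g⁻¹}) g
      (fun s hs => mem_centralizer_singleton_iff.2 (congrArg Subtype.val
        (mul_comm' (⟨s, hs⟩ : (S : Subgroup G)) ⟨_, hmem _ hg ht'⟩)))
      (fun s hs => mem_centralizer_singleton_iff.2 (by
        have := congrArg Subtype.val (mul_comm' (⟨s, hs⟩ : (S : Subgroup G)) ⟨t, hmem t htN ht⟩)
        simp only [coe_mul] at this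
        calc g * s * g⁻¹ * (g * t * g⁻¹) = g * (s * t) * g⁻¹ := by group
          _ = g * t * g⁻¹ * (g * s * g⁻¹) := by rw [this]; group))
    simpa using mul_mem (inv_mem (h1 hn)) h2

/-- Let G be a non-abelian finite simple group whose Sylow 2-subgroup S is elementary abelian of order 8, and suppose the centralizer of every involution of G is solvable. Then the normalizer of S modulo the centralizer of S has order 7. -/
theorem result {G : Type*} [Group G] [Finite G]
    [IsSimpleGroup G] (hG : ¬ IsMulCommutative G) (S : Sylow 2 G)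
    (hS : Cfsg.IsElementaryAbelian 2 (S : Subgroup G)) (hS8 : Nat.card ↥(S : Subgroup G) = 8)
    (hC : ∀ t : G, orderOf t = 2 → Group.IsSolvable ↥(Subgroup.centralizer ({t} : Set G))) :
    (Subgroup.centralizer ((S : Subgroup G) : Set G)).relIndex (Subgroup.normalizer ((S : Subgroup G) : Set G)) = 7 := by
  have h3 : ¬ PRankLE 2 2 G := PG.not_pRankLE_iff.2 ⟨S, hS, hS8⟩
  obtain ⟨H, hH⟩ := exists_stronglyEmbedded hG S hS.1 h3
    fun t ht => isPConstrained_of_isSolvable (hC t ht)
  have h8 : ∀ k, 2 ^ k = 8 → k = 3 := fun k hk => Nat.pow_right_injective le_rfl (hk.trans rfl)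
  have h504 : Nat.card G = 504 := by
    rcases BO.bender_cases hG hH S with ⟨F, _, _, n, -, -, -, h1, h2⟩ | ⟨m, hm, -, h2⟩ |
      ⟨F, _, _, n, hn, -, -, h2⟩
    · obtain rfl := h8 n (h2.symm.trans hS8)
      exact h1
    · have := h8 _ (h2.symm.trans hS8)
      omega
    · have := h8 _ (h2.symm.trans hS8)
      omega
  set N := normalizer ((S : Subgroup G) : Set G) with hN
  set C := centralizer ((S : Subgroup G) : Set G) with hCdef
  have hSC : (S : Subgroup G) ≤ C := hS.le_centralizer
  have hCN : C ≤ N := centralizer_le_normalizer _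
  -- `N` is transitive on the seven involutions of `S`
  have h7 : 7 ∣ C.relIndex N := by
    obtain ⟨t, htS, ht1, ht2⟩ := PG.exists_mem_ne_one_pow_eq_one S.2 (by
      intro e; rw [e] at hS8; simp at hS8)
    have ht : orderOf t = 2 := orderOf_eq_prime ht2 ht1
    let f : N →* MulAut G := (MulAut.conj : G →* MulAut G).comp N.subtype
    let _ : MulAction N G := MulAction.compHom G f
    have horb : MulAction.orbit N t = ((S : Subgroup G) : Set G) \ {1} := by
      ext x
      constructor
      · rintro ⟨n, rfl⟩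
        refine ⟨(mem_normalizer_iff.1 n.2 t).1 htS, fun e => ht1 ?_⟩
        have : (n : G) * t * (n : G)⁻¹ = 1 := e
        simpa using this
      · rintro ⟨hx, hx1⟩
        obtain ⟨g, rfl⟩ := isConj_iff.1 (hH.isConj_of_involutions ht (hS.orderOf_eq hx hx1))
        obtain ⟨n, hn, e⟩ := ST.exists_mul_mem_normalizer_sylow S
          (N := centralizer {g * t * g⁻¹}) g
          (fun s hs => mem_centralizer_singleton_iff.2 (hS.comm hs hx))
          (fun s hs => mem_centralizer_singleton_iff.2 (by
            calc g * s * g⁻¹ * (g * t * g⁻¹) = g * (s * t) * g⁻¹ := by group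
              _ = g * t * g⁻¹ * (g * s * g⁻¹) := by rw [hS.comm hs htS]; group))
        refine ⟨⟨n * g, e⟩, ?_⟩
        change n * g * t * (n * g)⁻¹ = _
        calc n * g * t * (n * g)⁻¹ = n * (g * t * g⁻¹) * n⁻¹ := by group
          _ = _ := by rw [mem_centralizer_singleton_iff.1 hn]; group
    have hidx := MulAction.index_stabilizer N t
    rw [horb, Set.ncard_sdiff_singleton_of_mem (S : Subgroup G).one_mem] at hidx
    have : ((S : Subgroup G) : Set G).ncard = 8 := hS8
    rw [this] at hidx
    refine (hidx ▸ index_dvd_of_le (H := C.subgroupOf N) fun c hc => ?_ :)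
    have : t * (c : G) = c * t := mem_centralizer_iff.1 hc t htS
    change (c : G) * t * (c : G)⁻¹ = t
    rw [← this, mul_inv_cancel_right]
  have hNtop : N ≠ ⊤ := fun e => by
    rcases (normalizer_eq_top_iff.1 e).eq_bot_or_eq_top with e | e
    · rw [e] at hS8; simp at hS8
    · rw [e, card_top, h504] at hS8; omega
  have hf := card_dvd_factorial_index hNtop
  have h1 : C.relIndex N * N.index = C.index := relIndex_mul_index hCN
  have h2 : C.index ∣ 63 := by
    have := (S : Subgroup G).card_mul_index
    rw [hS8, h504] at this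
    exact (show (S : Subgroup G).index = 63 by omega) ▸ index_dvd_of_le hSC
  obtain ⟨k, hk⟩ := h7
  rw [← h1, hk, mul_assoc] at h2
  have h4 : k * N.index ∣ 9 := Nat.dvd_of_mul_dvd_mul_left (by norm_num : 0 < 7) h2
  have h5 : N.index ≤ 9 := Nat.le_of_dvd (by norm_num) ((Dvd.intro_left _ rfl).trans h4)
  have h6 : N.index = 9 := by
    have h9 : N.index ∣ 9 := (Dvd.intro_left _ rfl).trans h4
    rw [h504] at hf
    generalize N.index = i at hf h5 h9
    clear_value N C
    interval_cases i <;> first | rfl | (revert h9; decide) | (revert hf; decide)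
  rw [h6] at h4
  have : k = 1 := Nat.dvd_one.1 (Nat.dvd_of_mul_dvd_mul_right (by norm_num : 0 < 9) h4)
  rw [hk, this]

end Cfsg.Agent.S3189
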