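import Mathlib
import Cfsg.Statements.S3191
import Cfsg.Agent.Kon.Main

set_option autoImplicit false
open Cfsg

namespace Cfsg.Agent.S3191

open Equiv Kon in
theorem isInvA_of {α : Type*} [Fintype α] [DecidableEq α] {x : alternatingGroup α}
    (hx : orderOf x = 2) : IsInvA (x : Perm α) := by
  refine ⟨x.2, ?_, fun h => ?_⟩
  · have := pow_orderOf_eq_one x
    rw [hx, sq] at this
    exact congrArg Subtype.val this
  · rw [show x = 1 from Subtype.ext h, orderOf_one] at hx
    omega

open Equiv Kon in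
theorem isConj_iff_card {α : Type*} [Fintype α] [DecidableEq α] {N : ℕ}
    (hc : Fintype.card α = 4 * N + 2 ∨ Fintype.card α = 4 * N + 3) {x y : alternatingGroup α}
    (hx : orderOf x = 2) (hy : orderOf y = 2) :
    IsConj x y ↔ (x : Perm α).support.card = (y : Perm α).support.card := by
  constructor
  · intro h
    obtain ⟨g, rfl⟩ := isConj_iff.1 h
    exact (Perm.card_support_conj (σ := (g : Perm α)) (τ := (x : Perm α))).symm
  · intro h
    have hx' : orderOf (x : Perm α) = 2 := by rw [Subgroup.orderOf_coe, hx]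
    have hy' : orderOf (y : Perm α) = 2 := by rw [Subgroup.orderOf_coe, hy]
    obtain ⟨a, ha⟩ := Perm.cycleType_prime_order (σ := (x : Perm α)) (by rw [hx']; norm_num)
    obtain ⟨b, hb⟩ := Perm.cycleType_prime_order (σ := (y : Perm α)) (by rw [hy']; norm_num)
    rw [← Perm.sum_cycleType, ← Perm.sum_cycleType, ha, hb, hx', hy'] at h
    simp only [Multiset.sum_replicate, smul_eq_mul] at h
    have hab : a = b := by omega
    obtain ⟨g, hg⟩ := isConj_iff.1 (Perm.isConj_iff_cycleType_eq.2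
      (show (x : Perm α).cycleType = (y : Perm α).cycleType by rw [ha, hb, hx', hy', hab]))
    rcases Int.units_eq_one_or (Perm.sign g) with h1 | h1
    · exact isConj_iff.2 ⟨⟨g, h1⟩, Subtype.ext hg⟩
    · obtain ⟨B, S, hB⟩ := exists_lab hc (isInvA_of hx)
      have h0 := hB.off _ fun i _ k => (B.pq i k 0).symm
      have h2 := hB.off _ fun i _ k => (B.pq i k 1).symm
      have hq : B.q 0 ≠ B.q 1 := B.qinj.ne zero_ne_one
      have h3 : (x : Perm α) * swap (B.q 0) (B.q 1) * (x : Perm α)⁻¹ = swap (B.q 0) (B.q 1) := by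
        rw [← swap_apply_apply, h0, h2]
      refine isConj_iff.2 ⟨⟨g * swap (B.q 0) (B.q 1), by
        simp [Perm.mem_alternatingGroup, h1, hq]⟩, Subtype.ext ?_⟩
      have h4 : swap (B.q 0) (B.q 1) * (x : Perm α) = x * swap (B.q 0) (B.q 1) :=
        (mul_inv_eq_iff_eq_mul.1 h3).symm
      change g * swap (B.q 0) (B.q 1) * x * (g * swap (B.q 0) (B.q 1))⁻¹ = y
      rw [← hg, mul_assoc g, h4]; group

open Equiv Kon in
theorem exists_card {α : Type*} [Fintype α] [DecidableEq α] {j : ℕ} (hj : 1 ≤ j)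
    (hc : 4 * j ≤ Fintype.card α) :
    ∃ x : alternatingGroup α, orderOf x = 2 ∧ (x : Perm α).support.card = 4 * j := by
  obtain ⟨g, hg⟩ := (Perm.exists_with_cycleType_iff α (m := Multiset.replicate (2 * j) 2)).2
    ⟨by simp; omega, fun a ha => (Multiset.eq_of_mem_replicate ha).ge⟩
  refine ⟨⟨g, ?_⟩, ?_, ?_⟩
  · rw [Perm.mem_alternatingGroup, Perm.sign_of_cycleType, hg]
    simp only [Multiset.sum_replicate, Multiset.card_replicate, smul_eq_mul]
    exact Even.neg_one_pow ⟨3 * j, by ring⟩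
  · rw [← Subgroup.orderOf_coe, ← Perm.lcm_cycleType, hg]
    obtain ⟨k, hk⟩ : ∃ k, 2 * j = k + 1 := ⟨2 * j - 1, by omega⟩
    rw [hk]
    clear hk hg
    induction k with
    | zero => simp
    | succ k ih => rw [Multiset.replicate_succ, Multiset.lcm_cons, ih]; rfl
  · rw [← Perm.sum_cycleType, hg]; simp; ring

theorem card_of_weight {G : Type*} [Group G] (n : ℕ) (w : G → ℕ)
    (h1 : ∀ x y, orderOf x = 2 → orderOf y = 2 → (IsConj x y ↔ w x = w y))
    (h2 : ∀ x, orderOf x = 2 → 1 ≤ w x ∧ w x ≤ n)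
    (h3 : ∀ j, 1 ≤ j → j ≤ n → ∃ x, orderOf x = 2 ∧ w x = j) :
    Nat.card {c : ConjClasses G // ∃ x ∈ c.carrier, orderOf x = 2} = n := by
  choose f hf1 hf2 using h3
  let φ : Fin n → {c : ConjClasses G // ∃ x ∈ c.carrier, orderOf x = 2} := fun j =>
    ⟨ConjClasses.mk (f (j + 1) (by omega) j.2), _, ConjClasses.mem_carrier_mk, hf1 _ _ _⟩
  rw [← Nat.card_congr (Equiv.ofBijective φ ⟨fun i j h => ?_, fun ⟨c, x, hx, ho⟩ => ?_⟩)]
  · simp
  · have := (h1 _ _ (hf1 _ _ _) (hf1 _ _ _)).1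
      (ConjClasses.mk_eq_mk_iff_isConj.1 (congrArg Subtype.val h))
    rw [hf2, hf2] at this
    exact Fin.ext (by omega)
  · obtain ⟨ha, hb⟩ := h2 x ho
    refine ⟨⟨w x - 1, by omega⟩, Subtype.ext ?_⟩
    change ConjClasses.mk _ = c
    rw [← ConjClasses.mem_carrier_iff_mk_eq.1 hx]
    refine ConjClasses.mk_eq_mk_iff_isConj.2 ((h1 _ _ (hf1 _ _ _) ho).2 ?_)
    rw [hf2]; simp only; omega

/-- Let n ≥ 1 and r = 2 or 3, and let H be the centralizer in the alternating group of degree 4n + r of an involution moving exactly 4n points (a product of 2n disjoint transpositions). Let G be a finite group that has no normal subgroup of index 2 and that contains an involution t which is central in some Sylow 2-subgroup of G and whose centralizer is isomorphic to H. Then G has exactly n conjugacy classes of involutions. -/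
theorem result (n r : ℕ) (hn : 1 ≤ n) (hr : r = 2 ∨ r = 3)
    (α : ↥(alternatingGroup (Fin (4 * n + r)))) (hα : orderOf α = 2)
    (hα4 : (α : Equiv.Perm (Fin (4 * n + r))).support.card = 4 * n)
    {G : Type*} [Group G] [Finite G] (h2 : ∀ H : Subgroup G, H.Normal → H.index ≠ 2)
    (t : G) (ht : orderOf t = 2) (S : Sylow 2 G) (htS : t ∈ (S : Subgroup G))
    (htZ : ∀ s ∈ (S : Subgroup G), s * t = t * s)
    (hiso : Nonempty (↥(Subgroup.centralizer ({t} : Set G)) ≃*
      ↥(Subgroup.centralizer ({α} : Set ↥(alternatingGroup (Fin (4 * n + r))))))) :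
    Nat.card {c : ConjClasses G // ∃ x ∈ c.carrier, orderOf x = 2} = n := by
  obtain ⟨e⟩ := hiso
  have hc : Fintype.card (Fin (4 * n + r)) = 4 * n + 2 ∨
      Fintype.card (Fin (4 * n + r)) = 4 * n + 3 := by rw [Fintype.card_fin]; omega
  have hG : Kon.NoIdx2 G := fun H hH => h2 H (Subgroup.normal_of_index_eq_two hH) hH
  obtain ⟨hI, ⟨E⟩⟩ := Kon.emb_of_equiv hc hα ht e
  by_cases h6 : 4 * n + r = 6
  · have hn1 : n = 1 := by omega
    refine card_of_weight n (fun _ => 1) (fun x y hx hy => ⟨fun _ => rfl, fun _ => ?_⟩)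
      (fun _ _ => ⟨le_rfl, hn⟩) fun j _ _ => ⟨t, ht, by omega⟩
    have k := fun {x : G} (hx : orderOf x = 2) =>
      Kon.base6_conj (by rw [Fintype.card_fin, h6]) hI E hG hx
    exact (k hx).trans (k hy).symm
  obtain ⟨φ⟩ := Kon.main n G (Fin (4 * n + r)) hc (by rw [Fintype.card_fin]; omega) _ t hI E hG
  have hw : ∀ x, orderOf x = 2 → ∃ k, 1 ≤ k ∧ k ≤ n ∧
      (φ x : Equiv.Perm (Fin (4 * n + r))).support.card = 4 * k := by
    intro x hx
    obtain ⟨B, s, hB⟩ := Kon.exists_lab hc (isInvA_of (x := φ x) (by rw [φ.orderOf_eq, hx]))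
    exact ⟨s.card, Finset.card_pos.2 hB.ne, by simpa using s.card_le_univ, hB.card_support⟩
  refine card_of_weight n (fun x => (φ x : Equiv.Perm (Fin (4 * n + r))).support.card / 4)
    (fun x y hx hy => ?_) (fun x hx => ?_) fun j h1 h2 => ?_
  · obtain ⟨k, -, -, hk⟩ := hw x hx
    obtain ⟨l, -, -, hl⟩ := hw y hy
    have := isConj_iff_card hc (x := φ x) (y := φ y) (by rw [φ.orderOf_eq, hx])
      (by rw [φ.orderOf_eq, hy])
    have h0 : IsConj x y ↔ IsConj (φ x) (φ y) :=
      ⟨fun h => φ.toMonoidHom.map_isConj h, fun h => by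
        simpa using φ.symm.toMonoidHom.map_isConj h⟩
    rw [h0, this, hk, hl]; omega
  · obtain ⟨k, h1, h2, hk⟩ := hw x hx
    simp only [hk]; omega
  · obtain ⟨x, hx, hs⟩ := exists_card (α := Fin (4 * n + r)) h1 (by rw [Fintype.card_fin]; omega)
    refine ⟨φ.symm x, by rw [φ.symm.orderOf_eq, hx], ?_⟩
    simp only [φ.apply_symm_apply, hs]; omega

end Cfsg.Agent.S3191
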