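import Mathlib
import Cfsg.Statements.S3192
import Cfsg.Agent.FG.ConjTypeC
import Cfsg.Agent.S2507
-- import your own Cfsg.Agent.* helpers here

set_option autoImplicit false
open Cfsg

namespace Cfsg.Agent.S3192

open Cfsg.Agent.FG.CI

/-- Simple groups of conjugate type rank three. For a finite group G consider the set of indices of the centralizers of the non-central elements of G. Then G is a non-abelian simple group for which this set has exactly three members if and only if G is isomorphic to PSL(2, 2^m) for some m ≥ 2. -/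
theorem result (G : Type*) [Group G] [Finite G] :
    (IsSimpleGroup G ∧ ¬ IsMulCommutative G ∧
        Set.ncard {m : ℕ | ∃ x : G, x ∉ Subgroup.center G ∧ m = (Subgroup.centralizer ({x} : Set G)).index} = 3) ↔
      ∃ (m : ℕ) (F : Type) (_ : Field F) (_ : Fintype F), 2 ≤ m ∧ Fintype.card F = 2 ^ m ∧
        Nonempty (G ≃* Matrix.ProjectiveSpecialLinearGroup (Fin 2) F) := by
  have h0 : {m : ℕ | ∃ x : G, x ∉ Subgroup.center G ∧ m = cidx x} =
      {n : ℕ | 1 < n ∧ ∃ x : G, cidx x = n} := by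
    ext n
    constructor
    · rintro ⟨x, hx, rfl⟩
      exact ⟨one_lt_cidx_iff.2 hx, x, rfl⟩
    · rintro ⟨hx, x, rfl⟩
      exact ⟨x, one_lt_cidx_iff.1 hx, rfl⟩
  constructor
  · rintro ⟨_, h1, h2⟩
    obtain ⟨F, _, _, n, h3, h4, e⟩ := FG.CT.exists_equiv_of_three
      (CIT.CA.center_eq_bot_of_simple h1) (CIT.CA.not_isSolvable_of_simple h1) (h0 ▸ h2.le)
    exact ⟨n, F, inferInstance, inferInstance, h3, h4, e⟩
  · rintro ⟨m, F, _, _, h1, h2, ⟨e⟩⟩
    have h4 : 4 ≤ Fintype.card F := h2 ▸ Nat.pow_le_pow_right two_pos h1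
    have h5 := S2507.result (F := F) (h2 ▸ dvd_pow_self 2 (by omega)) h4
    have := Cl.L2.isSimpleGroup_PSL (F := F) (by rwa [Nat.card_eq_fintype_card])
    obtain ⟨q, hq⟩ : ∃ q, Fintype.card F = q + 1 := ⟨_, (Nat.succ_pred_eq_of_pos (by omega)).symm⟩
    have h6 : Fintype.card F ^ 2 - 1 = q * (q + 2) := by
      rw [hq]
      exact Nat.sub_eq_of_eq_add (by ring)
    rw [h6, hq, Nat.add_sub_cancel] at h5
    have hq3 : 3 ≤ q := by omega
    have h7 : {n : ℕ | 1 < n ∧ ∃ x : G, cidx x = n} =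
        {(q + 1) * q, q * (q + 2), (q + 1) * (q + 1 + 1)} := by
      ext n
      constructor
      · rintro ⟨hx, x, rfl⟩
        have h8 := h5.le ⟨e x, rfl⟩
        rw [← cidx_mulEquiv e x] at hx ⊢
        exact h8.resolve_left hx.ne'
      · intro hn
        obtain ⟨y, hy⟩ := h5.ge (Or.inr hn)
        refine ⟨?_, e.symm y, (cidx_mulEquiv e.symm y).trans hy⟩
        rcases hn with rfl | rfl | rfl <;> nlinarith
    have h8 : {n : ℕ | 1 < n ∧ ∃ x : G, cidx x = n}.ncard = 3 := by
      rw [h7]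
      exact Set.ncard_eq_three.2 ⟨_, _, _, by nlinarith, by nlinarith, by nlinarith, rfl⟩
    refine ⟨e.isSimpleGroup, fun hc => ?_, h0 ▸ h8⟩
    obtain ⟨hx, x, hx'⟩ := h7.ge (Or.inl rfl)
    exact one_lt_cidx_iff.1 (hx' ▸ hx) (Subgroup.mem_center_iff.2 fun g => hc.is_comm.comm g x)

end Cfsg.Agent.S3192
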