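import Mathlib
import Cfsg.Statements.S3219
import Cfsg.Agent.Perm.KAAlt
import Cfsg.Agent.GT.PPrimeCore
-- import your own Cfsg.Agent.* helpers here

set_option autoImplicit false
open Cfsg

namespace Cfsg.Agent.S3219

open Subgroup MulAction Cfsg.Agent.Perm Cfsg.Agent.Perm.KA

/-- Let G be a finite doubly transitive permutation group on a set Ω in which the stabilizer of two points is isomorphic to the alternating group A₄. Then Ω has 6 points and G ≅ A₆, or Ω has 15 points and G ≅ A₇, or Ω has 16 points and G is isomorphic to the group of all affine transformations of the affine plane over the field with 4 elements, or G = C_G(J)O(G) for some involution J of G, where O(G) is the largest normal subgroup of G of odd order. -/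
theorem result {G : Type*} [Group G] [Finite G] {Ω : Type*} [Fintype Ω] [MulAction G Ω] [FaithfulSMul G Ω]
    (h2 : MulAction.IsMultiplyPretransitive G Ω 2) (a b : Ω) (hab : a ≠ b)
    (e : ↥(MulAction.stabilizer G a ⊓ MulAction.stabilizer G b) ≃* ↥(alternatingGroup (Fin 4))) :
    (Fintype.card Ω = 6 ∧ Nonempty (G ≃* ↥(alternatingGroup (Fin 6)))) ∨ (Fintype.card Ω = 15 ∧ Nonempty (G ≃* ↥(alternatingGroup (Fin 7)))) ∨
      (Fintype.card Ω = 16 ∧ ∃ (F : Type) (_ : Field F) (_ : Fintype F), Fintype.card F = 4 ∧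
        Nonempty (G ≃* ((Fin 2 → F) ≃ᵃ[F] (Fin 2 → F)))) ∨
      (∃ J : G, orderOf J = 2 ∧ Subgroup.centralizer ({J} : Set G) ⊔ Cfsg.oddCore G = ⊤) := by
  classical
  obtain ⟨m, i, t, h, s | s⟩ := af4.setup h2 hab e
  · rcases Nat.even_or_odd i with hi | hi
    · obtain rfl := s.even h hi
      have h1 := s.beta h
      have h3 := h.card_G
      rcases s.sig h with rfl | ⟨rfl, -⟩
      · have h4 : Fintype.card Ω = 6 := by rw [← Nat.card_eq_fintype_card]; omega
        have h5 := (toPermHom G Ω).range.card_mul_index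
        rw [← Nat.card_congr (MonoidHom.ofInjective (f := toPermHom G Ω) toPerm_injective).toEquiv,
          h3, Nat.card_perm, Nat.card_eq_fintype_card, h4] at h5
        exact Or.inl ⟨h4, ⟨(MonoidHom.ofInjective (f := toPermHom G Ω) toPerm_injective).trans
          ((MulEquiv.subgroupCongr (Equiv.Perm.eq_alternatingGroup_of_index_eq_two (by
            simp only [Nat.factorial] at h5; omega))).trans
            (Fintype.equivFinOfCardEq h4).altCongrHom)⟩⟩
      · exact (h.no28 (fun u hu => s.one h hu) (by omega)).elim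
    · obtain ⟨h1, h3, -⟩ := s.odd_A h hi (Or.inl ⟨rfl, rfl⟩)
      exact Or.inr (Or.inl ⟨Nat.card_eq_fintype_card.symm.trans (h3 rfl), h1⟩)
  rcases Nat.even_or_odd i with hi | hi
  · obtain ⟨-, h1, rfl, rfl, h3, h4⟩ := s.even h hi (Or.inl rfl)
    exact Or.inr (Or.inr (Or.inl ⟨Nat.card_eq_fintype_card.symm.trans h1, AGL24.F4, inferInstance,
      AGL24.fintypeF4, AGL24.card_F4, s.agl h h1 h3 h4⟩))
  obtain ⟨N, hN, h1, h3⟩ := s.odd h hi (by norm_num)
  have ti := inv_eq_of_mul_eq_one_right s.sq
  refine Or.inr (Or.inr (Or.inr ⟨t, s.tt, eq_top_iff.2 fun g _ => ?_⟩))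
  obtain ⟨x, hx, h4⟩ := (BW.Inv_eq h1 s.sq fun y hy => by
    nth_rw 2 [← ti]; exact hN.conj_mem y hy t).le (show g * t * g⁻¹ ∈ _ from ⟨by
      nth_rw 2 [← ti]; simpa [mul_assoc] using inv_mem (h3 g), by rw [conj_mul, s.sq]; simp⟩)
  rw [← mul_inv_cancel_left x g]
  refine mul_mem (mem_sup_right (GT.le_oddCore h1 hx)) (mem_sup_left
    (mem_centralizer_singleton_iff.2 ?_))
  rw [mul_assoc, ← inv_mul_cancel_right (g * t) g, ← h4]
  group

end Cfsg.Agent.S3219
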