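import Mathlib
import Cfsg.Statements.S3222
import Cfsg.Agent.Inv.DihEight
import Cfsg.Agent.Inv.SymSix
import Cfsg.Agent.Inv.ZStarSimple
import Cfsg.Agent.GT.TransferCocycle
import Cfsg.Agent.Ch.Burnside

set_option autoImplicit false
open Cfsg

namespace Cfsg.Agent.S3222

open Subgroup Cfsg.Agent.Inv

private abbrev K := Multiplicative (ZMod 2) × Equiv.Perm (Fin 4)

private def t0 : K := (Multiplicative.ofAdd 1, 1)
private def z0 : K := (1, Equiv.swap 0 1 * Equiv.swap 2 3)
private def a0 : K := (1, Equiv.swap 0 1)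
private def c0 : K := (1, Equiv.swap 0 2 * Equiv.swap 2 1 * Equiv.swap 1 3)
private def d0 : K := (1, Equiv.swap 0 1 * Equiv.swap 1 2)

private theorem center_K : ∀ x : K, (∀ y, x * y = y * x) → x = 1 ∨ x = t0 := by decide +kernel

private theorem comm_T : ∀ x y : K, x * z0 = z0 * x → y * z0 = z0 * y →
    x * y * x⁻¹ * y⁻¹ = 1 ∨ x * y * x⁻¹ * y⁻¹ = z0 := by decide +kernel

private theorem card_T : Nat.card (centralizer ({z0} : Set K)) = 16 := by
  rw [Nat.card_congr (Equiv.subtypeEquivRight fun x => mem_centralizer_singleton_iff :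
    centralizer ({z0} : Set K) ≃ {x : K // x * z0 = z0 * x}), Nat.card_eq_fintype_card]
  decide +kernel

private theorem card_K : Nat.card K = 48 := by
  rw [Nat.card_eq_fintype_card]
  simp [Fintype.card_perm, Nat.factorial]

set_option synthInstance.maxSize 2000 in
private theorem invs : ∀ x : K, x * x = 1 → x = 1 ∨ x = t0 ∨ (∃ g, g * x * g⁻¹ = z0) ∨
    (∃ g, g * x * g⁻¹ = t0 * z0) ∨ (∃ g, g * x * g⁻¹ = a0) ∨ (∃ g, g * x * g⁻¹ = t0 * a0) := by
  decide +kernel

set_option synthInstance.maxSize 2000 in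
private theorem invs1 : ∀ x : K, x * x = 1 → x.1 = 1 → x = 1 ∨ (∃ g, g * x * g⁻¹ = z0) ∨
    (∃ g, g * x * g⁻¹ = a0) := by
  decide +kernel

private theorem card_cls : ∀ b : K, b = a0 ∨ b = t0 * a0 →
    (insert t0 (Finset.univ.filter fun x => ∃ g, g * b * g⁻¹ = x)).card = 7 := by
  rintro _ (rfl | rfl) <;> decide +kernel

private theorem ord_c : orderOf c0 = 4 :=
  orderOf_eq_prime_pow (p := 2) (n := 1) (by decide) (by decide)

private theorem ord_tc : orderOf (t0 * c0) = 4 :=
  orderOf_eq_prime_pow (p := 2) (n := 1) (by decide) (by decide)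

private theorem f1 : c0 * z0 = z0 * c0 := by decide
private theorem f2 : a0 * z0 = z0 * a0 := by decide
private theorem f3 : c0 * a0 * c0⁻¹ * a0⁻¹ = z0 := by decide
private theorem f4 : z0 ≠ 1 := by decide
private theorem f5 : t0 * z0 = z0 * t0 := by decide
private theorem f6 : t0.1 ≠ 1 := by decide
private theorem f7 : ∀ x : K, x = t0 ∨ x = t0 * z0 → x * x = 1 ∧ x ≠ 1 ∧ x ≠ z0 := by
  rintro _ (rfl | rfl) <;> decide
private theorem f8 : z0 = c0 * c0 := by decide
private theorem f9 : t0 ≠ t0 * z0 := by decide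
private theorem f10 : d0 * z0 * d0⁻¹ * z0 = z0 * (d0 * z0 * d0⁻¹) := by decide
private theorem f11 : d0 * z0 * d0⁻¹ ≠ z0 := by decide

/-- The configuration. -/
private structure Cf {G : Type*} [Group G] (ι : K →* G) : Prop where
  inj : Function.Injective ι
  ct : centralizer ({ι t0} : Set G) = ι.range
  cz : centralizer ({ι z0} : Set G) = (centralizer ({z0} : Set K)).map ι
  syl : ∃ S : Sylow 2 G, (S : Subgroup G) = centralizer ({ι z0} : Set G)

section

variable {G : Type*} [Group G] [Finite G] {ι : K →* G}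

omit [Finite G] in
private theorem Cf.card_ct (h : Cf ι) : Nat.card (centralizer ({ι t0} : Set G)) = 48 := by
  rw [h.ct, ← card_K]
  exact (Nat.card_congr (MonoidHom.ofInjective h.inj).toEquiv).symm

omit [Finite G] in
private theorem Cf.card_cz (h : Cf ι) : Nat.card (centralizer ({ι z0} : Set G)) = 16 := by
  rw [h.cz, card_map_of_injective h.inj, card_T]

omit [Finite G] in
private theorem Cf.comm_t (h : Cf ι) {x : G} (hx : x * ι z0 = ι z0 * x) : x * ι t0 = ι t0 * x := by
  have h1 : x ∈ centralizer ({ι z0} : Set G) := mem_centralizer_singleton_iff.2 hx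
  rw [h.cz] at h1
  rw [← mem_centralizer_singleton_iff, h.ct]
  exact map_le_range _ _ h1

private theorem Cf.not_tz (h : Cf ι) : ¬ IsConj (ι t0) (ι z0) := by
  intro hc
  have h1 : Nat.card {y : G // IsConj (ι t0) y} = Nat.card {y : G // IsConj (ι z0) y} :=
    Nat.card_congr (Equiv.subtypeEquivRight fun y => ⟨hc.symm.trans, hc.trans⟩)
  rw [card_class_eq_index, card_class_eq_index] at h1
  have h2 := (centralizer ({ι t0} : Set G)).card_mul_index
  have h3 := (centralizer ({ι z0} : Set G)).card_mul_index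
  have h4 : 0 < Nat.card G := Nat.card_pos
  rw [h.card_ct, h1] at h2
  rw [h.card_cz] at h3
  omega

/-- Conjugate central elements of the Sylow subgroup are equal. -/
private theorem Cf.eq_of_conj (h : Cf ι) {x y : K} (hx : x = t0 ∨ x = z0 ∨ x = t0 * z0)
    (hy : y = t0 ∨ y = z0 ∨ y = t0 * z0) (hc : IsConj (ι x) (ι y)) : x = y := by
  have : Fact (Nat.Prime 2) := ⟨Nat.prime_two⟩
  obtain ⟨S, hS⟩ := h.syl
  have hc0 : ∀ x : K, (x = t0 ∨ x = z0 ∨ x = t0 * z0) → ∀ s ∈ S, s * ι x = ι x * s := by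
    intro x hx s hs
    have h1 : s * ι z0 = ι z0 * s := mem_centralizer_singleton_iff.1 (hS ▸ hs)
    have h2 := h.comm_t h1
    rcases hx with rfl | rfl | rfl
    exacts [h2, h1, by rw [map_mul, ← mul_assoc, h2, mul_assoc, h1, mul_assoc]]
  obtain ⟨g, hg⟩ := isConj_iff.1 hc
  obtain ⟨n, hn, hn2⟩ := ZS.exists_mem_normalizer_conj_eq S (g := g) (hc0 x hx)
    (hg ▸ hc0 y hy)
  have hmem : ∀ u : K, u * z0 = z0 * u → ∃ u' : K, u' * z0 = z0 * u' ∧ n * ι u * n⁻¹ = ι u' := by
    intro u hu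
    have h1 : ι u ∈ (S : Subgroup G) := by
      rw [hS, mem_centralizer_singleton_iff, ← map_mul, hu, map_mul]
    have h2 := (mem_normalizer_iff.1 hn _).1 h1
    rw [hS, h.cz] at h2
    obtain ⟨u', h3, h4⟩ := h2
    exact ⟨u', mem_centralizer_singleton_iff.1 h3, h4.symm⟩
  obtain ⟨c', hc', hc2⟩ := hmem c0 f1
  obtain ⟨a', ha', ha2⟩ := hmem a0 f2
  have h1 : n * ι z0 * n⁻¹ = ι (c' * a' * c'⁻¹ * a'⁻¹) := by
    rw [← f3]
    simp only [map_mul, map_inv, ← hc2, ← ha2]
    group
  have h2 : n * ι z0 = ι z0 * n := by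
    rcases comm_T c' a' hc' ha' with h3 | h3
    · rw [h3, map_one, mul_inv_eq_one, mul_eq_left, map_eq_one_iff _ h.inj] at h1
      exact absurd h1 f4
    · rw [h3] at h1
      exact mul_inv_eq_iff_eq_mul.1 h1
  have h3 : n ∈ S := by
    change n ∈ (S : Subgroup G)
    rw [hS]
    exact mem_centralizer_singleton_iff.2 h2
  rw [hg, hc0 x hx n h3, mul_inv_cancel_right] at hn2
  exact h.inj hn2

private theorem Cf.exists_index_two (h : Cf ι) : ∃ H : Subgroup G, H.index = 2 ∧ ι t0 ∉ H := by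
  have : Fact (Nat.Prime 2) := ⟨Nat.prime_two⟩
  obtain ⟨S, hS⟩ := h.syl
  let Q0 : Subgroup K := (MonoidHom.fst _ _).ker
  have hQ : (Q0.map ι).relIndex S = 2 := by
    rw [hS, h.cz, relIndex_map_map_of_injective _ _ h.inj]
    have h1 : Q0.index = 2 := by
      rw [index_ker, MonoidHom.range_eq_top.2 Prod.fst_surjective, card_top]
      simp
    have h2 : Q0.relIndex (centralizer {z0}) ∣ 2 :=
      (relIndex_dvd_index_of_normal _ _).trans h1.dvd
    refine ((Nat.dvd_prime Nat.prime_two).1 h2).resolve_left fun h3 => ?_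
    have h4 : t0 ∈ Q0 := relIndex_eq_one.1 h3 (mem_centralizer_singleton_iff.2 f5)
    exact absurd (MonoidHom.mem_ker.1 h4) f6
  have key : ∀ x : K, x = t0 ∨ x = t0 * z0 → (∃ g : G, g * ι x * g⁻¹ ∈ Q0.map ι) →
      IsConj (ι x) (ι a0) := by
    rintro x hx ⟨g, y, hy, hg⟩
    have hx2 := f7 x hx
    have h1 : IsConj (ι x) (ι y) := hg ▸ isConj_conj g _
    rcases invs1 y (h.inj (by
      rw [map_mul, hg, map_one, conj_mul, ← map_mul, hx2.1, map_one]; simp))
      (MonoidHom.mem_ker.1 hy) with h2 | ⟨k, hk⟩ | ⟨k, hk⟩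
    · rw [h2, map_one, isConj_one_left, map_eq_one_iff _ h.inj] at h1
      exact absurd h1 hx2.2.1
    · exact absurd (h.eq_of_conj (hx.imp id Or.inr) (Or.inr (Or.inl rfl))
        (h1.trans (ι.map_isConj (isConj_iff.2 ⟨k, hk⟩)))) hx2.2.2
    · exact h1.trans (ι.map_isConj (isConj_iff.2 ⟨k, hk⟩))
  rcases GT.Tr.thompson_transfer_index_two S.not_dvd_index hQ (u := ι t0)
    (by rw [pow_two, ← map_mul, (f7 _ (Or.inl rfl)).1, map_one]) with ⟨M, -, hM, htM⟩ | h1
  · exact ⟨M, hM, htM⟩
  rcases GT.Tr.thompson_transfer_index_two S.not_dvd_index hQ (u := ι (t0 * z0))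
    (by rw [pow_two, ← map_mul, (f7 _ (Or.inr rfl)).1, map_one]) with ⟨M, -, hM, htM⟩ | h2
  · refine ⟨M, hM, fun h3 => htM ?_⟩
    rw [map_mul, f8, map_mul]
    exact mul_mem h3 (mul_self_mem_of_index_two hM _)
  exact absurd (h.eq_of_conj (Or.inl rfl) (Or.inr (Or.inr rfl))
    ((key _ (Or.inl rfl) h1).trans (key _ (Or.inr rfl) h2).symm)) f9

private theorem Cf.not_npc (h : Cf ι) : ¬ HasNormalPComplement 2 G := by
  have : Fact (Nat.Prime 2) := ⟨Nat.prime_two⟩
  intro hn
  obtain ⟨S, hS⟩ := h.syl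
  obtain ⟨u, hu, h1⟩ := hn.exists_conj_eq S (ι d0)
  have h2 := h1 (ι z0) (hS ▸ mem_centralizer_singleton_iff.2 rfl) (by
    rw [hS, mem_centralizer_singleton_iff, ← map_inv]
    simp only [← map_mul]
    exact congrArg ι f10)
  rw [hS] at hu
  rw [mem_centralizer_singleton_iff.1 hu, mul_inv_cancel_right, ← map_inv] at h2
  simp only [← map_mul] at h2
  exact absurd (h.inj h2) f11

private theorem Cf.index_ne_seven (h : Cf ι) : (centralizer ({ι t0} : Set G)).index ≠ 7 := by
  classical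
  intro h7
  rw [← card_class_eq_index] at h7
  by_cases hx : ∃ x, IsConj (ι t0) x ∧ x * ι t0 = ι t0 * x ∧ x ≠ ι t0
  · obtain ⟨x, hx1, hx2, hx3⟩ := hx
    have h1 : x ∈ ι.range := h.ct ▸ mem_centralizer_singleton_iff.2 hx2
    obtain ⟨y, rfl⟩ := h1
    obtain ⟨b, hb, hbt⟩ : ∃ b : K, (b = a0 ∨ b = t0 * a0) ∧ IsConj (ι t0) (ι b) := by
      obtain ⟨g, hg⟩ := isConj_iff.1 hx1
      rcases invs y (h.inj (by
        rw [map_mul, ← hg, map_one, conj_mul, ← map_mul, show t0 * t0 = 1 by decide]; simp)) with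
        h2 | h2 | ⟨k, hk⟩ | ⟨k, hk⟩ | ⟨k, hk⟩ | ⟨k, hk⟩
      · rw [h2, map_one, isConj_one_left, map_eq_one_iff _ h.inj] at hx1
        exact absurd hx1 (by decide)
      · exact absurd (congrArg ι h2) hx3
      · exact absurd (hx1.trans (ι.map_isConj (isConj_iff.2 ⟨k, hk⟩))) h.not_tz
      · exact absurd (h.eq_of_conj (Or.inl rfl) (Or.inr (Or.inr rfl))
          (hx1.trans (ι.map_isConj (isConj_iff.2 ⟨k, hk⟩)))) (by decide)
      · exact ⟨_, Or.inl rfl, hx1.trans (ι.map_isConj (isConj_iff.2 ⟨k, hk⟩))⟩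
      · exact ⟨_, Or.inr rfl, hx1.trans (ι.map_isConj (isConj_iff.2 ⟨k, hk⟩))⟩
    let Y : Finset K := insert t0 (Finset.univ.filter fun x => ∃ g, g * b * g⁻¹ = x)
    have h2 : ι '' (Y : Set K) = {y | IsConj (ι t0) y} := by
      refine Set.eq_of_subset_of_ncard_le ?_ ?_
      · rintro _ ⟨u, hu, rfl⟩
        simp only [Y, Finset.coe_insert, Finset.coe_filter, Finset.mem_univ, true_and,
          Set.mem_insert_iff, Set.mem_ofPred_eq] at hu
        rcases hu with rfl | ⟨g, hg⟩
        · exact IsConj.refl _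
        · exact hbt.trans (ι.map_isConj (isConj_iff.2 ⟨g, hg⟩))
      · rw [Set.ncard_image_of_injective _ h.inj, Set.ncard_coe_finset, card_cls b hb]
        exact h7.le
    obtain ⟨k, hk⟩ := isConj_iff.1 hbt
    have h3 : k⁻¹ * ι (d0 * b * d0⁻¹) * k⁻¹⁻¹ ∈ {y | IsConj (ι t0) y} :=
      (hbt.trans (ι.map_isConj (isConj_conj d0 b))).trans (isConj_conj _ _)
    rw [← h2] at h3
    have h4 : k⁻¹ * ι (d0 * b * d0⁻¹) * k⁻¹⁻¹ ∈ centralizer ({ι t0} : Set G) := by
      obtain ⟨u, -, hu⟩ := h3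
      rw [h.ct]
      exact ⟨u, hu⟩
    rw [mem_centralizer_singleton_iff] at h4
    have h5 : ι (d0 * b * d0⁻¹) * ι b = ι b * ι (d0 * b * d0⁻¹) := by
      rw [← hk]
      calc _ = k * (k⁻¹ * ι (d0 * b * d0⁻¹) * k⁻¹⁻¹ * ι t0) * k⁻¹ := by group
        _ = _ := by rw [h4]; group
    rw [← map_mul, ← map_mul] at h5
    have h6 := h.inj h5
    rcases hb with rfl | rfl <;> exact absurd h6 (by decide)
  push Not at hx
  have hct : ∀ g : zpowers (ι c0), (g : G) * ι t0 * (g : G)⁻¹ = ι t0 := by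
    rintro ⟨_, n, rfl⟩
    have : Commute (ι c0) (ι t0) := by
      rw [commute_iff_eq, ← map_mul, ← map_mul]; exact congrArg ι (by decide)
    simp [(this.zpow_left n).eq]
  let X := {y : G // IsConj (ι t0) y ∧ y ≠ ι t0}
  letI : MulAction (zpowers (ι c0)) X :=
    { smul := fun g x => ⟨g * x * (g : G)⁻¹, x.2.1.trans (isConj_conj _ _), fun h1 => x.2.2 (by
        have h2 := h1.trans (hct g).symm
        simpa using h2)⟩
      one_smul := fun x => Subtype.ext (by change ((1 : zpowers (ι c0)) : G) * x * _ = x; simp)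
      mul_smul := fun g k x => Subtype.ext (by
        change ((g * k : zpowers (ι c0)) : G) * x * _ = g * (k * x * _) * _
        simp [mul_assoc]) }
  have h1 := Chev.Sz.card_dvd_of_semiregular (G := zpowers (ι c0)) (X := X) ⊤ (by
    rintro g - hg x hgx
    have h2 : (g : G) * x * (g : G)⁻¹ = x := congrArg Subtype.val hgx
    have h3 : ι z0 ∈ zpowers (g : G) := by
      obtain ⟨_, n, rfl⟩ := g
      have h4 : c0 ^ n ≠ 1 := fun h5 => hg (Subtype.ext (by
        change ι c0 ^ n = 1
        rw [← map_zpow, h5, map_one]))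
      have h5 : c0 ^ n ∈ zpowers c0 := ⟨n, rfl⟩
      rw [mem_zpowers_iff_mem_range_orderOf, ord_c] at h5
      change ι z0 ∈ zpowers (ι c0 ^ n)
      rw [← map_zpow, ← MonoidHom.map_zpowers]
      refine mem_map_of_mem ι ?_
      generalize c0 ^ n = w at h4 h5
      have h6 : w = z0 ∨ w * w = z0 := by
        revert w
        decide +kernel
      rcases h6 with rfl | h6
      exacts [mem_zpowers _, h6 ▸ mul_mem (mem_zpowers _) (mem_zpowers _)]
    obtain ⟨m, hm⟩ := h3
    have h4 : Commute (g : G) x := mul_inv_eq_iff_eq_mul.1 h2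
    have h5 : (x : G) * ι z0 = ι z0 * x := by
      rw [← hm]; exact (h4.zpow_left m).eq.symm
    exact x.2.2 (hx x x.2.1 (h.comm_t h5)))
  have h2 := card_subtype_ne (fun y => IsConj (ι t0) y) (a := ι t0) (IsConj.refl _)
  rw [card_top, Nat.card_zpowers, orderOf_injective ι h.inj, ord_c] at h1
  change 4 ∣ Nat.card {y : G // IsConj (ι t0) y ∧ y ≠ ι t0} at h1
  omega

private theorem Cf.dih (h : Cf ι) {H : Subgroup G} (hH : H.index = 2) (ht : ι t0 ∉ H)
    (hz : ι z0 ∈ H) : Nonempty (centralizer ({⟨ι z0, hz⟩} : Set H) ≃* DihedralGroup 4) := by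
  have key : ∀ x : K, ∃ x' : K, (x' = x ∨ x' = t0 * x) ∧ ι x' ∈ H := by
    intro x
    by_cases hx : ι x ∈ H
    · exact ⟨x, Or.inl rfl, hx⟩
    · refine ⟨_, Or.inr rfl, ?_⟩
      rw [map_mul, mul_mem_iff_of_index_two hH]; tauto
  obtain ⟨c, hc, hcH⟩ := key c0
  obtain ⟨a, ha, haH⟩ := key a0
  have hco : orderOf c = 4 := by
    rcases hc with rfl | rfl
    exacts [ord_c, ord_tc]
  have h1 : a * a = 1 ∧ a * c * a⁻¹ = c⁻¹ ∧ a * z0 = z0 * a ∧ c * z0 = z0 * c ∧
      a ∉ Finset.image (fun x => c ^ x) (Finset.range 4) := by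
    rcases hc with rfl | rfl <;> rcases ha with rfl | rfl <;> decide
  obtain ⟨e⟩ := nonempty_closure_equiv_dihedral (c := (⟨ι c, hcH⟩ : H)) (t := ⟨ι a, haH⟩) (n := 4)
    (Subtype.ext (by simp [← map_mul, h1.1]))
    (Subtype.ext (by simp [← map_mul, ← map_inv, h1.2.1])) (by
      rintro ⟨n, hn⟩
      have h2 : ι c ^ n = ι a := by simpa using congrArg Subtype.val hn
      rw [← map_zpow] at h2
      have h3 : a ∈ zpowers c := ⟨n, h.inj h2⟩
      rw [mem_zpowers_iff_mem_range_orderOf, hco] at h3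
      exact h1.2.2.2.2 h3)
    (by rw [← Subgroup.orderOf_coe, orderOf_injective ι h.inj, hco])
  refine ⟨(MulEquiv.subgroupCongr (eq_of_le_of_card_ge ?_ ?_).symm).trans e⟩
  · rw [closure_le]
    rintro _ (rfl | rfl) <;> rw [SetLike.mem_coe, mem_centralizer_singleton_iff] <;>
      refine Subtype.ext ?_
    · simp [← map_mul, h1.2.2.2.1]
    · simp [← map_mul, h1.2.2.1]
  · rw [Nat.card_congr e.toEquiv, DihedralGroup.nat_card]
    set D := centralizer ({ι z0} : Set G)
    have hn : H.Normal := normal_of_index_eq_two hH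
    have h2 : centralizer ({⟨ι z0, hz⟩} : Set H) = D.subgroupOf H := by
      ext x
      rw [mem_subgroupOf, mem_centralizer_singleton_iff, mem_centralizer_singleton_iff,
        Subtype.ext_iff]
      rfl
    have hi : H.relIndex D = 2 := by
      have h3 : H.relIndex D ∣ 2 := hH ▸ relIndex_dvd_index_of_normal H D
      refine ((Nat.dvd_prime Nat.prime_two).1 h3).resolve_left fun h4 => ht ?_
      refine relIndex_eq_one.1 h4 (mem_centralizer_singleton_iff.2 ?_)
      rw [← map_mul, ← map_mul]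
      exact congrArg ι (by decide)
    have h3 := (H.subgroupOf D).card_mul_index
    change _ * H.relIndex D = _ at h3
    rw [hi, h.card_cz] at h3
    rw [h2, ← inf_subgroupOf_right, Nat.card_congr (subgroupOfEquivOfLe inf_le_right).toEquiv,
      inf_comm, ← Nat.card_congr (subgroupOfEquivOfLe (inf_le_right : H ⊓ D ≤ D)).toEquiv,
      inf_subgroupOf_right]
    omega

private theorem Cf.main (h : Cf ι) :
    Nat.card G = 48 ∨ Nonempty (G ≃* Equiv.Perm (Fin 6)) := by
  obtain ⟨H, hH, ht⟩ := h.exists_index_two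
  have hz : ι z0 ∈ H := by
    rw [show z0 = c0 * c0 by decide, map_mul]
    exact mul_self_mem_of_index_two hH _
  obtain ⟨e⟩ := h.dih hH ht hz
  have hGH := H.card_mul_index
  rw [hH] at hGH
  by_cases h48 : Nat.card G = 48
  · exact Or.inl h48
  have hC : ∀ c : G, c ∉ H → ¬ ∀ x ∈ H, c * x = x * c := by
    intro c hc hcx
    have h1 : ∀ g : G, c * g = g * c := by
      intro g
      by_cases hg : g ∈ H
      · exact hcx g hg
      · have h2 := hcx (g * c⁻¹) (by rw [mul_mem_iff_of_index_two hH, inv_mem_iff]; tauto)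
        calc c * g = c * (g * c⁻¹) * c := by group
          _ = g * c := by rw [h2]; group
    have h2 : c ∈ ι.range := h.ct ▸ mem_centralizer_singleton_iff.2 (h1 _)
    obtain ⟨y, rfl⟩ := h2
    rcases center_K y (fun w => h.inj (by rw [map_mul, map_mul, h1])) with rfl | rfl
    · exact hc (by simp)
    · apply h48
      rw [← h.card_ct, show centralizer ({ι t0} : Set G) = ⊤ from
        eq_top_iff.2 fun g _ => mem_centralizer_singleton_iff.2 (h1 g).symm, card_top]
  have hz2 : orderOf (⟨ι z0, hz⟩ : H) = 2 := by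
    rw [← Subgroup.orderOf_coe, orderOf_injective ι h.inj]
    exact orderOf_eq_prime (by decide) (by decide)
  rcases BSWq.of_centralizer_dihedral_eight hz2 e with h1 | ⟨⟨f⟩⟩ | ⟨⟨f⟩⟩ | ⟨⟨f⟩⟩ | ⟨⟨f⟩⟩
  · exact absurd (BSWq.hasNormalPComplement_of_index_two hH h1) h.not_npc
  · left
    rw [← hGH, Nat.card_congr f.toEquiv, Nat.card_perm]
    simp [Nat.factorial]
  · exfalso
    have hn : H.Normal := normal_of_index_eq_two hH
    obtain ⟨σ, hσ⟩ := Sym.exists_conj_of_aut_perm (α := Fin 5) (by simp) (by simp)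
      (MulAut.congr f (MulAut.conjNormal (ι t0)))
    obtain ⟨k, rfl⟩ := f.surjective σ
    refine hC ((k : G)⁻¹ * ι t0) (by simpa [H.mul_mem_cancel_left (inv_mem k.2)] using ht)
      fun x hx => ?_
    have h2 := hσ (f ⟨x, hx⟩)
    simp only [MulAut.congr_apply, MulEquiv.trans_apply, MulEquiv.symm_apply_apply] at h2
    rw [← map_inv, ← map_mul, ← map_mul] at h2
    have h3 : ι t0 * x * (ι t0)⁻¹ = k * x * (k : G)⁻¹ := by
      simpa using congrArg Subtype.val (f.injective h2)
    calc (k : G)⁻¹ * ι t0 * x = (k : G)⁻¹ * (ι t0 * x * (ι t0)⁻¹) * ι t0 := by group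
      _ = _ := by rw [h3]; group
  · exfalso
    apply h.index_ne_seven
    have : Fact (Nat.Prime 7) := ⟨by norm_num⟩
    have h2 := (centralizer ({ι t0} : Set G)).card_mul_index
    have h3 := Cl.card_psl_two_mul (F := ZMod 7)
    obtain ⟨g⟩ := Cl.psl2_zmod_seven_equiv_sl
    rw [Nat.card_congr g.toEquiv, ← Nat.card_congr f.toEquiv, Nat.card_zmod] at h3
    rw [h.card_ct] at h2
    norm_num at h3
    omega
  · right
    have hd : orderOf (ι d0) = 3 := by
      rw [orderOf_injective ι h.inj]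
      exact orderOf_eq_prime (by decide) (by decide)
    refine BSWq.nonempty_perm_six hH f hC ht (d := ι d0) ?_ hd ?_
    · rw [show d0 = d0⁻¹ * d0⁻¹ by decide, map_mul]
      exact mul_self_mem_of_index_two hH _
    · rw [← map_mul, ← map_mul]
      exact congrArg ι (by decide)

end

/-- Let G be a finite group of even order such that (1) some involution t lying in the centre of a Sylow 2-subgroup of G has C_G(t) ≅ Z₂ × S₄, and (2) every Sylow 2-subgroup S of G satisfies C_G(S′) = S, where S′ is the derived subgroup of S. Then G = C_G(t) if G is solvable, and G ≅ S₆ otherwise. -/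
theorem result {G : Type*} [Group G] [Finite G] (hev : Even (Nat.card G))
    (t : G) (ht : orderOf t = 2) (T : Sylow 2 G) (htT : t ∈ (T : Subgroup G)) (htc : ∀ s ∈ (T : Subgroup G), s * t = t * s)
    (e : ↥(Subgroup.centralizer ({t} : Set G)) ≃* (Multiplicative (ZMod 2) × Equiv.Perm (Fin 4)))
    (h2 : ∀ S : Sylow 2 G, Subgroup.centralizer ((⁅(S : Subgroup G), (S : Subgroup G)⁆ : Subgroup G) : Set G) = (S : Subgroup G)) :
    (Group.IsSolvable G → Subgroup.centralizer ({t} : Set G) = ⊤) ∧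
      (¬ Group.IsSolvable G → Nonempty (G ≃* Equiv.Perm (Fin 6))) := by
  have : Fact (Nat.Prime 2) := ⟨Nat.prime_two⟩
  let ι : K →* G := (centralizer ({t} : Set G)).subtype.comp e.symm.toMonoidHom
  have hinj : Function.Injective ι := (subtype_injective _).comp e.symm.injective
  have hr : ι.range = centralizer ({t} : Set G) := by
    rw [MonoidHom.range_comp, MonoidHom.range_eq_top.2 e.symm.surjective, ← MonoidHom.range_eq_map,
      range_subtype]
  have htC : t ∈ centralizer ({t} : Set G) := mem_centralizer_singleton_iff.2 rfl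
  have ht0 : ι t0 = t := by
    rcases center_K (e ⟨t, htC⟩) (fun y => by
      obtain ⟨y, rfl⟩ := e.surjective y
      rw [← map_mul, ← map_mul]
      exact congrArg e (Subtype.ext (mem_centralizer_singleton_iff.1 y.2).symm)) with h | h
    · exact absurd (congrArg Subtype.val ((map_eq_one_iff e e.injective).1 h)) (ne_one_of_two ht)
    · rw [← h]; simp [ι]
  have hC48 : Nat.card (centralizer ({t} : Set G)) = 48 := by
    rw [Nat.card_congr e.toEquiv, card_K]
  have hP : Nat.card ((centralizer ({z0} : Set K)).map ι) = 16 := by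
    rw [card_map_of_injective hinj, card_T]
  obtain ⟨S, hS⟩ := (IsPGroup.of_card (p := 2) (n := 4) hP).exists_le_sylow
  have hSe : (centralizer ({z0} : Set K)).map ι = S := by
    refine eq_of_le_of_card_ge hS ?_
    have h1 : Nat.card T ∣ 48 := hC48 ▸ card_dvd_of_le fun s hs =>
      mem_centralizer_singleton_iff.2 (htc s hs)
    obtain ⟨k, hk⟩ := T.isPGroup'.exists_card_eq
    have h3 : Nat.card S = Nat.card T := Nat.card_congr (S.equiv T).toEquiv
    change Nat.card T = _ at hk
    change Nat.card S ≤ _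
    rw [hP, h3, hk]
    rw [hk, show 48 = 2 ^ 4 * 3 by norm_num] at h1
    exact Nat.le_of_dvd (by norm_num) (Nat.Coprime.dvd_of_dvd_mul_right
      (Nat.Coprime.pow_left _ (by norm_num)) h1)
  have hcomm : ⁅(S : Subgroup G), (S : Subgroup G)⁆ = zpowers (ι z0) := by
    rw [← hSe, ← map_commutator, ← MonoidHom.map_zpowers]
    congr 1
    apply le_antisymm
    · rw [commutator_le]
      intro x hx y hy
      rcases comm_T x y (mem_centralizer_singleton_iff.1 hx) (mem_centralizer_singleton_iff.1 hy)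
        with h | h <;> rw [commutatorElement_def, h]
      exacts [one_mem _, mem_zpowers _]
    · rw [zpowers_le]
      have := commutator_mem_commutator (H₁ := centralizer ({z0} : Set K))
        (H₂ := centralizer ({z0} : Set K)) (g₁ := c0) (g₂ := a0)
        (mem_centralizer_singleton_iff.2 f1) (mem_centralizer_singleton_iff.2 f2)
      rwa [commutatorElement_def, f3] at this
  have hcz : centralizer ({ι z0} : Set G) = S := by
    rw [← h2 S, hcomm, zpowers_eq_closure, centralizer_closure]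
  have hCf : Cf ι := ⟨hinj, by rw [ht0, hr], by rw [hcz, hSe], S, hcz.symm⟩
  rcases hCf.main with h | ⟨⟨f⟩⟩
  · have h1 : centralizer ({t} : Set G) = ⊤ := eq_top_of_card_eq _ (by rw [hC48, h])
    refine ⟨fun _ => h1, fun hs => absurd ?_ hs⟩
    exact Ch.burnside_isSolvable_of_card_eq (a := 4) (b := 1) Nat.prime_two Nat.prime_three
      (by rw [h]; norm_num)
  · refine ⟨fun hs => ?_, fun _ => ⟨f⟩⟩
    exact absurd (Group.isSolvable_of_surjective (f := f.toMonoidHom) f.surjective)
      (Equiv.Perm.not_isSolvable _ (by rw [Cardinal.mk_fin]; norm_num))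

end Cfsg.Agent.S3222
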