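import Mathlib
import Cfsg.Statements.S3261
import Cfsg.Agent.Inv.BSWq

set_option autoImplicit false
open Cfsg

namespace Cfsg.Agent.S3261

private def a0 : alternatingGroup (Fin 6) := ⟨Equiv.swap 0 1 * Equiv.swap 2 3, Equiv.Perm.mem_alternatingGroup.2 (by decide)⟩
private def c0 : alternatingGroup (Fin 6) :=
  ⟨Equiv.swap 0 2 * Equiv.swap 2 1 * Equiv.swap 1 3 * Equiv.swap 4 5, Equiv.Perm.mem_alternatingGroup.2 (by decide)⟩
private def t0 : alternatingGroup (Fin 6) := ⟨Equiv.swap 0 1 * Equiv.swap 4 5, Equiv.Perm.mem_alternatingGroup.2 (by decide)⟩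

private theorem cent_perm : ∀ g : Equiv.Perm (Fin 6), Equiv.Perm.sign g = 1 →
    g * a0.1 = a0.1 * g → g = 1 ∨ g = c0.1 ∨ g = c0.1 * c0.1 ∨ g = c0.1 * c0.1 * c0.1 ∨ g = t0.1 ∨
      g = c0.1 * t0.1 ∨ g = c0.1 * c0.1 * t0.1 ∨ g = c0.1 * c0.1 * c0.1 * t0.1 := by
  decide +kernel

private theorem cent_a0 :
    Subgroup.centralizer ({a0} : Set (alternatingGroup (Fin 6))) = Subgroup.closure {c0, t0} := by
  apply le_antisymm
  · intro g hg
    rw [Subgroup.mem_centralizer_singleton_iff] at hg
    have hc : c0 ∈ Subgroup.closure ({c0, t0} : Set (alternatingGroup (Fin 6))) :=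
      Subgroup.subset_closure (by simp)
    have ht : t0 ∈ Subgroup.closure ({c0, t0} : Set (alternatingGroup (Fin 6))) :=
      Subgroup.subset_closure (by simp)
    rcases cent_perm g.1 (Equiv.Perm.mem_alternatingGroup.1 g.2) (congrArg Subtype.val hg) with
      h | h | h | h | h | h | h | h
    · rw [show g = 1 from Subtype.ext h]; exact one_mem _
    · rw [show g = c0 from Subtype.ext h]; exact hc
    · rw [show g = c0 * c0 from Subtype.ext h]; exact mul_mem hc hc
    · rw [show g = c0 * c0 * c0 from Subtype.ext h]; exact mul_mem (mul_mem hc hc) hc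
    · rw [show g = t0 from Subtype.ext h]; exact ht
    · rw [show g = c0 * t0 from Subtype.ext h]; exact mul_mem hc ht
    · rw [show g = c0 * c0 * t0 from Subtype.ext h]; exact mul_mem (mul_mem hc hc) ht
    · rw [show g = c0 * c0 * c0 * t0 from Subtype.ext h]
      exact mul_mem (mul_mem (mul_mem hc hc) hc) ht
  · rw [Subgroup.closure_le]
    rintro g (rfl | rfl) <;> rw [SetLike.mem_coe, Subgroup.mem_centralizer_singleton_iff] <;>
      decide

private theorem dih_a0 : Nonempty (Subgroup.centralizer ({a0} : Set (alternatingGroup (Fin 6))) ≃*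
    DihedralGroup 4) := by
  rw [cent_a0]
  have ho : orderOf c0 = 4 := by
    rw [show (4 : ℕ) = 2 ^ (1 + 1) by norm_num]
    exact orderOf_eq_prime_pow (p := 2) (by decide) (by decide)
  refine Cfsg.Agent.Inv.nonempty_closure_equiv_dihedral (by decide) (by decide) ?_ ho
  rw [mem_zpowers_iff_mem_range_orderOf, ho]
  decide

private theorem dih (a : alternatingGroup (Fin 6)) (ha : orderOf a = 2)
    (hs : (a : Equiv.Perm (Fin 6)).support.card = 4) :
    Nonempty (Subgroup.centralizer ({a} : Set (alternatingGroup (Fin 6))) ≃* DihedralGroup 4) := by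
  have key : ∀ b : Equiv.Perm (Fin 6), orderOf b = 2 → b.support.card = 4 →
      b.cycleType = {2, 2} := by
    intro b hb hb4
    have h1 : (orderOf b).Prime := hb ▸ Nat.prime_two
    obtain ⟨n, hn⟩ := Equiv.Perm.cycleType_prime_order h1
    have h2 := Equiv.Perm.sum_cycleType b
    rw [hn, hb, hb4, Multiset.sum_replicate, smul_eq_mul] at h2
    rw [hn, hb, show n = 1 by omega]
    rfl
  have h1 : IsConj (a : Equiv.Perm (Fin 6)) a0.1 := by
    rw [Equiv.Perm.isConj_iff_cycleType_eq, key _ (by rw [Subgroup.orderOf_coe, ha]) hs,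
      key _ (orderOf_eq_prime (by decide) (by decide)) (by decide)]
  obtain ⟨g, hg⟩ := isConj_iff.1 h1
  obtain ⟨e⟩ := dih_a0
  let φ : MulAut (alternatingGroup (Fin 6)) := MulAut.conjNormal g
  have hφ : φ a = a0 := Subtype.ext hg
  have h2 : (Subgroup.centralizer ({a} : Set (alternatingGroup (Fin 6)))).map φ.toMonoidHom =
      Subgroup.centralizer {a0} := by
    ext x
    simp only [Subgroup.mem_map, Subgroup.mem_centralizer_singleton_iff]
    constructor
    · rintro ⟨y, hy, rfl⟩
      rw [← hφ]
      change φ y * φ a = φ a * φ y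
      rw [← map_mul, hy, map_mul]
    · intro hx
      refine ⟨φ.symm x, φ.injective ?_, by simp⟩
      rw [map_mul, map_mul, hφ, MulEquiv.apply_symm_apply, hx]
  exact ⟨((φ.subgroupMap _).trans (MulEquiv.subgroupCongr h2)).trans e⟩

/-- Let α̃ be an involution of the alternating group A₆ that is a product of two disjoint transpositions (it lies in the centre of a Sylow 2-subgroup of A₆; its centralizer is dihedral of order 8). Let G be a finite group that has no subgroup of index 2 and contains an involution α, central in some Sylow 2-subgroup of G, with C_G(α) ≅ C_{A₆}(α̃). Then G is isomorphic to A₆ or to PSL₂(7). -/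
theorem result {G : Type*} [Group G] [Finite G]
    (hG : ∀ H : Subgroup G, H.index ≠ 2)
    (αt : ↥(alternatingGroup (Fin 6))) (hαt : orderOf αt = 2) (hsupp : (αt : Equiv.Perm (Fin 6)).support.card = 4)
    (α : G) (hα : orderOf α = 2) (S : Sylow 2 G) (hαS : α ∈ (S : Subgroup G)) (hαc : ∀ s ∈ (S : Subgroup G), s * α = α * s)
    (e : ↥(Subgroup.centralizer ({α} : Set G)) ≃* ↥(Subgroup.centralizer ({αt} : Set ↥(alternatingGroup (Fin 6))))) :
    Nonempty (G ≃* ↥(alternatingGroup (Fin 6))) ∨
      (∃ (F : Type) (_ : Field F) (_ : Fintype F), Fintype.card F = 7 ∧ Nonempty (G ≃* Matrix.ProjectiveSpecialLinearGroup (Fin 2) F)) := by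
  obtain ⟨f⟩ := dih αt hαt hsupp
  have e1 := e.trans f
  have hle : (S : Subgroup G) ≤ Subgroup.centralizer ({α} : Set G) := fun s hs =>
    Subgroup.mem_centralizer_singleton_iff.2 (hαc s hs)
  have hP : IsPGroup 2 (Subgroup.centralizer ({α} : Set G)) :=
    IsPGroup.of_card (n := 3) (by rw [Nat.card_congr e1.toEquiv, DihedralGroup.nat_card]; norm_num)
  have hS : (S : Subgroup G) = Subgroup.centralizer ({α} : Set G) := (S.is_maximal' hP hle).symm
  exact Cfsg.Agent.Inv.BSWq.alt_six_or_psl_seven hG S hα hS ((MulEquiv.subgroupCongr hS).trans e1)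

end Cfsg.Agent.S3261
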