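import Mathlib
import Cfsg.Statements.S3262
import Cfsg.Agent.Perm.KAAlt
import Cfsg.Agent.Perm.SpecBig
import Cfsg.Agent.S0420
import Cfsg.Agent.Spor.Dodecad
-- import your own Cfsg.Agent.* helpers here

set_option autoImplicit false
open Cfsg

namespace Cfsg.Agent.S3262

open Subgroup MulAction Cfsg.Agent.Perm Cfsg.Agent.Perm.KA TwoCount

/-- Let G be a finite doubly transitive permutation group on a set Ω with no regular normal subgroup, in which the stabilizer of two points is isomorphic to the alternating group A₅. Then either Ω has 7 points and G ≅ A₇, or Ω has 12 points and G is isomorphic to the Mathieu group M₁₁. -/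
theorem result {G : Type*} [Group G] [Finite G] {Ω : Type*} [Fintype Ω] [MulAction G Ω] [FaithfulSMul G Ω]
    (h2 : MulAction.IsMultiplyPretransitive G Ω 2) (a b : Ω) (hab : a ≠ b)
    (hnr : ∀ N : Subgroup G, N.Normal → MulAction.IsPretransitive ↥N Ω → (∀ x : Ω, MulAction.stabilizer ↥N x = ⊥) → False)
    (e : ↥(MulAction.stabilizer G a ⊓ MulAction.stabilizer G b) ≃* ↥(alternatingGroup (Fin 5))) :
    (Fintype.card Ω = 7 ∧ Nonempty (G ≃* ↥(alternatingGroup (Fin 7)))) ∨ (Fintype.card Ω = 12 ∧ Cfsg.Spor.IsoM11 G) := by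
  classical
  obtain ⟨m, i, t, h, s | s⟩ := af5.setup h2 hab e
  · rcases Nat.even_or_odd i with hi | hi
    swap
    · obtain ⟨h1, -, h3⟩ := s.odd_A h hi (Or.inr ⟨rfl, rfl⟩)
      exact Or.inl ⟨Nat.card_eq_fintype_card.symm.trans (h3 rfl), h1⟩
    obtain rfl := s.even h hi
    have h1 := s.beta h
    rcases s.sig h with rfl | ⟨rfl, -⟩
    · omega
    have hn : Nat.card Ω = 12 := by omega
    have cG : Nat.card G = 7920 := by rw [h.card_G, hn]
    have cGa : Nat.card (stabilizer G a) = 660 := by rw [h.card_Ga, hn]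
    have : Fact (Nat.Prime 2) := ⟨Nat.prime_two⟩
    have : Nontrivial G := ⟨⟨_, _, h.pair.ne⟩⟩
    have hs : IsSimpleGroup G := ⟨fun M hM => or_iff_not_imp_left.2 fun hM1 => by
      have h3 := (show T1 M (Set.univ : Set Ω) from
        ⟨fun _ _ _ _ => trivial, fun x _ y _ => h.normal_trans hM1 x y⟩).card (a := a) trivial
      rw [Set.ncard_univ, hn] at h3
      obtain ⟨u, hu⟩ := exists_prime_orderOf_dvd_card' (G := M) 2 (by omega)
      have hv : ∀ g : G, g⁻¹ * _ * g ∈ M := fun g => by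
        obtain ⟨k, hk⟩ := isConj_iff.1 (s.one h ((Subgroup.orderOf_coe u).trans hu)).symm
        simpa using hM.conj_mem _ (hk ▸ hM.conj_mem _ u.2 k) g⁻¹
      have := alternatingGroup.isSimpleGroup (α := Fin 5) (by simp)
      have h4 : stabilizer G a ⊓ stabilizer G b ≤ M ⊓ stabilizer G a := fun x hx => by
        rcases (hM.comap ((Subgroup.subtype _).comp e.symm.toMonoidHom)).eq_bot_or_eq_top
          with h5 | h5
        · have h6 := h5.le (show _ ∈ M from by simpa using hv 1)
          exact absurd (by rw [mem_bot.1 h6]; simp) h.pair.ne_one_left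
        · exact ⟨by simpa using h5.ge (mem_top (e ⟨x, hx⟩)), hx.1⟩
      obtain ⟨d, hd⟩ := card_dvd_of_le h4
      have h5 := card_dvd_of_le (inf_le_right : M ⊓ stabilizer G a ≤ _)
      rw [h.card] at hd
      rw [hd, cGa] at h5
      rcases (Nat.dvd_prime (show Nat.Prime 11 by norm_num)).1
        (Nat.dvd_of_mul_dvd_mul_left (show 0 < 4 * 15 by norm_num) h5) with rfl | rfl
      · refine absurd (h.faith _ fun x => ?_) h.pair.ne_one_left
        by_cases h6 : a = x
        · exact h6 ▸ h.va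
        obtain ⟨g, g1, rfl⟩ := h.tr h6
        exact inv_conj_fix.1 ((eq_of_le_of_card_ge h4 (by rw [hd, h.card])).ge
          ⟨hv g, inv_conj_fix.2 (by rw [g1, h.va])⟩).2
      · exact eq_top_of_card_eq _ (by omega)⟩
    obtain ⟨f⟩ := S0420.result ⟨hs, cG⟩ _ Spor.Dod.squareDodecad_mem _
      Spor.Dod.zero_mem_squareDodecad
    exact Or.inr ⟨Nat.card_eq_fintype_card.symm.trans hn, ⟨f.trans Spor.Dod.M11Equiv⟩⟩
  rcases Nat.even_or_odd i with hi | hi
  · exact absurd (s.even h hi (Or.inr rfl)).1 (by norm_num)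
  obtain ⟨N, hN, h1, h3⟩ := s.odd h hi le_rfl
  obtain ⟨V, hV, p, v1, -, -, -, v2⟩ := spec_exists_exponent_of_solvable N (fun h4 => by
    refine h.pair.ne_one_left (h.faith _ fun x => ?_)
    by_cases h6 : a = x
    · exact h6 ▸ h.va
    obtain ⟨g, g1, rfl⟩ := h.tr h6
    have h5 : t * g = g * t := by
      have := mem_bot.1 (h4 ▸ h3 g)
      rwa [mul_inv_eq_one, mul_inv_eq_iff_eq_mul] at this
    rw [show g • b = b from (congrArg _ s.ta.symm).trans (by
      rw [← mul_smul, ← h5, mul_smul, g1, s.ta]), h.vb]) (GW.isSolvable_of_odd h1)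
  refine (hnr V hV ⟨fun x y => ?_⟩ fun x => eq_bot_iff.2 fun n hn => Subtype.ext
    (h.faith _ fun y => ?_)).elim
  · obtain ⟨n, hn, h4⟩ := h.normal_trans v1 x y
    exact ⟨⟨n, hn⟩, h4⟩
  · obtain ⟨k, hk, rfl⟩ := h.normal_trans v1 x y
    exact fix_comm (v2 _ n.2 k hk) hn

end Cfsg.Agent.S3262
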