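import Mathlib
import Cfsg.Statements.S3927
import Cfsg.Agent.FG.GenZipper

set_option autoImplicit false
open Cfsg

namespace Cfsg.Agent.S3927

section aux

open Subgroup Cfsg.Agent.GT Cfsg.Agent.FG.GZ
open scoped commutatorElement

universe u

theorem id1 {Γ : Type*} [Group Γ] (x a : Γ) : x * a * x⁻¹ * a⁻¹ = x * (a * x * a⁻¹)⁻¹ := by
  group

theorem id2 {Γ : Type*} [Group Γ] (x a : Γ) (i : ℤ) :
    x * a * x⁻¹ * a⁻¹ = x * a ^ i * a * (x * a ^ i)⁻¹ * a⁻¹ := by
  group

theorem gen_aux (n : ℕ) : ∀ (Γ : Type u) [Group Γ] [Finite Γ] (a : Γ), Nat.card Γ = n →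
    GenBy (zpowers a) ⊤ → ∀ k : ℕ,
      closure (Set.range ((fun c : Γ => c * a * c⁻¹ * a⁻¹)^[k])) ⊔ zpowers a = ⊤ := by
  induction n using Nat.strong_induction_on with
  | h n ih =>
  intro Γ _ _ a hn hA k
  by_contra hne
  obtain ⟨M, hM, hle⟩ := (eq_top_or_exists_le_coatom _).resolve_left hne
  have hAM : zpowers a ≤ M := le_sup_right.trans hle
  have huniq := gen_zipper hA hM hAM (by
    intro H hAH hH hg
    let a' : H := ⟨a, hAH (mem_zpowers a)⟩
    have h1 : (zpowers a).subgroupOf H = zpowers a' := by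
      apply map_injective H.subtype_injective
      rw [subgroupOf_map_subtype, inf_eq_left.mpr hAH, MonoidHom.map_zpowers]
      rfl
    have h2 : GenBy (zpowers a') ⊤ := by
      intro N hN hn'
      haveI : N.Normal := normalizer_eq_top_iff.mp (top_le_iff.mp hn')
      rw [← (genBy_iff hAH).mp hg, h1]
      exact normalClosure_le_normal hN
    have h3 := ih (Nat.card H) (by
      rw [← hn, ← card_top (G := Γ)]
      exact card_lt_of_lt (lt_top_iff_ne_top.mpr hH)) H a' rfl h2 k
    have h4 : ∀ (j : ℕ) (x : H), (((fun c : H => c * a' * c⁻¹ * a'⁻¹)^[j] x : H) : Γ) =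
        (fun c : Γ => c * a * c⁻¹ * a⁻¹)^[j] x := by
      intro j
      induction j with
      | zero => intro x; rfl
      | succ j ihj =>
        intro x
        rw [Function.iterate_succ_apply', Function.iterate_succ_apply', ← ihj]
        rfl
    have h5 : (⊤ : Subgroup H) ≤ M.subgroupOf H := by
      rw [← h3, sup_le_iff, closure_le, zpowers_le]
      refine ⟨?_, hAM (mem_zpowers a)⟩
      rintro _ ⟨x, rfl⟩
      rw [SetLike.mem_coe, mem_subgroupOf, h4]
      exact hle (mem_sup_left (subset_closure ⟨_, rfl⟩))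
    exact fun x hx => h5 (mem_top (⟨x, hx⟩ : H)))
  have hN : normalizer (M : Set Γ) = M := by
    refine (hM.le_iff_eq ?_).mp le_normalizer
    intro h
    exact hM.1 (top_le_iff.mp (hA M hAM h.ge))
  have hdesc : ∀ c : Γ, c * a * c⁻¹ * a⁻¹ ∈ M → c ∈ M := by
    intro c hc
    have h1 : c * a * c⁻¹ ∈ M := by
      simpa using M.mul_mem hc (hAM (mem_zpowers a))
    have h2 := huniq _ (isCoatom_map_conj hM c⁻¹) (by rw [zpowers_le, mem_map_conj_inv]; exact h1)
    have h3 := map_conj_eq_self_iff.mp h2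
    rw [hN] at h3
    exact (inv_mem_iff).mp h3
  have hall : ∀ (j : ℕ) (x : Γ), (fun c : Γ => c * a * c⁻¹ * a⁻¹)^[j] x ∈ M → x ∈ M := by
    intro j
    induction j with
    | zero => intro x hx; exact hx
    | succ j ihj =>
      intro x hx
      rw [Function.iterate_succ_apply'] at hx
      exact ihj x (hdesc _ hx)
  exact hM.1 (eq_top_iff.mpr fun x _ => hall k x (hle (mem_sup_left (subset_closure ⟨_, rfl⟩))))

end aux

open Subgroup Cfsg.Agent.GT Cfsg.Agent.FG.GZ in
open scoped commutatorElement in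
/-- Let G be a finite group and α an automorphism of G with [G, α] = G, that is, the elements g·α(g)⁻¹ generate G. Then for every k ≥ 1 the iterated commutators [g, α, …, α] with k entries α — the values of the k-th iterate of the map c ↦ c·α(c)⁻¹ — also generate G. -/
theorem result {G : Type*} [Group G] [Finite G] (α : MulAut G) (hG : Subgroup.closure (Set.range (fun c : G => c * (α c)⁻¹)) = ⊤) (k : ℕ) (hk : 1 ≤ k) :
    Subgroup.closure (Set.range ((fun c : G => c * (α c)⁻¹)^[k])) = ⊤ := by
  haveI : Finite (MulAut G) := Finite.of_injective _ (fun f g h => MulEquiv.toEquiv_injective h :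
    Function.Injective (fun f : MulAut G => f.toEquiv))
  let Γ := G ⋊[(zpowers α).subtype] (zpowers α)
  haveI : Finite Γ := Finite.of_equiv _ SemidirectProduct.equivProd.symm
  let α' : zpowers α := ⟨α, mem_zpowers α⟩
  let a : Γ := SemidirectProduct.inr α'
  let ι : G →* Γ := SemidirectProduct.inl
  have hι : Function.Injective ι := SemidirectProduct.inl_injective
  have hconj : ∀ g : G, a * ι g * a⁻¹ = ι (α g) := fun g => by
    have := SemidirectProduct.inl_aut (φ := (zpowers α).subtype) α' g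
    rw [map_inv] at this
    exact this.symm
  have hτ : ∀ g : G, ι g * a * (ι g)⁻¹ * a⁻¹ = ι (g * (α g)⁻¹) := fun g => by
    rw [map_mul, map_inv, ← hconj]; exact id1 _ _
  have hdec : ∀ x : Γ, ∃ (g : G) (i : ℤ), x = ι g * a ^ i := by
    intro x
    obtain ⟨i, hi⟩ := x.right.2
    refine ⟨x.left, i, ?_⟩
    have : a ^ i = SemidirectProduct.inr x.right := by
      rw [← map_zpow]
      congr 1
      exact Subtype.ext hi
    rw [this]
    exact (SemidirectProduct.inl_left_mul_inr_right x).symm
  have hA : GenBy (zpowers a) ⊤ := by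
    intro N hN hn
    haveI : N.Normal := normalizer_eq_top_iff.mp (top_le_iff.mp hn)
    have h1 : (⊤ : Subgroup G) ≤ N.comap ι := by
      rw [← hG, closure_le]
      rintro _ ⟨g, rfl⟩
      rw [SetLike.mem_coe, mem_comap, ← hτ]
      exact N.mul_mem (Normal.conj_mem inferInstance _ (hN (mem_zpowers a)) _)
        (N.inv_mem (hN (mem_zpowers a)))
    intro x _
    obtain ⟨g, i, rfl⟩ := hdec x
    exact N.mul_mem (h1 (mem_top g)) (N.zpow_mem (hN (mem_zpowers a)) i)
  have h := gen_aux _ Γ a rfl hA k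
  have hit : ∀ (j : ℕ) (g : G), (fun c : Γ => c * a * c⁻¹ * a⁻¹)^[j] (ι g) =
      ι ((fun c : G => c * (α c)⁻¹)^[j] g) := by
    intro j
    induction j with
    | zero => intro g; rfl
    | succ j ihj =>
      intro g
      rw [Function.iterate_succ_apply', Function.iterate_succ_apply', ihj, hτ]
  have hα : ∀ (j : ℕ) (g : G), α ((fun c : G => c * (α c)⁻¹)^[j] g) =
      (fun c : G => c * (α c)⁻¹)^[j] (α g) := by
    intro j
    induction j with
    | zero => intro g; rfl
    | succ j ihj =>
      intro g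
      rw [Function.iterate_succ_apply', Function.iterate_succ_apply', ← ihj]
      simp
  set E := closure (Set.range ((fun c : G => c * (α c)⁻¹)^[k])) with hE
  have h1 : closure (Set.range ((fun c : Γ => c * a * c⁻¹ * a⁻¹)^[k])) ≤ E.map ι := by
    rw [closure_le]
    rintro _ ⟨x, rfl⟩
    obtain ⟨g, i, rfl⟩ := hdec x
    obtain ⟨j, rfl⟩ := Nat.exists_eq_add_of_le' hk
    refine ⟨_, subset_closure ⟨g, rfl⟩, ?_⟩
    rw [← hit, Function.iterate_succ_apply, Function.iterate_succ_apply]
    congr 1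
    exact id2 _ _ _
  have h2 : zpowers a ≤ normalizer ((E.map ι : Subgroup Γ) : Set Γ) := by
    rw [zpowers_le]
    apply mem_normalizer_of_map_conj_le
    rw [hE, MonoidHom.map_closure, MonoidHom.map_closure, closure_le]
    rintro _ ⟨_, ⟨_, ⟨g, rfl⟩, rfl⟩, rfl⟩
    refine subset_closure ⟨_, ⟨α g, rfl⟩, ?_⟩
    rw [← hα, ← hconj]
    rfl
  have h3 : E.map ι ⊔ zpowers a = ⊤ := top_le_iff.mp (h ▸ sup_le_sup_right h1 _)
  have h4 := inf_sup_eq_of_le_normalizer (H := ι.range) (map_le_range ι E) h2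
  have h5 : ι.range ⊓ zpowers a = ⊥ := by
    rw [eq_bot_iff]
    rintro x ⟨⟨g, rfl⟩, ⟨i, hi⟩⟩
    have h6 := congrArg SemidirectProduct.left hi
    simp only at h6
    rw [← map_zpow, SemidirectProduct.left_inr] at h6
    have h7 : g = 1 := h6.symm
    simp [h7]
  rw [h3, inf_top_eq, h5, sup_bot_eq, MonoidHom.range_eq_map] at h4
  exact (map_injective hι h4).symm

end Cfsg.Agent.S3927
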