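import Mathlib
import Cfsg.Agent.S3927
import Cfsg.Agent.GT.FixedPointFree
import Cfsg.Agent.GT.Conj
import Cfsg.Statements.S3928
-- import your own Cfsg.Agent.* helpers here

set_option autoImplicit false
open Cfsg

namespace Cfsg.Agent.S3928

open Subgroup Cfsg.Agent.GT
open scoped Classical

open scoped IsMulCommutative in
theorem gen_bound {T : Type*} [Group T] [Finite T] (S : Set T) (hS : closure S = ⊤) {k e n : ℕ}
    (hk : S.ncard ≤ k) (he0 : 0 < e) (he : ∀ s ∈ S, s ^ e = 1) (hn : (center T).index ≤ n) :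
    Nat.card T ≤ n * (n * e) ^ (n * k) := by
  have h0 : 0 < (center T).index := Nat.pos_of_ne_zero index_ne_zero_of_finite
  have h1 : ∀ g : T, (g ^ (center T).index) ^ e = 1 := by
    have : closure S ≤ ((powMonoidHom e).comp (MonoidHom.transferCenterPow T)).ker := by
      rw [closure_le]
      intro s hs
      change MonoidHom.transferCenterPow T s ^ e = 1
      rw [← map_pow, he s hs, map_one]
    intro g
    have h2 : MonoidHom.transferCenterPow T g ^ e = 1 := this (hS ▸ mem_top g)
    have h3 := congrArg Subtype.val h2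
    rwa [coe_pow, MonoidHom.transferCenterPow_apply] at h3
  have h2 := card_dvd_exponent_pow_rank' (center T) (n := (center T).index * e)
    (fun z => Subtype.ext (by simpa [pow_mul] using h1 z))
  have h3 : Group.rank T ≤ k := by
    refine (Group.rank_le (S := (Set.toFinite S).toFinset) (by simpa using hS)).trans ?_
    rwa [← Set.ncard_eq_toFinset_card]
  have h4 := rank_le_index_mul_rank (center T)
  rw [← (center T).index_mul_card]
  refine Nat.mul_le_mul hn ((Nat.le_of_dvd (by positivity) h2).trans ?_)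
  refine (Nat.pow_le_pow_left (Nat.mul_le_mul_right e hn) _).trans
    (Nat.pow_le_pow_right (Nat.mul_pos (h0.trans_le hn) he0) (h4.trans (Nat.mul_le_mul hn h3)))

variable {G : Type*} [Group G]

theorem relIndex_le [Finite G] (S : Set G) (D : Subgroup G)
    (h : ∀ d ∈ D, ∀ s ∈ S, d * s * d⁻¹ ∈ S) :
    (centralizer S).relIndex D ≤ S.ncard.factorial := by
  let _ : MulAction D S :=
    { smul := fun g x => ⟨g * x * (g : G)⁻¹, h g g.2 x x.2⟩
      one_smul := fun x => Subtype.ext (by change (1 : G) * x * (1 : G)⁻¹ = x; simp)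
      mul_smul := fun a b x => Subtype.ext (by
        change (a * b : G) * x * (a * b : G)⁻¹ = a * (b * x * (b : G)⁻¹) * (a : G)⁻¹
        group) }
  have h1 : (MulAction.toPermHom D S).ker ≤ (centralizer S).subgroupOf D := by
    intro d hd s hs
    have := congrArg (fun σ : Equiv.Perm S => (σ ⟨s, hs⟩ : G)) hd
    exact (mul_inv_eq_iff_eq_mul.1 this).symm
  refine (Nat.le_of_dvd (Nat.pos_of_ne_zero index_ne_zero_of_finite) (index_dvd_of_le h1)).trans ?_
  rw [index_ker, ← Nat.card_coe_set_eq, ← Nat.card_perm]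
  exact card_le_card_group _

/-- odd order elements inverted by `α` -/
def I (α : MulAut G) : Set G := {g | Odd (orderOf g) ∧ α g = g⁻¹}

theorem pow_mem_I {α : MulAut G} {x : G} (hx : x ∈ I α) (n : ℕ) : x ^ n ∈ I α :=
  ⟨hx.1.of_dvd_nat (orderOf_pow_dvd n), by rw [map_pow, hx.2, inv_pow]⟩

theorem pow_factorial [Finite G] {α : MulAut G} {m : ℕ} (hm : (I α).ncard ≤ m) {x : G}
    (hx : x ∈ I α) : x ^ m.factorial = 1 := by
  refine orderOf_dvd_iff_pow_eq_one.1 (Nat.dvd_factorial (orderOf_pos x) (le_trans ?_ hm))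
  rw [← Nat.card_zpowers]
  change Nat.card ((zpowers x : Subgroup G) : Set G) ≤ _
  rw [Nat.card_coe_set_eq]
  refine Set.ncard_le_ncard fun y hy => ?_
  obtain ⟨n, rfl⟩ := (mem_powers_iff_mem_zpowers.2 hy)
  exact pow_mem_I hx n

theorem inv_comm {α : MulAut G} (hα : α ^ 2 = 1) (y : G) :
    α (y * (α y)⁻¹) = (y * (α y)⁻¹)⁻¹ := by
  have : α (α y) = y := by
    have := congrArg (fun β : MulAut G => β y) hα
    simpa [sq] using this
  simp [this]

theorem exists_odd_part (G : Type*) [Group G] [Finite G] : ∃ e : ℕ,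
    (∀ w : G, Odd (orderOf (w ^ e))) ∧ ∀ n, Odd n → n ∣ Nat.card G → e ≡ 1 [MOD n] := by
  obtain ⟨a, n, hn, h⟩ := Nat.exists_eq_two_pow_mul_odd (Nat.card_pos (α := G)).ne'
  have hc : (2 ^ a).Coprime n := (Nat.coprime_two_left.2 hn).pow_left a
  refine ⟨(2 ^ a) ^ n.totient, fun w => hn.of_dvd_nat (orderOf_dvd_of_pow_eq_one ?_),
    fun d hd hdn => (Nat.ModEq.pow_totient hc).of_dvd ?_⟩
  · obtain ⟨c, hc⟩ := dvd_pow_self (2 ^ a) (Nat.totient_pos.2 hn.pos).ne'
    rw [hc, ← pow_mul, mul_right_comm, ← h, pow_mul, pow_card_eq_one', one_pow]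
  · exact ((Nat.coprime_two_right.2 hd).pow_right a).dvd_of_dvd_mul_left (h ▸ hdn)

theorem image_I [Finite G] {α : MulAut G} (hα : α ^ 2 = 1) (N : Subgroup G) [N.Normal]
    (hN : ∀ n ∈ N, α n ∈ N) :
    (QuotientGroup.mk' N) '' I α = I (Frob.quotientAut α N hN) := by
  refine Set.Subset.antisymm ?_ fun x hx => ?_
  · rintro _ ⟨x, hx, rfl⟩
    exact ⟨hx.1.of_dvd_nat (orderOf_map_dvd _ _), by
      rw [QuotientGroup.mk'_apply, Frob.quotientAut_mk, hx.2, QuotientGroup.mk_inv]⟩
  · obtain ⟨e, he1, he2⟩ := exists_odd_part G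
    obtain ⟨k, hk⟩ := hx.1
    obtain ⟨y, hy⟩ := QuotientGroup.mk_surjective (x ^ (k + 1))
    refine ⟨(y * (α y)⁻¹) ^ e, ⟨he1 _, by rw [map_pow, inv_comm hα, inv_pow]⟩, ?_⟩
    have h1 : QuotientGroup.mk' N (y * (α y)⁻¹) = x := by
      rw [map_mul, map_inv, QuotientGroup.mk'_apply, QuotientGroup.mk'_apply,
        ← Frob.quotientAut_mk α N hN, hy, (pow_mem_I hx _).2, inv_inv, ← pow_add,
        show k + 1 + (k + 1) = orderOf x + 1 by omega, pow_succ, pow_orderOf_eq_one, one_mul]
    rw [map_pow, h1]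
    exact (pow_eq_pow_iff_modEq.2 (he2 _ hx.1
      ((orderOf_dvd_natCard x).trans (card_quotient_dvd_card N)))).trans (pow_one x)

theorem closure_quot [Finite G] {α : MulAut G} (hα : α ^ 2 = 1) (N : Subgroup G) [N.Normal]
    (hN : ∀ n ∈ N, α n ∈ N) (h : closure (I α) = ⊤) :
    closure (I (Frob.quotientAut α N hN)) = ⊤ := by
  rw [← image_I hα, ← MonoidHom.map_closure, h,
    map_top_of_surjective _ (QuotientGroup.mk'_surjective N)]

/-- fixed points -/
def Fx (α : MulAut G) : Subgroup G := (α : G →* G).eqLocus (MonoidHom.id G)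

theorem mem_Fx {α : MulAut G} {g : G} : g ∈ Fx α ↔ α g = g := Iff.rfl

theorem brauer_fowler [Finite G] {α : MulAut G} (hα : α ^ 2 = 1) {c m : ℕ}
    (hc : Nat.card (Fx α) ≤ c) (hm : (I α).ncard ≤ m) : Nat.card G ≤ 2 * c * m ∨
      ∃ t : G, orderOf t = 2 ∧ α t = t ∧ (centralizer {t}).index ≤ 2 * c ^ 2 := by
  by_contra hcon
  push Not at hcon
  obtain ⟨h1, h2⟩ := hcon
  have := Fintype.ofFinite G
  have hc0 : 0 < c := Nat.card_pos.trans_le hc
  set J : Finset G := Finset.univ.filter (fun g => α g = g⁻¹) with hJ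
  have h3 : Nat.card G ≤ c * J.card := by
    rw [Nat.card_eq_fintype_card, ← Finset.card_univ]
    refine Finset.card_le_mul_card_image_of_maps_to (f := fun y => y * (α y)⁻¹)
      (fun y _ => by simp [hJ, inv_comm hα y]) c fun b _ => ?_
    rcases (Finset.univ.filter fun y => y * (α y)⁻¹ = b).eq_empty_or_nonempty with h | ⟨y, hy⟩
    · rw [h]; exact Nat.zero_le _
    refine le_trans ?_ hc
    rw [← Nat.card_eq_finsetCard]
    refine Nat.card_le_card_of_injective (fun z => (⟨y⁻¹ * z.1, ?_⟩ : Fx α))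
      fun z w h => Subtype.ext (mul_left_cancel (congrArg (fun u : Fx α => (u : G)) h))
    have h4 := (Finset.mem_filter.1 hy).2.trans (Finset.mem_filter.1 z.2).2.symm
    rw [mem_Fx, map_mul, map_inv]
    calc (α y)⁻¹ * α z.1 = y⁻¹ * (y * (α y)⁻¹) * α z.1 := by group
      _ = _ := by rw [h4]; group
  set T : Finset G := Finset.univ.filter (fun t => orderOf t = 2 ∧ α t = t) with hT
  have h4 : T.card ≤ c := by
    refine le_trans ?_ hc
    rw [← Nat.card_eq_finsetCard]
    exact Nat.card_le_card_of_injective (fun z => (⟨z.1, (Finset.mem_filter.1 z.2).2.2⟩ : Fx α))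
      fun z w h => Subtype.ext (congrArg (fun u : Fx α => (u : G)) h)
  have h5 : J ⊆ (Set.toFinite (I α)).toFinset ∪
      T.biUnion fun t => Finset.univ.filter (· ∈ centralizer {t}) := by
    intro x hx
    have hx' : α x = x⁻¹ := (Finset.mem_filter.1 hx).2
    rw [Finset.mem_union, Set.Finite.mem_toFinset, Finset.mem_biUnion]
    rcases Nat.even_or_odd (orderOf x) with h | h
    · refine Or.inr ⟨x ^ (orderOf x / 2), Finset.mem_filter.2 ⟨Finset.mem_univ _, ?_⟩, ?_⟩
      · have h6 := orderOf_pow_orderOf_div (orderOf_pos x).ne' h.two_dvd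
        refine ⟨h6, ?_⟩
        have h7 := pow_orderOf_eq_one (x ^ (orderOf x / 2))
        rw [h6] at h7
        rw [map_pow, hx', inv_pow, inv_eq_iff_mul_eq_one, ← sq, h7]
      · simp only [Finset.mem_filter, Finset.mem_univ, true_and]
        exact mem_centralizer_singleton_iff.2 (Commute.self_pow x _)
    · exact Or.inl ⟨h, hx'⟩
  have h6 : J.card ≤ m + ∑ t ∈ T, Nat.card (centralizer ({t} : Set G)) := by
    refine (Finset.card_le_card h5).trans ((Finset.card_union_le _ _).trans
      (Nat.add_le_add (by rwa [← Set.ncard_eq_toFinset_card]) (Finset.card_biUnion_le.trans ?_)))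
    refine Finset.sum_le_sum fun t _ => ?_
    rw [Nat.card_eq_fintype_card, Fintype.card_subtype]
  have h7 : 2 * c ^ 2 * ∑ t ∈ T, Nat.card (centralizer ({t} : Set G)) ≤ c * Nat.card G := by
    rw [Finset.mul_sum]
    refine (Finset.sum_le_card_nsmul _ _ (Nat.card G) fun t ht => ?_).trans
      (Nat.mul_le_mul_right _ h4)
    obtain ⟨-, a, b⟩ := Finset.mem_filter.1 ht
    rw [← (centralizer ({t} : Set G)).index_mul_card]
    exact Nat.mul_le_mul_right _ (h2 t a b).le
  have h8 : c * (2 * c * m) < c * Nat.card G := Nat.mul_lt_mul_of_pos_left h1 hc0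
  nlinarith [Nat.mul_le_mul_left (2 * c) h3, Nat.mul_le_mul_left (2 * c ^ 2) h6]

theorem card_normalClosure [Finite G] {t : G} (ht : orderOf t = 2) {b : ℕ}
    (hb : (centralizer {t}).index ≤ b) :
    Nat.card (normalClosure {t}) ≤ b.factorial * (b.factorial * 2) ^ (b.factorial * b) := by
  set S := Group.conjugatesOfSet ({t} : Set G) with hS
  have h1 : S.ncard ≤ b := by
    have : S = MulAction.orbit (ConjAct G) t := by
      ext x
      rw [hS, Group.mem_conjugatesOfSet_iff, ConjAct.mem_orbit_conjAct]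
      exact ⟨fun ⟨a, ha, h⟩ => (Set.mem_singleton_iff.1 ha ▸ h).symm, fun h => ⟨t, rfl, h.symm⟩⟩
    rw [this, ← MulAction.index_stabilizer]
    refine le_trans (le_of_eq ?_) hb
    rw [centralizer_eq_comap_stabilizer]
    exact (index_comap_of_surjective (f := ConjAct.toConjAct.toMonoidHom) _
      ConjAct.toConjAct.surjective).symm
  refine gen_bound ((closure S).subtype ⁻¹' S) (closure_preimage_eq_top S)
    (le_trans (Set.ncard_le_ncard_of_injOn Subtype.val (fun _ h => h)
      Subtype.val_injective.injOn) h1) two_pos (fun s hs => Subtype.ext ?_) ?_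
  · obtain ⟨a, ha, hc⟩ := Group.mem_conjugatesOfSet_iff.1 hs
    obtain ⟨g, hg⟩ := isConj_iff.1 hc
    change (s : G) ^ 2 = 1
    change _ = (s : G) at hg
    rw [← hg, Set.mem_singleton_iff.1 ha, conj_pow, ← ht, pow_orderOf_eq_one]; simp
  · rw [center_eq_subgroupOf, centralizer_closure]
    exact (relIndex_le S _ fun d _ s hs => Group.conj_mem_conjugatesOfSet hs).trans
      (Nat.factorial_le h1)

theorem main (m : ℕ) : ∃ B : ℕ, ∀ (G : Type) [Group G] [Finite G] (α : MulAut G), α ^ 2 = 1 →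
    closure (I α) = ⊤ → (I α).ncard ≤ m → Nat.card G ≤ B := by
  induction m with
  | zero =>
    refine ⟨0, fun G _ _ α _ _ h => ?_⟩
    have : 0 < (I α).ncard := (Set.ncard_pos).2 ⟨1, by simp, by simp⟩
    omega
  | succ m ih =>
  obtain ⟨B, hB⟩ := ih
  set c := (m + 1).factorial with hc
  set b := 2 * c ^ 2 with hb
  set n := 2 * c * (m + 1) + B * (b.factorial * (b.factorial * 2) ^ (b.factorial * b)) with hn
  refine ⟨n * (n * c) ^ (n * (m + 1)), fun G _ _ α hα hI hm => gen_bound _ hI hm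
    (Nat.factorial_pos _) (fun s hs => pow_factorial hm hs) ?_⟩
  have hZ : ∀ z ∈ center G, α z ∈ center G := fun z hz =>
    characteristic_iff_le_comap.1 inferInstance α hz
  have hcI : centralizer (I α) = center G := by
    rw [← centralizer_closure, hI, coe_top, centralizer_univ]
  set β := Frob.quotientAut α (center G) hZ with hβ
  have hβ2 : β ^ 2 = 1 := Frob.quotientAut_pow_eq_one _ hZ hα
  have hβI := closure_quot hα _ hZ hI
  have hβm : (I β).ncard ≤ m + 1 := by
    rw [hβ, ← image_I hα]; exact (Set.ncard_image_le).trans hm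
  have hD : ∀ d : G, (d : G ⧸ center G) ∈ Fx β → ∀ s ∈ I α, d * s * d⁻¹ ∈ I α := by
    intro d hd s hs
    refine ⟨by rw [orderOf_conj]; exact hs.1, ?_⟩
    have h1 : d⁻¹ * α d ∈ center G := QuotientGroup.eq.1 (by
      rw [← Frob.quotientAut_mk α _ hZ]; exact hd.symm)
    have h2 := mem_center_iff.1 h1 s⁻¹
    rw [map_mul, map_mul, map_inv, hs.2]
    calc α d * s⁻¹ * (α d)⁻¹ = d * (d⁻¹ * α d * s⁻¹) * (α d)⁻¹ := by group
      _ = _ := by rw [← h2]; group
  have hFx : Nat.card (Fx β) ≤ c := by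
    have h1 := relIndex_le (I α) ((Fx β).comap (QuotientGroup.mk' _)) hD
    rw [hcI] at h1
    refine le_trans (le_of_eq ?_) (h1.trans (Nat.factorial_le hm))
    have := relIndex_ker ((Fx β).comap (QuotientGroup.mk' _)) (QuotientGroup.mk' (center G))
    rw [QuotientGroup.ker_mk', map_comap_mk'] at this
    exact this.symm
  rcases brauer_fowler hβ2 hFx hβm with h | ⟨t, ht, hαt, hi⟩
  · exact h.trans (Nat.le_add_right _ _)
  have hT : ∀ x ∈ normalClosure {t}, β x ∈ normalClosure {t} := by
    have : normalClosure {t} ≤ (normalClosure {t}).comap (β : _ →* _) :=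
      normalClosure_le_normal (by
        rintro _ rfl
        change β _ ∈ normalClosure _
        rw [hαt]
        exact subset_normalClosure rfl)
    exact this
  have hx : ∃ x ∈ I β, t * x * t⁻¹ ≠ x := by
    by_contra hcon
    push Not at hcon
    obtain ⟨d, rfl⟩ := QuotientGroup.mk_surjective t
    have h1 : d ^ 2 ∈ center G := (QuotientGroup.eq_one_iff _).1 (by
      rw [QuotientGroup.mk_pow, ← ht, pow_orderOf_eq_one])
    have h2 : d ∈ center G := by
      rw [← hcI]
      intro s hs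
      have h3 := hcon s (image_I hα _ hZ ▸ ⟨s, hs, rfl⟩)
      have h4 : (d * s * d⁻¹)⁻¹ * s ∈ center G := QuotientGroup.eq.1 h3
      set u := (d * s * d⁻¹)⁻¹ * s with hu
      have h5 : d * s * d⁻¹ * u = s := by rw [hu]; group
      have hc : ∀ g, Commute g u := mem_center_iff.1 h4
      have h6 : u ^ 2 = 1 := by
        have h7 : d * (d * s * d⁻¹ * u) * d⁻¹ * u = s := by rw [h5, h5]
        have h8 := mem_center_iff.1 h1 s
        refine mul_left_cancel (a := s) ?_
        rw [mul_one]
        calc s * u ^ 2 = s * d ^ 2 * d⁻¹ * (d⁻¹ * u) * u := by simp only [sq]; group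
          _ = d ^ 2 * s * d⁻¹ * (u * d⁻¹) * u := by rw [h8, (hc d⁻¹).eq]
          _ = d * (d * s * d⁻¹ * u) * d⁻¹ * u := by simp only [sq]; group
          _ = s := h7
      have h7 : u ^ orderOf s = 1 := by
        have := congrArg (· ^ orderOf s) h5
        simp only [(hc _).mul_pow, conj_pow, pow_orderOf_eq_one] at this
        simpa using this
      have h8 : u = 1 := orderOf_eq_one_iff.1 (Nat.eq_one_of_dvd_coprimes
        (Nat.coprime_two_left.2 hs.1) (orderOf_dvd_of_pow_eq_one h6)
        (orderOf_dvd_of_pow_eq_one h7))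
      rw [h8, mul_one] at h5
      exact (mul_inv_eq_iff_eq_mul.1 h5).symm
    rw [(QuotientGroup.eq_one_iff _).2 h2, orderOf_one] at ht
    omega
  obtain ⟨x, hx, hne⟩ := hx
  have h1 : (I (Frob.quotientAut β _ hT)).ncard ≤ m := by
    rw [← image_I hβ2]
    refine Nat.le_of_lt_succ (lt_of_lt_of_le (lt_of_le_of_ne Set.ncard_image_le fun e => ?_) hβm)
    refine hne (Set.injOn_of_ncard_image_eq e (Set.toFinite _)
      ⟨by rw [orderOf_conj]; exact hx.1, by simp [hαt, hx.2, mul_assoc]⟩ hx ?_)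
    have : (t : _ ⧸ normalClosure {t}) = 1 :=
      (QuotientGroup.eq_one_iff _).2 (subset_normalClosure rfl)
    simp [this]
  have h2 := hB _ _ (Frob.quotientAut_pow_eq_one _ hT hβ2) (closure_quot hβ2 _ hT hβI) h1
  change Nat.card (G ⧸ center G) ≤ n
  rw [card_eq_card_quotient_mul_card_subgroup (normalClosure {t})]
  exact (Nat.mul_le_mul h2 (card_normalClosure ht hi)).trans (Nat.le_add_left _ _)

/-- There is a function f such that for every non-trivial finite group G and every automorphism α of G of order 2 with [G, α] = G (the elements g·α(g)⁻¹ generate G), the order of G is at most f(m), where m is the number of elements of odd order inverted by α. -/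
theorem result : ∃ f : ℕ → ℕ, ∀ (G : Type) [Group G] [Finite G] [Nontrivial G] (α : MulAut G), orderOf α = 2 →
    Subgroup.closure (Set.range (fun c : G => c * (α c)⁻¹)) = ⊤ →
      Nat.card G ≤ f (Nat.card {g : G // Odd (orderOf g) ∧ α g = g⁻¹}) := by
  choose f hf using main
  refine ⟨f, fun G _ _ _ α hα hG => hf _ G α (hα ▸ pow_orderOf_eq_one α) ?_
    (Nat.card_coe_set_eq _).ge⟩
  have hα2 : α ^ 2 = 1 := hα ▸ pow_orderOf_eq_one α
  obtain ⟨a, n, hn, h⟩ := Nat.exists_eq_two_pow_mul_odd (Nat.card_pos (α := G)).ne'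
  rw [eq_top_iff, ← S3927.result α hG (a + 1) (by omega)]
  refine closure_mono ?_
  rintro _ ⟨c, rfl⟩
  have h1 : ∀ (k : ℕ) (x : G), α x = x⁻¹ → (fun c : G => c * (α c)⁻¹)^[k] x = x ^ 2 ^ k := by
    intro k
    induction k with
    | zero => intro x _; simp
    | succ k ih =>
      intro x hx
      rw [Function.iterate_succ_apply, ih _ (inv_comm hα2 x), hx, inv_inv, ← sq, ← pow_mul,
        ← pow_succ']
  rw [Function.iterate_succ_apply, h1 _ _ (inv_comm hα2 c)]
  refine ⟨hn.of_dvd_nat (orderOf_dvd_of_pow_eq_one ?_), by rw [map_pow, inv_comm hα2, inv_pow]⟩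
  rw [← pow_mul, ← h, pow_card_eq_one']

end Cfsg.Agent.S3928
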