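import Mathlib
import Cfsg.Statements.S3264
import Cfsg.Agent.S3928
-- import your own Cfsg.Agent.* helpers here

set_option autoImplicit false
open Cfsg

namespace Cfsg.Agent.S3264

open Subgroup

theorem gen_odd {G : Type*} [Group G] [Finite G] {α : MulAut G} (hα2 : α ^ 2 = 1)
    (hG : closure (Set.range (fun c : G => c * (α c)⁻¹)) = ⊤) : closure (S3928.I α) = ⊤ := by
  obtain ⟨a, n, hn, h⟩ := Nat.exists_eq_two_pow_mul_odd (Nat.card_pos (α := G)).ne'
  rw [eq_top_iff, ← S3927.result α hG (a + 1) (by omega)]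
  refine closure_mono ?_
  rintro _ ⟨c, rfl⟩
  have h1 : ∀ (k : ℕ) (x : G), α x = x⁻¹ → (fun c : G => c * (α c)⁻¹)^[k] x = x ^ 2 ^ k := by
    intro k
    induction k with
    | zero => intro x _; simp
    | succ k ih =>
      intro x hx
      rw [Function.iterate_succ_apply, ih _ (S3928.inv_comm hα2 x), hx, inv_inv, ← sq, ← pow_mul,
        ← pow_succ']
  rw [Function.iterate_succ_apply, h1 _ _ (S3928.inv_comm hα2 c)]
  refine ⟨hn.of_dvd_nat (orderOf_dvd_of_pow_eq_one ?_),
    by rw [map_pow, S3928.inv_comm hα2, inv_pow]⟩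
  rw [← pow_mul, ← h, pow_card_eq_one']

theorem gen_comm {G : Type*} [Group G] [IsSimpleGroup G] (hG : ¬ IsMulCommutative G) {t : G}
    (ht : t ≠ 1) : closure (Set.range (fun c : G => c * (MulAut.conj t c)⁻¹)) = ⊤ := by
  set N := closure (Set.range (fun c : G => c * (MulAut.conj t c)⁻¹)) with hN
  have h1 : ∀ c : G, c * (t * c * t⁻¹)⁻¹ ∈ N := fun c => subset_closure ⟨c, rfl⟩
  have h2 : N.Normal := by
    refine ⟨fun n hn g => ?_⟩
    have : N ≤ N.comap (MulAut.conj g).toMonoidHom := by
      rw [hN, closure_le]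
      rintro _ ⟨c, rfl⟩
      change g * (c * (t * c * t⁻¹)⁻¹) * g⁻¹ ∈ N
      have := N.mul_mem (h1 (g * c)) (N.inv_mem (h1 g))
      convert this using 1
      group
    exact this hn
  refine h2.eq_bot_or_eq_top.resolve_left fun h => ?_
  have h3 : t ∈ center G := mem_center_iff.2 fun c => by
    have := h1 c
    rw [h, mem_bot, mul_inv_eq_one] at this
    exact (eq_mul_inv_iff_mul_eq.1 this)
  rcases (inferInstance : (center G).Normal).eq_bot_or_eq_top with e | e
  · exact ht (by simpa [e] using h3)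
  · exact hG ⟨⟨fun a b => mem_center_iff.1 (e ▸ mem_top b) a⟩⟩

/-- Let G be a non-abelian finite simple group and X a conjugacy class of involutions of G. Form the graph on X in which two distinct involutions are joined when their product has odd order. Then this graph is connected. (By the Baer–Suzuki Theorem the graph has at least one edge; connectedness is the stronger statement.) -/
theorem result {G : Type*} [Group G] [Finite G] [IsSimpleGroup G]
    (hG : ¬ IsMulCommutative G) (t : G) (ht : orderOf t = 2) :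
    (SimpleGraph.fromRel fun x y : {x : G // IsConj t x} => Odd (orderOf (x.1 * y.1))).Connected := by
  have ht1 : t ≠ 1 := fun h => by simp [h] at ht
  have ht2 : t ^ 2 = 1 := ht ▸ pow_orderOf_eq_one t
  have hgen := gen_odd (α := MulAut.conj t) (by rw [← map_pow, ht2, map_one]) (gen_comm hG ht1)
  set Γ := SimpleGraph.fromRel fun x y : {x : G // IsConj t x} => Odd (orderOf (x.1 * y.1)) with hΓ
  let c : G → {x : G // IsConj t x} → {x : G // IsConj t x} := fun g x =>
    ⟨g * x.1 * g⁻¹, x.2.trans (isConj_iff.2 ⟨g, rfl⟩)⟩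
  have hodd : ∀ g x y : G, Odd (orderOf (x * y)) →
      Odd (orderOf (g * x * g⁻¹ * (g * y * g⁻¹))) := fun g x y h =>
    h.of_dvd_nat (orderOf_dvd_of_pow_eq_one (by
      rw [show g * x * g⁻¹ * (g * y * g⁻¹) = g * (x * y) * g⁻¹ by group, conj_pow,
        pow_orderOf_eq_one, mul_one, mul_inv_cancel]))
  have hc : ∀ g x y, Γ.Reachable x y → Γ.Reachable (c g x) (c g y) := by
    intro g x y h
    refine h.map (⟨c g, fun {a b} hab => ?_⟩ : Γ →g Γ)
    rw [hΓ, SimpleGraph.fromRel_adj] at hab ⊢
    refine ⟨fun e => hab.1 (Subtype.ext ?_), hab.2.imp (hodd g _ _) (hodd g _ _)⟩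
    simpa [c] using congrArg Subtype.val e
  let o : {x : G // IsConj t x} := ⟨t, IsConj.refl t⟩
  have key : ∀ g ∈ closure (S3928.I (MulAut.conj t)), Γ.Reachable o (c g o) := by
    intro g hg
    induction hg using closure_induction with
    | mem b hb =>
      rcases eq_or_ne o (c b o) with e | e
      · rw [← e]
      refine SimpleGraph.Adj.reachable ?_
      rw [hΓ, SimpleGraph.fromRel_adj]
      refine ⟨e, Or.inl ?_⟩
      have h1 : t * b * t⁻¹ = b⁻¹ := hb.2
      have h2 : t * (b * t * b⁻¹) = (b ^ 2)⁻¹ := by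
        calc t * (b * t * b⁻¹) = t * b * t⁻¹ * t ^ 2 * b⁻¹ := by rw [sq]; group
          _ = _ := by rw [h1, ht2]; group
      change Odd (orderOf (t * (b * t * b⁻¹)))
      rw [h2, orderOf_inv]
      exact hb.1.of_dvd_nat (orderOf_pow_dvd 2)
    | one => rw [show c 1 o = o from Subtype.ext (by simp [c])]
    | mul g h _ _ h1 h2 =>
      rw [show c (g * h) o = c g (c h o) from Subtype.ext (by simp [c, mul_assoc])]
      exact h1.trans (hc g _ _ h2)
    | inv g _ h1 =>
      have := hc g⁻¹ _ _ h1
      rw [show c g⁻¹ (c g o) = o from Subtype.ext (by simp [c, mul_assoc])] at this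
      exact this.symm
  have key2 : ∀ x, Γ.Reachable o x := fun x => by
    obtain ⟨g, hg⟩ := isConj_iff.1 x.2
    rw [show x = c g o from Subtype.ext hg.symm]
    exact key g (hgen ▸ mem_top g)
  have : Nonempty {x : G // IsConj t x} := ⟨o⟩
  exact ⟨fun x y => (key2 x).symm.trans (key2 y)⟩

end Cfsg.Agent.S3264
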