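import Mathlib
import Cfsg.Statements.S3287
import Cfsg.Agent.GW.Cons
import Cfsg.Agent.Cl.LinearIso
import Cfsg.Agent.GT.FStar

set_option autoImplicit false
open Cfsg

namespace Cfsg.Agent.S3287

/-- Let G be a finite simple group whose Sylow 2-subgroups are dihedral, and suppose the centralizer of some involution of G is properly contained in a subgroup whose generalized Fitting subgroup equals its Fitting subgroup (a subgroup without components). Then G is isomorphic to the alternating group of degree 5 or 7, to PSL(3, 2), or to PSL(2, 9). -/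
theorem result {G : Type*} [Group G] [Finite G] [IsSimpleGroup G] (S : Sylow 2 G) (m : ℕ) (eS : ↥(S : Subgroup G) ≃* DihedralGroup m)
    (t : G) (ht : orderOf t = 2) (K : Subgroup G) (hlt : Subgroup.centralizer ({t} : Set G) < K)
    (hK : Cfsg.generalizedFittingSubgroup ↥K = Cfsg.fittingSubgroup ↥K) :
    Nonempty (G ≃* ↥(alternatingGroup (Fin 5))) ∨ Nonempty (G ≃* ↥(alternatingGroup (Fin 7))) ∨
      (∃ (F : Type) (_ : Field F) (_ : Fintype F), Fintype.card F = 2 ∧ Nonempty (G ≃* Matrix.ProjectiveSpecialLinearGroup (Fin 3) F)) ∨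
      (∃ (F : Type) (_ : Field F) (_ : Fintype F), Fintype.card F = 9 ∧ Nonempty (G ≃* Matrix.ProjectiveSpecialLinearGroup (Fin 2) F)) := by
  have hna : ¬ IsMulCommutative G := fun h => hlt.not_ge fun x _ =>
    Subgroup.mem_centralizer_singleton_iff.2 (h.1.1 x t)
  have hK' : K ≠ ⊤ := by
    rintro rfl
    have h := GT.isQuasisimple_top_iff.2 (IsQuasisimple.of_isSimpleGroup hna)
    have := h.nontrivial
    exact bot_ne_top ((GT.genFitting_eq_fitting_iff.1 hK).symm.trans
      (GT.layer_eq_top_of_isQuasisimple h))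
  obtain ⟨F, _, _, h1, h3, ⟨e⟩⟩ | h := GW.gw_simple hna (GW.dihSyl_of_simple hna S eS)
  swap
  · exact Or.inr (Or.inl h)
  rw [← Nat.card_eq_fintype_card] at h1 h3
  have h2 : (2 : F) ≠ 0 := Cl.L2.two_ne_zero_iff_odd.2 (Nat.odd_iff.1 h1)
  by_cases h5 : Nat.card F = 5
  · exact Or.inl ⟨e.trans (Cl.psl2_five_equiv_alt h5).some⟩
  by_cases h7 : Nat.card F = 7
  · exact Or.inr (Or.inr (Or.inl ⟨ZMod 2, _, _, rfl,
      ⟨e.trans (Cl.psl2_seven_equiv_psl3_two h7 (by simp)).some⟩⟩))
  by_cases h9 : Nat.card F = 9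
  · exact Or.inr (Or.inr (Or.inr ⟨F, _, _, Nat.card_eq_fintype_card.symm.trans h9, ⟨e⟩⟩))
  refine absurd ?_ hK'
  have := (GW.isCoatom_centralizer h2 (by
    simp only [List.forall_mem_cons]; exact ⟨h3.ne', h5, h7, h9, by simp⟩) ((e.orderOf_eq t).trans ht)).2
    (K.map e.toMonoidHom) ⟨fun x hx => ⟨e.symm x, hlt.le (Subgroup.mem_centralizer_singleton_iff.2
      (e.injective (by simpa using Subgroup.mem_centralizer_singleton_iff.1 hx))), by simp⟩,
      fun h => hlt.not_ge fun x hx => Subgroup.mem_centralizer_singleton_iff.2 (e.injective (by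
        simpa using Subgroup.mem_centralizer_singleton_iff.1 (h ⟨x, hx, rfl⟩)))⟩
  rwa [← Subgroup.map_equiv_top e, ← MulEquiv.toMonoidHom_eq_coe,
    (Subgroup.map_injective e.injective).eq_iff] at this

end Cfsg.Agent.S3287
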