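import Cfsg.Statements.S3339
import Cfsg.Agent.T16.A9M

set_option autoImplicit false
open Cfsg

namespace Cfsg.Agent.S3339

/-- A 3-local characterization of the alternating group of degree 9. Let G be a finite group and J ≤ G an elementary abelian subgroup of order 27 whose normalizer H = N_G(J) is isomorphic to the normalizer, in the alternating group of degree 9, of the subgroup generated by three disjoint 3-cycles. If O_{3'}(C_G(x)) = 1 for every element x of order 3 in H, then either G = H or G is isomorphic to the alternating group of degree 9. -/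
theorem result {G : Type*} [Group G] [Finite G]
    (J : Subgroup G) (hJcomm : IsMulCommutative J) (hJexp : ∀ a ∈ J, a ^ 3 = 1) (hJcard : Nat.card J = 27)
    (H : Subgroup G) (hH : H = Subgroup.normalizer (J : Set G))
    (J₀ : Subgroup (Equiv.Perm (Fin 9)))
    (hJ₀ : J₀ = Subgroup.closure {Equiv.swap (0 : Fin 9) 1 * Equiv.swap 1 2, Equiv.swap (3 : Fin 9) 4 * Equiv.swap 4 5, Equiv.swap (6 : Fin 9) 7 * Equiv.swap 7 8})
    (eH : H ≃* ↥(alternatingGroup (Fin 9) ⊓ Subgroup.normalizer (J₀ : Set (Equiv.Perm (Fin 9)))))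
    (hcores : ∀ x ∈ H, orderOf x = 3 → Cfsg.pPrimeCore 3 (Subgroup.centralizer ({x} : Set G)) = ⊥) :
    H = ⊤ ∨ Nonempty (G ≃* alternatingGroup (Fin 9)) := by
  have hJ : J₀ = T16.A9.s0.J := by
    rw [hJ₀, T16.A9.H0.J, T16.A9.s0_c1, T16.A9.s0_c2, T16.A9.s0_c3]
    exact congrArg Subgroup.closure (by ext; simp)
  subst hH hJ
  have e := eH.trans (MulEquiv.subgroupCongr T16.A9.s0_H.symm)
  obtain ⟨s, hs⟩ := T16.A9.exists_Hs hJexp hJcard e hcores
  rw [← hs] at e ⊢
  refine or_iff_not_imp_left.2 fun h => ?_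
  obtain ⟨s', -⟩ := s.exists_Ns fun h' => h (s.top e h')
  obtain ⟨s''⟩ := s'.exists_As
  exact s''.main

end Cfsg.Agent.S3339
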