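import Mathlib
import Cfsg.Agent.T16.CaEx
import Cfsg.Agent.T16.CaX3
import Cfsg.Agent.T16.CaX4A
import Cfsg.Agent.T16.CaX4B
import Cfsg.Agent.GT.Cores
import Cfsg.Statements.S3342

set_option autoImplicit false
set_option synthInstance.maxSize 100000
set_option synthInstance.maxHeartbeats 1000000
open Cfsg
open Cfsg.Agent.T16 Cfsg.Agent.Rec Cfsg.Agent.Inv.Fz

namespace Cfsg.Agent.S3342

/-- Let G be a finite group and a ∈ G an element of order 3 whose centralizer C has O₃(C) extraspecial of order 27 and exponent 3 with C/O₃(C) isomorphic to SL(2,3), and suppose some elementary abelian J ≤ C of order 27 normalizes no non-trivial subgroup of G of order prime to 3. If a is not conjugate to its inverse, then G has a normal subgroup of index 3 or G is isomorphic to PSp(4,3). If a is conjugate to its inverse, then ⟨a⟩ is normal in G, or G is isomorphic to the full automorphism group of PSp(4,3), or G is isomorphic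 to Sp(6,2). -/
theorem result {G : Type*} [Group G] [Finite G]
    (a : G) (ha : orderOf a = 3) (C : Subgroup G) (hC : C = Subgroup.centralizer ({a} : Set G))
    (hR : Cfsg.IsExtraspecial 3 (Cfsg.pCore 3 C)) (hRcard : Nat.card (Cfsg.pCore 3 C) = 27)
    (hRexp : ∀ r ∈ Cfsg.pCore 3 C, r ^ 3 = 1)
    (e : C ⧸ Cfsg.pCore 3 C ≃* Matrix.SpecialLinearGroup (Fin 2) (ZMod 3))
    (J : Subgroup G) (hJC : J ≤ C) (hJcomm : IsMulCommutative J) (hJexp : ∀ j ∈ J, j ^ 3 = 1) (hJcard : Nat.card J = 27)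
    (hJsig : ∀ K : Subgroup G, (Nat.card K).Coprime 3 → (∀ j ∈ J, K.map (MulAut.conj j).toMonoidHom = K) → K = ⊥)
    (F : Type*) [Field F] [Fintype F] (hF : Fintype.card F = 3)
    (F₂ : Type*) [Field F₂] [Fintype F₂] (hF₂ : Fintype.card F₂ = 2) :
    ((∀ g : G, g * a * g⁻¹ ≠ a⁻¹) →
      (∃ N : Subgroup G, N.Normal ∧ N.index = 3) ∨ Nonempty (G ≃* Cfsg.PSp 2 F)) ∧
    ((∃ g : G, g * a * g⁻¹ = a⁻¹) →
      Subgroup.normalizer (Subgroup.zpowers a : Set G) = ⊤ ∨ Nonempty (G ≃* MulAut (Cfsg.PSp 2 F)) ∨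
        Nonempty (G ≃* Matrix.symplecticGroup (Fin 3) F₂)) := by
  have hk : ∀ g : C, (e.toMonoidHom.comp (QuotientGroup.mk' _)) g = 1 ↔ g ∈ pCore 3 C := fun g => by simp
  have hπ : Function.Surjective (e.toMonoidHom.comp (QuotientGroup.mk' (pCore 3 C))) :=
    e.surjective.comp (QuotientGroup.mk'_surjective _)
  have hsig : ∀ K : Subgroup G, (Nat.card K).Coprime 3 → J ≤ Subgroup.normalizer (K : Set G) → K = ⊥ :=
    fun K h1 h2 => hJsig K h1 fun j hj => cj_eq_iff.2 (h2 hj)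
  have haC : a ∈ C := hC ▸ mem_cen.2 rfl
  have hca : ∀ g : C, g * ⟨a, haC⟩ = ⟨a, haC⟩ * g := fun g => Subtype.ext (mem_cen.1 (hC.le g.2))
  have ha' : orderOf (⟨a, haC⟩ : C) = 3 := by rw [← Subgroup.orderOf_coe, ha]
  have haR : (⟨a, haC⟩ : C) ∈ pCore 3 C := by
    have : (Subgroup.zpowers (⟨a, haC⟩ : C)).Normal := ⟨fun x hx g => by
      obtain ⟨k, rfl⟩ := Subgroup.mem_zpowers_iff.1 hx
      rwa [(Commute.zpow_right (hca g) k).eq, mul_inv_cancel_right]⟩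
    exact GT.le_pCore (IsPGroup.of_card (n := 1) (by rw [Nat.card_zpowers, ha', pow_one])) (Subgroup.mem_zpowers _)
  have hS : Sh C ((pCore 3 C).map C.subtype) a (e.toMonoidHom.comp (QuotientGroup.mk' _)) :=
    ⟨hπ, fun g => (hk g).trans (Subgroup.mem_map_iff_mem C.subtype_injective).symm, Subgroup.map_subtype_le _,
      by rw [Subgroup.card_subtype, hRcard], ha, ⟨_, haR, rfl⟩, hC.le, fun g hg h1 => by
        have h2 : ∀ r ∈ pCore 3 C, ⟨g, hg⟩ * r = r * ⟨g, hg⟩ := fun r hr => Subtype.ext (h1 r ⟨r, hr, rfl⟩)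
        obtain ⟨k, h3⟩ := Subgroup.mem_zpowers_iff.1 (mem_zpowers_of_center hR.2 ha' haR (fun r _ => hca r)
          (sl_faithful hπ hk hRcard (fun τ h3 h4 => Subtype.ext (Subgroup.zpowers_eq_bot.1 (hsig _ (by
            rw [Nat.card_zpowers]; exact coprime_of_sq (congrArg Subtype.val h3)) fun j hj =>
              mem_normalizer_of_conj_mem fun x hx => by
                obtain ⟨k, rfl⟩ := Subgroup.mem_zpowers_iff.1 hx
                rwa [(Commute.zpow_right (congrArg Subtype.val (h4 ⟨j, hJC hj⟩)) k).eq, mul_inv_cancel_right])))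
            fun r hr => (h2 r hr).symm) h2)
        exact Subgroup.mem_zpowers_iff.2 ⟨k, congrArg Subtype.val h3⟩⟩
  obtain ⟨f, q, rfl, rfl, h, hx⟩ := hS.exists_cases hC.symm hJC
    (fun x hx y hy => congrArg Subtype.val (hJcomm.is_comm.comm ⟨x, hx⟩ ⟨y, hy⟩)) hJexp hJcard
  have hs : f.Sig := hsig
  refine ⟨fun h1 => ?_, fun ⟨g, hg⟩ => ?_⟩
  · rcases hx with hx | ⟨w, hx⟩ | ⟨w, hx⟩ | ⟨w, hx⟩
    · exact .inl (h.x1 hx)
    · exact absurd hx.inv.wa (h1 w)
    · exact .inr (h.x3 hs hx hF)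
    · obtain ⟨D, hD⟩ := hx.cod
      exact absurd (Cod.listsL_nil.decide (P := w * (f.v * w * f.v⁻¹) * (f.v⁻¹ * w * f.v) * (f.c1 * f.c2 * f.c3) *
        (w * (f.v * w * f.v⁻¹) * (f.v⁻¹ * w * f.v))⁻¹ = (f.c1 * f.c2 * f.c3)⁻¹) hD (by decide +kernel)) (h1 _)
  obtain ⟨m, hm, h1⟩ := Fr.fuse h.sylS f.a_mem (g := g) (hg ▸ inv_mem f.a_mem)
  rw [hg] at h1
  rcases hx with hx | ⟨w, hx⟩ | ⟨w, hx⟩ | ⟨w, hx⟩
  · obtain ⟨D, hD⟩ := f.cod
    exact absurd h1 ((Fr.hL hD).decide (P := ∀ m ∈ f.H, m * (f.c1 * f.c2 * f.c3) * m⁻¹ ≠ (f.c1 * f.c2 * f.c3)⁻¹) hD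
      (by decide +kernel) m (hx.le hm))
  · exact .inl (h.x2 hs hx)
  · obtain ⟨D, hD⟩ := hx.cod
    exact absurd h1 (((hx.gM hD).1.cons Cod.listsL_nil).decide (P := ∀ m ∈ Subgroup.normalizer (f.J : Set G),
      m * (f.c1 * f.c2 * f.c3) * m⁻¹ ≠ (f.c1 * f.c2 * f.c3)⁻¹) hD (by decide +kernel) m hm)
  · by_cases hc : Subgroup.centralizer {f.c3} ≤ Subgroup.normalizer (f.J : Set G)
    exacts [.inr (.inl (h.x4_aut hs hx hc F hF)), .inr (.inr (h.x4_sp hs hx hc F₂ hF₂))]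

end Cfsg.Agent.S3342
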