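import Mathlib
import Cfsg.Statements.S3343
import Cfsg.Agent.T16.S9b
import Cfsg.Agent.T16.X4

set_option autoImplicit false
set_option linter.style.haveILetI false
set_option linter.unusedVariables false
open Cfsg

namespace Cfsg.Agent.S3343

/-- Let G be a finite group with an element x of order 3 whose centralizer is isomorphic to the centralizer in the symmetric group of degree 9 of a product of three disjoint 3-cycles, and let J ≤ C_G(x) be elementary abelian of order 27 normalizing no non-trivial subgroup of G of order prime to 3. Then either J is normal in G or G is isomorphic to the symmetric group of degree 9. -/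
theorem result {G : Type*} [Group G] [Finite G]
    (x : G) (hx : orderOf x = 3)
    (eC : Subgroup.centralizer ({x} : Set G) ≃*
      Subgroup.centralizer ({Equiv.swap (0 : Fin 9) 1 * Equiv.swap 1 2 * Equiv.swap 3 4 * Equiv.swap 4 5 * Equiv.swap 6 7 * Equiv.swap 7 8} : Set (Equiv.Perm (Fin 9))))
    (J : Subgroup G) (hJC : J ≤ Subgroup.centralizer ({x} : Set G)) (hJcomm : IsMulCommutative J)
    (hJexp : ∀ j ∈ J, j ^ 3 = 1) (hJcard : Nat.card J = 27)
    (hJsig : ∀ K : Subgroup G, (Nat.card K).Coprime 3 → (∀ j ∈ J, K.map (MulAut.conj j).toMonoidHom = K) → K = ⊥) :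
    J.Normal ∨ Nonempty (G ≃* Equiv.Perm (Fin 9)) := by
  obtain ⟨f, rfl, rfl, hH⟩ := T16.Fr.exists_fr hx (Subgroup.mem_centralizer_singleton_iff.2 rfl) le_rfl eC hJC
    (fun a ha b hb => congrArg Subtype.val (hJcomm.is_comm.comm (⟨a, ha⟩ : J) ⟨b, hb⟩)) hJcard
  have _ := hJexp
  obtain ⟨f', h1, h2, -, h3, h4⟩ := T16.Fr.cases (T16.Fr.hc_ok hH.symm)
  have hCa : Subgroup.centralizer {f'.a} = f'.H := by rw [h2, h3, hH]
  have hs : f'.Sig := fun K hK hn => hJsig K hK fun j hj => Inv.Fz.cj_eq_iff.2 (hn (h1 ▸ hj))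
  rw [← h1]
  rcases h4 with h | ⟨w, h⟩ | ⟨e, h⟩ | ⟨d, h⟩
  exacts [.inl (T16.Fr.x1_normal h hCa hs), .inl (T16.Fr.x2_normal h hCa hs), .inl (T16.Fr.x3_normal h hCa hs),
    T16.Fr.x4_main h hCa hs]

end Cfsg.Agent.S3343
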