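import Cfsg.Statements.S3348
import Cfsg.Agent.T16.M12B

set_option autoImplicit false
open Cfsg

namespace Cfsg.Agent.S3348

open Cfsg.Agent.T16.MT Cfsg.Agent.Inv.Fz Subgroup

/-- Let G be a finite group generated by isomorphic subgroups A and B such that C = A ∩ B contains a Sylow 3-subgroup of each of A and B and no non-trivial subgroup of C is normalized by both A and B. Suppose A/O₃(A) and B/O₃(B) are isomorphic to GL(2,3), that O₃(A) and O₃(B) are elementary abelian of order 9 and self-centralizing in A and B respectively (natural modules), and that for a Sylow 3-subgroup S of C the normalizer N_G(Z(S)) lies in A ∩ B. Then G is isomorphic to the Mathieu group M₁₂ or to PSL(3,3). -/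
theorem result {G : Type*} [Group G] [Finite G]
    (A B : Subgroup G) (eAB : Nonempty (A ≃* B)) (hgen : A ⊔ B = ⊤)
    (hSylA : ¬ 3 ∣ ((A ⊓ B).subgroupOf A).index) (hSylB : ¬ 3 ∣ ((A ⊓ B).subgroupOf B).index)
    (hcore : ∀ N : Subgroup G, N ≤ A ⊓ B → (∀ a ∈ A, N.map (MulAut.conj a).toMonoidHom = N) →
      (∀ b ∈ B, N.map (MulAut.conj b).toMonoidHom = N) → N = ⊥)
    (eA : A ⧸ Cfsg.pCore 3 A ≃* GL (Fin 2) (ZMod 3)) (eB : B ⧸ Cfsg.pCore 3 B ≃* GL (Fin 2) (ZMod 3))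
    (hOA : IsMulCommutative (Cfsg.pCore 3 A) ∧ (∀ x ∈ Cfsg.pCore 3 A, x ^ 3 = 1) ∧ Nat.card (Cfsg.pCore 3 A) = 9 ∧
      Subgroup.centralizer ((Cfsg.pCore 3 A : Subgroup A) : Set A) = Cfsg.pCore 3 A)
    (hOB : IsMulCommutative (Cfsg.pCore 3 B) ∧ (∀ x ∈ Cfsg.pCore 3 B, x ^ 3 = 1) ∧ Nat.card (Cfsg.pCore 3 B) = 9 ∧
      Subgroup.centralizer ((Cfsg.pCore 3 B : Subgroup B) : Set B) = Cfsg.pCore 3 B)
    (S : Sylow 3 ↥(A ⊓ B)) (Z : Subgroup G)
    (hZ : Z = ((S : Subgroup ↥(A ⊓ B)) ⊓ Subgroup.centralizer ((S : Subgroup ↥(A ⊓ B)) : Set ↥(A ⊓ B))).map (A ⊓ B).subtype)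
    (hNZ : Subgroup.normalizer (Z : Set G) ≤ A ⊓ B) :
    Cfsg.Spor.IsoM12 G ∨ Nonempty (G ≃* Matrix.ProjectiveSpecialLinearGroup (Fin 3) (ZMod 3)) := by
  have h := agl_of eA hOA
  have h' := agl_of eB hOB
  have := Fact.mk Nat.prime_three
  have hS := isSylIn_map_subtype S
  have k : ∀ K : Subgroup G, A ⊓ B ≤ K → ¬ 3 ∣ (A ⊓ B).relIndex K → pCoreOf 3 K ≤ map (A ⊓ B).subtype S := fun K h1 h2 => by
    have h3 : IsSylIn 3 (map (A ⊓ B).subtype S) K := isSylIn_of_not_dvd (hS.le.trans h1) hS.isPGroup (by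
      rw [← relIndex_mul_relIndex _ _ _ hS.le h1]
      exact fun e => (Nat.prime_three.dvd_mul.1 e).elim hS.not_dvd_relIndex h2)
    exact le_sup_left.trans (h3.eq_of_le ((GT.isPGroup_pCoreOf 3 K).to_sup_of_normal_left' hS.isPGroup
      (h3.le.trans (GT.le_normalizer_pCoreOf K))) (sup_le (GT.pCoreOf_le K) h3.le) le_sup_right).le
  have hE := k A inf_le_left hSylA
  have hF := k B inf_le_right hSylB
  generalize pCoreOf 3 A = E, pCoreOf 3 B = F at h h' hE hF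
  have hb : E ≠ ⊥ := fun e => by simpa [e] using h.card
  have hne : E ≠ F := fun e => hb (hcore E (hE.trans hS.le) (fun a ha => cj_eq_iff.2 (h.norm ha))
    fun b hb => cj_eq_iff.2 (e ▸ h'.norm hb))
  have hZ1 : Z ≤ E ⊓ F := by
    subst hZ
    rintro _ ⟨z, ⟨-, hz⟩, rfl⟩
    have k1 : ∀ e ∈ map (A ⊓ B).subtype S, (z : G) * e = e * z := by
      rintro _ ⟨e, he, rfl⟩
      exact congrArg Subtype.val (hz e he).symm
    exact ⟨h.cent z z.2.1 fun e he => k1 e (hE he), h'.cent z z.2.2 fun e he => k1 e (hF he)⟩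
  obtain ⟨w, hw, w1⟩ : ∃ w ∈ Z, w ≠ 1 := by
    have : Nontrivial (S : Subgroup ↥(A ⊓ B)) := (nontrivial_iff_ne_bot _).2 fun e => hb (by
      rw [e, Subgroup.map_bot] at hE; exact le_bot_iff.1 hE)
    have := S.isPGroup'.center_nontrivial
    obtain ⟨⟨w, hw⟩, w1⟩ := exists_ne (1 : center (S : Subgroup ↥(A ⊓ B)))
    refine ⟨w, hZ ▸ mem_map_of_mem _ ⟨w.2, fun x hx => congrArg Subtype.val (mem_center_iff.1 hw ⟨x, hx⟩)⟩,
      fun e => w1 (Subtype.ext (Subtype.ext (Subtype.ext e)))⟩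
  have hZ2 : E ⊓ F = Z := le_antisymm (by
    rw [h.eq_zp (hZ1 hw).1 w1 inf_le_left (hZ1 hw) fun e => hne (eq_of_le_of_card_ge (e.trans inf_le_right) (by
      rw [h.card, h'.card]))]
    exact zpowers_le.2 hw) hZ1
  exact iso_of_agl h h' ((hE.trans hS.le).trans inf_le_right) ((hF.trans hS.le).trans inf_le_left) hne
    (fun e => w1 (mem_bot.1 (e ▸ hZ1 hw))) (hZ2 ▸ hNZ) hgen

end Cfsg.Agent.S3348
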