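import Mathlib
import Cfsg.Agent.T16.CaEx
import Cfsg.Agent.Hay.Sp
import Cfsg.Agent.Rec.S43.Main
import Cfsg.Agent.GT.Cores
import Cfsg.Agent.GT.Conj
import Cfsg.Statements.S3366

set_option autoImplicit false
open Cfsg

open Cfsg.Agent.T16 Cfsg.Agent.Rec Cfsg.Agent.Inv.Fz Cfsg.Agent.Hay Subgroup

namespace Cfsg.Agent.S3366

theorem cod_of_sh {G : Type*} [Group G] [Finite G] {R J : Subgroup G} {a : G} {π : (⊤ : Subgroup G) →* SL23}
    (h : Sh ⊤ R a π) (hc : ∀ x ∈ J, ∀ y ∈ J, x * y = y * x) (h3 : ∀ x ∈ J, x ^ 3 = 1) (h27 : Nat.card J = 27) :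
    ∃ (D : Cod B6.A G) (e : List G), D.RepL cC e ∧ clos e = ⊤ := by
  obtain ⟨f, -, h2, h4⟩ := h.exists_fr le_top hc h3 h27
  obtain ⟨q, h5, h6⟩ := h.exists_ca h2 h4
  obtain ⟨D, hD⟩ := h5.cod
  exact ⟨D, _, hD, h6⟩

theorem card_jac : Nat.card (Jac (ZMod 3)) = 648 := by rw [Jac.card, Nat.card_zmod]; norm_num

theorem sh_jac : Sh ⊤ (pr (F := ZMod 3)).ker (zz 1) (pr.comp (⊤ : Subgroup (Jac (ZMod 3))).subtype) := by
  have hs : Function.Surjective (pr (F := ZMod 3)) := fun g => ⟨ll g, rfl⟩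
  refine ⟨fun g => ⟨⟨ll g, mem_top _⟩, rfl⟩, fun g => Iff.rfl, le_top, ?_, ?_, rfl,
    fun g _ => mem_cen.2 (zz_comm 1 g).symm, fun g _ h => ?_⟩
  · have h1 := (pr (F := ZMod 3)).ker.index_mul_card
    rw [index_ker, MonoidHom.range_eq_top.2 hs, card_top, sl_card, card_jac] at h1
    omega
  · exact orderOf_eq_prime (by rw [zz_pow, zz_eq_one]; decide) (by rw [Ne, zz_eq_one]; decide)
  · have h1 := h (qq 0 1 0) rfl
    have h2 := h (qq 0 0 1) rfl
    have a1 := congrArg Jac.a h1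
    have x1 := congrArg Jac.x h1
    have y1 := congrArg Jac.y h1
    have a2 := congrArg Jac.a h2
    have x2 := congrArg Jac.x h2
    have y2 := congrArg Jac.y h2
    simp only [Jac.mul_a, Jac.mul_x, Jac.mul_y, qq_a, qq_x, qq_y, qq_g, sl_one00, sl_one01, sl_one10, sl_one11] at a1 x1 y1 a2 x2 y2
    have e1 : g.g.1 0 0 = 1 := by linear_combination x1
    have e2 : g.g.1 1 0 = 0 := by linear_combination y1
    have e3 : g.g.1 0 1 = 0 := by linear_combination x2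
    have e4 : g.g.1 1 1 = 1 := by linear_combination y2
    have h3 : (3 : ZMod 3) = 0 := rfl
    rw [e1, e2] at a1
    rw [e3, e4] at a2
    refine ⟨g.a.val, ?_⟩
    simp only [zpow_natCast, zz_pow]
    exact Jac.ext' (by simp) (by simp only [zz_x]; linear_combination a2 - g.x * h3)
      (by simp only [zz_y]; linear_combination -a1 - g.y * h3) (by simp [e1]) (by simp [e3]) (by simp [e2]) (by simp [e4])

/-- Let X be a finite group with O₃(X) extraspecial of order 27 and exponent 3, X/O₃(X) isomorphic to SL(2,3), O₂(X) = 1, and a Sylow 3-subgroup of X containing an elementary abelian subgroup of order 27. Then X is isomorphic to the centralizer in PSp(4,3) of a 3-central element of order 3 (an element of order 3 in the centre of a Sylow 3-subgroup). -/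
theorem result {X : Type*} [Group X] [Finite X]
    (hR : Cfsg.IsExtraspecial 3 (Cfsg.pCore 3 X)) (hRcard : Nat.card (Cfsg.pCore 3 X) = 27)
    (hRexp : ∀ r ∈ Cfsg.pCore 3 X, r ^ 3 = 1)
    (e : X ⧸ Cfsg.pCore 3 X ≃* Matrix.SpecialLinearGroup (Fin 2) (ZMod 3))
    (hO2 : Cfsg.pCore 2 X = ⊥)
    (hE : ∃ E : Subgroup X, IsMulCommutative E ∧ (∀ a ∈ E, a ^ 3 = 1) ∧ Nat.card E = 27)
    (F : Type*) [Field F] [Fintype F] (hF : Fintype.card F = 3) :
    ∃ (c : Cfsg.PSp 2 F) (S : Sylow 3 (Cfsg.PSp 2 F)), orderOf c = 3 ∧ c ∈ (S : Subgroup (Cfsg.PSp 2 F)) ∧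
      c ∈ Subgroup.centralizer ((S : Subgroup (Cfsg.PSp 2 F)) : Set (Cfsg.PSp 2 F)) ∧
      Nonempty (X ≃* Subgroup.centralizer ({c} : Set (Cfsg.PSp 2 F))) := by
  have hk : ∀ g : X, (e.toMonoidHom.comp (QuotientGroup.mk' _)) g = 1 ↔ g ∈ pCore 3 X := fun g => by simp
  have hπ : Function.Surjective (e.toMonoidHom.comp (QuotientGroup.mk' (pCore 3 X))) :=
    e.surjective.comp (QuotientGroup.mk'_surjective _)
  generalize e.toMonoidHom.comp (QuotientGroup.mk' (pCore 3 X)) = π at hk hπ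
  obtain ⟨⟨⟨a, haR⟩, haZ⟩, ha⟩ := exists_prime_orderOf_dvd_card' (G := center (pCore 3 X)) 3 (by rw [hR.2])
  replace ha : orderOf a = 3 := by rw [← ha, ← orderOf_coe, ← orderOf_coe]
  have h1 : ∀ r ∈ pCore 3 X, r * a = a * r := fun r hr => congrArg Subtype.val (mem_center_iff.1 haZ ⟨r, hr⟩)
  have hn : (pCore 3 X).Normal := inferInstance
  have h2 : ∀ y : X, y * y * a = a * (y * y) := fun y => by
    obtain ⟨k, hk⟩ := mem_zpowers_iff.1 (mem_zpowers_of_center hR.2 ha haR h1 (hn.conj_mem a haR y) fun r hr => by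
      have := h1 _ (hn.conj_mem r hr y⁻¹)
      calc _ = y * (a * (y⁻¹ * r * y⁻¹⁻¹)) * y⁻¹ := by group
        _ = _ := by rw [← this]; group)
    have h3 : ¬ (3 : ℤ) ∣ k := fun h4 => by
      rw [orderOf_dvd_iff_zpow_eq_one.1 (ha ▸ h4 : (orderOf a : ℤ) ∣ k), eq_comm, conj_eq_one] at hk
      simp [hk] at ha
    have h4 : a ^ (k * k) = a ^ (1 : ℤ) := zpow_eq_zpow_iff_modEq.2 (by
      rw [ha]
      have : k % 3 = 1 ∨ k % 3 = 2 := by omega
      rcases this with h5 | h5 <;> simp [Int.ModEq, Int.mul_emod, h5])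
    rw [zpow_mul, hk, conj_zpow, hk, zpow_one] at h4
    rw [← mul_inv_eq_iff_eq_mul]
    exact Eq.trans (by group) h4
  have hS : Sh ⊤ (pCore 3 X) a (π.comp (⊤ : Subgroup X).subtype) := by
    refine ⟨fun y => let ⟨x, e⟩ := hπ y; ⟨⟨x, mem_top x⟩, e⟩, fun g => hk g, le_top, hRcard, ha, haR, fun x _ => ?_,
      fun g _ h3 => mem_zpowers_of_center hR.2 ha haR h1 (sl_faithful hπ hk hRcard (fun τ h4 h5 => ?_)
        fun r hr => (h3 r hr).symm) h3⟩
    · obtain ⟨y, z, h3⟩ := sl_squares (π x)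
      obtain ⟨y, rfl⟩ := hπ y
      obtain ⟨z, rfl⟩ := hπ z
      have h4 : x * (y * y * (z * z))⁻¹ ∈ pCore 3 X := (hk _).1 (by simp only [map_mul, map_inv, h3, mul_inv_cancel])
      exact (mul_mem_cancel_right (inv_mem (mul_mem (mem_cen.2 (h2 y)) (mem_cen.2 (h2 z))))).1 (mem_cen.2 (h1 _ h4))
    · haveI : (zpowers τ).Normal := ⟨fun x hx g => by
        obtain ⟨k, rfl⟩ := mem_zpowers_iff.1 hx
        rwa [(Commute.zpow_right (h5 g) k).eq, mul_inv_cancel_right]⟩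
      refine mem_bot.1 (hO2 ▸ GT.le_pCore (N := zpowers τ) (fun x => ⟨1, ?_⟩) (mem_zpowers τ))
      obtain ⟨_, k, rfl⟩ := x
      exact Subtype.ext (by
        change (τ ^ k) ^ 2 ^ 1 = 1
        rw [pow_one, ← zpow_natCast, ← zpow_mul, mul_comm, zpow_mul, zpow_natCast, pow_two, h4, one_zpow])
  obtain ⟨E, hE1, hE2, hE3⟩ := hE
  obtain ⟨D, l, hD, hl⟩ := cod_of_sh hS (fun x hx y hy => congrArg Subtype.val (hE1.is_comm.comm ⟨x, hx⟩ ⟨y, hy⟩)) hE2 hE3
  obtain ⟨D', l', hD', hl'⟩ := cod_of_sh (J := Ms (ZMod 3)) sh_jac (by rintro _ ⟨v, rfl⟩ _ ⟨w, rfl⟩; exact mm_comm v w)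
    (by rintro _ ⟨v, rfl⟩; rw [mm_pow, mm_eq_one]; revert v; decide)
    ((Nat.card_range_of_injective mm_injective).trans (by simp))
  obtain ⟨φ, -⟩ := hD'.equiv hD
  obtain ⟨τ⟩ : Nonempty (ZMod 3 ≃+* F) := ⟨ZMod.ringEquivOfPrime F Nat.prime_three hF⟩
  have h3 : (pspι (F := ZMod 3)).range = centralizer {pspι (zz 1)} := le_antisymm (by
    rintro _ ⟨s, rfl⟩
    exact mem_cen.2 (by rw [← map_mul, ← map_mul, zz_comm])) fun g hg =>
    pspι_cent (by decide) one_ne_zero g (mem_cen.1 hg)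
  have hi := pspι_injective (F := ZMod 3) (by decide)
  have ψ : Jac (ZMod 3) ≃* centralizer {Cl.pspMapEquiv 2 τ (pspι (zz 1))} :=
    ((MonoidHom.ofInjective hi).trans (MulEquiv.subgroupCongr h3)).trans (((Cl.pspMapEquiv 2 τ).subgroupMap _).trans
      (MulEquiv.subgroupCongr (GT.centralizer_singleton_equiv _ _).symm))
  have ho : orderOf (Cl.pspMapEquiv 2 τ (pspι (zz 1))) = 3 := by
    rw [MulEquiv.orderOf_eq, orderOf_injective _ hi, sh_jac.ord]
  generalize Cl.pspMapEquiv 2 τ (pspι (zz 1)) = c at ψ ho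
  have hG := (Rec.S43.exists_model hF).1
  haveI : Finite (PSp 2 F) := Nat.finite_of_card_ne_zero (by rw [hG]; norm_num)
  obtain ⟨P, hP, hcP⟩ := exists_isSylIn (p := 3) (Q := zpowers c) (H := centralizer {c})
    (IsPGroup.of_card (n := 1) (by rw [Nat.card_zpowers, ho, pow_one])) (zpowers_le.2 (mem_cen.2 rfl))
  have h4 := (centralizer {c}).index_mul_card
  rw [← Nat.card_congr ψ.toEquiv, card_jac, hG] at h4
  have h5 : IsSylIn 3 P ⊤ := isSylIn_of_not_dvd le_top hP.isPGroup (by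
    rw [relIndex_top_right, ← relIndex_mul_index hP.le, show (centralizer {c}).index = 40 by omega]
    exact fun h6 => ((Nat.prime_three.dvd_mul).1 h6).elim hP.not_dvd_relIndex (by norm_num))
  exact ⟨c, h5.toSylowTop, ho, hcP (mem_zpowers c), fun x hx => mem_cen.1 (hP.le hx),
    ⟨((topEquiv.symm.trans (MulEquiv.subgroupCongr hl.symm)).trans φ).trans
      (((MulEquiv.subgroupCongr hl').trans topEquiv).trans ψ)⟩⟩

end Cfsg.Agent.S3366
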