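import Mathlib
import Cfsg.Statements.S3385
import Cfsg.Agent.Loc.CubicArc

set_option autoImplicit false
open Cfsg

namespace Cfsg.Agent.S3385

open Subgroup MulAction Cfsg.Agent.Loc Cfsg.Agent.Loc.Am Cfsg.Agent.Loc.Cub

theorem core_three {X : Type*} [Group X] {B M : Subgroup X} [Finite M] (hB : B ≤ M)
    (h3 : B.relIndex M = 3) : ∃ K : Subgroup X, K ≤ B ∧ M ≤ normalizer (K : Set X) ∧
      K.relIndex B ∣ 2 ∧ ∀ x ∈ B, x ^ 2 ∈ K := by
  let N := (B.subgroupOf M).normalCore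
  have hNB : N.map M.subtype ≤ B := map_le_iff_le_comap.2 (normalCore_le _)
  have hsub : (N.map M.subtype).subgroupOf M = N :=
    comap_map_eq_self_of_injective M.subtype_injective _
  have hn : M ≤ normalizer (N.map M.subtype : Set X) := by
    rw [← normal_subgroupOf_iff_le_normalizer (map_subtype_le _), hsub]
    infer_instance
  have h6 : (N.map M.subtype).relIndex M ∣ 6 := by
    rw [relIndex, hsub]
    have : (B.subgroupOf M).normalCore.index ∣ (B.subgroupOf M).index.factorial := by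
      rw [normalCore_eq_ker, index_ker, index_eq_card, ← Nat.card_perm]
      exact card_subgroup_dvd_card _
    rwa [show (B.subgroupOf M).index = 3 from h3] at this
  have h2 : (N.map M.subtype).relIndex B ∣ 2 := by
    rw [← relIndex_mul_relIndex _ _ _ hNB hB, h3] at h6
    exact Nat.dvd_of_mul_dvd_mul_right (by norm_num : 0 < 3) h6
  refine ⟨_, hNB, hn, h2, fun x hx => ?_⟩
  obtain ⟨c, hc⟩ := h2
  have : ((N.map M.subtype).subgroupOf B).Normal :=
    (normal_subgroupOf_iff_le_normalizer hNB).2 (hB.trans hn)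
  have := pow_index_mem ((N.map M.subtype).subgroupOf B) ⟨x, hx⟩
  rw [hc, pow_mul]
  exact pow_mem this c

theorem two_of_three {X : Type*} [Group X] {M₁ M₂ : Subgroup X} [Finite M₁] [Finite M₂]
    (gen : M₁ ⊔ M₂ = ⊤) (core : ∀ N : Subgroup X, N ≤ M₁ ⊓ M₂ → N.Normal → N = ⊥)
    (h1 : (M₁ ⊓ M₂).relIndex M₁ = 3) (h2 : (M₁ ⊓ M₂).relIndex M₂ = 3) :
    IsPGroup 2 (M₁ ⊓ M₂ : Subgroup X) := by
  set N := closure {x : X | x ∈ M₁ ⊓ M₂ ∧ Odd (orderOf x)}
  have k : ∀ M : Subgroup X, Finite M → M₁ ⊓ M₂ ≤ M → (M₁ ⊓ M₂).relIndex M = 3 →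
      M ≤ normalizer (N : Set X) := by
    intro M _ hle h3
    obtain ⟨K, a, b, -, d⟩ := core_three hle h3
    refine le_normalizer_of_cj fun g hg => ?_
    rw [cj, MonoidHom.map_closure]
    refine closure_mono ?_
    rintro _ ⟨x, ⟨hx, ⟨m, hm⟩⟩, rfl⟩
    have hxK : x ∈ K := by
      have e : x = (x ^ 2) ^ (m + 1) := by
        rw [← pow_mul, show 2 * (m + 1) = orderOf x + 1 by omega, pow_succ, pow_orderOf_eq_one,
          one_mul]
      rw [e]; exact pow_mem (d x hx) _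
    refine ⟨a ((mem_normalizer_iff.1 (b hg) x).1 hxK), ?_⟩
    rw [MulEquiv.coe_toMonoidHom, MulEquiv.orderOf_eq]
    exact ⟨m, hm⟩
  have hN : N = ⊥ := core N ((closure_le _).2 fun _ hx => hx.1) (by
    rw [← normalizer_eq_top_iff, eq_top_iff, ← gen]
    exact sup_le (k M₁ ‹_› inf_le_left h1) (k M₂ ‹_› inf_le_right h2))
  intro x
  have : Finite (M₁ ⊓ M₂ : Subgroup X) := finite_of_le inf_le_left
  obtain ⟨k, m, hm, e⟩ := Nat.exists_eq_two_pow_mul_odd (orderOf_pos x).ne'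
  refine ⟨k, Subtype.ext ?_⟩
  have : ((x ^ 2 ^ k : (M₁ ⊓ M₂ : Subgroup X)) : X) ∈ N := by
    refine subset_closure ⟨(x ^ 2 ^ k).2, ?_⟩
    rw [orderOf_coe, orderOf_pow' _ (by positivity), e, Nat.gcd_eq_right (Dvd.intro _ rfl),
      Nat.mul_div_cancel_left _ (by positivity)]
    exact hm
  rwa [hN, mem_bot] at this

theorem three_or_six {X : Type*} [Group X] {B M : Subgroup X} [Finite M] (hB : B ≤ M)
    (h3 : B.relIndex M = 3) (h2 : IsPGroup 2 B) :
    (pCoreOf 2 M).relIndex M = 3 ∨ (pCoreOf 2 M).relIndex M = 6 := by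
  obtain ⟨K, a, b, c, -⟩ := core_three hB h3
  have s : IsSylowOf 2 B M := isSylowOf_of_not_dvd_relIndex hB h2 (by rw [h3]; decide)
  have d := (relIndex_dvd_of_le_left B (le_pCoreOf (a.trans hB) b (h2.to_le a))).trans c
  rw [← relIndex_mul_relIndex _ _ _ s.pCoreOf_le hB, h3]
  rcases (Nat.dvd_prime Nat.prime_two).1 d with e | e <;> rw [e] <;> simp

theorem normal_of_three {X : Type*} [Group X] {B M : Subgroup X} [Finite M] (hB : B ≤ M)
    (h3 : B.relIndex M = 3) (h2 : IsPGroup 2 B) (h : (pCoreOf 2 M).relIndex M = 3) :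
    M ≤ normalizer (B : Set X) := by
  have s : IsSylowOf 2 B M := isSylowOf_of_not_dvd_relIndex hB h2 (by rw [h3]; decide)
  rw [← relIndex_mul_relIndex _ _ _ s.pCoreOf_le hB, h3] at h
  have e : (pCoreOf 2 M).relIndex B = 1 := by omega
  rw [le_antisymm (relIndex_eq_one.1 e) s.pCoreOf_le]
  exact le_normalizer_pCoreOf 2 M

/-- Sims' Theorem on primitive groups with a suborbit of length 3. Let G be a finite group acting faithfully and primitively on a set Ω, and suppose the stabilizer of a point a has an orbit of length 3 on Ω. Then the stabilizer of a has order 2^k · 3 for some k ≤ 4. -/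
theorem result {G : Type*} [Group G] [Finite G] {Ω : Type*} [MulAction G Ω] [FaithfulSMul G Ω]
    (hprim : MulAction.IsPreprimitive G Ω) (a b : Ω)
    (h3 : Nat.card (MulAction.orbit (MulAction.stabilizer G a) b) = 3) :
    ∃ k : ℕ, k ≤ 4 ∧ Nat.card ↥(MulAction.stabilizer G a) = 2 ^ k * 3 := by
  set M₁ := stabilizer G a with hM₁
  set M₂ := stabilizer G b with hM₂
  have cardB : ∀ M : Subgroup G, M₁ ⊓ M₂ ≤ M →
      Nat.card M = (M₁ ⊓ M₂).relIndex M * Nat.card (M₁ ⊓ M₂ : Subgroup G) := fun M hle => by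
    rw [mul_comm, ← card_mul_index ((M₁ ⊓ M₂).subgroupOf M),
      Nat.card_congr (subgroupOfEquivOfLe hle).toEquiv]
    rfl
  have t1 : (M₁ ⊓ M₂).relIndex M₁ = 3 := by
    rw [← h3, relIndex, inf_subgroupOf_left]
    exact (MulAction.index_stabilizer M₁ b).trans (Nat.card_coe_set_eq _).symm
  obtain ⟨g, hg⟩ := MulAction.exists_smul_eq G a b
  have e : M₂ = cj g M₁ := by
    rw [hM₂, ← hg]; exact stabilizer_smul_eq_stabilizer_map_conj g a
  have t2 : (M₁ ⊓ M₂).relIndex M₂ = 3 := by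
    have a1 := cardB M₁ inf_le_left
    have a2 := cardB M₂ inf_le_right
    have a3 : Nat.card M₂ = Nat.card M₁ := by rw [e, card_cj]
    rw [a3, a1, t1] at a2
    exact (Nat.eq_of_mul_eq_mul_right Nat.card_pos a2).symm
  have nle : ¬ M₂ ≤ M₁ := fun hle => by
    rw [inf_eq_right.2 hle, relIndex_self] at t2; omega
  have : Nontrivial Ω := ⟨⟨a, b, fun e => nle (by rw [hM₁, hM₂, e])⟩⟩
  have gen : M₁ ⊔ M₂ = ⊤ :=
    (IsPreprimitive.isCoatom_stabilizer_of_isPreprimitive G a).2 _ (left_lt_sup.2 nle)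
  have core : ∀ N : Subgroup G, N ≤ M₁ ⊓ M₂ → N.Normal → N = ⊥ := by
    intro N hN hn
    rw [eq_bot_iff]
    intro x hx
    rw [mem_bot]
    refine eq_of_smul_eq_smul (α := Ω) fun w => ?_
    obtain ⟨y, rfl⟩ := MulAction.exists_smul_eq G a w
    have : y⁻¹ * x * y ∈ stabilizer G a := (hN (hn.conj_mem' x hx y)).1
    rw [mem_stabilizer_iff, mul_smul, mul_smul, inv_smul_eq_iff] at this
    rw [this, one_smul]
  have two := two_of_three gen core t1 t2
  have c1 := cardB M₁ inf_le_left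
  rw [t1] at c1
  have eQ : (pCoreOf 2 M₂).relIndex M₂ = (pCoreOf 2 M₁).relIndex M₁ := by
    rw [e, ← cj_pCoreOf, relIndex_cj]
  rcases three_or_six inf_le_left t1 two with h | h
  · have : M₁ ⊓ M₂ = ⊥ := core _ le_rfl (by
      rw [← normalizer_eq_top_iff, eq_top_iff, ← gen]
      exact sup_le (normal_of_three inf_le_left t1 two h)
        (normal_of_three inf_le_right t2 two (eQ.trans h)))
    exact ⟨0, by omega, by rw [c1, this, card_bot]; norm_num⟩
  have hc : Cubic M₁ M₂ := ⟨gen, core, inferInstance, inferInstance, two, t1, t2, h, eQ.trans h⟩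
  obtain ⟨k, hk⟩ := IsPGroup.iff_card.1 two
  refine ⟨k, ?_, by rw [c1, hk, mul_comm]⟩
  suffices Nat.card (M₁ ⊓ M₂ : Subgroup G) ≤ 16 by
    rw [hk] at this
    exact (Nat.pow_le_pow_iff_right (by norm_num : 1 < 2)).1 this
  have adj := cg_adj_inl_inr (M₁ := M₁) (M₂ := M₂) 1
  by_cases hp : IsCharP 2 M₁
  · have hC : CubicC M₁ M₂ := ⟨hc, hp, e ▸ hp.cj g⟩
    have k1 : Nv (Sum.inl ((1 : G) : G ⧸ M₁) : CosetVertex M₁ M₂) ↔
        Nv (Sum.inr ((1 : G) : G ⧸ M₂) : CosetVertex M₁ M₂) := by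
      have e2 : Gv (g • (Sum.inl ((1 : G) : G ⧸ M₁) : CosetVertex M₁ M₂)) =
          Gv (Sum.inr ((1 : G) : G ⧸ M₂) : CosetVertex M₁ M₂) := by
        rw [Gv, Gv, stab_smul, cg_stabilizer_inl_one, cg_stabilizer_inr_one, e]
      have e3 : Nv (g • (Sum.inl ((1 : G) : G ⧸ M₁) : CosetVertex M₁ M₂)) ↔
          Nv (Sum.inr ((1 : G) : G ⧸ M₂) : CosetVertex M₁ M₂) := by
        unfold Nv Zv Qv vertexZ vertexQ Gv
        rw [show stabilizer G _ = stabilizer G _ from e2]
      exact ⟨fun h => e3.1 (h.smul g), fun h => by simpa using (e3.2 h).smul g⁻¹⟩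
    have hN : ∀ v : CosetVertex M₁ M₂, Nv v := by
      intro v
      have := hC.Nv_or_Nv adj
      rcases cg_vertex_cases v with ⟨x, rfl⟩ | ⟨x, rfl⟩
      · exact Nv.smul (by tauto) x
      · exact Nv.smul (by tauto) x
    have := hC.iso_of_N hN adj
    rw [Gv, cg_stabilizer_inl_one] at this
    rcases this with ⟨⟨⟨φ⟩⟩, -⟩ | ⟨⟨⟨φ⟩⟩, -⟩
    · have := Nat.card_congr φ
      rw [Nat.card_perm] at this
      simp [Nat.factorial] at this
      omega
    · have := Nat.card_congr φ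
      rw [Nat.card_prod, Nat.card_perm] at this
      simp [Nat.factorial] at this
      omega
  · have := hc.card_le_of_not_charP adj (by rwa [Gv, cg_stabilizer_inl_one])
    rwa [Gv, Gv, cg_stabilizer_inl_one, cg_stabilizer_inr_one] at this

end Cfsg.Agent.S3385
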