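import Cfsg.Statements.S3390
import Cfsg.Agent.Inv.SylowElt
import Cfsg.Agent.GT.TransferEval
import Cfsg.Agent.S3224

set_option autoImplicit false
open Cfsg

namespace Cfsg.Agent.S3390

open MulAction
open scoped Pointwise

section
variable {G : Type*} [Group G] [Finite G] {Ω : Type*} [Fintype Ω] [MulAction G Ω]

omit [Finite G] in
theorem three (hfix : ∀ g : G, g ≠ 1 → Nat.card (fixedBy Ω g) ≤ 2) {g : G} (hg : g ≠ 1)
    {a b c : Ω} (hab : a ≠ b) (ha : g • a = a) (hb : g • b = b) (hc : g • c = c) :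
    c = a ∨ c = b := by
  classical
  by_contra h
  push Not at h
  have h1 := hfix g hg
  have hsub : (({a, b, c} : Finset Ω) : Set Ω) ⊆ fixedBy Ω g := by
    intro x hx
    simp only [Finset.coe_insert, Finset.coe_singleton, Set.mem_insert_iff,
      Set.mem_singleton_iff] at hx
    rcases hx with rfl | rfl | rfl <;> simpa [mem_fixedBy]
  have h2 := Set.ncard_le_ncard hsub (Set.toFinite _)
  rw [Set.ncard_coe_finset, Finset.card_eq_three.mpr ⟨a, b, c, hab, h.1.symm, h.2.symm, rfl⟩]
    at h2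
  rw [Nat.card_coe_set_eq] at h1
  omega

omit [Finite G] [Fintype Ω] in
/-- an element normalising `T` maps fixed points of `T` to fixed points of `T` -/
theorem norm_fix {T : Subgroup G} {s : G} (hs : s ∈ Subgroup.normalizer (T : Set G)) {a : Ω}
    (ha : ∀ t ∈ T, t • a = a) : ∀ t ∈ T, t • s • a = s • a := by
  intro t ht
  have h1 : s⁻¹ * t * s ∈ T := by
    have := (Subgroup.mem_normalizer_iff''.mp hs t).mp ht
    simpa using this
  have := ha _ h1
  rw [mul_smul, mul_smul, inv_smul_eq_iff] at this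
  exact this

omit [Finite G] in
/-- a 2-group with a fixed point on a set of even size has a second fixed point -/
theorem second {T : Subgroup G} (hT : IsPGroup 2 T) (hΩ : Even (Nat.card Ω)) {a : Ω}
    (ha : ∀ t ∈ T, t • a = a) : ∃ b, b ≠ a ∧ ∀ t ∈ T, t • b = b := by
  have h := hT.exists_fixed_point_of_prime_dvd_card_of_fixed_point (α := Ω)
    (even_iff_two_dvd.mp hΩ) (a := a) (by
      intro t
      exact ha t.1 t.2)
  obtain ⟨b, hb, hab⟩ := h
  exact ⟨b, hab.symm, fun t ht => hb ⟨t, ht⟩⟩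

/-- local structure at a point with nontrivial stabiliser in `S` -/
theorem partner (hfix : ∀ g : G, g ≠ 1 → Nat.card (fixedBy Ω g) ≤ 2) {S : Subgroup G}
    (hS : IsPGroup 2 S) (hΩ : Even (Nat.card Ω)) {a : Ω} (hne : S ⊓ stabilizer G a ≠ ⊥)
    (hnot : ¬ S ≤ stabilizer G a) :
    ∃ b, b ≠ a ∧ (∀ t ∈ S ⊓ stabilizer G a, t • b = b) ∧
      ∃ s ∈ S, s ∈ Subgroup.normalizer ((S ⊓ stabilizer G a : Subgroup G) : Set G) ∧
        s • a = b ∧ s • b = a := by
  obtain ⟨b, hba, hb⟩ := second (T := S ⊓ stabilizer G a) (hS.to_le inf_le_left) hΩ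
    (a := a) (fun t ht => ht.2)
  obtain ⟨s, hsS, hsT, hsN⟩ := Inv.exists_mem_normalizer_of_lt (D := S ⊓ stabilizer G a) hS
    inf_le_left (fun h => hnot (h.trans inf_le_right))
  obtain ⟨⟨t, ht⟩, ht1⟩ := (Subgroup.ne_bot_iff_exists_ne_one).mp hne
  have ht1' : t ≠ 1 := fun h => ht1 (Subtype.ext h)
  have h1 := three hfix ht1' hba.symm ht.2 (hb t ht) (norm_fix hsN (fun t ht => ht.2) t ht)
  have h2 := three hfix ht1' hba.symm ht.2 (hb t ht) (norm_fix hsN hb t ht)
  have hsa : s • a ≠ a := fun h => hsT ⟨hsS, h⟩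
  have h3 : s • a = b := h1.resolve_left hsa
  refine ⟨b, hba, hb, s, hsS, hsN, h3, ?_⟩
  rcases h2 with h2 | h2
  · exact h2
  · exact absurd (smul_left_cancel s (h3.trans h2.symm)) hba.symm

/-- stabiliser of order two: `S` dihedral, semidihedral or of order four -/
theorem card_two (hfix : ∀ g : G, g ≠ 1 → Nat.card (fixedBy Ω g) ≤ 2) {S : Subgroup G}
    (hS : IsPGroup 2 S) (hΩ : Even (Nat.card Ω)) {a : Ω}
    (h2 : Nat.card (S ⊓ stabilizer G a : Subgroup G) = 2) (hnot : ¬ S ≤ stabilizer G a) :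
    (∃ n, Nonempty (S ≃* DihedralGroup n)) ∨ IsQuasiDihedral S ∨ Nat.card S = 4 := by
  have hne : S ⊓ stabilizer G a ≠ ⊥ := by
    intro h
    rw [h] at h2
    simp at h2
  obtain ⟨b, hba, hb, s, hsS, hsN, hsa, hsb⟩ := partner hfix hS hΩ hne hnot
  obtain ⟨⟨t, ht⟩, ht1⟩ := (Subgroup.ne_bot_iff_exists_ne_one).mp hne
  have ht1' : t ≠ 1 := fun h => ht1 (Subtype.ext h)
  have hall : ∀ u ∈ S ⊓ stabilizer G a, u = 1 ∨ u = t := by
    intro u hu
    obtain ⟨y, -, hy⟩ := (Nat.card_eq_two_iff' (1 : (S ⊓ stabilizer G a : Subgroup G))).mp h2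
    by_cases hu1 : u = 1
    · exact Or.inl hu1
    · right
      have e1 := hy ⟨u, hu⟩ (fun h => hu1 (congrArg Subtype.val h))
      have e2 := hy ⟨t, ht⟩ ht1
      exact congrArg Subtype.val (e1.trans e2.symm)
  have htt : t * t = 1 := by
    rcases hall (t * t) (Subgroup.mul_mem _ ht ht) with h | h
    · exact h
    · exact absurd (mul_eq_left.mp h) ht1'
  have hord : orderOf (⟨t, ht.1⟩ : S) = 2 := by
    refine orderOf_eq_prime ?_ ?_
    · ext; simpa [pow_two] using htt
    · intro h; exact ht1' (congrArg Subtype.val h)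
  refine S3224.result hS ⟨t, ht.1⟩ hord ?_
  set C : Subgroup S := Subgroup.centralizer {(⟨t, ht.1⟩ : S)} with hC
  set T' : Subgroup S := (S ⊓ stabilizer G a).subgroupOf S with hT'
  have hTC : T' ≤ C := by
    intro u hu
    rw [hC, Subgroup.mem_centralizer_singleton_iff]
    rcases hall u.1 hu with h | h
    · have : u = 1 := Subtype.ext h
      rw [this]; simp
    · have : u = ⟨t, ht.1⟩ := Subtype.ext h
      rw [this]
  have hsC : (⟨s, hsS⟩ : S) ∈ C := by
    rw [hC, Subgroup.mem_centralizer_singleton_iff]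
    have h1 : s * t * s⁻¹ ∈ S ⊓ stabilizer G a := (Subgroup.mem_normalizer_iff.mp hsN t).mp ht
    rcases hall _ h1 with h | h
    · exfalso; apply ht1'
      have : t = s⁻¹ * (s * t * s⁻¹) * s := by group
      rw [this, h]; group
    · ext
      show s * t = t * s
      calc s * t = (s * t * s⁻¹) * s := by group
        _ = t * s := by rw [h]
  have hidx : (T'.subgroupOf C).index = 2 := by
    rw [Subgroup.index_eq_two_iff]
    refine ⟨⟨⟨s, hsS⟩, hsC⟩, fun c => ?_⟩
    have hc := Subgroup.mem_centralizer_singleton_iff.mp c.2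
    have hc' : (c : S).1 * t = t * (c : S).1 := congrArg Subtype.val hc
    have hfb : t • (c : S).1 • b = (c : S).1 • b := by
      rw [← mul_smul, ← hc', mul_smul, hb t ht]
    have hfa : t • (c : S).1 • a = (c : S).1 • a := by
      rw [← mul_smul, ← hc', mul_smul, ht.2]
    have h1 := three hfix ht1' hba.symm ht.2 (hb t ht) hfa
    have h3 := three hfix ht1' hba.symm ht.2 (hb t ht) hfb
    have e1 : c * ⟨⟨s, hsS⟩, hsC⟩ ∈ T'.subgroupOf C ↔ (c : S).1 • b = a := by
      rw [Subgroup.mem_subgroupOf, hT', Subgroup.mem_subgroupOf, Subgroup.mem_inf,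
        mem_stabilizer_iff]
      simp only [Subgroup.coe_mul, mul_smul, hsa]
      exact ⟨fun h => h.2, fun h => ⟨Subgroup.mul_mem _ (c : S).2 hsS, h⟩⟩
    have e2 : c ∈ T'.subgroupOf C ↔ (c : S).1 • a = a := by
      rw [Subgroup.mem_subgroupOf, hT', Subgroup.mem_subgroupOf, Subgroup.mem_inf,
        mem_stabilizer_iff]
      exact ⟨fun h => h.2, fun h => ⟨(c : S).2, h⟩⟩
    rw [e1, e2]
    have hinj : (c : S).1 • a ≠ (c : S).1 • b := fun h => hba (smul_left_cancel _ h).symm
    rcases h1 with h1 | h1 <;> rcases h3 with h3 | h3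
    · exact absurd (h1.trans h3.symm) hinj
    · right; exact ⟨h1, fun h => hba (h3.symm.trans h)⟩
    · left; exact ⟨h3, fun h => hba (h1.symm.trans h)⟩
    · exact absurd (h1.trans h3.symm) hinj
  have hc1 : Nat.card (T'.subgroupOf C) = 2 := by
    rw [Nat.card_congr (Subgroup.subgroupOfEquivOfLe hTC).toEquiv, hT',
      Nat.card_congr (Subgroup.subgroupOfEquivOfLe inf_le_left).toEquiv, h2]
  have := (T'.subgroupOf C).card_mul_index
  rw [hc1, hidx] at this
  omega

/-- stabiliser of order at least three: every element of `S` preserves the pair -/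
theorem pair_inv (hfix : ∀ g : G, g ≠ 1 → Nat.card (fixedBy Ω g) ≤ 2) {S : Subgroup G}
    (hS : IsPGroup 2 S) {a b : Ω} (hba : b ≠ a)
    (hb : ∀ t ∈ S ⊓ stabilizer G a, t • b = b)
    (h3 : 3 ≤ Nat.card (S ⊓ stabilizer G a : Subgroup G)) :
    ∀ s ∈ S, (s • a = a ∨ s • a = b) ∧ (s • b = a ∨ s • b = b) := by
  classical
  set T := S ⊓ stabilizer G a with hT
  have hne : T ≠ ⊥ := by
    intro h
    rw [h] at h3
    simp at h3
  obtain ⟨⟨t, ht⟩, ht1⟩ := (Subgroup.ne_bot_iff_exists_ne_one).mp hne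
  have ht1' : t ≠ 1 := fun h => ht1 (Subtype.ext h)
  have hN : ∀ s ∈ Subgroup.normalizer (T : Set G),
      (s • a = a ∨ s • a = b) ∧ (s • b = a ∨ s • b = b) := fun s hs =>
    ⟨three hfix ht1' hba.symm ht.2 (hb t ht) (norm_fix hs (fun t ht => ht.2) t ht),
      three hfix ht1' hba.symm ht.2 (hb t ht) (norm_fix hs hb t ht)⟩
  by_cases hle : S ≤ S ⊓ Subgroup.normalizer (T : Set G)
  · exact fun s hs => hN s (hle hs).2
  exfalso
  obtain ⟨s, hsS, hsT, hsN⟩ := Inv.exists_mem_normalizer_of_lt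
    (D := S ⊓ Subgroup.normalizer (T : Set G)) hS inf_le_left hle
  -- conjugates of elements of `T` by `s` lie in `N_S(T)`
  have hconj : ∀ u ∈ T, s * u * s⁻¹ ∈ S ⊓ Subgroup.normalizer (T : Set G) := fun u hu =>
    (Subgroup.mem_normalizer_iff.mp hsN u).mp ⟨hu.1, Subgroup.le_normalizer hu⟩
  -- some nontrivial one fixes `a`
  have hex : ∃ u ∈ T, u ≠ 1 ∧ (s * u * s⁻¹) • a = a := by
    have : Finite T := inferInstance
    have hlt : Nat.card ({a, b} : Finset Ω) < Nat.card T := by
      rw [Nat.card_eq_fintype_card, Fintype.card_coe]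
      have := Finset.card_le_two (a := a) (b := b)
      omega
    let f : T → ({a, b} : Finset Ω) := fun u => ⟨(s * u.1 * s⁻¹) • a, by
      have := (hN _ (hconj u.1 u.2).2).1
      simpa using this⟩
    have hf : ¬ Function.Injective f := fun h => by
      have := Nat.card_le_card_of_injective f h
      omega
    rw [Function.Injective] at hf
    push Not at hf
    obtain ⟨u, v, huv, hne⟩ := hf
    have huv' : (s * u.1 * s⁻¹) • a = (s * v.1 * s⁻¹) • a := congrArg Subtype.val huv
    refine ⟨v.1⁻¹ * u.1, T.mul_mem (T.inv_mem v.2) u.2, ?_, ?_⟩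
    · intro h
      apply hne
      ext
      exact (inv_mul_eq_one.mp h).symm
    · have : s * (v.1⁻¹ * u.1) * s⁻¹ = (s * v.1 * s⁻¹)⁻¹ * (s * u.1 * s⁻¹) := by group
      rw [this, mul_smul, huv', inv_smul_smul]
  obtain ⟨u, hu, hu1, hua⟩ := hex
  have hw : s * u * s⁻¹ ∈ T := ⟨(hconj u hu).1, hua⟩
  have hw1 : s * u * s⁻¹ ≠ 1 := by
    intro h
    apply hu1
    have : u = s⁻¹ * (s * u * s⁻¹) * s := by group
    rw [this, h]; group
  have hfa : (s * u * s⁻¹) • s • a = s • a := by
    rw [mul_smul, mul_smul, inv_smul_smul, hu.2]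
  have hfb : (s * u * s⁻¹) • s • b = s • b := by
    rw [mul_smul, mul_smul, inv_smul_smul, hb u hu]
  have h1 := three hfix hw1 hba.symm hw.2 (hb _ hw) hfa
  have h2 := three hfix hw1 hba.symm hw.2 (hb _ hw) hfb
  apply hsT
  refine ⟨hsS, ?_⟩
  -- `s` preserves the pair, so normalises `T`
  have key : ∀ v ∈ T, s * v * s⁻¹ ∈ T := by
    intro v hv
    refine ⟨(hconj v hv).1, ?_⟩
    show (s * v * s⁻¹) • a = a
    have hinj : s • a ≠ s • b := fun h => hba (smul_left_cancel _ h).symm
    have hs' : s⁻¹ • a = a ∨ s⁻¹ • a = b := by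
      rcases h1 with h1 | h1
      · left; rw [inv_smul_eq_iff, h1]
      · rcases h2 with h2 | h2
        · right; rw [inv_smul_eq_iff, h2]
        · exact absurd (h1.trans h2.symm) hinj
    rw [mul_smul, mul_smul]
    rcases hs' with h | h
    · rw [h, hv.2]; exact (inv_smul_eq_iff.mp h).symm
    · rw [h, hb v hv]; exact (inv_smul_eq_iff.mp h).symm
  exact Subgroup.mem_normalizer_fintype key

omit [Fintype Ω] in
/-- the transfer: a subgroup of index two meeting `S` in the point stabiliser -/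
theorem exists_index_two (S : Sylow 2 G) {a : Ω} {s0 : G} (hs0 : s0 ∈ (S : Subgroup G))
    (hs0a : s0 • a ≠ a)
    (hmul : ∀ s ∈ (S : Subgroup G), ∀ t ∈ (S : Subgroup G), s • a ≠ a → t • a ≠ a →
      (s * t) • a = a)
    (hfx : ∀ s ∈ (S : Subgroup G), ∀ ω : Ω, s • ω = ω → s • a = a) :
    ∃ H : Subgroup G, H.Normal ∧ H.index = 2 ∧ ∀ s ∈ (S : Subgroup G), s ∈ H ↔ s • a = a := by
  classical
  let φ : (S : Subgroup G) →* ℤˣ := MonoidHom.mk' (fun s => if s.1 • a = a then 1 else -1) (by
    intro s t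
    by_cases hs : s.1 • a = a <;> by_cases ht : t.1 • a = a
    · simp [mul_smul, hs, ht]
    · have : (s.1 * t.1) • a ≠ a := by
        intro h
        apply ht
        rw [mul_smul] at h
        exact smul_left_cancel s.1 (h.trans hs.symm)
      simp [hs, ht, this]
    · have : (s.1 * t.1) • a ≠ a := by rw [mul_smul, ht]; exact hs
      simp [hs, ht, this]
    · simp [hs, ht, hmul _ s.2 _ t.2 hs ht])
  have hφ : ∀ s : (S : Subgroup G), φ s = if s.1 • a = a then 1 else -1 := fun s => rfl
  have hodd : Odd (S : Subgroup G).index := by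
    rw [← Nat.not_even_iff_odd, even_iff_two_dvd]
    exact S.not_dvd_index
  have hV : ∀ s : (S : Subgroup G), φ.transfer s.1 = φ s := by
    intro s
    rw [GT.Tr.transfer_eq_pow_of_conj φ s]
    · rw [hφ]
      split_ifs
      · simp
      · exact hodd.neg_one_pow
    · intro k t hk
      rw [← map_pow, hφ, hφ]
      have : (t⁻¹ * s.1 ^ k * t) • a = a ↔ (s ^ k).1 • a = a := by
        constructor
        · intro h
          refine hfx _ (s ^ k).2 (t • a) ?_
          rw [mul_smul, mul_smul, inv_smul_eq_iff] at h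
          exact h
        · intro h
          refine hfx _ hk (t⁻¹ • a) ?_
          rw [mul_smul, mul_smul, smul_inv_smul]
          exact congrArg _ h
      simp only [this]
  refine ⟨φ.transfer.ker, inferInstance, ?_, ?_⟩
  · rw [Subgroup.index_ker]
    have : φ.transfer.range = ⊤ := by
      rw [eq_top_iff]
      intro u _
      rcases Int.units_eq_one_or u with rfl | rfl
      · exact Subgroup.one_mem _
      · refine ⟨s0, ?_⟩
        rw [hV ⟨s0, hs0⟩, hφ, if_neg hs0a]
    rw [this, Subgroup.card_top]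
    simp
  · intro s hs
    rw [MonoidHom.mem_ker, hV ⟨s, hs⟩, hφ]
    split_ifs with h
    · simp [h]
    · simp [h]

/-- the index two subgroup is a Frobenius group -/
theorem frob [FaithfulSMul G Ω] (htr : IsPretransitive G Ω)
    (hfix : ∀ g : G, g ≠ 1 → Nat.card (fixedBy Ω g) ≤ 2) (hΩ : Even (Nat.card Ω))
    (S : Sylow 2 G) {a b : Ω} (hba : b ≠ a) (hne : (S : Subgroup G) ⊓ stabilizer G a ≠ ⊥)
    (hb : ∀ t ∈ (S : Subgroup G) ⊓ stabilizer G a, t • b = b)
    {s0 : G} (hs0 : s0 ∈ (S : Subgroup G)) (hs0a : s0 • a = b)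
    (hfx : ∀ s ∈ (S : Subgroup G), ∀ ω : Ω, s • ω = ω → s • a = a)
    (hidx : ((S : Subgroup G) ⊓ stabilizer G a).relIndex S = 2)
    {H : Subgroup G} [H.Normal] (hH : H.index = 2)
    (hHS : ∀ s ∈ (S : Subgroup G), s ∈ H ↔ s • a = a) :
    IsFrobeniusComplement ((stabilizer G a).subgroupOf H) := by
  classical
  set T := (S : Subgroup G) ⊓ stabilizer G a with hT
  have hs0H : s0 ∉ H := fun h => hba (hs0a.symm.trans ((hHS _ hs0).mp h))
  have hTH : T ≤ H := fun t ht => (hHS t ht.1).mpr ht.2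
  have hodd : ¬ 2 ∣ (S : Subgroup G).index := S.not_dvd_index
  have hGa : stabilizer G a ≤ H := by
    have h1 : T.relIndex S * (S : Subgroup G).index = T.index :=
      Subgroup.relIndex_mul_index inf_le_left
    have h2 : T.relIndex (H ⊓ stabilizer G a) * (H ⊓ stabilizer G a).index = T.index :=
      Subgroup.relIndex_mul_index (le_inf hTH inf_le_right)
    have h3 : (H ⊓ stabilizer G a).relIndex (stabilizer G a) * (stabilizer G a).index =
        (H ⊓ stabilizer G a).index := Subgroup.relIndex_mul_index inf_le_right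
    rw [Subgroup.inf_relIndex_right, index_stabilizer_of_transitive] at h3
    have h4 : H.relIndex (stabilizer G a) ∣ 2 := hH ▸ Subgroup.relIndex_dvd_index_of_normal _ _
    rcases (Nat.dvd_prime Nat.prime_two).mp h4 with h5 | h5
    · exact Subgroup.relIndex_eq_one.mp h5
    · exfalso
      obtain ⟨m, hm⟩ := hΩ
      rw [h5, hm] at h3
      rw [hidx, ← h2, ← h3] at h1
      apply hodd
      refine ⟨T.relIndex (H ⊓ stabilizer G a) * m, ?_⟩
      nlinarith
  have horb : ∀ g : G, ∀ h ∈ H, g • a = h • a → g ∈ H := by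
    intro g h hh e
    have : h⁻¹ * g ∈ H := hGa (by rw [mem_stabilizer_iff, mul_smul, e, inv_smul_smul])
    simpa using H.mul_mem hh this
  obtain ⟨⟨t, ht⟩, ht1⟩ := (Subgroup.ne_bot_iff_exists_ne_one).mp hne
  have ht1' : t ≠ 1 := fun h => ht1 (Subtype.ext h)
  refine ⟨?_, ?_, ?_⟩
  · rw [Subgroup.ne_bot_iff_exists_ne_one]
    refine ⟨⟨⟨t, hTH ht⟩, ht.2⟩, fun h => ht1' ?_⟩
    exact congrArg (fun x => x.1.1) h
  · intro h
    rw [Subgroup.subgroupOf_eq_top] at h
    apply ht1'
    refine eq_of_smul_eq_smul (α := Ω) fun ω => ?_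
    obtain ⟨g, rfl⟩ := exists_smul_eq G a ω
    have : g⁻¹ * t * g ∈ H := by
      simpa using ‹H.Normal›.conj_mem t (hTH ht) g⁻¹
    have h2 := h this
    rw [mem_stabilizer_iff, mul_smul, mul_smul, inv_smul_eq_iff] at h2
    rw [h2, one_smul]
  · intro h hh
    rw [eq_bot_iff]
    intro x hx
    by_contra hx1
    have hx1' : x.1 ≠ 1 := fun e => hx1 (Subgroup.mem_bot.mpr (Subtype.ext e))
    have hha : h.1 • a ≠ a := hh
    have hxa : x.1 • a = a := hx.1
    have hxc : x.1 • h.1 • a = h.1 • a := by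
      have h2 := (Subgroup.mem_inf.mp hx).2
      rw [Subgroup.mem_pointwise_smul_iff_inv_smul_mem, Subgroup.mem_subgroupOf,
        mem_stabilizer_iff] at h2
      have h3 : (h.1⁻¹ * x.1 * h.1) • a = a := by simpa using h2
      rw [mul_smul, mul_smul, inv_smul_eq_iff] at h3
      exact h3
    set c := h.1 • a with hc
    set D := stabilizer G a ⊓ stabilizer G c with hD
    have hDc : Nat.card D ≠ 1 := by
      intro e
      have : D = ⊥ := Subgroup.eq_bot_of_card_eq _ e
      have hxD : x.1 ∈ D := ⟨hxa, hxc⟩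
      rw [this] at hxD
      exact hx1' hxD
    obtain ⟨p, hp, hpd⟩ := Nat.exists_prime_and_dvd hDc
    have : Fact p.Prime := ⟨hp⟩
    obtain ⟨⟨y, hyD⟩, hy⟩ := exists_prime_orderOf_dvd_card' p hpd
    have hy' : orderOf y = p := by rw [← hy]; exact (Subgroup.orderOf_mk _ _).symm
    have hy1 : y ≠ 1 := by
      intro e
      rw [e, orderOf_one] at hy'
      exact hp.one_lt.ne hy'
    have hyP : IsPGroup p (Subgroup.zpowers y) :=
      Inv.isPGroup_zpowers_of_orderOf (k := 1) (by rw [hy', pow_one])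
    obtain ⟨P, hP⟩ := hyP.exists_le_sylow
    have hyP' : y ∈ (P : Subgroup G) := hP (Subgroup.mem_zpowers y)
    by_cases hp2 : p = 2
    · subst hp2
      obtain ⟨g, hg⟩ := exists_smul_eq G P S
      have hyS : g * y * g⁻¹ ∈ (S : Subgroup G) := by
        rw [← hg, Sylow.coe_subgroup_smul]
        exact Subgroup.smul_mem_pointwise_smul _ _ _ hyP'
      have f1 : (g * y * g⁻¹) • g • a = g • a := by
        rw [mul_smul, mul_smul, inv_smul_smul, hyD.1]
      have f2 : (g * y * g⁻¹) • g • c = g • c := by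
        rw [mul_smul, mul_smul, inv_smul_smul, hyD.2]
      have hyT : g * y * g⁻¹ ∈ T := ⟨hyS, hfx _ hyS _ f1⟩
      have hw1 : g * y * g⁻¹ ≠ 1 := by
        intro h
        apply hy1
        have : y = g⁻¹ * (g * y * g⁻¹) * g := by group
        rw [this, h]; group
      have e1 := three hfix hw1 hba.symm hyT.2 (hb _ hyT) f1
      have e2 := three hfix hw1 hba.symm hyT.2 (hb _ hyT) f2
      have hinj : g • a ≠ g • c := fun e => hha (smul_left_cancel _ e).symm
      have hgc : g • c = (g * h.1) • a := by rw [mul_smul]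
      apply hs0H
      rcases e1 with e1 | e1 <;> rcases e2 with e2 | e2
      · exact absurd (e1.trans e2.symm) hinj
      · have hgH : g ∈ H := hGa e1
        exact horb s0 _ (H.mul_mem hgH h.2) (by rw [hs0a, ← hgc, e2])
      · have hgH : g * h.1 ∈ H := hGa (by rw [mem_stabilizer_iff, ← hgc, e2])
        have hgH' : g ∈ H := by simpa using H.mul_mem hgH (H.inv_mem h.2)
        exact horb s0 _ hgH' (by rw [hs0a, e1])
      · exact absurd (e1.trans e2.symm) hinj
    · have hPD : (P : Subgroup G) ≤ D := by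
        by_contra hcon
        obtain ⟨z, hzP, hzD, hzN⟩ := Inv.exists_mem_normalizer_of_lt (D := (P : Subgroup G) ⊓ D)
          P.isPGroup' inf_le_left (fun e => hcon (e.trans inf_le_right))
        have g1 := three hfix hy1 hha.symm hyD.1 hyD.2
          (norm_fix hzN (a := a) (fun t ht => ht.2.1) y ⟨hyP', hyD⟩)
        have g2 := three hfix hy1 hha.symm hyD.1 hyD.2
          (norm_fix hzN (a := c) (fun t ht => ht.2.2) y ⟨hyP', hyD⟩)
        have hinj : z • a ≠ z • c := fun e => hha (smul_left_cancel _ e).symm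
        have hzz : z * z ∈ D := by
          rcases g1 with g1 | g1 <;> rcases g2 with g2 | g2
          · exact absurd (g1.trans g2.symm) hinj
          · exact D.mul_mem ⟨g1, g2⟩ ⟨g1, g2⟩
          · exact Subgroup.mem_inf.mpr ⟨by rw [mem_stabilizer_iff, mul_smul, g1, g2],
              by rw [mem_stabilizer_iff, mul_smul, g2, g1]⟩
          · exact absurd (g1.trans g2.symm) hinj
        obtain ⟨k, hk⟩ := P.isPGroup' ⟨z, hzP⟩
        have hk' : z ^ p ^ k = 1 := congrArg Subtype.val hk
        obtain ⟨m, hm⟩ : Odd (p ^ k) := (hp.odd_of_ne_two hp2).pow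
        apply hzD
        refine ⟨hzP, ?_⟩
        have : z = ((z * z) ^ m)⁻¹ := by
          rw [hm, pow_succ, pow_mul, pow_two] at hk'
          exact (eq_inv_of_mul_eq_one_right hk')
        rw [this]
        exact D.inv_mem (D.pow_mem hzz m)
      have hPH : (P : Subgroup G) ≤ H := hPD.trans (inf_le_left.trans hGa)
      have hFr := P.normalizer_sup_eq_top' hPH
      have hNH : Subgroup.normalizer (P : Set G) ≤ H := by
        intro n hn
        have g1 := three hfix hy1 hha.symm hyD.1 hyD.2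
          (norm_fix (T := (P : Subgroup G)) hn (a := a) (fun t ht => (hPD ht).1) y hyP')
        rcases g1 with g1 | g1
        · exact hGa g1
        · exact horb n _ h.2 g1
      rw [sup_of_le_right hNH] at hFr
      rw [hFr] at hs0H
      exact hs0H (Subgroup.mem_top _)

end

/-- Let G be a finite group acting faithfully and transitively on a finite set Ω with fixity 2 (every non-identity element fixes at most two points, and some fixes exactly two). Let α ∈ Ω and S a Sylow 2-subgroup of G. Then one of the following holds: the stabilizer S_α of α in S is trivial; S is dihedral or semidihedral and either |S_α| = 2 or |S : S_α| = 2; |S| ≥ 4, S has exactly one orbit of size 2 on Ω, every other S-orbit is regular, and G has a normal subgroup of index 2 or of index |S| which is a Frobenius group; or S ≤ G_α. -/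
theorem result {G : Type*} [Group G] [Finite G] {Ω : Type*} [Fintype Ω] [MulAction G Ω] [FaithfulSMul G Ω] (htr : MulAction.IsPretransitive G Ω)
    (hfix : ∀ g : G, g ≠ 1 → Nat.card (MulAction.fixedBy Ω g) ≤ 2) (hex : ∃ g : G, g ≠ 1 ∧ Nat.card (MulAction.fixedBy Ω g) = 2) (α : Ω) (S : Sylow 2 G) :
    (S : Subgroup G) ⊓ MulAction.stabilizer G α = ⊥ ∨
    (((∃ n : ℕ, Nonempty (↥(S : Subgroup G) ≃* DihedralGroup n)) ∨ Cfsg.IsQuasiDihedral ↥(S : Subgroup G)) ∧
       (Nat.card ↥((S : Subgroup G) ⊓ MulAction.stabilizer G α) = 2 ∨ ((S : Subgroup G) ⊓ MulAction.stabilizer G α).relIndex (S : Subgroup G) = 2)) ∨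
    (4 ≤ Nat.card (S : Subgroup G) ∧
       (∃ ω : Ω, Nat.card (MulAction.orbit ↥(S : Subgroup G) ω) = 2 ∧
          ∀ ω' : Ω, ω' ∉ MulAction.orbit ↥(S : Subgroup G) ω → Nat.card (MulAction.orbit ↥(S : Subgroup G) ω') = Nat.card (S : Subgroup G)) ∧
       ∃ N : Subgroup G, N.Normal ∧ (N.index = 2 ∨ N.index = Nat.card (S : Subgroup G)) ∧ (∃ H : Subgroup ↥N, Cfsg.IsFrobeniusComplement H)) ∨
    (S : Subgroup G) ≤ MulAction.stabilizer G α := by
  classical
  by_cases hne : (S : Subgroup G) ⊓ stabilizer G α = ⊥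
  · exact Or.inl hne
  by_cases hle : (S : Subgroup G) ≤ stabilizer G α
  · exact Or.inr (Or.inr (Or.inr hle))
  right
  have hS := S.isPGroup'
  obtain ⟨⟨t, ht⟩, ht1⟩ := (Subgroup.ne_bot_iff_exists_ne_one).mp hne
  have ht1' : t ≠ 1 := fun h => ht1 (Subtype.ext h)
  -- `S` has no fixed point
  have hnofix : ∀ ω : Ω, ¬ (S : Subgroup G) ≤ stabilizer G ω := by
    intro ω hω
    have hωα : α ≠ ω := by rintro rfl; exact hle hω
    obtain ⟨s, hsS, hsT, hsN⟩ := Inv.exists_mem_normalizer_of_lt
      (D := (S : Subgroup G) ⊓ stabilizer G α) hS inf_le_left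
      (fun h => hle (h.trans inf_le_right))
    rcases three hfix ht1' hωα ht.2 (hω ht.1) (norm_fix hsN (fun t ht => ht.2) t ht) with h | h
    · exact hsT ⟨hsS, h⟩
    · exact hωα (smul_left_cancel s (h.trans (hω hsS).symm))
  have hΩ : Even (Nat.card Ω) := by
    by_contra hodd
    obtain ⟨ω, hω⟩ := hS.nonempty_fixed_point_of_prime_not_dvd_card (α := Ω)
      (fun h => hodd (even_iff_two_dvd.mpr h))
    exact hnofix ω (fun s hs => hω ⟨s, hs⟩)
  obtain ⟨b, hba, hb, s0, hs0S, hs0N, hs0a, hs0b⟩ := partner hfix hS hΩ hne hle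
  set T := (S : Subgroup G) ⊓ stabilizer G α with hT
  have hcardT : 2 ≤ Nat.card T := by
    have h1 : Nat.card T ≠ 1 := fun e => hne (Subgroup.eq_bot_of_card_eq _ e)
    have h2 : 0 < Nat.card T := Nat.card_pos
    omega
  have hmulT : Nat.card T * T.relIndex S = Nat.card S := by
    rw [← Nat.card_congr (Subgroup.subgroupOfEquivOfLe (inf_le_left : T ≤ S)).toEquiv]
    exact (T.subgroupOf S).card_mul_index
  by_cases hds : (∃ n : ℕ, Nonempty (↥(S : Subgroup G) ≃* DihedralGroup n)) ∨
      Cfsg.IsQuasiDihedral ↥(S : Subgroup G)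
  · left
    refine ⟨hds, ?_⟩
    by_cases h2 : Nat.card T = 2
    · exact Or.inl h2
    right
    have hp := pair_inv hfix hS hba hb (by rw [← hT]; omega)
    rw [Subgroup.relIndex, Subgroup.index_eq_two_iff]
    refine ⟨⟨s0, hs0S⟩, fun c => ?_⟩
    have e1 : c * ⟨s0, hs0S⟩ ∈ T.subgroupOf S ↔ c.1 • b = α := by
      rw [Subgroup.mem_subgroupOf, hT, Subgroup.mem_inf, mem_stabilizer_iff]
      simp only [Subgroup.coe_mul, mul_smul, hs0a]
      exact ⟨fun h => h.2, fun h => ⟨Subgroup.mul_mem _ c.2 hs0S, h⟩⟩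
    have e2 : c ∈ T.subgroupOf S ↔ c.1 • α = α := by
      rw [Subgroup.mem_subgroupOf, hT, Subgroup.mem_inf, mem_stabilizer_iff]
      exact ⟨fun h => h.2, fun h => ⟨c.2, h⟩⟩
    rw [e1, e2]
    have hinj : c.1 • α ≠ c.1 • b := fun h => hba (smul_left_cancel _ h).symm
    obtain ⟨h1, h3⟩ := hp c.1 c.2
    rcases h1 with h1 | h1 <;> rcases h3 with h3 | h3
    · exact absurd (h1.trans h3.symm) hinj
    · right; exact ⟨h1, fun h => hba (h3.symm.trans h)⟩
    · left; exact ⟨h3, fun h => hba (h1.symm.trans h)⟩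
    · exact absurd (h1.trans h3.symm) hinj
  right; left
  push Not at hds
  have hfour : ∀ ω : Ω, Nat.card ((S : Subgroup G) ⊓ stabilizer G ω : Subgroup G) = 2 →
      Nat.card (S : Subgroup G) = 4 := by
    intro ω h
    rcases card_two hfix hS hΩ h (hnofix ω) with h | h | h
    · obtain ⟨n, hn⟩ := h
      exact absurd hn (by simpa using hds.1 n)
    · exact absurd h hds.2
    · exact h
  -- every element of `S` preserves the pair
  have hp : ∀ s ∈ (S : Subgroup G), (s • α = α ∨ s • α = b) ∧ (s • b = α ∨ s • b = b) := by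
    by_cases h2 : Nat.card T = 2
    · have h4 := hfour α h2
      have hi : (T.subgroupOf S).index = 2 := by
        rw [h2, h4] at hmulT
        have : T.relIndex S = 2 := by omega
        exact this
      intro s hs
      by_cases hsT : s ∈ T
      · exact ⟨Or.inl hsT.2, Or.inr (hb s hsT)⟩
      · have hs0T : s0 ∉ T := fun h => hba (hs0a.symm.trans h.2)
        have h5 : (⟨s, hs⟩ * ⟨s0, hs0S⟩ : (S : Subgroup G)) ∈ T.subgroupOf S := by
          rw [Subgroup.mul_mem_iff_of_index_two hi]
          exact ⟨fun h => absurd h hsT, fun h => absurd h hs0T⟩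
        have h6 : s * s0 ∈ T := h5
        have h7 := (Subgroup.mem_inf.mp h6).2
        have h8 := hb _ h6
        rw [mem_stabilizer_iff, mul_smul, hs0a] at h7
        rw [mul_smul, hs0b] at h8
        exact ⟨Or.inr h8, Or.inl h7⟩
    · exact pair_inv hfix hS hba hb (by rw [← hT]; omega)
  have hswap : ∀ s ∈ (S : Subgroup G), s • α ≠ α → s • α = b ∧ s • b = α := by
    intro s hs h
    have h1 := (hp s hs).1.resolve_left h
    refine ⟨h1, (hp s hs).2.resolve_right fun h2 => ?_⟩
    exact hba (smul_left_cancel s (h2.trans h1.symm))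
  have hmul : ∀ s ∈ (S : Subgroup G), ∀ t ∈ (S : Subgroup G), s • α ≠ α → t • α ≠ α →
      (s * t) • α = α := by
    intro s hs t ht h1 h2
    rw [mul_smul, (hswap t ht h2).1, (hswap s hs h1).2]
  have hidx : T.relIndex S = 2 := by
    rw [Subgroup.relIndex, Subgroup.index_eq_two_iff]
    refine ⟨⟨s0, hs0S⟩, fun c => ?_⟩
    have e1 : c * ⟨s0, hs0S⟩ ∈ T.subgroupOf S ↔ (c.1 * s0) • α = α := by
      rw [Subgroup.mem_subgroupOf, hT, Subgroup.mem_inf, mem_stabilizer_iff]
      exact ⟨fun h => h.2, fun h => ⟨Subgroup.mul_mem _ c.2 hs0S, h⟩⟩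
    have e2 : c ∈ T.subgroupOf S ↔ c.1 • α = α := by
      rw [Subgroup.mem_subgroupOf, hT, Subgroup.mem_inf, mem_stabilizer_iff]
      exact ⟨fun h => h.2, fun h => ⟨c.2, h⟩⟩
    rw [e1, e2]
    by_cases hc : c.1 • α = α
    · right
      refine ⟨hc, fun h => hba ?_⟩
      rw [mul_smul, hs0a] at h
      exact smul_left_cancel c.1 (h.trans hc.symm)
    · left
      exact ⟨hmul _ c.2 _ hs0S hc (hs0a ▸ hba), hc⟩
  -- all other points have trivial stabiliser in `S`
  have hreg : ∀ ω : Ω, ω ≠ α → ω ≠ b → ∀ s ∈ (S : Subgroup G), s • ω = ω → s = 1 := by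
    intro ω h1 h2 s hs hsω
    by_contra hs1
    have hnT : ∀ u ∈ (S : Subgroup G), u • ω = ω → u ≠ 1 → u • α ≠ α := by
      intro u hu huω hu1 huα
      rcases three hfix hu1 hba.symm huα (hb u ⟨hu, huα⟩) huω with h | h
      · exact h1 h
      · exact h2 h
    have hsq : ∀ u ∈ (S : Subgroup G), u • ω = ω → u ≠ 1 → s * u = 1 := by
      intro u hu huω hu1
      by_contra hcon
      exact hnT _ (Subgroup.mul_mem _ hs hu) (by rw [mul_smul, huω, hsω]) hcon
        (hmul _ hs _ hu (hnT s hs hsω hs1) (hnT u hu huω hu1))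
    have hc2 : Nat.card ((S : Subgroup G) ⊓ stabilizer G ω : Subgroup G) = 2 := by
      rw [Nat.card_eq_two_iff' 1]
      refine ⟨⟨s, hs, hsω⟩, fun h => hs1 (congrArg Subtype.val h), ?_⟩
      rintro ⟨u, hu, huω⟩ hu1
      have hu1' : u ≠ 1 := fun h => hu1 (Subtype.ext h)
      ext
      exact mul_left_cancel ((hsq u hu huω hu1').trans (hsq s hs hsω hs1).symm)
    have h4 := hfour ω hc2
    have hT2 : Nat.card T = 2 := by rw [hidx, h4] at hmulT; omega
    have htt : t * t = 1 := by
      have h5 : (⟨t, ht⟩ : T) ^ Nat.card T = 1 := pow_card_eq_one'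
      rw [hT2, pow_two] at h5
      exact congrArg Subtype.val h5
    have hss := hsq s hs hsω hs1
    have hst : s ≠ t := by
      rintro rfl
      exact hnT s hs hsω hs1 ht.2
    have hK : IsKleinFour (S : Subgroup G) := by
      refine ⟨h4, ?_⟩
      have hnc : ¬ IsCyclic (S : Subgroup G) := by
        intro hc
        have := Fintype.ofFinite (S : Subgroup G)
        have h5 := IsCyclic.card_pow_eq_one_le (α := (S : Subgroup G)) (n := 2) (by norm_num)
        have hsub : ({1, ⟨s, hs⟩, ⟨t, ht.1⟩} : Finset (S : Subgroup G)) ⊆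
            Finset.univ.filter fun a => a ^ 2 = 1 := by
          intro x hx
          simp only [Finset.mem_insert, Finset.mem_singleton] at hx
          rcases hx with rfl | rfl | rfl
          · simp
          · simp only [Finset.mem_filter, Finset.mem_univ, true_and]
            ext; simpa [pow_two] using hss
          · simp only [Finset.mem_filter, Finset.mem_univ, true_and]
            ext; simpa [pow_two] using htt
        have h6 := Finset.card_le_card hsub
        rw [Finset.card_eq_three.mpr ⟨1, ⟨s, hs⟩, ⟨t, ht.1⟩,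
          fun h => hs1 (congrArg Subtype.val h).symm, fun h => ht1' (congrArg Subtype.val h).symm,
          fun h => hst (congrArg Subtype.val h), rfl⟩] at h6
        omega
      exact (not_isCyclic_iff_exponent_eq_prime Nat.prime_two (by rw [h4]; norm_num)).mp hnc
    exact absurd (IsKleinFour.nonempty_mulEquiv (G₁ := (S : Subgroup G)) (G₂ := DihedralGroup 2))
      (by simpa using hds.1 2)
  have hfx : ∀ s ∈ (S : Subgroup G), ∀ ω : Ω, s • ω = ω → s • α = α := by
    intro s hs ω h
    by_cases h1 : ω = α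
    · exact h1 ▸ h
    by_cases h2 : ω = b
    · by_contra h3
      rw [h2] at h
      exact hba (h.symm.trans (hswap s hs h3).2)
    · rw [hreg ω h1 h2 s hs h, one_smul]
  obtain ⟨H, hHn, hH, hHS⟩ := exists_index_two S hs0S (hs0a ▸ hba) hmul hfx
  have horb : orbit (S : Subgroup G) α = {α, b} := by
    ext ω
    constructor
    · rintro ⟨s, rfl⟩
      exact (hp s.1 s.2).1
    · rintro (rfl | rfl)
      · exact mem_orbit_self _
      · exact ⟨⟨s0, hs0S⟩, hs0a⟩
  refine ⟨by rw [hidx] at hmulT; omega, ⟨α, ?_, ?_⟩, H, hHn, Or.inl hH, _,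
    frob htr hfix hΩ S hba hne hb hs0S hs0a hfx hidx hH hHS⟩
  · rw [horb, Nat.card_coe_set_eq, Set.ncard_pair hba.symm]
  · intro ω hω
    rw [horb] at hω
    simp only [Set.mem_insert_iff, Set.mem_singleton_iff, not_or] at hω
    have hst : stabilizer (S : Subgroup G) ω = ⊥ := by
      rw [eq_bot_iff]
      intro s hs
      exact Subtype.ext (hreg ω hω.1 hω.2 s.1 s.2 hs)
    rw [Nat.card_coe_set_eq, ← index_stabilizer, hst, Subgroup.index_bot]

end Cfsg.Agent.S3390
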