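import Mathlib
import Cfsg.Statements.S3421
import Cfsg.Agent.Perm.PElt
import Cfsg.Agent.Perm.FixTools
import Cfsg.Agent.S0731
import Cfsg.Agent.Cl.Transport
import Cfsg.Agent.Cl.PSL2Struct
import Cfsg.Agent.Perm.ZassThree

set_option autoImplicit false
open Cfsg

namespace Cfsg.Agent.S3421

open Cfsg.Agent.Perm Cfsg.Agent.Perm.Zass Cfsg.Agent.Perm.PElt MulAction in
theorem zt {G : Type*} [Group G] [Finite G] {p k q d e : ℕ} [hp : Fact p.Prime] (h : PP p G)
    (hq : q = p ^ k) (h3 : 3 < q) (hd : d ≤ 2) (he : e * d = q - 1)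
    (hG : Nat.card G = q * e * (q + 1)) {g : G} (hg : orderOf g * d = q + 1) :
    IsZT G (Sylow p G) ∧ ∀ P : Sylow p G, IsKer P (P : Subgroup G) ∧ Nat.card P = q := by
  have hk : k ≠ 0 := by rintro rfl; rw [pow_zero] at hq; omega
  have hpq : p ∣ q := hq ▸ dvd_pow_self p hk
  have hc1 : q.Coprime (q + 1) := by simp
  have hc2 : q.Coprime (q - 1) := by
    obtain ⟨r, rfl⟩ : ∃ r, q = r + 1 := ⟨q - 1, by omega⟩
    simp
  have hc3 : q.Coprime (e * (q + 1)) := (hc2.coprime_dvd_right ⟨d, he.symm⟩).mul_right hc1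
  have hP : ∀ P : Sylow p G, Nat.card P = q := fun P => by
    obtain ⟨j, hj⟩ := P.2.exists_card_eq
    have h1 := P.card_mul_index
    refine Nat.dvd_antisymm ?_ ?_
    · refine Nat.Coprime.dvd_of_dvd_mul_right (k := Nat.card P) (n := e * (q + 1))
        (hj ▸ (hc3.coprime_dvd_left hpq).pow_left j) ⟨P.index, by rw [h1, hG]; ring⟩
    · refine Nat.Coprime.dvd_of_dvd_mul_right (n := P.index) ?_ ⟨e * (q + 1), by rw [h1, hG]; ring⟩
      exact hq ▸ ((hp.out.coprime_iff_not_dvd).mpr P.not_dvd_index).pow_left k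
  have hmem : ∀ (P : Sylow p G) (u : G), u ^ p = 1 → u • P = P → u ∈ (P : Subgroup G) := by
    intro P u hu e
    have h1 : IsPGroup p (Subgroup.zpowers u) := IsPGroup.of_card_dvd_pow (n := 1)
      (by rw [Nat.card_zpowers, pow_one]; exact orderOf_dvd_of_pow_eq_one hu)
    have h2 : u ∈ Subgroup.zpowers u ⊓ Subgroup.normalizer (P : Set G) :=
      ⟨Subgroup.mem_zpowers u, Sylow.smul_eq_iff_mem_normalizer.mp e⟩
    rw [h1.inf_normalizer_sylow] at h2
    exact h2.2
  have hsemi : ∀ P Q : Sylow p G, Q ≠ P → ∀ u ∈ (P : Subgroup G), u • Q = Q → u = 1 := by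
    intro P Q hQ u hu e
    have h1 : u ∈ (P : Subgroup G) ⊓ Q := ⟨hu, hmem Q u (h.pow_of_isPGroup P.2 hu) e⟩
    rwa [h.sylow_inf_eq_bot hQ.symm, Subgroup.mem_bot] at h1
  have hfix : ∀ P : Sylow p G, ∀ u ∈ (P : Subgroup G), u • P = P := fun P u hu =>
    Sylow.smul_eq_iff_mem_normalizer.mpr (Subgroup.le_normalizer hu)
  have hne : ∀ P Q : Sylow p G, Q ≠ P → ∀ u ∈ (P : Subgroup G), u • Q ≠ P := fun P Q hQ u hu e =>
    hQ (smul_left_cancel u (e.trans (hfix P u hu).symm))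
  have hcompl : ∀ P : Sylow p G, Nat.card ({P}ᶜ : Set (Sylow p G)) = Nat.card (Sylow p G) - 1 :=
    fun P => by rw [Nat.card_coe_set_eq, Set.ncard_compl, Set.ncard_singleton]
  have hn : Nat.card (Sylow p G) = q + 1 := by
    let P : Sylow p G := default
    have h1 := Fx.card_dvd_of_semiregular (P : Subgroup G) ({P}ᶜ : Set (Sylow p G))
      (fun u hu Q hQ => hne P Q hQ u hu) fun u hu Q hQ => hsemi P Q hQ u hu
    rw [hP, hcompl] at h1
    have h2 := P.card_dvd_index
    have h4 := P.card_mul_index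
    rw [hP, hG, mul_assoc, Nat.mul_right_inj (by omega)] at h4
    have h5 : 0 < Nat.card (Sylow p G) := Nat.card_pos
    obtain ⟨a, ha⟩ := h1
    obtain ⟨b, hb⟩ := h2.trans (show P.index ∣ (q - 1) * (q + 1) from ⟨d, by rw [h4, ← he]; ring⟩)
    have ha' : Nat.card (Sylow p G) = q * a + 1 := by omega
    rcases a with _ | _ | a
    · exfalso
      have : Subsingleton (Sylow p G) := (Nat.card_eq_one_iff_unique.mp (by omega)).1
      have hcop : (orderOf g).Coprime p :=
        (hc1.symm.coprime_dvd_left ⟨d, hg.symm⟩).coprime_dvd_right hpq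
      have h6 := GT.Frob.card_dvd_card_sub_one_of_fpf (A := Subgroup.zpowers g) (K := P)
        (fun a _ => Sylow.smul_eq_iff_mem_normalizer.mp (Subsingleton.elim _ _)) fun a ha ha1 => by
          rw [eq_bot_iff]
          rintro x ⟨hx, hxa⟩
          by_contra hx1
          refine ha1 (eq_one_of_cop hcop ?_ (h.pow_of_commute (h.pow_of_isPGroup P.2 hx) hx1
            (Subgroup.mem_centralizer_singleton_iff.mp hxa)))
          exact orderOf_dvd_iff_pow_eq_one.mp (orderOf_dvd_of_mem_zpowers ha)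
      rw [Nat.card_zpowers, hP] at h6
      have h7 : orderOf g ∣ (q + 1) - (q - 1) := Nat.dvd_sub ⟨d, hg.symm⟩ h6
      have h8 := Nat.le_of_dvd (by omega) h7
      have : orderOf g * d ≤ 2 * 2 := Nat.mul_le_mul (by omega) hd
      omega
    · omega
    · exfalso
      obtain ⟨r, rfl⟩ : ∃ r, q = r + 1 := ⟨q - 1, by omega⟩
      rw [ha', Nat.add_sub_cancel] at hb
      have h6 : r + 1 ∣ b + 1 := by
        refine (Nat.dvd_add_right (a := r + 1) (b := (r + 1) * ((a + 1 + 1) * b)) ⟨_, rfl⟩).mp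
          ⟨r + 1, ?_⟩
        nlinarith
      have h7 := Nat.le_of_dvd (by omega) h6
      have h8 := Nat.mul_le_mul_left ((r + 1) * (a + 1 + 1) + 1) (show r ≤ b by omega)
      rw [← hb, mul_comm r, Nat.mul_le_mul_right_iff (by omega)] at h8
      nlinarith
  have htr : ∀ P Q R : Sylow p G, Q ≠ P → R ≠ P → ∃ u ∈ (P : Subgroup G), u • Q = R := by
    intro P Q R hQ hR
    let f : P → ({P}ᶜ : Set (Sylow p G)) := fun u => ⟨(u : G) • Q, hne P Q hQ u u.2⟩
    have hf : Function.Injective f := fun u v e => by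
      have e' : (u : G) • Q = (v : G) • Q := congrArg Subtype.val e
      have h1 := hsemi P Q hQ ((v : G)⁻¹ * u) (P.mul_mem (P.inv_mem v.2) u.2)
        (by rw [mul_smul, e', inv_smul_smul])
      exact Subtype.ext (inv_mul_eq_one.mp h1).symm
    obtain ⟨u, hu⟩ := (hf.bijective_of_nat_card_le (by rw [hcompl, hn]; exact (hP P).ge)).2 ⟨R, hR⟩
    exact ⟨u, u.2, congrArg Subtype.val hu⟩
  have hZ : IsZT G (Sylow p G) := by
    refine ⟨fun {a b c d} hab hcd => ?_, fun {x a b c} hab hbc hac ha hb hc => ?_,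
      fun a b => ?_, inferInstance⟩
    · obtain ⟨x, rfl⟩ := exists_smul_eq G a c
      obtain ⟨u, hu, hu'⟩ := htr (x • a) (x • b) d (fun e => hab (smul_left_cancel x e).symm) hcd.symm
      exact ⟨u * x, by rw [mul_smul, hfix _ u hu], by rw [mul_smul, hu']⟩
    · obtain ⟨u, hu, hu'⟩ := htr a b c hab.symm hac.symm
      have hxa := Sylow.smul_eq_iff_mem_normalizer.mp ha
      have h1 := hsemi a b hab.symm (u⁻¹ * (x * u * x⁻¹))
        (a.mul_mem (a.inv_mem hu) ((Subgroup.mem_normalizer_iff.mp hxa u).mp hu))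
        (by rw [mul_smul, mul_smul, mul_smul, inv_smul_eq_iff.mpr hb.symm, hu', hc, ← hu',
          inv_smul_smul])
      have h2 : Commute u x := eq_mul_inv_iff_mul_eq.mp (inv_mul_eq_one.mp h1)
      have h4 := h.pow_of_commute (h.pow_of_isPGroup a.2 hu)
        (fun e => hbc (by rw [← hu', e, one_smul])) h2
      exact hsemi a b hab.symm x (hmem a x h4 ha) hb
    · by_contra hc
      push Not at hc
      have h1 : (Set.univ : Set (Sylow p G)) ⊆ {a, b} := fun c _ =>
        or_iff_not_imp_left.mpr (hc c)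
      have h2 := (Set.ncard_le_ncard h1).trans (Set.ncard_insert_le _ _)
      rw [Set.ncard_univ, Set.ncard_singleton] at h2
      omega
  exact ⟨hZ, fun P => ⟨hZ.isKer_of_card (hfix P) (by rw [hP, hn]) fun u hu hu1 c hc =>
    by_contra fun e => hu1 (hsemi P c e u hu hc), hP P⟩⟩


open Cfsg.Agent.Perm Cfsg.Agent.Perm.Zass Cfsg.Agent.Perm.PElt MulAction

/-- Let F be a finite field with more than 3 elements. A finite group G is isomorphic to PSL(2, F) if and only if G has the same set of element orders and the same order as PSL(2, F). -/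
theorem result {G : Type*} [Group G] [Finite G] {F : Type*} [Field F] [Fintype F] (hF : 3 < Fintype.card F) :
    Nonempty (G ≃* Matrix.ProjectiveSpecialLinearGroup (Fin 2) F) ↔
      (Set.range (orderOf : G → ℕ) = Set.range (orderOf : Matrix.ProjectiveSpecialLinearGroup (Fin 2) F → ℕ) ∧
        Nat.card G = Nat.card (Matrix.ProjectiveSpecialLinearGroup (Fin 2) F)) := by
  refine ⟨fun ⟨f⟩ => ⟨?_, Nat.card_congr f.toEquiv⟩, fun ⟨hs, hc⟩ => ?_⟩
  · ext n
    exact ⟨fun ⟨g, hg⟩ => ⟨f g, by rw [MulEquiv.orderOf_eq, hg]⟩,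
      fun ⟨g, hg⟩ => ⟨f.symm g, by rw [MulEquiv.orderOf_eq, hg]⟩⟩
  obtain ⟨p, hchar, k, hpp, hq⟩ := FiniteField.card' F
  have := Fact.mk hpp
  rw [← Nat.card_eq_fintype_card] at hq hF
  have hcases : ∀ g : G, orderOf g ∣ p ∨ orderOf g * Nat.gcd 2 (Nat.card F - 1) ∣ Nat.card F - 1 ∨
      orderOf g * Nat.gcd 2 (Nat.card F - 1) ∣ Nat.card F + 1 := fun g => by
    obtain ⟨x, hx⟩ : orderOf g ∈ Set.range
      (orderOf : Matrix.ProjectiveSpecialLinearGroup (Fin 2) F → ℕ) := hs ▸ ⟨g, rfl⟩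
    rw [← hx]
    exact Cl.L2.orderOf_cases p x
  obtain ⟨g, hg⟩ : ∃ g : G, orderOf g * Nat.gcd 2 (Nat.card F - 1) = Nat.card F + 1 := by
    obtain ⟨x, -, hx⟩ := Cl.L2.exists_nofixS (F := F)
    obtain ⟨g, hg⟩ : orderOf x ∈ Set.range (orderOf : G → ℕ) := hs ▸ ⟨x, rfl⟩
    exact ⟨g, hg ▸ hx⟩
  have hG := Cl.L2.card_PSL_mul (F := F)
  rw [← hc] at hG
  have fin : ∀ (K : Type) [Field K] [Fintype K], Fintype.card K = Nat.card F →
      Nonempty (G ≃* Matrix.ProjectiveSpecialLinearGroup (Fin 2) K) →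
      Nonempty (G ≃* Matrix.ProjectiveSpecialLinearGroup (Fin 2) F) := by
    intro K _ _ hK ⟨f⟩
    obtain ⟨r⟩ := Cl.nonempty_ringEquiv_of_natCard_eq (F := K) (K := F)
      (by rw [← hK, Nat.card_eq_fintype_card])
    exact ⟨f.trans (Cl.pslMapEquiv (Fin 2) r)⟩
  obtain ⟨e, he⟩ := Nat.gcd_dvd_right 2 (Nat.card F - 1)
  have hd2 := Nat.gcd_dvd_left 2 (Nat.card F - 1)
  have hdd : Nat.gcd 2 (Nat.card F - 1) = 1 ∧ Nat.card F % 2 = 0 ∨
      Nat.gcd 2 (Nat.card F - 1) = 2 ∧ Nat.card F % 2 = 1 := by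
    rcases Nat.mod_two_eq_zero_or_one (Nat.card F) with h | h
    · exact Or.inl ⟨(Nat.coprime_two_left).mpr (Nat.odd_iff.mpr (by omega)), h⟩
    · exact Or.inr ⟨Nat.gcd_eq_left (by omega), h⟩
  generalize Nat.gcd 2 (Nat.card F - 1) = d at *
  generalize Nat.card F = q at *
  have hpq : p ∣ q := hq ▸ dvd_pow_self p k.ne_zero
  have hc1 : (q + 1).Coprime p := (show (q + 1).Coprime q by simp).coprime_dvd_right hpq
  have hc2 : (q - 1).Coprime p := by
    refine Nat.Coprime.coprime_dvd_right hpq ?_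
    obtain ⟨r, rfl⟩ : ∃ r, q = r + 1 := ⟨q - 1, by omega⟩
    simp
  have hpp' : PP p G := fun x => by
    rcases hcases x with h | h | h
    · exact Or.inl (orderOf_dvd_iff_pow_eq_one.mp h)
    · exact Or.inr (hc2.coprime_dvd_left ((dvd_mul_right _ _).trans h))
    · exact Or.inr (hc1.coprime_dvd_left ((dvd_mul_right _ _).trans h))
  have hd0 : 0 < d := by omega
  have hG' : Nat.card G = q * e * (q + 1) :=
    Nat.eq_of_mul_eq_mul_right hd0 (by rw [hG, he]; ring)
  obtain ⟨hZ, hK⟩ := zt hpp' hq hF (Nat.le_of_dvd two_pos hd2) (by rw [he, mul_comm]) hG' hg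
  let a : Sylow p G := default
  obtain ⟨b, hb⟩ := hZ.exists_ne a
  obtain ⟨hH, hP⟩ := hK a
  have hΩ := hH.card_add_one hZ
  have hD : Nat.card ↥(stabilizer G a ⊓ stabilizer G b) = e := by
    have h1 := hH.card_eq hZ hb
    rw [hP, hG', mul_comm (q + 1), Nat.mul_left_inj (by omega), Nat.mul_right_inj (by omega)] at h1
    exact h1.symm
  obtain ⟨t, ht, hta, htb⟩ := hZ.exists_swap hb.symm
  have hle : Nat.card a - 1 ≤ 2 * Nat.card ↥(stabilizer G a ⊓ stabilizer G b) := by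
    rw [hP, hD, he]; rcases hdd with ⟨rfl, -⟩ | ⟨rfl, -⟩ <;> omega
  rw [hP] at hΩ
  rcases hdd with ⟨rfl, h2⟩ | ⟨rfl, h2⟩
  · obtain ⟨K, _, _, hK, h⟩ := hH.exists_iso hZ hb.symm hle ht hta htb fun x hx =>
      hZ.inverts_of_odd (Nat.odd_iff.mpr (by omega)) hb.symm ht hta htb hx
    rw [hP] at hK h
    exact fin K hK (h.elim (fun h => h.2.2 (Nat.even_iff.mpr h2)) fun h => h.2.2)
  rcases Nat.even_or_odd e with hev | hodd
  · obtain ⟨K, _, _, hK, h⟩ := hH.exists_iso hZ hb.symm hle ht hta htb fun x hx =>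
      hZ.inverts_of_even hb.symm (hD ▸ hev) (by omega) hta htb hx
    rw [hP, hD] at h
    rw [hP] at hK
    exact fin K hK (h.elim (fun h => by omega) fun h => h.2.2)
  obtain ⟨r, hr, hre⟩ := Nat.exists_prime_and_dvd (show e ≠ 1 by omega)
  have := Fact.mk hr
  obtain ⟨x, hx⟩ := exists_prime_orderOf_dvd_card' r (hD ▸ hre)
  rw [← Subgroup.orderOf_coe] at hx
  have hx1 : (x : G) ≠ 1 := fun e => by
    rw [e, orderOf_one] at hx
    exact hr.one_lt.ne hx
  have hce : e.Coprime (q + 1) := by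
    rw [show q + 1 = 2 * (e + 1) by omega]
    exact ((Nat.coprime_two_right).mpr hodd).mul_right (by simp)
  have hZ' : IsZassenhausGroup G (Sylow p G) := by
    refine ⟨hZ.faithful, hZ.isMultiplyPretransitive, fun g a b c h1 h2 h3 => hZ.three h1 h2 h3,
      ⟨x, hx1, a, b, hb.symm, x.2.1, x.2.2⟩, fun N hN htr => ?_⟩
    by_contra hn
    push Not at hn
    obtain ⟨v, hv⟩ := htr.exists_smul_eq a b
    have hv' : (v : G) • a = b := hv
    have h1 : (⟨(v : G)⁻¹ * (x * v * (x : G)⁻¹), N.mul_mem (N.inv_mem v.2) (hN.conj_mem _ v.2 _)⟩ : N)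
        ∈ stabilizer N a := by
      change ((v : G)⁻¹ * (x * v * (x : G)⁻¹)) • a = a
      rw [mul_smul, mul_smul, mul_smul, inv_smul_eq_iff.mpr x.2.1.symm, hv', x.2.2, ← hv',
        inv_smul_smul]
    rw [hn a, Subgroup.mem_bot] at h1
    have h3 : Commute (v : G) x :=
      eq_mul_inv_iff_mul_eq.mp (inv_mul_eq_one.mp (congrArg Subtype.val h1))
    have h4 : orderOf (v : G) ∣ q + 1 := by
      have h5 := (stabilizer N a).card_mul_index
      rw [index_stabilizer_of_transitive, hn a, Subgroup.card_bot, one_mul, ← hΩ] at h5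
      rw [h5, Subgroup.orderOf_coe]
      exact orderOf_dvd_natCard v
    have h5 := h3.orderOf_mul_eq_mul_orderOf_of_coprime
      (hx ▸ (hce.symm.coprime_dvd_left h4).coprime_dvd_right hre)
    rw [hx] at h5
    have h6 : orderOf (v : G) = 1 := by
      rcases hcases (v * x) with h | h | h <;> rw [h5] at h
      · exact Nat.eq_one_of_dvd_coprimes hc1 h4 ((dvd_mul_right _ _).trans h)
      · rw [he, mul_comm 2, Nat.mul_dvd_mul_iff_right two_pos] at h
        exact Nat.eq_one_of_dvd_coprimes hce ((dvd_mul_right _ _).trans h) h4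
      · exact absurd (Nat.eq_one_of_dvd_coprimes hce hre
          (((dvd_mul_left _ _).trans (dvd_mul_right _ _)).trans h)) hr.one_lt.ne'
    rw [orderOf_eq_one_iff.mp h6, one_smul] at hv'
    exact hb hv'.symm
  have hreg : ∀ y z : Sylow p G, y ≠ a → z ≠ a → ∃! u : (a : Subgroup G), (u : G) • y = z := by
    intro y z hy hz
    obtain ⟨u, hu, hu'⟩ := hH.trans hZ hy hz
    exact ⟨⟨u, hu⟩, hu', fun v hv => Subtype.ext (hH.smul_inj v.2 hu hy (hv.trans hu'.symm))⟩
  rcases S0731.result hZ' a a hH.le hH.normal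
    ⟨⟨fun u v => Subtype.ext (hH.comm_of_le hZ hb hle v.2 u.2)⟩⟩ hreg with ⟨h, -⟩ | ⟨K, _, _, hK, ⟨f⟩⟩
  · have h1 := hH.card_of_three hZ hb.symm h
    omega
  refine fin K ?_ ⟨f⟩
  have h1 := Cl.L2.card_PSL_mul (F := K)
  have h3 := FiniteField.odd_card_of_char_ne_two hK
  rw [← Nat.card_congr f.toEquiv, Nat.card_eq_fintype_card (α := K),
    Nat.gcd_eq_left (by omega), hG] at h1
  generalize Fintype.card K = s at *
  have mono : ∀ m n : ℕ, m < n → 1 < n → m * (m - 1) * (m + 1) < n * (n - 1) * (n + 1) :=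
    fun m n h h' => Nat.mul_lt_mul_of_le_of_lt (Nat.mul_le_mul h.le (by omega)) (by omega)
      (Nat.mul_pos (by omega) (by omega))
  rcases lt_trichotomy s q with h | h | h
  · exact absurd h1 (mono s q h (by omega)).ne'
  · exact h
  · exact absurd h1 (mono q s h (by omega)).ne

end Cfsg.Agent.S3421
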