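import Cfsg.Statements.S3427
import Cfsg.Agent.Inv.U33B
import Cfsg.Agent.Inv.PB6
import Cfsg.Agent.Blk.OneSelf2
import Cfsg.Agent.Blk.OnePrin
import Cfsg.Agent.Chev.G22
import Cfsg.Agent.Perm.SpecBig
import Cfsg.Agent.GW.QuatB
import Cfsg.Agent.S0815
import Cfsg.Agent.S0976
import Cfsg.Agent.S1017
-- import your own Cfsg.Agent.* helpers here

set_option autoImplicit false
open Cfsg

namespace Cfsg.Agent.S3427

open Cfsg.Agent.Inv Cfsg.Agent.Inv.PB Subgroup

theorem core_eq_bot {G : Type*} [Group G] [Finite G] (hG : Nat.card G = 12096)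
    (S : Blk.One.Setup 7 G) [Fact (Nat.Prime 7)] (hS : S.C = zpowers S.x)
    (hN : S.N.index = 288) : pPrimeCore 7 G = ⊥ := by
  have : Fact (Nat.Prime 3) := ⟨Nat.prime_three⟩
  have h7 := GT.not_dvd_card_pPrimeCore (G := G) (by norm_num : Nat.Prime 7)
  have h1 := Blk.One.Setup.card_modEq hS h7
  have h2 := Blk.One.Setup.index_N_quot hS h7
  set O := pPrimeCore 7 G
  have hC : ∀ w ∈ O, Commute w S.x → w = 1 := fun w hw hc =>
    S.eq_one_of_mem h7 (hS ▸ (S.hC w).2 hc.eq) hw
  have h3 : ¬ 3 ∣ Nat.card O := fun h3 => by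
    obtain ⟨Q⟩ : Nonempty (Sylow 3 O) := inferInstance
    let R := (Q : Subgroup O).map O.subtype
    have h4 : normalizer (R : Set G) ⊔ O = ⊤ := Sylow.normalizer_sup_eq_top Q
    have h5 : 7 ∣ Nat.card (normalizer (R : Set G)) := by
      have h6 := GT.card_sup_mul_card_inf (normalizer (R : Set G)) O
      rw [h4, card_top, hG] at h6
      exact ((Nat.Prime.dvd_mul (by norm_num)).1
        (h6 ▸ (by norm_num : 7 ∣ 12096).mul_right _)).resolve_right h7
    obtain ⟨z, hz, hz7⟩ := exists_mem_orderOf (by norm_num) h5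
    have h6 : Nat.card R = 3 ^ (Nat.card O).factorization 3 := by
      rw [card_subtype, Q.card_eq_multiplicity]
    have h8 : Nat.card R ∣ 12096 := hG ▸ card_subgroup_dvd_card R
    have h9 := Nat.prime_three.factorization_pos_of_dvd Nat.card_pos.ne' h3
    have h10 : (Nat.card O).factorization 3 ≤ 3 := by
      by_contra h11
      have := (pow_dvd_pow 3 (show 4 ≤ (Nat.card O).factorization 3 by omega)).trans (h6 ▸ h8)
      omega
    obtain ⟨w, hw, hw1, hc⟩ := exists_comm_of_normalizes (by norm_num) hz7 hz (by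
      rw [h6]
      interval_cases (Nat.card O).factorization 3 <;> norm_num)
    obtain ⟨c, -, hc'⟩ := S.exists_conj_mem ⊤ trivial (z := z) trivial ⟨1, by rw [hz7]; rfl⟩
    have h11 : c * z * c⁻¹ ≠ 1 := by
      rw [Ne, conj_eq_one_iff]; rintro rfl; simp at hz7
    refine hw1 (conj_eq_one_iff.1 (hC (c * w * c⁻¹)
      (Normal.conj_mem inferInstance _ (map_subtype_le _ hw) c)
      ((S.hC _).1 ((S.mem_C_iff_of_mem hc' h11 _).2 ?_))))
    rw [conj_mul, conj_mul, hc.eq]
  have h4 : ∀ d ∈ Nat.divisors 288, d % 7 = 1 → ¬ 3 ∣ d → d = 1 ∨ d = 8 := by decide +kernel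
  rcases h4 _ (Nat.mem_divisors.2 ⟨Dvd.intro _ (hN ▸ h2).symm, by norm_num⟩) h1 h3 with h5 | h5
  · exact card_eq_one.1 h5
  exfalso
  classical
  have := Fintype.ofFinite O
  let φ : G →* Equiv.Perm O := (MulAut.toPerm O).comp MulAut.conjNormal
  have h6 : φ.ker ≤ O := GT.le_pPrimeCore_of_not_dvd (by norm_num) fun h => by
    have h8 : ∀ w : O, w = 1 := fun w => Subtype.ext (hC w w.2 (by
      have h9 : S.x * w * S.x⁻¹ = w :=
        congrArg Subtype.val (DFunLike.congr_fun (S.x_mem_of_normal _ h : φ S.x = 1) w)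
      exact (mul_inv_eq_iff_eq_mul.1 h9).symm))
    have := Nat.card_eq_one_iff_exists.2 ⟨1, h8⟩
    omega
  have h8 := card_dvd_of_le h6
  have h9 := φ.ker.card_mul_index
  have h10 : φ.ker.index ∣ 40320 := by
    rw [index_ker]
    refine (card_subgroup_dvd_card _).trans ?_
    rw [Nat.card_perm, h5]; norm_num [Nat.factorial]
  have h11 := mul_dvd_mul h8 h10
  rw [h9, hG, h5] at h11
  omega

theorem aut {G : Type*} [Group G] [Finite G] (hG : Nat.card G = 12096)
    (hC : ∀ x : G, orderOf x = 7 → Nat.card (C x) = 7) :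
    Nonempty (G ≃* MulAut (PSU 3 Cl.GF9 3)) := by
  have : Fact (Nat.Prime 7) := ⟨by norm_num⟩
  have := Fintype.ofFinite G
  obtain ⟨x, hx⟩ := exists_prime_orderOf_dvd_card' (G := G) 7 (by rw [hG]; norm_num)
  have h0 : centralizer ({x} : Set G) = zpowers x :=
    (eq_of_le_of_card_ge (P_le_C x) (by rw [hC x hx, Nat.card_zpowers, hx])).symm
  let S := Blk.One.selfSetup hx h0
  have hS : S.C = zpowers S.x := by rw [S.C_eq]; exact h0
  have h1 := Blk.One.Setup.card_self hS
  have h2 := S.index_N_modEq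
  have h3 := Nat.le_of_dvd (by norm_num) S.relIndex_dvd
  have h4 := S.relIndex_pos'
  rw [hG] at h1
  rw [Nat.ModEq] at h2
  have he : S.C.relIndex S.N = 6 := by
    generalize S.C.relIndex S.N = e at *
    interval_cases e <;> omega
  have hO := core_eq_bot hG S hS (by rw [he] at h1; omega)
  have hxL := S.x_mem_commutator (by omega)
  have : Nontrivial (commutator G) := ⟨⟨⟨_, hxL⟩, 1, fun e => S.x_ne_one (congrArg Subtype.val e)⟩⟩
  have : IsSimpleGroup (commutator G) := ⟨fun L _ => by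
    simpa [hO] using Blk.One.Setup.eq_of_normal_in_commutator hS hxL L (by simp [hO])⟩
  have h5 := Blk.One.Setup.index_dvd_of_mem hS _ hxL
  have h6 := (commutator G).card_mul_index
  have h7 := U33.card_ne_12096 (G := commutator G)
  have h8 := S0976.result (G := commutator G)
  have h9 := S1017.result (G := commutator G)
  rw [he] at h5
  have h10 : Nat.card (commutator G) = 6048 := by
    have := Nat.le_of_dvd (by norm_num) h5
    rw [hG] at h6
    generalize (commutator G).index = i at *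
    interval_cases i <;> omega
  obtain ⟨K, _, _, hK, ⟨e⟩⟩ := U33.psu_of_card h10
  obtain ⟨τ⟩ := Cl.nonempty_ringEquiv_GF9 K hK
  have h11 : centralizer (commutator G : Set G) = ⊥ := by
    rw [eq_bot_iff, ← hO]
    refine GT.le_pPrimeCore_of_not_dvd (by norm_num) fun h => ?_
    have h12 : commutator G ≤ C x := fun g hg => mem_C.2 (S.x_mem_of_normal _ h g hg)
    have := card_le_of_le h12
    rw [hC x hx] at this
    omega
  obtain ⟨A, -, ⟨f⟩⟩ := GW.exists_le_mulAut h11 (e.trans (Cl.psuMapEquiv 3 3 τ))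
  have : Fact (Nat.Prime 3) := ⟨Nat.prime_three⟩
  have h12 := S0815.result (F := Cl.GF9) 3 1 le_rfl (q := 3) rfl Cl.card_GF9 3 le_rfl (by simp)
  rw [Chev.G22.card_PSU] at h12
  have : Finite (MulAut (PSU 3 Cl.GF9 3)) := Nat.finite_of_card_ne_zero (by rw [h12]; norm_num)
  have h13 : A = ⊤ := eq_top_of_card_eq _ (by rw [← Nat.card_congr f.toEquiv, hG, h12]; norm_num)
  exact ⟨f.trans ((MulEquiv.subgroupCongr h13).trans topEquiv)⟩

open Cfsg.Agent.Spor Cfsg.Agent.Chev.G22 in
theorem card_C_G2 (y : Lie.chevG2.group Cl.GF2) (hy : orderOf y = 7) : Nat.card (C y) = 7 := by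
  have : Fact (Nat.Prime 7) := ⟨by norm_num⟩
  have : Finite (Lie.chevG2.group Cl.GF2) := Nat.finite_of_card_ne_zero (by rw [card_G]; norm_num)
  have := Fintype.ofFinite (Lie.chevG2.group Cl.GF2)
  have h1 : orderOf (evalW x [9, 4, 0]) = 7 := orderOf_eq_prime (by
    have := eq_of_agree (v := [9, 4, 0] ++ ([9, 4, 0] ++ ([9, 4, 0] ++ ([9, 4, 0] ++ ([9, 4, 0] ++
      ([9, 4, 0] ++ [9, 4, 0])))))) (w := []) (by decide +kernel)
    simp only [evalW_append, evalW_nil] at this
    rw [← this]; simp only [pow_succ, pow_zero, one_mul, mul_assoc]) fun e =>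
      absurd (trace_eq (v := [9, 4, 0]) (w := []) (by decide +kernel) (by decide +kernel) e
        (i := 0) (by norm_num)) (by decide +kernel)
  have h2 : x 9 * evalW x [9, 4, 0] * (x 9)⁻¹ = (evalW x [9, 4, 0])⁻¹ := by
    have := eq_of_agree (v := [9] ++ [9, 4, 0] ++ [9] ++ [9, 4, 0]) (w := []) (by decide +kernel)
    simp only [evalW_append, evalW_nil] at this
    rw [x_inv, eq_inv_iff_mul_eq_one, ← this]
    simp
  generalize evalW x [9, 4, 0] = z at h1 h2
  have h49 : ¬ 7 ^ 2 ∣ Nat.card (Lie.chevG2.group Cl.GF2) := by rw [card_G]; norm_num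
  have hS : Setup 7 z := ⟨by norm_num, h1, h49⟩
  rw [hS.card_C_eq hy]
  set L := commutator (Lie.chevG2.group Cl.GF2)
  obtain ⟨e⟩ := nonempty_comm
  have := S0283.result (F := Cl.GF9) (q := 3) Cl.card_GF9 3 le_rfl (by simp)
  have : IsSimpleGroup L := e.isSimpleGroup
  have hz : z ∈ L := by
    have h3 : (z ^ 4) ^ 2 ∈ L := index_comm ▸ L.pow_index_mem _
    rwa [← pow_mul, show 4 * 2 = 7 + 1 from rfl, pow_succ, ← h1, pow_orderOf_eq_one, one_mul] at h3
  have h3 := U33.card_C_seven (G := L) (b := 5) (x := ⟨z, hz⟩)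
    (by rw [Nat.card_congr e.toEquiv, card_PSU]; norm_num) (by rw [orderOf_mk, h1])
  have h4 : C (⟨z, hz⟩ : L) = (C z).subgroupOf L := by
    ext g
    rw [mem_subgroupOf, mem_C, mem_C, Subtype.ext_iff]; rfl
  have h5 : Nat.card (L.subgroupOf (C z)) = 7 := by
    rw [← h3, h4, ← inf_subgroupOf_right, ← inf_subgroupOf_right (C z) L,
      Nat.card_congr (subgroupOfEquivOfLe inf_le_right).toEquiv,
      Nat.card_congr (subgroupOfEquivOfLe inf_le_right).toEquiv, inf_comm]
  have h6 := (L.subgroupOf (C z)).card_mul_index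
  have h7 : (L.subgroupOf (C z)).index ∣ 2 := index_comm ▸ relIndex_dvd_index_of_normal L (C z)
  rcases (Nat.dvd_prime Nat.prime_two).1 h7 with h8 | h8
  · rw [← h6, h5, h8]
  exfalso
  obtain ⟨k, hk, h9⟩ := PS.exists_card_normalizer h1
  have h10 := PS.index_normalizer_modEq h49 h1
  have h11 := (N z).card_mul_index
  change Nat.card (N z) = k * Nat.card (C z) at h9
  change (N z).index % 7 = 1 at h10
  have h12 := Nat.le_of_dvd (by norm_num) hk
  obtain rfl : k = 3 := by
    rw [h9, ← h6, h5, h8, card_G] at h11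
    interval_cases k <;> omega
  have h13 : x 9 ∈ invs (x 9) z := mem_invs.2 ⟨IsConj.refl _, h2⟩
  simp [hS.invs_eq_empty (by norm_num) h9 (by decide)] at h13

theorem card_C_of_spec {G H : Type*} [Group G] [Finite G] [Group H] [Finite H]
    (hG : Nat.card G = 12096) (h : Set.range (orderOf : G → ℕ) ⊆ Set.range (orderOf : H → ℕ))
    (hH : ∀ y : H, orderOf y = 7 → Nat.card (C y) = 7) (x : G) (hx : orderOf x = 7) :
    Nat.card (C x) = 7 := by
  have h1 : ∀ r : ℕ, r.Prime → r ≠ 7 → ¬ r ∣ Nat.card (C x) := fun r hr h7 hd => by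
    obtain ⟨w, hw, hc⟩ := CT.exists_commute_of_dvd hr hd
    obtain ⟨g, hg⟩ := h ⟨w * x, rfl⟩
    rw [hc.orderOf_mul_eq_mul_orderOf_of_coprime
      (by rw [hw, hx]; exact (Nat.coprime_primes hr (by norm_num)).2 h7), hw, hx] at hg
    have h2 := hH (g ^ r) (by
      rw [orderOf_pow' _ hr.ne_zero, hg, Nat.gcd_mul_right_left, Nat.mul_div_cancel_left _ hr.pos])
    have h3 := orderOf_dvd_natCard _ (C_le_C_pow g r (mem_C_self g))
    rw [h2, hg] at h3
    have := Nat.le_of_dvd (by norm_num) h3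
    have := hr.two_le
    omega
  have h2 : ∀ d ∈ Nat.divisors 12096, ¬ 2 ∣ d → ¬ 3 ∣ d → 7 ∣ d → d = 7 := by decide +kernel
  exact h2 _ (Nat.mem_divisors.2 ⟨hG ▸ card_C_dvd x, by norm_num⟩) (h1 2 Nat.prime_two (by norm_num))
    (h1 3 Nat.prime_three (by norm_num)) (hx ▸ orderOf_dvd_card_C x)



/-- Let F be the field with 2 elements and let M be the Chevalley group of type G₂ over F (a non-simple group of order 12096 whose derived subgroup, of index 2, is isomorphic to PSU(3, 3)). A finite group G is isomorphic to M if and only if G has the same set of element orders and the same order as M. -/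
theorem result {G : Type*} [Group G] [Finite G] {F : Type*} [Field F] [Fintype F] (hF : Fintype.card F = 2) :
    Nonempty (G ≃* ↥(Cfsg.Lie.chevG2.group F)) ↔
      (Set.range (orderOf : G → ℕ) = Set.range (orderOf : ↥(Cfsg.Lie.chevG2.group F) → ℕ) ∧ Nat.card G = Nat.card ↥(Cfsg.Lie.chevG2.group F)) := by
  obtain ⟨σ⟩ := Cl.nonempty_ringEquiv_GF2 F hF
  have f := Chev.fieldEquiv Lie.chevG2 σ
  refine ⟨fun ⟨e⟩ => ⟨Perm.spec_range_of_mulEquiv e, Nat.card_congr e.toEquiv⟩, fun ⟨h1, h2⟩ => ?_⟩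
  rw [Nat.card_congr f.toEquiv, Chev.G22.card_G] at h2
  have : Finite (Lie.chevG2.group Cl.GF2) :=
    Nat.finite_of_card_ne_zero (by rw [Chev.G22.card_G]; norm_num)
  obtain ⟨a⟩ := aut h2 (card_C_of_spec h2 (h1.trans (Perm.spec_range_of_mulEquiv f)).le card_C_G2)
  obtain ⟨b⟩ := aut Chev.G22.card_G card_C_G2
  exact ⟨a.trans (b.symm.trans f.symm)⟩

end Cfsg.Agent.S3427
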