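import Mathlib
import Cfsg.Statements.S3501
import Cfsg.Agent.Perm.DerClasses

set_option autoImplicit false
open Cfsg

namespace Cfsg.Agent.S3501

open MulAction Cfsg.Agent.Perm.Fx Cfsg.Agent.Perm.Der Cfsg.Agent.Perm.DC

/-- Let a finite group G act faithfully and primitively on a finite set Ω with at least two points, and suppose G is not almost simple (it has no non-abelian simple normal subgroup with trivial centralizer). Then the derangements of G form a single conjugacy class if and only if G is sharply 2-transitive (2-transitive, and no non-identity element fixes two points). -/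
theorem result {G : Type*} [Group G] [Finite G] {Ω : Type*} [Fintype Ω] [MulAction G Ω] [FaithfulSMul G Ω] (hΩ : 2 ≤ Fintype.card Ω) (hprim : MulAction.IsPreprimitive G Ω) (hnas : ¬ ∃ T : Subgroup G, T.Normal ∧ IsSimpleGroup T ∧ ¬ IsMulCommutative T ∧ Subgroup.centralizer (T : Set G) = ⊥) :
    Nat.card {c : ConjClasses G // ∃ g : G, ConjClasses.mk g = c ∧ ∀ ω : Ω, g • ω ≠ ω} = 1 ↔ (MulAction.IsMultiplyPretransitive G Ω 2 ∧ ∀ g : G, g ≠ 1 → ∀ a b : Ω, a ≠ b → g • a = a → g • b ≠ b) := by
  have : Nontrivial Ω := Fintype.one_lt_card_iff_nontrivial.1 hΩ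
  constructor
  · intro h
    have h1 : ncl G Ω ≤ 1 := le_of_eq h
    obtain ⟨N, hN, hN0, hc, hreg⟩ := affine_of_ncl hprim hnas (h1.trans one_le_two)
    have hNt := Perm.isPretransitive_of_normal_ne_bot hprim N hN0
    have h2 := two_trans_of_conj (Ω := Ω) hc fun a ha b hb ha1 hb1 =>
      conj_of_ncl_le_one h1 (der_of_mem hreg ha ha1) (der_of_mem hreg hb hb1)
    refine ⟨h2, fun g hg a b hab ha hb => ?_⟩
    have := (Subgroup.nontrivial_iff_ne_bot N).2 hN0
    obtain ⟨⟨n, hn⟩, hn1⟩ := exists_ne (1 : N)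
    have hn1' : n ≠ 1 := fun e => hn1 (Subtype.ext e)
    have h3 := (count (hreg a) (k := 1) (fun g hg => by
      obtain ⟨c, rfl⟩ := isConj_iff.1 (conj_of_ncl_le_one h1 (der_of_mem hreg hn hn1') hg)
      exact hN.conj_mem n hn c) two_le_norb_prod (by
        have h4 : ({a}ᶜ : Set Ω) ⊆ orbit (stabilizer G a) b := by
          intro x hx
          obtain ⟨g, hg1, hg2⟩ := Perm.exists_smul_eq_two h2 hab (Ne.symm hx)
          exact mem_orbit_sub.2 ⟨g, hg1, hg2⟩
        have h5 := (Set.ncard_le_ncard h4).trans (card_orbit_le _ _)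
        rwa [Set.ncard_compl, Set.ncard_singleton, ← one_mul (Nat.card (stabilizer G a))] at h5)).2
      g hg
    have := two_le_fix hab ha hb
    omega
  · rintro ⟨h2, hs⟩
    refine ncl_of_sharp h2 fun g a b hab ha hb => ?_
    by_contra hg
    exact hs g hg a b hab ha hb

end Cfsg.Agent.S3501
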