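import Mathlib
import Cfsg.Statements.S3520
import Cfsg.Agent.Perm.DerClasses

set_option autoImplicit false
open Cfsg

namespace Cfsg.Agent.S3520

open MulAction Cfsg.Agent.Perm.Fx Cfsg.Agent.Perm.Der Cfsg.Agent.Perm.DC

/-- Let a finite group G act faithfully and primitively on a finite set Ω with at least two points, suppose G is not almost simple (no non-abelian simple normal subgroup with trivial centralizer), and suppose the derangements of G form exactly two conjugacy classes. Then either Ω has 3 points and G has order 3; or G has a non-trivial abelian normal subgroup N acting regularly, every non-identity element of G fixes at most one point (so, when n > 3, G is a Frobenius group with kernel N), the number n of points is odd and a point stabilizer has order (n − 1)/2; or G is 2-transitive with a non-trivial abelian regular normal subgroup and some non-identity element fixes at least two points (a non-Frobenius 2-transitive affine group). -/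
theorem result {G : Type*} [Group G] [Finite G] {Ω : Type*} [Fintype Ω] [MulAction G Ω] [FaithfulSMul G Ω] (hΩ : 2 ≤ Fintype.card Ω) (hprim : MulAction.IsPreprimitive G Ω) (hnas : ¬ ∃ T : Subgroup G, T.Normal ∧ IsSimpleGroup T ∧ ¬ IsMulCommutative T ∧ Subgroup.centralizer (T : Set G) = ⊥)
    (hκ : Nat.card {c : ConjClasses G // ∃ g : G, ConjClasses.mk g = c ∧ ∀ ω : Ω, g • ω ≠ ω} = 2) (α : Ω) :
    (Fintype.card Ω = 3 ∧ Nat.card G = 3) ∨
    ((∃ N : Subgroup G, N.Normal ∧ N ≠ ⊥ ∧ IsMulCommutative N ∧ ∀ ω : Ω, MulAction.stabilizer N ω = ⊥) ∧ (∀ g : G, g ≠ 1 → Nat.card (MulAction.fixedBy Ω g) ≤ 1) ∧ ¬ 2 ∣ Fintype.card Ω ∧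
        2 * Nat.card (MulAction.stabilizer G α) = Fintype.card Ω - 1) ∨
    ((∃ N : Subgroup G, N.Normal ∧ N ≠ ⊥ ∧ IsMulCommutative N ∧ ∀ ω : Ω, MulAction.stabilizer N ω = ⊥) ∧ MulAction.IsMultiplyPretransitive G Ω 2 ∧ ∃ g : G, g ≠ 1 ∧ 2 ≤ Nat.card (MulAction.fixedBy Ω g)) := by
  have : Nontrivial Ω := Fintype.one_lt_card_iff_nontrivial.1 hΩ
  right
  have h1 : ncl G Ω = 2 := hκ
  have haff := affine_of_ncl hprim hnas h1.le
  by_cases h2 : IsMultiplyPretransitive G Ω 2
  · refine Or.inr ⟨haff, h2, ?_⟩
    by_contra hn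
    push Not at hn
    have := ncl_of_sharp h2 fun g a b hab ha hb => by
      by_contra hg
      exact absurd (two_le_fix hab ha hb) (not_le.2 (hn g hg))
    omega
  left
  obtain ⟨N, hN, hN0, hc, hreg⟩ := id haff
  have hNt := Perm.isPretransitive_of_normal_ne_bot hprim N hN0
  obtain ⟨a, ha, b, hb, ha1, hb1, hab⟩ : ∃ a ∈ N, ∃ b ∈ N, a ≠ 1 ∧ b ≠ 1 ∧ ¬ IsConj a b := by
    by_contra hn
    push Not at hn
    exact h2 (two_trans_of_conj hc hn)
  have hder : ∀ g : G, (∀ ω : Ω, g • ω ≠ ω) → IsConj a g ∨ IsConj b g := fun g hg =>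
    (conj_of_ncl_le_two h1.le (der_of_mem hreg ha ha1) (der_of_mem hreg hb hb1) hg).resolve_left hab
  have h3 := count (hreg α) (k := 2) (fun g hg => by
      rcases hder g hg with h | h <;> obtain ⟨c, rfl⟩ := isConj_iff.1 h
      · exact hN.conj_mem a ha c
      · exact hN.conj_mem b hb c) (by
      rw [is_two_pretransitive_iff] at h2
      push Not at h2
      obtain ⟨x, y, z, w, hxy, hzw, h4⟩ := h2
      have h5 := Set.ncard_le_card ({Quotient.mk'' (x, x), Quotient.mk'' (x, y), Quotient.mk'' (z, w)} :
        Set (orbitRel.Quotient G (Ω × Ω)))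
      rwa [Set.ncard_eq_three.2 ⟨_, _, _, ?_, ?_, ?_, rfl⟩] at h5
      · intro e
        obtain ⟨g, hg⟩ := Quotient.exact' e
        simp only [Prod.smul_mk, Prod.mk.injEq] at hg
        exact hxy (smul_left_cancel g (hg.1.trans hg.2.symm))
      · intro e
        obtain ⟨g, hg⟩ := Quotient.exact' e
        simp only [Prod.smul_mk, Prod.mk.injEq] at hg
        exact hzw (smul_left_cancel g (hg.1.trans hg.2.symm))
      · intro e
        obtain ⟨g, hg⟩ := Quotient.exact' e.symm
        simp only [Prod.smul_mk, Prod.mk.injEq] at hg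
        exact h4 g hg.1 hg.2) (by
      have h4 : ({α}ᶜ : Set Ω) ⊆
          orbit (stabilizer G α) (a • α) ∪ orbit (stabilizer G α) (b • α) := by
        intro x hx
        obtain ⟨n, hn, rfl⟩ := Perm.exists_mem_smul_eq N α x
        have hn1 : n ≠ 1 := by rintro rfl; exact hx (one_smul _ _)
        rcases hder n (der_of_mem hreg hn hn1) with h | h
        · exact Or.inl (mem_orbit_sub.2 (exists_stab_of_isConj hc α ha h))
        · exact Or.inr (mem_orbit_sub.2 (exists_stab_of_isConj hc α hb h))
      have h5 := (Set.ncard_le_ncard h4).trans (Set.ncard_union_le _ _)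
      have h6 := card_orbit_le (stabilizer G α) (a • α)
      have h7 := card_orbit_le (stabilizer G α) (b • α)
      rw [Set.ncard_compl, Set.ncard_singleton] at h5
      omega)
  rw [Nat.card_eq_fintype_card (α := Ω)] at h3
  exact ⟨haff, h3.2, by omega, h3.1⟩

end Cfsg.Agent.S3520
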