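import Mathlib
import Cfsg.Statements.S4005
import Cfsg.Agent.FG.H93Small

set_option autoImplicit false
open Cfsg

namespace Cfsg.Agent.S4005

open Cfsg.Agent.FG Cfsg.Agent.GT Subgroup

/-- A finite group whose set of element orders is exactly {1, 2, 3} has either a normal elementary abelian 3-subgroup of index 2 or a normal elementary abelian 2-subgroup of index 3. -/
theorem result {G : Type*} [Group G] [Finite G] (h : Set.range (orderOf : G → ℕ) = {k : ℕ | 1 ≤ k ∧ k ≤ 3}) :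
    (∃ N : Subgroup G, N.Normal ∧ Cfsg.IsElementaryAbelian 3 N ∧ N.index = 2) ∨
      (∃ N : Subgroup G, N.Normal ∧ Cfsg.IsElementaryAbelian 2 N ∧ N.index = 3) := by
  have ho : ∀ g : G, orderOf g ≤ 3 := fun g => (h.le ⟨g, rfl⟩).2
  have hs : H93.Small G := fun g => (ho g).trans (by norm_num)
  have hd : ∀ q : ℕ, 1 ≤ q → q ≤ 3 → q ∣ Nat.card G := fun q hq hqn => by
    obtain ⟨g, hg⟩ : q ∈ Set.range (orderOf : G → ℕ) := h ▸ ⟨hq, hqn⟩
    exact hg ▸ orderOf_dvd_natCard g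
  have h2 := hd 2 (by norm_num) (by norm_num)
  have h3 := hd 3 (by norm_num) (by norm_num)
  have hsq : ∀ g : G, g ^ 4 = 1 → g ^ 2 = 1 := fun g hg => by
    have h4 := ho g
    have h5 := orderOf_pos g
    rw [← orderOf_dvd_iff_pow_eq_one] at hg ⊢
    interval_cases orderOf g <;> simp_all
  have hsq' : ∀ {P : Subgroup G}, IsPGroup 2 P → ∀ x ∈ P, x ^ 2 = 1 := fun hP x hx =>
    hsq x ((hs.pow_eq x).resolve_right fun h4 => by
      obtain ⟨k, hk⟩ := PG.exists_pow_pow_eq_one_of_mem hP hx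
      have := Nat.prime_three.dvd_of_dvd_pow (h4 ▸ orderOf_dvd_of_pow_eq_one hk)
      norm_num at this)
  have := hs.isSolvable
  have : Nontrivial G := Finite.one_lt_card_iff_nontrivial.mp (Nat.le_of_dvd Nat.card_pos h2)
  obtain ⟨p, hp, hp0⟩ := exists_pCore_ne_bot G
  obtain ⟨r, hr, hd⟩ := exists_prime_dvd_card_of_ne_bot hp0
  obtain rfl : r = p := (isPGroup_iff_isPiNum hp).mp (isPGroup_pCore p) r hr hd
  rcases hs.prime_eq hr (hd.trans (card_subgroup_dvd_card _)) with rfl | rfl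
  · right
    refine ⟨pCore 2 G, inferInstance, ⟨H93.comm_of_sq (hsq' (isPGroup_pCore 2)),
      hsq' (isPGroup_pCore 2)⟩, ?_⟩
    obtain ⟨g, hg, hC, h4 | ⟨t, ht, htg, -⟩⟩ := hs.case_two h3 hp0
    · exact h4
    exfalso
    have hT : IsPGroup 2 ↥(zpowers t ⊔ pCore 2 G) := PG.isPGroup_sup_of_le_normalizer
      (H93.isPGroup_zpowers_of_pow (by rwa [pow_two])) (isPGroup_pCore 2)
      (by rw [normalizer_eq_top]; exact le_top)
    have htN : t ∈ pCore 2 G := hs.eppo.centralizer_pCore_le Nat.prime_two hp0 fun n hn =>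
      PG.isMulCommutative_iff_forall.mp (H93.comm_of_sq (hsq' hT)) n (mem_sup_right hn) t
        (mem_sup_left (mem_zpowers t))
    have h5 : t * (g * t⁻¹ * g⁻¹) ∈ pCore 2 G :=
      mul_mem htN ((inferInstance : (pCore 2 G).Normal).conj_mem _ (inv_mem htN) g)
    have h6 : t * (g * t⁻¹ * g⁻¹) = g := by
      calc _ = t * g * t⁻¹ * g⁻¹ := by group
        _ = g * (g ^ 3)⁻¹ := by rw [htg]; group
        _ = g := by rw [← hg, pow_orderOf_eq_one]; simp
    rw [h6] at h5
    rw [mem_bot.mp (hC.le ⟨h5, mem_centralizer_singleton_iff.mpr rfl⟩), orderOf_one] at hg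
    norm_num at hg
  · left
    obtain ⟨S⟩ : Nonempty (Sylow 2 G) := inferInstance
    obtain ⟨h4, -, ⟨e⟩, hf, -⟩ := hs.case_three h2 hp0 S
    refine ⟨pCore 3 G, inferInstance, h4, ?_⟩
    have := H93.comm_of_sq (hsq' S.isPGroup')
    obtain ⟨x, hx⟩ := hf.isCyclic_of_comm.exists_ofOrder_eq_natCard
    rw [index_eq_card, Nat.card_congr e.toEquiv]
    refine Nat.dvd_antisymm ?_ (S.dvd_card_of_dvd_card h2)
    rw [← hx, orderOf_dvd_iff_pow_eq_one]
    exact Subtype.ext (hsq' S.isPGroup' x x.2)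

end Cfsg.Agent.S4005
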