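import Mathlib
import Cfsg.Statements.S3554
-- import your own Cfsg.Agent.* helpers here

set_option autoImplicit false
open Cfsg

namespace Cfsg.Agent.S3554

open MulAction

/-- Let G act faithfully and transitively on a finite set and suppose G has a non-trivial cyclic normal subgroup. Then some element of G of prime order fixes no point. -/
theorem result {G Ω : Type*} [Group G] [Finite G] [MulAction G Ω] [FaithfulSMul G Ω] [Finite Ω]
    (htrans : MulAction.IsPretransitive G Ω) (C : Subgroup G) (hC : C.Normal) (hC1 : C ≠ ⊥) (hcyc : IsCyclic ↥C) :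
    ∃ g : G, (orderOf g).Prime ∧ ∀ ω : Ω, g • ω ≠ ω := by
  have hnt : Nontrivial C := (Subgroup.nontrivial_iff_ne_bot C).mpr hC1
  obtain ⟨p, hp, hpd⟩ := Nat.exists_prime_and_dvd (n := Nat.card C) Finite.one_lt_card.ne'
  have : Fact p.Prime := ⟨hp⟩
  obtain ⟨x, hx⟩ := exists_prime_orderOf_dvd_card' p hpd
  have hx' : orderOf (x : G) = p := by rw [Subgroup.orderOf_coe, hx]
  refine ⟨x, hx' ▸ hp, fun ω hω => ?_⟩
  have key : ∀ g : G, g * x * g⁻¹ ∈ Subgroup.zpowers (x : G) := by
    intro g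
    obtain ⟨m, hm⟩ := MonoidHom.map_cyclic (MulAut.conjNormal (H := C) g).toMonoidHom
    exact ⟨m, (congrArg Subtype.val (hm x)).symm⟩
  have h1 : (x : G) = 1 := by
    apply FaithfulSMul.eq_of_smul_eq_smul (α := Ω)
    intro b
    obtain ⟨g, rfl⟩ := exists_smul_eq G ω b
    obtain ⟨k, hk⟩ := key g⁻¹
    have h2 : ((x : G) ^ k) • ω = ω := mem_fixedBy_zpow hω k
    simp only [inv_inv] at hk
    rw [hk, mul_smul, mul_smul, inv_smul_eq_iff] at h2
    rw [h2, one_smul]
  rw [h1, orderOf_one] at hx'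
  exact hp.one_lt.ne hx'

end Cfsg.Agent.S3554
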