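import Mathlib
import Cfsg.Statements.S3555
import Cfsg.Agent.Perm.Derange
-- import your own Cfsg.Agent.* helpers here

set_option autoImplicit false
open Cfsg

namespace Cfsg.Agent.S3555

open Cfsg.Agent.Perm.Der MulAction Finset
open scoped Pointwise

theorem count_le {G Ω : Type*} [Group G] [Fintype G] [MulAction G Ω] [Finite Ω]
    (hinv : ∀ g : G, (∀ ω : Ω, g • ω ≠ ω) → g * g = 1) :
    Nat.card Ω * nder G Ω ≤ ∑ g : G, fix Ω g * (fix Ω g - 1) := by
  classical
  have := Fintype.ofFinite Ω
  -- both sides as sums over ordered pairs of distinct points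
  have h1 : ∀ g : G, fix Ω g * (fix Ω g - 1) =
      ∑ p ∈ (univ : Finset Ω).offDiag, if g • p.1 = p.1 ∧ g • p.2 = p.2 then 1 else 0 := by
    intro g
    rw [← Finset.card_filter, fix_eq_card_filter, Nat.mul_sub_one, ← Finset.offDiag_card]
    congr 1
    ext p
    simp only [mem_offDiag, mem_filter, mem_univ, true_and]
    tauto
  have h2 : Nat.card Ω * nder G Ω = ∑ g : G,
      ∑ p ∈ (univ : Finset Ω).offDiag, if fix Ω g = 0 ∧ g • p.1 = p.2 then 1 else 0 := by
    rw [nder_eq, Finset.card_filter, Finset.mul_sum]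
    refine Finset.sum_congr rfl fun g _ => ?_
    by_cases hg : fix Ω g = 0
    · simp only [hg, if_true, mul_one, true_and]
      rw [← Finset.card_filter, Nat.card_eq_fintype_card, ← Finset.card_univ]
      symm
      refine Finset.card_bij (fun p _ => p.1) (by simp) ?_ ?_
      · intro p hp q hq h
        simp only [mem_filter] at hp hq
        exact Prod.ext h (by rw [← hp.2, ← hq.2, h])
      · intro a _
        refine ⟨(a, g • a), ?_, rfl⟩
        simp only [mem_filter, mem_offDiag, mem_univ, true_and, and_true]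
        exact ((fix_eq_zero_iff g).mp hg a).symm
    · simp [hg]
  rw [h2, Finset.sum_congr rfl fun g _ => h1 g, Finset.sum_comm, Finset.sum_comm (s := univ)]
  refine Finset.sum_le_sum fun p _ => ?_
  rw [← Finset.card_filter, ← Finset.card_filter]
  rcases (univ.filter fun g : G => fix Ω g = 0 ∧ g • p.1 = p.2).eq_empty_or_nonempty with h | ⟨s, hs⟩
  · rw [h]; simp
  · simp only [mem_filter, mem_univ, true_and] at hs
    refine Finset.card_le_card_of_injOn (fun t => s * t) ?_ (fun a _ b _ h => mul_left_cancel h)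
    intro t ht
    simp only [coe_filter, mem_univ, true_and, Set.mem_ofPred_eq] at ht ⊢
    have hs2 := hinv s ((fix_eq_zero_iff s).mp hs.1)
    have ht2 := hinv t ((fix_eq_zero_iff t).mp ht.1)
    have e1 : s • p.2 = p.1 := by rw [← hs.2, ← mul_smul, hs2, one_smul]
    have e2 : t • p.2 = p.1 := by rw [← ht.2, ← mul_smul, ht2, one_smul]
    exact ⟨by rw [mul_smul, ht.2, e1], by rw [mul_smul, e2, hs.2]⟩

/-- Let G act faithfully and transitively on a finite set and suppose every element of G fixing no point is an involution. Then either G is an elementary abelian 2-group, or G is a Frobenius group whose Frobenius kernel is an elementary abelian 2-group: G has a Frobenius complement H, and the elements lying in no conjugate of H, together with the identity, pairwise commute and square to the identity. -/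
theorem result {G Ω : Type*} [Group G] [Finite G] [MulAction G Ω] [FaithfulSMul G Ω] [Finite Ω]
    (htrans : MulAction.IsPretransitive G Ω) (hinv : ∀ g : G, (∀ ω : Ω, g • ω ≠ ω) → orderOf g = 2) :
    (IsMulCommutative G ∧ ∀ g : G, g ^ 2 = 1) ∨
    (∃ H : Subgroup G, Cfsg.IsFrobeniusComplement H ∧
      (∀ x ∈ Cfsg.frobeniusKernel H, x ^ 2 = 1) ∧
      ∀ x ∈ Cfsg.frobeniusKernel H, ∀ y ∈ Cfsg.frobeniusKernel H, x * y = y * x) := by
  classical
  have := Fintype.ofFinite G
  have hinv' : ∀ g : G, (∀ ω : Ω, g • ω ≠ ω) → g * g = 1 := fun g hg => by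
    rw [← sq, ← hinv g hg, pow_orderOf_eq_one]
  cases isEmpty_or_nonempty Ω with
  | inl h =>
    have := hinv 1 (fun ω => h.elim ω)
    simp at this
  | inr hne =>
  have h1 := card_mul_nder (G := G) (Ω := Ω)
  have h2 := count_le hinv'
  have h6 : ∑ g : G, (fix Ω g - 1) * (Nat.card Ω - fix Ω g) = 0 := by omega
  have h8 : ∀ g : G, g ≠ 1 → fix Ω g ≤ 1 := by
    intro g hg
    have := Finset.sum_eq_zero_iff.mp h6 g (mem_univ g)
    rcases Nat.mul_eq_zero.mp this with h | h
    · omega
    · exact absurd (eq_one_of_fix_eq (Ω := Ω) (le_antisymm (fix_le g) (by omega))) hg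
  have h9 : ∀ (g : G) (a b : Ω), a ≠ b → g • a = a → g • b = b → g = 1 := by
    intro g a b hab ha hb
    by_contra hg
    have := two_le_fix hab ha hb
    have := h8 g hg
    omega
  obtain ⟨a⟩ := hne
  -- identity and derangements are closed under products
  have hK : ∀ x : G, (x = 1 ∨ ∀ ω : Ω, x • ω ≠ ω) → x * x = 1 := by
    rintro x (rfl | hx)
    · simp
    · exact hinv' x hx
  have hmul : ∀ x y : G, (x = 1 ∨ ∀ ω : Ω, x • ω ≠ ω) → (y = 1 ∨ ∀ ω : Ω, y • ω ≠ ω) →
      x * y = y * x := by
    intro x y hx hy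
    have hx2 := hK x hx
    have hy2 := hK y hy
    rcases hx with rfl | hx
    · simp
    rcases hy with rfl | hy
    · simp
    have : x * y * (x * y) = 1 := by
      apply hK
      by_contra hc
      push Not at hc
      obtain ⟨hc1, ω, hω⟩ := hc
      apply hc1
      have e1 : x • ω = y • ω := by
        rw [mul_smul] at hω
        conv_lhs => rw [← hω, ← mul_smul, hx2, one_smul]
      refine h9 _ ω (y • ω) (hy ω).symm hω ?_
      rw [mul_smul, ← mul_smul y, hy2, one_smul, e1]
    calc x * y = (x * x) * y * x * (y * y) * x * y * (x * y * (x * y))⁻¹ * (x * y) := by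
          rw [this, hx2, hy2]; simp only [one_mul, mul_one, inv_one]
          rw [mul_assoc y x x, hx2, mul_one, hy2, one_mul]
      _ = y * x := by
          rw [hx2, hy2]; simp only [one_mul, mul_one]
          have e1 : x⁻¹ = x := inv_eq_of_mul_eq_one_right hx2
          have e2 : y⁻¹ = y := inv_eq_of_mul_eq_one_right hy2
          simp only [mul_inv_rev, e1, e2]
          rw [mul_assoc y x x, hx2, mul_one, hy2, one_mul]
          rw [mul_assoc, mul_assoc y x (x * y), ← mul_assoc x x y, hx2, one_mul, hy2, mul_one]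
  by_cases hH : stabilizer G a = ⊥
  · left
    have hall : ∀ x : G, x = 1 ∨ ∀ ω : Ω, x • ω ≠ ω := by
      intro x
      by_contra hc
      push Not at hc
      obtain ⟨hc1, ω, hω⟩ := hc
      obtain ⟨g, rfl⟩ := exists_smul_eq G a ω
      have : g⁻¹ * x * g ∈ stabilizer G a := by
        rw [mem_stabilizer_iff, mul_smul, mul_smul, hω, inv_smul_smul]
      rw [hH, Subgroup.mem_bot] at this
      apply hc1
      calc x = g * (g⁻¹ * x * g) * g⁻¹ := by group
        _ = 1 := by rw [this]; simp
    exact ⟨⟨⟨fun x y => hmul x y (hall x) (hall y)⟩⟩, fun g => by rw [sq]; exact hK g (hall g)⟩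
  · right
    have hmem : ∀ g x : G, x ∈ MulAut.conj g • stabilizer G a ↔ x • g • a = g • a := by
      intro g x
      rw [Subgroup.mem_pointwise_smul_iff_inv_smul_mem, mem_stabilizer_iff]
      change (g⁻¹ * x * g) • a = a ↔ _
      rw [mul_smul, mul_smul, inv_smul_eq_iff]
    have hker : ∀ x ∈ Cfsg.frobeniusKernel (stabilizer G a), x = 1 ∨ ∀ ω : Ω, x • ω ≠ ω := by
      rintro x (hx | hx)
      · exact Or.inl hx
      · refine Or.inr fun ω hω => ?_
        obtain ⟨g, rfl⟩ := exists_smul_eq G a ω
        exact hx g ((hmem g x).mpr hω)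
    refine ⟨stabilizer G a, ⟨hH, fun htop => hH ?_, fun g hg => ?_⟩,
      fun x hx => by rw [sq]; exact hK x (hker x hx),
      fun x hx y hy => hmul x y (hker x hx) (hker y hy)⟩
    · rw [eq_bot_iff]
      intro x _
      apply FaithfulSMul.eq_of_smul_eq_smul (α := Ω)
      intro b
      obtain ⟨g, rfl⟩ := exists_smul_eq G a b
      have hall : ∀ y : G, y • a = a := fun y => by
        have : y ∈ stabilizer G a := htop ▸ Subgroup.mem_top y
        exact this
      rw [hall g, hall, hall]
    · rw [eq_bot_iff]
      intro x hx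
      exact h9 x a (g • a) (fun h => hg h.symm) hx.1 ((hmem g x).mp hx.2)

end Cfsg.Agent.S3555
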