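import Mathlib
import Cfsg.Statements.S3556
import Cfsg.Agent.Perm.Factor
import Cfsg.Agent.Perm.Regular
import Cfsg.Agent.FG.CoverConj
-- import your own Cfsg.Agent.* helpers here

set_option autoImplicit false
open Cfsg

namespace Cfsg.Agent.S3556

open MulAction Cfsg.Agent.Perm Cfsg.Agent.GT


/-- Let G act faithfully and primitively on a finite set with at least two points, and suppose that for some fixed prime p every element of G fixing no point has order a power of p. Then G is of affine type (it has a regular normal subgroup that is an elementary abelian r-group for some prime r) or almost simple (it has a non-abelian simple normal subgroup with trivial centralizer). -/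
theorem result {G Ω : Type*} [Group G] [Finite G] [MulAction G Ω] [FaithfulSMul G Ω] [Finite Ω]
    (hprim : MulAction.IsPreprimitive G Ω) (hΩ : 2 ≤ Nat.card Ω) (p : ℕ) (hp : p.Prime)
    (hder : ∀ g : G, (∀ ω : Ω, g • ω ≠ ω) → ∃ k : ℕ, orderOf g = p ^ k) :
    (∃ (N : Subgroup G) (r : ℕ), r.Prime ∧ N.Normal ∧ Cfsg.IsElementaryAbelian r N ∧
      MulAction.IsPretransitive N Ω ∧ ∀ a : Ω, MulAction.stabilizer N a = ⊥) ∨
    (∃ T : Subgroup G, T.Normal ∧ IsSimpleGroup ↥T ∧ ¬ IsMulCommutative ↥T ∧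
      Subgroup.centralizer (T : Set G) = ⊥) := by
  have := Fact.mk hp
  have hΩ' : Nontrivial Ω := Finite.one_lt_card_iff_nontrivial.mp hΩ
  have htr : IsPretransitive G Ω := hprim.toIsPretransitive
  have hG : Nontrivial G := by
    obtain ⟨a, b, hab⟩ := exists_pair_ne Ω
    obtain ⟨g, hg⟩ := exists_smul_eq G a b
    exact ⟨g, 1, fun h => hab (by rw [← hg, h, one_smul])⟩
  have hsemi : ∀ S : Subgroup G, (∀ a : Ω, stabilizer S a = ⊥) → IsPGroup p S := by
    intro S hS s
    by_cases h1 : (s : G) = 1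
    · exact ⟨0, Subtype.ext (by simpa using h1)⟩
    · obtain ⟨k, hk⟩ := hder s fun ω => smul_ne_of_semiregular (hS ω) s.2 h1
      exact ⟨k, Subtype.ext (by rw [Subgroup.coe_pow, ← hk, pow_orderOf_eq_one]; rfl)⟩
  by_cases hs : ∃ S : Subgroup G, S.Normal ∧ S ≠ ⊥ ∧ Group.IsSolvable S
  · obtain ⟨S, hSn, hSb, hSs⟩ := hs
    obtain ⟨N, r, hN, -, hr, hE⟩ := exists_isMinNormal_elementary_le hSb
    have := hN.normal
    have := isPretransitive_of_normal_ne_bot hprim N hN.ne_bot
    exact Or.inl ⟨N, r, hr, hN.normal, hE, this, stabilizer_eq_bot_of_comm N hE.1⟩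
  right
  obtain ⟨N, hN⟩ := exists_isMinNormal G
  have hn := hN.normal
  have hNt := isPretransitive_of_normal_ne_bot hprim N hN.ne_bot
  have hc : ¬ IsMulCommutative N := fun hc =>
    hs ⟨N, hn, hN.ne_bot, isSolvable_of_isMulCommutative⟩
  have hC : Subgroup.centralizer (N : Set G) = ⊥ := by
    by_contra hb
    have := (hsemi _ (stabilizer_eq_bot_of_le_centralizer N _ le_rfl)).isNilpotent
    exact hs ⟨_, inferInstance, hb, inferInstance⟩
  obtain ⟨T, hT⟩ := exists_isFactor hN hc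
  by_cases hall : ∀ g : G, ∀ t ∈ T, g * t * g⁻¹ ∈ T
  · obtain rfl := hT.eq_of_forall_conj hN hall
    exact ⟨T, hn, hT.simple, hc, hC⟩
  exfalso
  obtain ⟨g, hg⟩ := not_forall.mp hall
  have hg' := (hT.conj_or g).resolve_left hg
  obtain ⟨a⟩ : Nonempty Ω := inferInstance
  let H : Subgroup T :=
    { carrier := {t | ∃ c ∈ N, (∀ s ∈ T, s * c = c * s) ∧ ((t : G) * c) • a = a}
      one_mem' := ⟨1, N.one_mem, by simp, by simp⟩
      mul_mem' := by
        rintro x y ⟨c, hc, hc1, hc2⟩ ⟨d, hd, hd1, hd2⟩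
        refine ⟨c * d, N.mul_mem hc hd, fun s hs => ?_, ?_⟩
        · rw [← mul_assoc, hc1 s hs, mul_assoc, hd1 s hs, mul_assoc]
        · have : ((x * y : T) : G) * (c * d) = (x * c) * (y * d) := by
            rw [Subgroup.coe_mul, mul_assoc, ← mul_assoc (y : G), hc1 y y.2]; group
          rw [this, mul_smul, hd2, hc2]
      inv_mem' := by
        rintro x ⟨c, hc, hc1, hc2⟩
        refine ⟨c⁻¹, N.inv_mem hc, fun s hs => ?_, ?_⟩
        · exact (Commute.inv_right (hc1 s hs)).eq
        · have : ((x⁻¹ : T) : G) * c⁻¹ = (x * c)⁻¹ := by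
            rw [hc1 x x.2]; simp
          rw [this, inv_smul_eq_iff, hc2] }
  apply hT.not_isPGroup hp
  by_cases hH : H = ⊤
  · let C : Subgroup G := N ⊓ Subgroup.centralizer (T : Set G)
    have : IsPretransitive C Ω := by
      refine (isPretransitive_iff_base a).mpr fun b => ?_
      obtain ⟨n, hnN, rfl⟩ := exists_mem_smul_eq N a b
      obtain ⟨t, ht, c, hc, hc1, rfl⟩ := hT.decomp n hnN
      obtain ⟨d, hd, hd1, hd2⟩ : (⟨t, ht⟩ : T) ∈ H := hH ▸ Subgroup.mem_top _
      refine ⟨⟨c, hc, fun s hs => hc1 s hs⟩ * (⟨d, hd, fun s hs => hd1 s hs⟩ : C)⁻¹, ?_⟩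
      change (c * d⁻¹) • a = (t * c) • a
      change (t * d) • a = a at hd2
      rw [hc1 t ht, mul_smul, mul_smul]
      congr 1
      rw [inv_smul_eq_iff, ← mul_smul, ← hd1 t ht, hd2]
    exact hsemi T (stabilizer_eq_bot_of_le_centralizer C T
      (Subgroup.le_centralizer_iff.mp inf_le_right))
  · obtain ⟨t, ht⟩ := FG.H96.exists_not_mem_conj H hH
    intro s
    have hs' := hg' s s.2
    have hsN : g * s * g⁻¹ ∈ N := hn.conj_mem _ (hT.le s.2) g
    obtain ⟨k, hk⟩ := hder (t * (g * s * g⁻¹)) (by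
      intro ω hω
      obtain ⟨n, hnN, rfl⟩ := exists_mem_smul_eq N a ω
      obtain ⟨u, hu, c, hc, hc1, rfl⟩ := hT.decomp n hnN
      apply ht ⟨u, hu⟩
      rw [Subgroup.mem_pointwise_smul_iff_inv_smul_mem]
      refine ⟨c⁻¹ * (g * s * g⁻¹) * c, hn.conj_mem' _ hsN c, fun x hx => ?_, ?_⟩
      · have e1 : Commute x c := hc1 x hx
        have e2 : Commute x (g * s * g⁻¹) := hs' x hx
        exact ((e1.inv_right.mul_right e2).mul_right e1).eq
      · have e1 : Commute u c := hc1 u hu
        have e2 : Commute (t : G) c := hc1 t t.2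
        have e3 : Commute u (g * s * g⁻¹) := hs' u hu
        have : (((MulAut.conj (⟨u, hu⟩ : T))⁻¹ • t : T) : G) * (c⁻¹ * (g * s * g⁻¹) * c) =
            (u * c)⁻¹ * (t * (g * s * g⁻¹)) * (u * c) := by
          generalize g * s * g⁻¹ = y at e3 ⊢
          change u⁻¹ * t * u * _ = _
          calc u⁻¹ * t * u * (c⁻¹ * y * c) = u⁻¹ * t * (u * c⁻¹) * y * c := by group
            _ = u⁻¹ * (t * c⁻¹) * (u * y) * c := by rw [e1.inv_right.eq]; group
            _ = (u⁻¹ * c⁻¹) * t * y * u * c := by rw [e2.inv_right.eq, e3.eq]; group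
            _ = (u * c)⁻¹ * (t * y) * (u * c) := by rw [e1.inv_inv.eq]; group
        rw [this, mul_smul, mul_smul, hω, inv_smul_smul])
    refine ⟨k, ?_⟩
    have e : Commute (t : G) (g * s * g⁻¹) := hs' t t.2
    have h1 : (t : G) ^ p ^ k * (g * s * g⁻¹) ^ p ^ k = 1 := by
      rw [← e.mul_pow, ← hk, pow_orderOf_eq_one]
    have h2 : (t : G) ^ p ^ k = 1 := by
      refine hT.eq_one_of_comm (T.pow_mem t.2 _) fun x hx => ?_
      rw [eq_inv_of_mul_eq_one_left h1]
      exact ((Commute.pow_right (hs' x hx) _).inv_right).eq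
    rw [h2, one_mul, conj_pow, mul_inv_eq_one, mul_eq_left] at h1
    exact Subtype.ext h1

end Cfsg.Agent.S3556
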