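import Mathlib
import Cfsg.Statements.S5727
import Cfsg.Agent.S5726
import Cfsg.Agent.Perm.Derange
-- import your own Cfsg.Agent.* helpers here

set_option autoImplicit false
open Cfsg

namespace Cfsg.Agent.S5727

open MulAction Cfsg.Agent.Perm.Der Finset

theorem normal_of_index_prime {P : Type*} [Group P] [Finite P] {p : ℕ} [Fact p.Prime]
    (hP : IsPGroup p P) (H : Subgroup P) (h : H.index = p) : H.Normal := by
  apply Subgroup.normal_of_index_eq_minFac_card
  obtain ⟨k, hk⟩ := IsPGroup.iff_card.mp hP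
  have hp : p.Prime := Fact.out
  have hk0 : k ≠ 0 := by
    rintro rfl
    have := H.index_dvd_card
    rw [hk, h, pow_zero, Nat.dvd_one] at this
    exact hp.one_lt.ne' this
  rw [hk, h, hp.pow_minFac hk0]

theorem card_eq_norb_mul {P Ω : Type*} [Group P] [MulAction P Ω] [Finite Ω] (d : ℕ)
    (h : ∀ a : Ω, (orbit P a).ncard = d) : Nat.card Ω = norb P Ω * d := by
  classical
  have := Fintype.ofFinite (orbitRel.Quotient P Ω)
  rw [Nat.card_congr (selfEquivSigmaOrbits' P Ω), Nat.card_sigma, norb, Nat.card_eq_fintype_card,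
    ← Finset.card_univ, ← smul_eq_mul, ← Finset.sum_const]
  refine Finset.sum_congr rfl fun q _ => ?_
  induction q using Quotient.inductionOn' with
  | h x => rw [orbitRel.Quotient.orbit_mk, Nat.card_coe_set_eq, h]

/-- If a finite group acts faithfully and transitively on a set with m·p elements, where p is a prime and 1 ≤ m ≤ p, then some element of order p fixes no point. -/
theorem result {G Ω : Type*} [Group G] [Finite G] [MulAction G Ω] [FaithfulSMul G Ω] [Fintype Ω] (htr : MulAction.IsPretransitive G Ω)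
    (p m : ℕ) (hp : p.Prime) (hm : 1 ≤ m) (hmp : m ≤ p) (hΩ : Fintype.card Ω = m * p) :
    ∃ g : G, orderOf g = p ∧ ∀ ω : Ω, g • ω ≠ ω := by
  rcases hmp.eq_or_lt with rfl | hlt
  · exact S5726.result htr m 2 hp (by norm_num) (by rw [hΩ, sq])
  classical
  have := Fact.mk hp
  have := Fintype.ofFinite G
  rw [← Nat.card_eq_fintype_card] at hΩ
  obtain ⟨P⟩ : Nonempty (Sylow p G) := inferInstance
  have horb : ∀ a : Ω, (orbit (P : Subgroup G) a).ncard = p := by
    intro a
    have h1 : p ^ 1 ∣ (orbit (P : Subgroup G) a).ncard :=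
      S5726.pow_dvd_ncard_orbit (by rw [hΩ, pow_one]; exact dvd_mul_left _ _) P a
    obtain ⟨k, hk⟩ := P.isPGroup'.card_orbit a
    rw [Nat.card_coe_set_eq] at hk
    have h2 : (orbit (P : Subgroup G) a).ncard ≤ Nat.card Ω := Set.ncard_le_card _
    rw [hk] at h1 h2 ⊢
    have h3 : 1 ≤ k := (Nat.pow_dvd_pow_iff_le_right hp.one_lt).mp h1
    have h4 : p ^ k < p ^ 2 := by
      rw [hΩ] at h2
      calc p ^ k ≤ m * p := h2
        _ < p * p := Nat.mul_lt_mul_of_pos_right hlt hp.pos
        _ = p ^ 2 := (sq p).symm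
    have h5 := (Nat.pow_lt_pow_iff_right hp.one_lt).mp h4
    rw [show k = 1 by omega, pow_one]
  have hidx : ∀ a : Ω, (stabilizer (P : Subgroup G) a).index = p := fun a => by
    rw [index_stabilizer, horb]
  have hnorm : ∀ a : Ω, (stabilizer (P : Subgroup G) a).Normal := fun a =>
    normal_of_index_prime P.isPGroup' _ (hidx a)
  have hn : norb (P : Subgroup G) Ω = m := by
    have := card_eq_norb_mul p horb
    rw [hΩ] at this
    exact (Nat.eq_of_mul_eq_mul_right hp.pos this).symm
  have hsum := sum_fix Ω (G := (P : Subgroup G))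
  obtain ⟨g, hg⟩ : ∃ g : (P : Subgroup G), fix Ω g = 0 := by
    by_contra hc
    push Not at hc
    have h1 : ∀ g : (P : Subgroup G), p ≤ fix Ω g := by
      intro g
      obtain ⟨a, ha⟩ := exists_of_fix_pos (Nat.pos_of_ne_zero (hc g))
      refine (horb a).symm.le.trans ?_
      rw [fix, Nat.card_coe_set_eq]
      apply Set.ncard_le_ncard _ (Set.toFinite _)
      rintro _ ⟨x, rfl⟩
      have := (hnorm a).conj_mem g ha x⁻¹
      rw [mem_stabilizer_iff, inv_inv, mul_smul, mul_smul, inv_smul_eq_iff] at this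
      exact this
    have h2 : ∑ _g : (P : Subgroup G), p ≤ ∑ g : (P : Subgroup G), fix Ω g :=
      Finset.sum_le_sum fun g _ => h1 g
    rw [hsum, hn, Finset.sum_const, Finset.card_univ, ← Nat.card_eq_fintype_card, smul_eq_mul,
      mul_comm] at h2
    have := Nat.le_of_mul_le_mul_right h2 Nat.card_pos
    omega
  rw [fix_eq_zero_iff] at hg
  refine ⟨g, ?_, hg⟩
  have hne : Nonempty Ω := (Nat.card_pos_iff.mp (by rw [hΩ]; positivity [hp.pos])).1
  obtain ⟨a⟩ := hne
  apply orderOf_eq_prime
  · apply FaithfulSMul.eq_of_smul_eq_smul (α := Ω)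
    intro b
    have := hnorm b
    have h := (stabilizer (P : Subgroup G) b).pow_index_mem g
    rw [hidx] at h
    rw [one_smul]
    exact h
  · intro h
    apply hg a
    change (g : G) • a = a
    rw [h, one_smul]

end Cfsg.Agent.S5727
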