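import Mathlib
import Cfsg.Statements.S3557
import Cfsg.Agent.S5727
import Cfsg.Agent.GT.PGroupChain
import Cfsg.Agent.GT.PiGroups
-- import your own Cfsg.Agent.* helpers here

set_option autoImplicit false
open Cfsg

namespace Cfsg.Agent.S3557

open MulAction Subgroup

theorem aux {P Ω : Type*} [Group P] [Finite P] [MulAction P Ω] [FaithfulSMul P Ω] [Finite Ω] {p : ℕ}
    [hp : Fact p.Prime] (hP : IsPGroup p P) (hcard : Nat.card Ω = 2 * p ^ 2)
    (horb : ∀ a : Ω, (orbit P a).ncard = p ^ 2) :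
    ∃ σ : Equiv.Perm Ω, σ ^ p = 1 ∧ (∀ x, σ x ≠ x) ∧ ∀ x y, ∃ g : P, σ x = g • x ∧ σ y = g • y := by
  classical
  have hp2 : p < p ^ 2 := by have := hp.out.one_lt; nlinarith
  have hidx : ∀ a : Ω, (stabilizer P a).index = p ^ 2 := fun a => by rw [index_stabilizer, horb]
  obtain ⟨a₀⟩ : Nonempty Ω := (Nat.card_pos_iff.mp (by rw [hcard]; positivity [hp.out.pos])).1
  have hne : (⊤ : Subgroup P) ≠ ⊥ := fun h => by
    have h3 := hidx a₀
    rw [top_le_iff.mp (h.le.trans (bot_le (a := stabilizer P a₀))), index_top] at h3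
    have := hp.out.one_lt
    omega
  obtain ⟨z, -, hzc, hz1, hzp⟩ := GT.PG.exists_mem_center_of_normal hP ⊤ hne
  have hfix : ∀ {w : P} {b : Ω}, (∀ g : P, w • g • b = g • w • b) → ∀ y ∈ orbit P b, w • y = y →
      ∀ x ∈ orbit P b, w • x = x := by
    rintro w b hw _ ⟨g, rfl⟩ h _ ⟨g', rfl⟩
    simp only [hw] at h ⊢
    rw [smul_left_cancel g h]
  have hzc' : ∀ (b : Ω) (g : P), z • g • b = g • z • b := fun b g => by
    rw [← mul_smul, ← mem_center_iff.mp hzc g, mul_smul]
  by_cases hz : ∀ x : Ω, z • x ≠ x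
  · exact ⟨toPermHom P Ω z, by rw [← map_pow, hzp, map_one], hz, fun x y => ⟨z, rfl, rfl⟩⟩
  push Not at hz
  obtain ⟨b, hb⟩ := hz
  obtain ⟨a, ha⟩ : ∃ a : Ω, z • a ≠ a := by
    by_contra h
    push Not at h
    exact hz1 (FaithfulSMul.eq_of_smul_eq_smul (α := Ω) fun x => by rw [h, one_smul])
  have hz2 : ∀ x ∈ orbit P b, z • x = x := hfix (hzc' b) b (mem_orbit_self b) hb
  have hz3 : ∀ x ∈ orbit P a, z • x ≠ x := fun x hx h => ha (hfix (hzc' a) x hx h a (mem_orbit_self a))
  have hcompl : orbit P b = (orbit P a)ᶜ := by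
    refine Set.eq_of_subset_of_ncard_le (fun x hx hx' => hz3 x hx' (hz2 x hx)) ?_
    have := Set.ncard_add_ncard_compl (orbit P a)
    rw [horb] at this ⊢
    omega
  have hZn : (zpowers z).Normal := ⟨fun n hn g => by
    rwa [mem_center_iff.mp (zpowers_le.mpr hzc hn) g, mul_inv_cancel_right]⟩
  have hzo : orderOf z = p := orderOf_eq_prime hzp hz1
  have hZ2 : ∀ ζ ∈ zpowers z, ∀ x ∈ orbit P b, ζ • x = x := fun ζ hζ x hx =>
    (show zpowers z ≤ stabilizer P x from zpowers_le.mpr (hz2 x hx)) hζ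
  set M := zpowers z ⊔ stabilizer P a with hM
  have hMi : M.index = p := by
    have h1 : zpowers z ⊓ stabilizer P a = ⊥ := by
      have : Fact (Nat.card (zpowers z)).Prime := ⟨by rw [Nat.card_zpowers, hzo]; exact hp.out⟩
      rcases ((stabilizer P a).subgroupOf (zpowers z)).eq_bot_or_eq_top_of_prime_card with h | h
      · exact disjoint_iff.mp (subgroupOf_eq_bot.mp h).symm
      · exact absurd (subgroupOf_eq_top.mp h (mem_zpowers z)) ha
    have h2 := GT.card_sup_mul_card_inf (stabilizer P a) (zpowers z)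
    rw [sup_comm, inf_comm, mul_comm (Nat.card (stabilizer P a)), h1, card_bot, mul_one, Nat.card_zpowers, hzo, ← hM] at h2
    have h3 := M.index_mul_card
    rw [← (stabilizer P a).index_mul_card, hidx, h2, ← mul_assoc, sq] at h3
    exact Nat.eq_of_mul_eq_mul_right hp.out.pos (Nat.eq_of_mul_eq_mul_right Nat.card_pos h3)
  have hMn : M.Normal := S5727.normal_of_index_prime hP M hMi
  let ρ := toPermHom P (orbit P b)
  have hρ : ∀ {u v : P}, ρ.rangeRestrict u = ρ.rangeRestrict v → ∀ x ∈ orbit P b, u • x = v • x :=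
    fun {u v} h x hx => congrArg (fun τ : ρ.range => (((τ : Equiv.Perm (orbit P b)) ⟨x, hx⟩ : orbit P b) : Ω)) h
  have := hMn.map ρ.rangeRestrict ρ.rangeRestrict_surjective
  obtain ⟨_, ⟨w, hwM, rfl⟩, hwc, hw1, hwp⟩ := GT.PG.exists_mem_center_of_normal
    (hP.of_surjective _ ρ.rangeRestrict_surjective) (M.map ρ.rangeRestrict) (fun h => by
      have h1 : M ≤ stabilizer P b := fun m hm => by
        have := hρ (u := m) (v := 1) (by rw [map_one, ← mem_bot, ← h]; exact mem_map_of_mem _ hm) b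
          (mem_orbit_self b)
        rwa [one_smul] at this
      have h2 := index_dvd_of_le h1
      rw [hidx, hMi] at h2
      exact absurd (Nat.le_of_dvd hp.out.pos h2) (by omega))
  have hw2 : ∀ g : P, w • g • b = g • w • b := fun g => by
    rw [← mul_smul, ← mul_smul]
    exact hρ (by rw [map_mul, map_mul, mem_center_iff.mp hwc]) b (mem_orbit_self b)
  have hw3 : ∀ x ∈ orbit P b, w • x ≠ x := fun x hx h =>
    hw1 (Subtype.ext (Equiv.ext fun y => Subtype.ext (hfix hw2 x hx h y y.2)))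
  have hmem : ∀ (g : P) (x : Ω), g • x ∈ orbit P a ↔ x ∈ orbit P a := fun g x =>
    ⟨fun h => by simpa using mapsTo_smul_orbit g⁻¹ a h, fun h => mapsTo_smul_orbit g a h⟩
  let σ : Equiv.Perm Ω :=
    { toFun := fun x => if x ∈ orbit P a then z • x else w • x
      invFun := fun x => if x ∈ orbit P a then z⁻¹ • x else w⁻¹ • x
      left_inv := fun x => by by_cases h : x ∈ orbit P a <;> simp [h, hmem]
      right_inv := fun x => by by_cases h : x ∈ orbit P a <;> simp [h, hmem] }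
  have hσ1 : ∀ x ∈ orbit P a, σ x = z • x := fun x hx => if_pos hx
  have hσ2 : ∀ x ∉ orbit P a, σ x = w • x := fun x hx => if_neg hx
  have hb' : ∀ x ∉ orbit P a, x ∈ orbit P b := fun x hx => hcompl ▸ hx
  have hmix : ∀ x ∈ orbit P a, ∀ y ∉ orbit P a, ∃ g : P, σ x = g • x ∧ σ y = g • y := by
    rintro _ ⟨g, rfl⟩ y hy
    obtain ⟨ζ, hζ, h, hh, e⟩ := mem_sup_of_normal_left.mp (hMn.conj_mem w hwM g⁻¹)
    have hy' : (g * h * g⁻¹) • y ∈ orbit P b := mapsTo_smul_orbit _ b (hb' y hy)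
    refine ⟨z * (g * h * g⁻¹), ?_, ?_⟩
    · rw [hσ1 _ (mem_orbit a g), mul_smul, mul_smul, mul_smul, inv_smul_smul, mem_stabilizer_iff.mp hh]
    · rw [hσ2 y hy, mul_smul, hz2 _ hy', ← hZ2 _ (hZn.conj_mem ζ hζ g) _ hy', ← mul_smul]
      congr 1
      calc w = g * (g⁻¹ * w * g⁻¹⁻¹) * g⁻¹ := by group
        _ = _ := by rw [← e]; group
  refine ⟨σ, Equiv.ext fun x => ?_, fun x => ?_, fun x y => ?_⟩
  · have h1 : ∀ n : ℕ, (σ ^ n) x = if x ∈ orbit P a then z ^ n • x else w ^ n • x := by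
      intro n
      induction n with
      | zero => simp
      | succ n ih =>
        rw [pow_succ', Equiv.Perm.mul_apply, ih]
        split_ifs with h
        · rw [hσ1 _ ((hmem _ _).mpr h), pow_succ', mul_smul]
        · rw [hσ2 _ (mt (hmem _ _).mp h), pow_succ', mul_smul]
    rw [h1]
    split_ifs with h
    · rw [hzp, one_smul]; rfl
    · rw [hρ (v := 1) (by rw [map_pow, hwp, map_one]) x (hb' x h), one_smul]; rfl
  · by_cases h : x ∈ orbit P a
    · rw [hσ1 x h]; exact hz3 x h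
    · rw [hσ2 x h]; exact hw3 x (hb' x h)
  · by_cases hx : x ∈ orbit P a <;> by_cases hy : y ∈ orbit P a
    · exact ⟨z, hσ1 x hx, hσ1 y hy⟩
    · exact hmix x hx y hy
    · exact (hmix y hy x hx).imp fun g h => h.symm
    · exact ⟨w, hσ2 x hx, hσ2 y hy⟩

/-- Let G act faithfully and transitively on a finite set with 2p² points, p a prime, and suppose G is 2-closed: every permutation of the set which, on each ordered pair of points, agrees with some element of G, is itself induced by an element of G. Then some element of G of prime order fixes no point. -/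
theorem result {G Ω : Type*} [Group G] [Finite G] [MulAction G Ω] [FaithfulSMul G Ω] [Finite Ω]
    (htrans : MulAction.IsPretransitive G Ω) (p : ℕ) (hp : p.Prime) (hcard : Nat.card Ω = 2 * p ^ 2)
    (hcl : ∀ σ : Equiv.Perm Ω, (∀ a b : Ω, ∃ g : G, σ a = g • a ∧ σ b = g • b) → ∃ g : G, ∀ a : Ω, σ a = g • a) :
    ∃ g : G, (orderOf g).Prime ∧ ∀ ω : Ω, g • ω ≠ ω := by
  have := Fact.mk hp
  rcases hp.eq_two_or_odd' with rfl | hodd
  · have := Fintype.ofFinite Ω
    obtain ⟨g, hg, h⟩ := S5726.result htrans 2 3 hp (by norm_num) (by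
      rw [← Nat.card_eq_fintype_card, hcard]; norm_num)
    exact ⟨g, hg ▸ hp, h⟩
  obtain ⟨P⟩ : Nonempty (Sylow p G) := inferInstance
  have h3 : 2 < p := lt_of_le_of_ne hp.two_le (by rintro rfl; exact absurd hodd (by decide))
  obtain ⟨σ, h1, h2, h4⟩ := aux (P := (P : Subgroup G)) P.isPGroup' hcard (fun a => by
    have h1 : p ^ 2 ∣ (orbit (P : Subgroup G) a).ncard :=
      S5726.pow_dvd_ncard_orbit (by rw [hcard]; exact dvd_mul_left _ _) P a
    obtain ⟨k, hk⟩ := P.isPGroup'.card_orbit a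
    rw [Nat.card_coe_set_eq] at hk
    have h2 : (orbit (P : Subgroup G) a).ncard ≤ Nat.card Ω := Set.ncard_le_card _
    rw [hk] at h1 h2 ⊢
    have h5 : 2 ≤ k := (Nat.pow_dvd_pow_iff_le_right hp.one_lt).mp h1
    have h4 : p ^ k < p ^ 3 := by
      rw [hcard] at h2
      calc p ^ k ≤ 2 * p ^ 2 := h2
        _ < p * p ^ 2 := Nat.mul_lt_mul_of_pos_right h3 (pow_pos hp.pos 2)
        _ = p ^ 3 := by ring
    have h5 := (Nat.pow_lt_pow_iff_right hp.one_lt).mp h4
    rw [show k = 2 by omega])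
  obtain ⟨g, hg⟩ := hcl σ fun a b => (h4 a b).elim fun g h => ⟨g, h⟩
  have e : toPermHom G Ω g = σ := Equiv.ext fun x => (hg x).symm
  obtain ⟨a⟩ : Nonempty Ω := (Nat.card_pos_iff.mp (by rw [hcard]; positivity)).1
  refine ⟨g, ?_, fun x => hg x ▸ h2 x⟩
  rw [orderOf_eq_prime (p := p) (toPerm_injective (β := Ω) ?_) fun h => h2 a (by rw [hg, h, one_smul])]
  · exact hp
  · change toPermHom G Ω (g ^ p) = toPermHom G Ω 1
    rw [map_pow, e, h1, map_one]

end Cfsg.Agent.S3557
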