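import Mathlib
import Cfsg.Agent.Inv.NseTools
import Cfsg.Agent.Inv.MathieuNse
import Cfsg.Agent.Inv.M11F
import Cfsg.Agent.Spor.M12Unique
import Cfsg.Agent.S2490
import Cfsg.Statements.S3592

set_option autoImplicit false
open Cfsg

namespace Cfsg.Agent.S3592

/-- Let M be the Mathieu group M₁₁ (order 7920). If a finite group G has the same order as M and the same set of values of the function 'number of elements of order n' (taken over the element orders n that occur), then G is isomorphic to M. -/
theorem result {G : Type*} [Group G] [Finite G]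
    (hcard : Nat.card G = Nat.card ↥Cfsg.Spor.M11)
    (hnse : {c : ℕ | 0 < c ∧ ∃ n : ℕ, c = Nat.card {g : G // orderOf g = n}} =
      {c : ℕ | 0 < c ∧ ∃ n : ℕ, c = Nat.card {g : ↥Cfsg.Spor.M11 // orderOf g = n}}) :
    Nonempty (G ≃* ↥Cfsg.Spor.M11) := by
  rw [Spor.Dod.card_SporM11] at hcard
  rw [Inv.Nse.nse_M11] at hnse
  have h11 : Fact (Nat.Prime 11) := ⟨by norm_num⟩
  have h5 := Fact.mk Nat.prime_five
  have a11 := fun x : G => Inv.Nse.card_normalizer_of_nse (p := 11) (m := 55) hcard (by norm_num)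
    hnse (by decide +kernel) (x := x)
  have a5 := fun x : G => Inv.Nse.card_normalizer_of_nse (p := 5) (m := 20) hcard (by norm_num)
    hnse (by decide +kernel) (x := x)
  have := S2490.result hcard ⟨{11}, ⟨11, rfl, h11.out, by rw [hcard]; norm_num⟩,
    ⟨2, by simp, Nat.prime_two, by rw [hcard]; norm_num⟩, by
      rintro _ rfl b hb - hb' - - ⟨g, hg⟩
      have h1 := Inv.Nse.orderOf_dvd_of_normalizer a11 (g := g) (by simp [hg])
      rw [hg, show 55 = 11 * 5 from rfl, Nat.mul_dvd_mul_iff_left (by norm_num),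
        Nat.prime_dvd_prime_iff_eq hb' h5.out] at h1
      have h2 := Inv.Nse.orderOf_dvd_of_normalizer a5 (g := g) (by simp [hg, h1])
      rw [hg, h1] at h2
      norm_num at h2⟩
  obtain ⟨H, hH, hs, -⟩ := Inv.M11.exists_sharp hcard
  exact Spor.sharp4_iso_SporM11 hs hH

end Cfsg.Agent.S3592
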