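import Mathlib
import Cfsg.Statements.S3596
import Cfsg.Agent.Inv.NseTools2
import Cfsg.Agent.Inv.MathieuNse
import Cfsg.Agent.Inv.M24D
import Cfsg.Agent.S0364
import Cfsg.Agent.S0365

set_option autoImplicit false
open Cfsg

namespace Cfsg.Agent.S3596

/-- Let M be the Mathieu group M₂₄ (order 244823040). If a finite group G has the same order as M and the same set of values of the function 'number of elements of order n' (taken over the element orders n that occur), then G is isomorphic to M. -/
theorem result {G : Type*} [Group G] [Finite G]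
    (hcard : Nat.card G = Nat.card ↥Cfsg.M24)
    (hnse : {c : ℕ | 0 < c ∧ ∃ n : ℕ, c = Nat.card {g : G // orderOf g = n}} =
      {c : ℕ | 0 < c ∧ ∃ n : ℕ, c = Nat.card {g : ↥Cfsg.M24 // orderOf g = n}}) :
    Nonempty (G ≃* ↥Cfsg.M24) := by
  have h := hcard.trans S0364.result
  rw [Inv.Nse.nse_M24] at hnse
  have h23 : Fact (Nat.Prime 23) := ⟨by norm_num⟩
  have := Inv.Nse.simple_of_normalizer (p := 23) (r := 11) (n := 967680) (by norm_num) h
    (by norm_num) (by norm_num)
    (Inv.SN.noPow_of_list (by norm_num) [2, 3, 5, 7, 11] (by simp; norm_num) (by decide +kernel))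
    fun x => Inv.Nse.card_normalizer_of_nse h (by norm_num) hnse (by decide +kernel)
  have := S0365.result
  exact Inv.M24.iso h S0364.result

end Cfsg.Agent.S3596
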