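import Cfsg.Statements.S3598
import Cfsg.Agent.Ch.DegZas
import Cfsg.Agent.S2435
import Cfsg.Agent.S3378
import Cfsg.Agent.Cl.Transport
import Cfsg.Agent.Cl.PSL2Max
import Cfsg.Agent.Cl.PSL2Pairs
import Cfsg.Agent.Ch.Linear
import Cfsg.Agent.Cl.CharPSL2
-- import your own Cfsg.Agent.* helpers here

set_option autoImplicit false
open Cfsg

namespace Cfsg.Agent.S3598

open Cfsg.Agent.Ch Cfsg.Agent.Cl Cfsg.Agent.Cl.GL2 Subgroup

theorem exists_equiv {G L : Type*} [Group G] [Finite G] [Group L] [Finite L]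
    (h : ∀ d : ℕ, Nat.card {χ : IrrCharacter G // (χ : G → ℂ) 1 = (d : ℂ)} =
      Nat.card {χ : IrrCharacter L // (χ : L → ℂ) 1 = (d : ℂ)}) :
    ∃ e : IrrCharacter G ≃ IrrCharacter L,
      ∀ χ, charDegree (e χ : L → ℂ) = charDegree (χ : G → ℂ) := by
  have key : ∀ d : ℕ, Nonempty ({χ : IrrCharacter G // charDegree (χ : G → ℂ) = d} ≃
      {χ : IrrCharacter L // charDegree (χ : L → ℂ) = d}) := fun d => by
    rw [← Finite.card_eq]
    convert h d using 4 with χ χ
    · rw [← χ.2.coe_charDegree, Nat.cast_inj]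
    · rw [← χ.2.coe_charDegree, Nat.cast_inj]
  exact ⟨_, Equiv.ofFiberEquiv_map fun d => (key d).some⟩

theorem not_half {F : Type*} [Field F] [Fintype F] (h5 : 5 ≤ Fintype.card F)
    (h4 : Fintype.card F % 4 = 1) (ψ : IrrCharacter (Matrix.ProjectiveSpecialLinearGroup (Fin 2) F)) :
    2 * charDegree ψ.1 + 1 ≠ Fintype.card F := fun h => by
  have ho : Odd (Fintype.card F) := Nat.odd_iff.2 (by omega)
  obtain ⟨e, he⟩ := exists_isEll (F := F)
  have := isCyclic_torusSL he
  obtain ⟨t, ht⟩ := IsCyclic.exists_ofOrder_eq_natCard (α := torusSL e)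
  rw [card_torusSL he, ← Subgroup.orderOf_coe] at ht
  generalize (t : Matrix.SpecialLinearGroup (Fin 2) F) = g at ht
  have h1 := isEll_of_orderOf ht
  have h2 : (2 : F) ≠ 0 := Ring.two_ne_zero (ringChar_ne_two_of_odd ho)
  have hd : (fun g : Matrix.SpecialLinearGroup (Fin 2) F => ψ.1 g) 1 =
      (((Fintype.card F - 1) / 2 : ℕ) : ℂ) := by
    rw [show (Fintype.card F - 1) / 2 = charDegree ψ.1 by omega, ψ.2.coe_charDegree]
    rfl
  have h3 : g ^ ((Fintype.card F + 1) / 2) ≠ 1 := pow_ne_one_of_lt_orderOf (by omega) (by omega)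
  have h6 : g ^ ((Fintype.card F + 1) / 2) = -1 := (L2.sl_mul_self_eq_one h2 (by
    rw [← pow_add, show _ + _ = orderOf g by omega, pow_orderOf_eq_one])).resolve_left h3
  have e1 := ((S2435.result ho h5 _ ψ.2.comp_mk g).2 hd h1).2 fun e => h3 (Subtype.ext e)
  have e2 := ((S2435.result ho h5 _ ψ.2.comp_mk (-g)).2 hd fun c v hv e => h1 (-c) v hv (by
    rw [Matrix.SpecialLinearGroup.coe_neg, Matrix.neg_mulVec] at e
    rw [neg_smul, ← e, neg_neg])).1 (by
      rw [Matrix.SpecialLinearGroup.coe_neg, Odd.neg_pow (Nat.odd_iff.2 (by omega)),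
        ← Matrix.SpecialLinearGroup.coe_pow, h6]
      simp)
  have e3 : ((-g : Matrix.SpecialLinearGroup (Fin 2) F) :
      Matrix.ProjectiveSpecialLinearGroup (Fin 2) F) = g := QuotientGroup.eq.2 (by
    rw [mem_center_iff]
    intro x
    simp)
  simp only [e3, e1] at e2
  norm_num at e2

theorem ordProj_dvd {N u v r : ℕ} (hN : N = u * v) (h : u.Coprime v) (hr : r ∣ u) :
    r ^ N.factorization r ∣ u :=
  ((h.coprime_dvd_left hr).pow_left _).dvd_of_dvd_mul_right (hN ▸ Nat.ordProj_dvd N r)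



/-- Let p be a prime and F a field with p² elements. If a finite group G has, for every d, the same number of irreducible complex characters of degree d as PSL(2,F) (the same first column of the character table, with multiplicities), then G is isomorphic to PSL(2,F). -/
theorem result {F : Type*} [Field F] [Fintype F] (p : ℕ) (hp : p.Prime)
    (hF : Fintype.card F = p ^ 2) {G : Type*} [Group G] [Finite G]
    (h : ∀ d : ℕ, Nat.card {χ : Cfsg.IrrCharacter G // (χ : G → ℂ) 1 = (d : ℂ)} =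
      Nat.card {χ : Cfsg.IrrCharacter (Matrix.ProjectiveSpecialLinearGroup (Fin 2) F) // (χ : Matrix.ProjectiveSpecialLinearGroup (Fin 2) F → ℂ) 1 = (d : ℂ)}) :
    Nonempty (G ≃* Matrix.ProjectiveSpecialLinearGroup (Fin 2) F) := by
  classical
  obtain ⟨e, he⟩ := exists_equiv h
  have hc : Nat.card G = Nat.card (Matrix.ProjectiveSpecialLinearGroup (Fin 2) F) := by
    have h1 := sum_sq_degree (G := G)
    rw [Fintype.sum_equiv e _ (fun χ => χ.1 1 ^ 2) fun χ => by
      rw [← χ.2.coe_charDegree, ← he, (e χ).2.coe_charDegree], sum_sq_degree] at h1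
    exact_mod_cast h1.symm
  have h4 : 4 ≤ Fintype.card F := hF ▸ Nat.pow_le_pow_left hp.two_le 2
  have h4' : 4 ≤ Nat.card F := by rwa [Nat.card_eq_fintype_card]
  have := L2.isSimpleGroup_PSL (F := F) h4'
  have hL : commutator (Matrix.ProjectiveSpecialLinearGroup (Fin 2) F) = ⊤ :=
    ((inferInstance : (commutator _).Normal).eq_bot_or_eq_top).resolve_left fun e =>
      L2.not_isSolvable_PSL (F := F) h4' ⟨⟨1, e⟩⟩
  have h1 : Nat.card {χ : IrrCharacter G // (χ : G → ℂ) 1 = 1} = 1 := by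
    have := h 1
    rwa [Nat.cast_one, card_linear_irr (Matrix.ProjectiveSpecialLinearGroup (Fin 2) F), hL,
      index_top] at this
  rcases hp.eq_two_or_odd with rfl | ho
  · have h60 := L2.card_PSL_four (F := F) (Or.inl (Nat.card_eq_fintype_card.trans hF))
    rw [card_linear_irr, index_eq_one] at h1
    have := S3378.simple_sixty (hc.trans h60) fun hs => by
      have : Nontrivial G := Finite.one_lt_card_iff_nontrivial.1 (by omega)
      exact (Group.IsSolvable.commutator_lt_top_of_nontrivial G).ne h1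
    obtain ⟨e1⟩ := S0494.result (hc.trans h60)
    obtain ⟨e2⟩ := S0494.result h60
    exact ⟨e1.trans e2.symm⟩
  have := Fact.mk hp
  have h8 : Fintype.card F % 4 = 1 := by
    rw [hF, Nat.pow_mod]
    obtain h | h : p % 4 = 1 ∨ p % 4 = 3 := by omega
    all_goals rw [h]
  have hG := L2.card_PSL_two (F := F) (Ring.two_ne_zero (ringChar_ne_two_of_odd
    (Nat.odd_iff.2 (by omega))))
  rw [← hc, Nat.card_eq_fintype_card (α := F)] at hG
  have hd : ∀ χ : IrrCharacter G, χ ≠ irrOne G → charDegree (χ : G → ℂ) = Fintype.card F ∨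
      charDegree (χ : G → ℂ) = Fintype.card F + 1 ∨ charDegree (χ : G → ℂ) + 1 = Fintype.card F ∨
      2 * charDegree (χ : G → ℂ) = Fintype.card F + 1 := fun χ hχ => by
    have h2 := charDegree_SL2_cases (e χ).2.comp_mk
    have h3 := not_half (by omega) h8 (e χ)
    rw [show (charDegree fun g : Matrix.SpecialLinearGroup (Fin 2) F => (e χ).1 g) =
      charDegree (e χ).1 from rfl] at h2
    rw [he] at h2 h3
    have h5 : charDegree (χ : G → ℂ) ≠ 1 := fun h5 => hχ (congrArg Subtype.val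
      ((Nat.card_eq_one_iff_unique.1 h1).1.elim ⟨χ, by rw [← χ.2.coe_charDegree, h5, Nat.cast_one]⟩
        ⟨irrOne G, rfl⟩))
    omega
  set q := Fintype.card F
  obtain ⟨a, ha⟩ : ∃ a, q = a + 1 := ⟨q - 1, by omega⟩
  obtain ⟨b, hb⟩ : ∃ b, q + 1 = 2 * b := ⟨(q + 1) / 2, by omega⟩
  have hN : Nat.card G = q * (a * b) := by
    rw [hb, show q - 1 = a by omega] at hG
    refine Nat.eq_of_mul_eq_mul_right two_pos ?_
    linear_combination hG
  have c1 : q.Coprime a := by simp [ha]
  have c2 : q.Coprime b := (show q.Coprime (q + 1) by simp).coprime_dvd_right ⟨2, by omega⟩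
  have c3 : a.Coprime b := by
    obtain ⟨c, rfl⟩ : ∃ c, b = c + 1 := ⟨b - 1, by omega⟩
    obtain rfl : a = 2 * c := by omega
    exact Nat.Coprime.mul_left (Nat.coprime_two_left.2 (Nat.odd_iff.2 (by omega))) (by simp)
  have hpq : p ∣ q := hF ▸ dvd_pow_self p two_ne_zero
  have v1 := ordProj_dvd hN (c1.mul_right c2) hpq
  have hP : ∀ P : Sylow p G, Nat.card (P : Subgroup G) = q := fun P => by
    rw [P.card_eq_multiplicity]
    refine Nat.dvd_antisymm v1 ?_
    rw [hF]
    exact pow_dvd_pow p ((hp.pow_dvd_iff_le_factorization Nat.card_pos.ne').1 ⟨_, hF ▸ hN⟩)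
  obtain ⟨K, _, _, h5, ⟨e1⟩⟩ := DegZas.psl2_of_cc (p := p) (by omega) h8 hG hP fun P x hx hx1 => by
    refine P.is_maximal' (IsPGroup.of_card (Nat.eq_prime_pow_of_unique_prime_dvd Nat.card_pos.ne'
      fun {r} hr hd' => ?_)) fun y hy => mem_centralizer_singleton_iff.2 (congrArg Subtype.val
        ((IsPGroup.isMulCommutative_of_card_eq_prime_sq ((hP P).trans hF)).is_comm.comm
          (⟨y, hy⟩ : (P : Subgroup G)) ⟨x, hx⟩))
    by_contra hne
    have := Fact.mk hr
    obtain ⟨y, hy⟩ := exists_prime_orderOf_dvd_card' r hd'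
    rw [← Subgroup.orderOf_coe] at hy
    obtain ⟨k, hk⟩ := IsPGroup.iff_orderOf.1 P.isPGroup' ⟨x, hx⟩
    rw [Subgroup.orderOf_mk] at hk
    have hk0 : k ≠ 0 := by
      rintro rfl
      exact hx1 (orderOf_eq_one_iff.1 hk)
    have ho : orderOf (y * x) = r * p ^ k := by
      rw [Commute.orderOf_mul_eq_mul_orderOf_of_coprime (mem_centralizer_singleton_iff.1 y.2)
        (by rw [hy, hk]; exact ((Nat.coprime_primes hr hp).2 hne).pow_right k), hy, hk]
    have z1 : ∀ χ : IrrCharacter G, charDegree (χ : G → ℂ) = q → (χ : G → ℂ) (y * x) = 0 :=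
      fun χ hχ => apply_eq_zero_of_defect_zero hp χ.2 (hχ ▸ v1)
        (ho ▸ (dvd_pow_self p hk0).mul_left r)
    have z2 : ∀ χ : IrrCharacter G, r ^ (Nat.card G).factorization r ∣ charDegree (χ : G → ℂ) →
        (χ : G → ℂ) (y * x) = 0 := fun χ hχ =>
      apply_eq_zero_of_defect_zero hr χ.2 hχ (ho ▸ dvd_mul_right r _)
    have h9 : (y : G) * x ≠ 1 := fun e => by
      rw [e, orderOf_one] at ho
      exact hr.one_lt.ne' (Nat.eq_one_of_mul_eq_one_right ho.symm)
    have h10 := hd'.trans (card_subgroup_dvd_card _)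
    rw [hN, hr.dvd_mul, hr.dvd_mul] at h10
    rcases h10 with h10 | h10 | h10
    · exact hne ((Nat.prime_dvd_prime_iff_eq hr hp).1 (hr.dvd_of_dvd_pow (hF ▸ h10)))
    · have v2 := ordProj_dvd (hN.trans (mul_left_comm q a b)) (c1.symm.mul_right c3) h10
      refine h9 (DegZas.eq_one_of_dvd (m := b) (by omega) fun χ hχ => ?_)
      rcases hd χ hχ with h | h | h | h
      · exact Or.inl (z1 χ h)
      · exact Or.inr ⟨2, by omega⟩
      · exact Or.inl (z2 χ (by rwa [show charDegree _ = a by omega]))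
      · exact Or.inr ⟨1, by omega⟩
    · have v2 := ordProj_dvd (hN.trans (by ring : _ = b * (q * a))) (c2.symm.mul_right c3.symm) h10
      refine h9 (DegZas.eq_one_of_dvd (m := a) (by omega) fun χ hχ => ?_)
      rcases hd χ hχ with h | h | h | h
      · exact Or.inl (z1 χ h)
      · exact Or.inl (z2 χ (v2.trans ⟨2, by omega⟩))
      · exact Or.inr ⟨1, by omega⟩
      · exact Or.inl (z2 χ (v2.trans ⟨1, by omega⟩))
  have e2 := Cl.pslMapEquiv (Fin 2) (FiniteField.ringEquivOfCardEq h5)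
  exact ⟨e1.trans e2⟩

end Cfsg.Agent.S3598
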