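import Mathlib
import Cfsg.Statements.S3634
import Cfsg.Agent.Perm.PrimeGraph
import Cfsg.Agent.GT.Conj
-- import your own Cfsg.Agent.* helpers here

set_option autoImplicit false
open Cfsg

namespace Cfsg.Agent.S3634

open Subgroup Cfsg.Agent.GT Cfsg.Agent.Perm.PG

theorem aux {G : Type*} [Group G] [Finite G] (P M : Subgroup G) [P.Normal] [M.Normal]
    {p q r : ℕ} (hp : p.Prime) (hq : q.Prime) (hr : r.Prime) (hpq : p ≠ q) (hpr : p ≠ r)
    (hqr : q ≠ r) (hP : IsPGroup p P) (hne : P ≠ ⊥) (h1 : q ∣ Nat.card M) (h2 : r ∣ M.index) :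
    (∃ x : G, orderOf x = p * q) ∨ (∃ x : G, orderOf x = p * r) ∨ (∃ x : G, orderOf x = q * r) := by
  obtain ⟨Q, -, hQ, hQ1, hQ2⟩ := exists_frattini M hq h1
  rw [← relIndex_eq_index_of_sup hQ2 le_rfl] at h2
  have := Fact.mk hq
  have := Fact.mk hr
  obtain ⟨y, hy⟩ := exists_prime_orderOf_dvd_card' r (h2.trans (relIndex_dvd_card _ _))
  rw [← orderOf_coe] at hy
  obtain ⟨k, hk0, hk⟩ := hQ.nontrivial_iff_card.mp ((nontrivial_iff_ne_bot Q).mpr hQ1)
  refine adj_of_normalizes (A := zpowers (y : G) ⊔ Q) hp hq hr hpq hpr hqr hP hne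
    le_normalizer_of_normal (fun s hs h => ?_)
    ((hk ▸ dvd_pow_self q hk0.ne').trans (card_dvd_of_le le_sup_right))
    (by rw [← hy, ← Nat.card_zpowers]; exact card_dvd_of_le le_sup_left)
  have := h.trans (card_sup_dvd_of_le_normalizer (zpowers_le.mpr y.2))
  rw [Nat.card_zpowers, hy, hk] at this
  rcases hs.dvd_mul.mp this with h | h
  · exact Or.inr ((Nat.prime_dvd_prime_iff_eq hs hr).mp h)
  · exact Or.inl ((Nat.prime_dvd_prime_iff_eq hs hq).mp (hs.dvd_of_dvd_pow h))


/-- Let G be a finite group with normal subgroups K ≤ M, and let p, q, r be distinct primes with p dividing the order of K, q dividing the order of M/K and r dividing the order of G/M. Then p, q, r are not pairwise non-adjacent in the prime graph of G: G has an element of order pq, pr or qr. -/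
theorem result {G : Type*} [Group G] [Finite G] (K M : Subgroup G) [K.Normal] [M.Normal] (hKM : K ≤ M)
    (p q r : ℕ) (hp : p.Prime) (hq : q.Prime) (hr : r.Prime) (hpq : p ≠ q) (hpr : p ≠ r) (hqr : q ≠ r)
    (hpK : p ∣ Nat.card ↥K) (hqM : q ∣ Nat.card ↥M / Nat.card ↥K) (hrG : r ∣ Nat.card G / Nat.card ↥M) :
    (∃ x : G, orderOf x = p * q) ∨ (∃ x : G, orderOf x = p * r) ∨ (∃ x : G, orderOf x = q * r) := by
  obtain ⟨P, hPK, hP, hne, hsup⟩ := exists_frattini K hp hpK
  set N := normalizer (P : Set G) with hN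
  have e1 : Nat.card G / Nat.card M = M.index := by
    rw [← M.card_mul_index, Nat.mul_div_cancel_left _ Nat.card_pos]
  have e2 : Nat.card M / Nat.card K = K.relIndex M := by
    rw [relIndex, ← (K.subgroupOf M).card_mul_index,
      Nat.card_congr (subgroupOfEquivOfLe hKM).toEquiv, Nat.mul_div_cancel_left _ Nat.card_pos]
  rw [e1, ← relIndex_eq_index_of_sup hsup hKM] at hrG
  have e3 : K.relIndex (M ⊓ N) = K.relIndex M := by
    rw [← relIndex_sup_left, ← inf_sup_eq_of_normal_left hKM, sup_comm, hsup, inf_top_eq]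
  rw [e2, ← e3] at hqM
  have := aux (P.subgroupOf N) (M.subgroupOf N) hp hq hr hpq hpr hqr (hP.comap_subtype)
    (fun e => hne (by
      rwa [subgroupOf_eq_bot, disjoint_iff, inf_eq_left.mpr le_normalizer] at e))
    (by
      rw [← inf_subgroupOf_right, Nat.card_congr (subgroupOfEquivOfLe inf_le_right).toEquiv]
      exact hqM.trans (relIndex_dvd_card _ _)) hrG
  have hs := fun m => exists_orderOf_of_subgroup (m := m) N
  exact this.imp (hs _) (Or.imp (hs _) (hs _))

end Cfsg.Agent.S3634
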