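import Mathlib
import Cfsg.Statements.S3641
import Cfsg.Agent.S0732
import Cfsg.Agent.Perm.PrimeSucc
import Cfsg.Agent.FG.SylowCount
import Cfsg.Agent.Cl.PSL2Solv
import Cfsg.Agent.Cl.Transport
import Cfsg.Agent.GT.PGroupChain

set_option autoImplicit false
open Cfsg

namespace Cfsg.Agent.S3641

open Subgroup MulAction Cfsg.Agent.Cl Cfsg.Agent.Perm
open scoped MatrixGroups

variable {G : Type*} [Group G] [Finite G]

theorem card_sylow_le_of_injective {H : Type*} [Group H] {f : H →* G} (hf : Function.Injective f)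
    (p : ℕ) : Nat.card (Sylow p H) ≤ Nat.card (Sylow p G) := by
  choose Q hQ using fun P : Sylow p H => P.exists_comap_eq_of_injective hf
  exact Nat.card_le_card_of_injective Q fun a b h => Sylow.ext (by rw [← hQ, ← hQ, h])

section psl

variable {F : Type*} [Field F] [Finite F] (hF : Nat.card F = 17)
include hF

theorem card_psl : Nat.card PSL(2, F) = 2448 := by
  have := L2.card_PSL_mul (F := F)
  rw [hF] at this
  norm_num at this
  omega

theorem tau_ne {g : PSL(2, F)} (h1 : orderOf g ≠ 1) (h2 : ¬ (orderOf g).Prime) :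
    L2.tau (L2.emb g) ≠ 4 := fun h => by
  obtain ⟨p, hp⟩ := CharP.exists F
  have : Fact p.Prime := ⟨CharP.char_is_prime F p⟩
  obtain ⟨x, hx⟩ := L2.exists_mem_uniS h
  exact h2 (L2.orderOf_of_mem_uniS p hx (mt orderOf_eq_one_iff.2 h1) ▸ this.out)

theorem sylow_three : 136 ≤ Nat.card (Sylow 3 PSL(2, F)) := by
  obtain ⟨g, hg, ho⟩ := L2.exists_nofixS (F := F)
  have ht := L2.tauS_ne_four_of_nofix hg
  have h1 := L2.card_torS_mul_of_nofix hg
  rw [hF] at ho h1
  norm_num at ho h1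
  have h2 := (Sylow.ofCard (p := 3) (zpowers g) (by
    rw [Nat.card_zpowers, card_psl hF, show orderOf g = 9 by omega]
    decide +kernel)).card_eq_index_normalizer
  have h3 := (L2.ntorS g).card_mul_index
  rw [L2.card_ntorS ht, card_psl hF, show Nat.card (L2.torS g) = 9 by omega] at h3
  rw [h2]
  erw [L2.normalizer_zpowers ht]
  omega

theorem sylow_two : 153 ≤ Nat.card (Sylow 2 PSL(2, F)) := by
  obtain ⟨g, hg, -, ho⟩ := L2.exists_fixS (F := F)
  rw [hF] at ho
  norm_num at ho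
  replace ho : orderOf g = 8 := by omega
  have ht := tau_ne hF (g := g) (by omega) (by rw [ho]; norm_num)
  have h1 := L2.card_torS_mul_of_fix ht hg
  rw [hF] at h1
  norm_num at h1
  have h4 : Nat.card (L2.ntorS g) = 16 := by rw [L2.card_ntorS ht]; omega
  have h2 := (Sylow.ofCard (p := 2) (L2.ntorS g) (by
    rw [h4, card_psl hF]
    decide +kernel)).card_eq_index_normalizer
  have h3 := (L2.ntorS g).card_mul_index
  rw [h4, card_psl hF] at h3
  have h5 : normalizer (L2.ntorS g : Set PSL(2, F)) = L2.ntorS g := by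
    refine le_antisymm (fun n hn => (L2.mem_ntorS_iff (L2.ne_one_of_tauS ht)).2
      (L2.mem_torS_of_orderOf ht ((mem_normalizer_iff.1 hn g).1
        (L2.torS_le_ntorS g (L2.self_mem_torS g))) ?_)) le_normalizer
    rw [← MulAut.conj_apply, MulEquiv.orderOf_eq]
    omega
  rw [h2]
  erw [h5]
  omega

end psl

variable {p q r : ℕ}

theorem card_range [hp : Fact p.Prime] (h : Nat.card (Sylow p G) = p + 1)
    (h2 : ¬ p ^ 2 ∣ (p + 1).factorial) :
    ∃ d < p, Nat.card (toPermHom G (Sylow p G)).range = (p + 1) * p * d := by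
  classical
  have := Fintype.ofFinite (Sylow p G)
  set H := (toPermHom G (Sylow p G)).range
  let φ : G →* H := (toPermHom G (Sylow p G)).rangeRestrict
  have hφ : ∀ (g : G) (Q : Sylow p G), φ g • Q = g • Q := fun _ _ => rfl
  have hs : Function.Surjective φ := MonoidHom.rangeRestrict_surjective _
  have : IsPretransitive H (Sylow p G) := ⟨fun a b => by
    obtain ⟨g, hg⟩ := exists_smul_eq G a b
    exact ⟨φ g, hg⟩⟩
  have : Nontrivial (Sylow p G) := Finite.one_lt_card_iff_nontrivial.1 (by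
    have := hp.out.pos
    omega)
  obtain ⟨P, Q, hPQ⟩ := exists_pair_ne (Sylow p G)
  set U := (P : Subgroup G).map φ with hU
  have hUP : U ≤ stabilizer H P := by
    rintro _ ⟨u, hu, rfl⟩
    exact Sylow.smul_eq_iff_mem_normalizer.2 (le_normalizer hu)
  have hU1 : U ≠ ⊥ := fun e => hPQ (Sylow.ext (Q.3 P.2 ?_)).symm.symm
  swap
  · have h1 : (P : Subgroup G) ≤ Q := fun u hu => by
      refine ((P.2.inf_normalizer_sylow Q).le ⟨hu, Sylow.smul_eq_iff_mem_normalizer.1 ?_⟩).2
      rw [← hφ, show φ u = 1 from e.le ⟨u, hu, rfl⟩, one_smul]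
    exact (P.3 Q.2 h1).le
  have hc : Nat.card U = p := by
    obtain ⟨k, hk⟩ := IsPGroup.iff_card.1 (P.2.map φ)
    have h3 : Nat.card U ∣ (p + 1).factorial := by
      rw [← h, ← Nat.card_perm]
      exact (card_subgroup_dvd_card U).trans (card_subgroup_dvd_card H)
    rw [hk] at h3 ⊢
    have h4 : k ≠ 0 := by
      rintro rfl
      exact hU1 (card_eq_one.1 hk)
    have h5 : ¬ 2 ≤ k := fun h5 => h2 ((pow_dvd_pow p h5).trans h3)
    rw [show k = 1 by omega, pow_one]
  have hreg : ∀ y z, y ≠ P → z ≠ P → ∃! u : U, (u : H) • y = z := fun y z =>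
    existsUnique_smul_eq_of_card_prime hp.out h hc hUP
  obtain ⟨⟨u, hu⟩, hu1⟩ := ne_bot_iff_exists_ne_one.1 hU1
  have hgen : ∀ v ∈ U, v ∈ zpowers u := fun v hv => by
    obtain ⟨i, hi⟩ := mem_zpowers_of_prime_card hc hu1 (g' := ⟨v, hv⟩)
    exact ⟨i, congrArg Subtype.val hi⟩
  have hconj : ∀ g ∈ stabilizer H P, g * u * g⁻¹ ∈ U := fun g hg => by
    obtain ⟨g, rfl⟩ := hs g
    obtain ⟨u, hu, rfl⟩ := hu
    exact ⟨g * u * g⁻¹, (mem_normalizer_iff.1 (Sylow.smul_eq_iff_mem_normalizer.1 hg) u).1 hu,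
      by simp⟩
  let f : stabilizer H P → ↥({P}ᶜ : Set (Sylow p G)) × ↥({1}ᶜ : Set U) := fun g =>
    (⟨(g : H) • Q, fun e => hPQ (smul_left_cancel (g : H) (g.2.trans e.symm))⟩,
      ⟨⟨_, hconj g g.2⟩, fun e => hu1 (Subtype.ext (by simpa using congrArg Subtype.val e))⟩)
  have hf : Function.Injective f := fun a b e => by
    have e1 : (a : H) • Q = (b : H) • Q := congrArg (fun x => x.1.1) e
    have e2 : (a : H) * u * (a : H)⁻¹ = b * u * (b : H)⁻¹ := congrArg (fun x => x.2.1.1) e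
    have h3 := eq_one_of_commute_of_reg hPQ.symm hreg (b⁻¹ * a).2
      (by rw [coe_mul, mul_smul, e1, coe_inv, inv_smul_smul]) fun v hv => by
        obtain ⟨i, rfl⟩ := hgen v hv
        refine Commute.zpow_left ?_ i
        change u * ((b : H)⁻¹ * a) = (b : H)⁻¹ * a * u
        calc _ = (b : H)⁻¹ * (b * u * (b : H)⁻¹) * a := by group
          _ = _ := by rw [← e2]; group
    exact (inv_mul_eq_one.1 (Subtype.ext h3)).symm
  have h3 := Nat.card_le_card_of_injective f hf
  rw [Nat.card_prod, Nat.card_coe_set_eq, Nat.card_coe_set_eq, Set.ncard_compl, Set.ncard_compl,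
    Set.ncard_singleton, Set.ncard_singleton, h, hc, Nat.add_sub_cancel] at h3
  obtain ⟨d, hd⟩ := card_dvd_of_le hUP
  rw [hc] at hd
  have h4 := (stabilizer H P).index_mul_card
  rw [index_stabilizer_of_transitive, h, hd] at h4
  refine ⟨d, ?_, by rw [← h4, mul_assoc]⟩
  have := Nat.le_of_mul_le_mul_left (hd ▸ h3) hp.out.pos
  have := hp.out.pos
  omega

theorem ker_le [Fact p.Prime] {H : Type*} [Group H] {f : G →* H} (hf : Function.Surjective f)
    (h : Nat.card (Sylow p G) ≤ Nat.card (Sylow p H)) (P : Sylow p G) :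
    f.ker ≤ normalizer ((P : Subgroup G) : Set G) := by
  rw [FG.H96.card_sylow_surjective hf P, P.card_eq_index_normalizer] at h
  have h1 := relIndex_mul_index (le_sup_left (a := normalizer ((P : Subgroup G) : Set G))
    (b := f.ker))
  have h2 := Nat.pos_of_ne_zero (index_ne_zero_of_finite
    (H := normalizer ((P : Subgroup G) : Set G) ⊔ f.ker))
  have h3 : 0 < (normalizer ((P : Subgroup G) : Set G)).relIndex
      (normalizer ((P : Subgroup G) : Set G) ⊔ f.ker) := Nat.pos_of_ne_zero index_ne_zero_of_finite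
  refine le_sup_right.trans (relIndex_eq_one.1 (le_antisymm ?_ h3))
  exact Nat.le_of_mul_le_mul_right (h1.le.trans (h.trans (one_mul _).ge)) h2

omit [Finite G] in
theorem normal_inf {K : Subgroup G} [hK : K.Normal] (Q : Sylow q G)
    (h : K ≤ normalizer ((Q : Subgroup G) : Set G)) : (K ⊓ (Q : Subgroup G)).Normal :=
  ⟨fun x hx g => ⟨hK.conj_mem x hx.1 g, (((g • Q).2.inf_normalizer_sylow Q).le
    ⟨⟨x, hx.2, rfl⟩, h (hK.conj_mem x hx.1 g)⟩).2⟩⟩

/-- If `K ⊴ G` contains a Sylow `r`-subgroup and normalizes a Sylow `q`-subgroup, then the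
`q`-part of `n_r` is `1` modulo `r`. -/
theorem exists_part [hq : Fact q.Prime] [Fact r.Prime] {K : Subgroup G} [hK : K.Normal]
    (Q : Sylow q G) (h : K ≤ normalizer ((Q : Subgroup G) : Set G)) (R : Sylow r G)
    (hR : (R : Subgroup G) ≤ K) : ∃ j, q ^ j ∣ Nat.card (Sylow r G) ∧ q ^ j ≡ 1 [MOD r] ∧
      (j = 0 → ¬ q ∣ Nat.card (Sylow r G)) := by
  have := normal_inf Q h
  set N := normalizer ((R : Subgroup G) : Set G) with hN
  have h1 : IsPGroup q ↥(K ⊓ (Q : Subgroup G)) := Q.2.to_inf_right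
  obtain ⟨j, hj⟩ : ∃ j, N.relIndex (K ⊓ (Q : Subgroup G)) = q ^ j := h1.index _
  refine ⟨j, ?_, ?_, fun h0 hd => ?_⟩
  · rw [← hj, ← FG.H96.relIndex_sup_normal, R.card_eq_index_normalizer]
    exact relIndex_dvd_index_of_le le_sup_left
  · have h2 := card_sylow_modEq_one r ↥((R : Subgroup G) ⊔ K ⊓ (Q : Subgroup G))
    rwa [FG.H96.card_sylow_of_le R le_sup_left, FG.H96.relIndex_eq_of_mul le_sup_right
      (fun m hm => ?_), hj] at h2
    rw [sup_comm] at hm
    obtain ⟨l, hl, s, hs, rfl⟩ := mem_sup_of_normal_left.1 hm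
    exact ⟨l, hl, by simpa using le_normalizer hs⟩
  · rw [h0, pow_zero, relIndex_eq_one] at hj
    have h2 : N ⊔ K = ⊤ := R.normalizer_sup_eq_top' hR
    rw [R.card_eq_index_normalizer, ← relIndex_top_right] at hd
    erw [← h2, FG.H96.relIndex_sup_normal] at hd
    have h3 := hd.trans (relIndex_dvd_of_le_left K hj)
    rw [inf_comm, inf_relIndex_right, ← FG.H96.relIndex_sup_normal] at h3
    exact Q.not_dvd_index (h3.trans (relIndex_dvd_index_of_le le_sup_left))

/-- A normal subgroup normalizing all Sylow subgroups meets the centre. -/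
theorem eq_bot_of_le_normalizer (hZ : center G = ⊥) {K : Subgroup G} [K.Normal]
    (h : ∀ r : ℕ, r.Prime → r ∣ Nat.card G → ∀ R : Sylow r G,
      K ≤ normalizer ((R : Subgroup G) : Set G)) : K = ⊥ := by
  by_contra hK
  obtain ⟨q, hq, hqK⟩ := Nat.exists_prime_and_dvd (mt card_eq_one.1 hK)
  have : Fact q.Prime := ⟨hq⟩
  obtain ⟨x, hx⟩ := exists_prime_orderOf_dvd_card' q hqK
  obtain ⟨Q, hQ⟩ := (IsPGroup.of_card (p := q) (n := 1) (G := zpowers (x : G))
    (by rw [Nat.card_zpowers, orderOf_coe, hx, pow_one])).exists_le_sylow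
  have hn := normal_inf Q (h q hq (hqK.trans (card_subgroup_dvd_card K)) Q)
  obtain ⟨z, hz, hzZ, hz1, -⟩ := GT.PG.exists_mem_center_of_normal Q.2
    ((K ⊓ (Q : Subgroup G)).subgroupOf Q) fun e => by
      have h1 : (⟨x, hQ (mem_zpowers _)⟩ : (Q : Subgroup G)) = 1 :=
        e.le (show _ ∈ (K ⊓ (Q : Subgroup G)).subgroupOf Q from ⟨x.2, hQ (mem_zpowers _)⟩)
      rw [show x = 1 from Subtype.ext (congrArg Subtype.val h1 :), orderOf_one] at hx
      exact hq.one_lt.ne hx
  have hC : centralizer {(z : G)} = ⊤ := by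
    rw [← index_eq_one]
    by_contra h1
    obtain ⟨r, hr, hd⟩ := Nat.exists_prime_and_dvd h1
    have : Fact r.Prime := ⟨hr⟩
    by_cases e : r = q
    · subst e
      exact Q.not_dvd_index (hd.trans (index_dvd_of_le fun s hs => mem_centralizer_singleton_iff.2
        (congrArg Subtype.val (mem_center_iff.1 hzZ ⟨s, hs⟩))))
    · obtain ⟨R⟩ := (inferInstance : Nonempty (Sylow r G))
      refine R.not_dvd_index (hd.trans (index_dvd_of_le fun s hs => ?_))
      have h2 := (mem_normalizer_iff.1 (h r hr (hd.trans (index_dvd_card _)) R hz.1) _).1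
        (inv_mem hs)
      have h3 : s * (z * s⁻¹ * (z : G)⁻¹) = 1 :=
        (IsPGroup.disjoint_of_ne r q e _ _ R.2 Q.2).le_bot ⟨mul_mem hs h2, by
          rw [show s * (z * s⁻¹ * (z : G)⁻¹) = s * z * s⁻¹ * (z : G)⁻¹ by group]
          exact (Q : Subgroup G).mul_mem (hn.conj_mem _ hz s).2 ((Q : Subgroup G).inv_mem z.2)⟩
      rw [mem_centralizer_singleton_iff]
      calc s * z = s * (z * s⁻¹ * (z : G)⁻¹) * (z * s) := by group
        _ = _ := by rw [h3, one_mul]
  exact hz1 (Subtype.ext (hZ.le (mem_center_iff.2 fun g =>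
    mem_centralizer_singleton_iff.1 (hC.ge (mem_top g)))))

/-- Let G be a finite group with trivial centre whose set of Sylow numbers (numbers of Sylow r-subgroups, r over the prime divisors of its order) is exactly {18, 136, 153}. Then G is isomorphic to PSL(2, 17) or to PGL(2, 17). -/
theorem result {G : Type*} [Group G] [Finite G] (hZ : Subgroup.center G = ⊥) (hNS : {c : ℕ | ∃ r : ℕ, r.Prime ∧ r ∣ Nat.card G ∧ c = Nat.card (Sylow r G)} = ({18, 136, 153} : Set ℕ))
    {F : Type*} [Field F] [Fintype F] (hF : Fintype.card F = 17) :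
    Nonempty (G ≃* Matrix.ProjectiveSpecialLinearGroup (Fin 2) F) ∨ Nonempty (G ≃* (GL (Fin 2) F ⧸ Subgroup.center (GL (Fin 2) F))) := by
  classical
  have hn : ∀ r : ℕ, r.Prime → r ∣ Nat.card G → (r = 17 ∧ Nat.card (Sylow r G) = 18) ∨
      ((r = 3 ∨ r = 5) ∧ Nat.card (Sylow r G) = 136) ∨
      ((r = 2 ∨ r = 19) ∧ Nat.card (Sylow r G) = 153) := fun r hr hd => by
    have : Fact r.Prime := ⟨hr⟩
    have h1 := (Nat.modEq_iff_dvd' Nat.card_pos).1 (card_sylow_modEq_one r G).symm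
    rcases hNS.le ⟨r, hr, hd, rfl⟩ with h | h | h <;> rw [h] at h1
    · exact Or.inl ⟨(Nat.prime_dvd_prime_iff_eq hr (by norm_num)).1 h1, h⟩
    · refine Or.inr (Or.inl ⟨?_, h⟩)
      rcases (hr.dvd_mul (m := 3 ^ 3) (n := 5)).1 h1 with h1 | h1
      · exact Or.inl ((Nat.prime_dvd_prime_iff_eq hr (by norm_num)).1 (hr.dvd_of_dvd_pow h1))
      · exact Or.inr ((Nat.prime_dvd_prime_iff_eq hr (by norm_num)).1 h1)
    · refine Or.inr (Or.inr ⟨?_, h⟩)
      rcases (hr.dvd_mul (m := 2 ^ 3) (n := 19)).1 h1 with h1 | h1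
      · exact Or.inl ((Nat.prime_dvd_prime_iff_eq hr (by norm_num)).1 (hr.dvd_of_dvd_pow h1))
      · exact Or.inr ((Nat.prime_dvd_prime_iff_eq hr (by norm_num)).1 h1)
  have hdvd : ∀ c ∈ ({18, 136, 153} : Set ℕ), c ∣ Nat.card G := fun c hc => by
    obtain ⟨r, hr, -, rfl⟩ := hNS.ge hc
    have : Fact r.Prime := ⟨hr⟩
    obtain ⟨R⟩ := (inferInstance : Nonempty (Sylow r G))
    exact R.card_dvd_index.trans (index_dvd_card _)
  have h18 := hdvd 18 (by simp)
  have h136 := hdvd 136 (by simp)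
  have h2 := hn 2 Nat.prime_two (by omega)
  have h3 := hn 3 Nat.prime_three (by omega)
  have h17 := hn 17 (by norm_num) (by omega)
  replace h2 : Nat.card (Sylow 2 G) = 153 := by omega
  replace h3 : Nat.card (Sylow 3 G) = 136 := by omega
  replace h17 : Nat.card (Sylow 17 G) = 17 + 1 := by omega
  have : Fact (Nat.Prime 17) := ⟨by norm_num⟩
  obtain ⟨d, hd, hc⟩ := card_range h17 (by decide +kernel)
  have := Fintype.ofFinite (Sylow 17 G)
  set H := (toPermHom G (Sylow 17 G)).range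
  let φ : G →* H := (toPermHom G (Sylow 17 G)).rangeRestrict
  have hs : Function.Surjective φ := MonoidHom.rangeRestrict_surjective _
  have : IsPretransitive H (Sylow 17 G) := ⟨fun a b => by
    obtain ⟨g, hg⟩ := exists_smul_eq G a b
    exact ⟨φ g, hg⟩⟩
  obtain ⟨σ⟩ := nonempty_ringEquiv_zmod (F := F) 17 hF
  have hF' : Nat.card F = 17 := Nat.card_eq_fintype_card.trans hF
  have key : (d = 16 ∧ Nonempty (H ≃* PGL(2, F))) ∨ (d = 8 ∧ Nonempty (H ≃* PSL(2, F))) := by
    rcases S0732.result (p := 17) (by norm_num) (Nat.card_eq_fintype_card.symm.trans h17) H hc hd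
      with ⟨h, ⟨e⟩⟩ | ⟨h, ⟨e⟩⟩ | ⟨q, -, h, -⟩
    · exact Or.inl ⟨h, ⟨e.trans (pglMapEquiv _ σ).symm⟩⟩
    · exact Or.inr ⟨by omega, ⟨e.trans (pslMapEquiv _ σ).symm⟩⟩
    · exact absurd (Nat.prime_three.dvd_of_dvd_pow (h ▸ (by norm_num : 3 ∣ 17 + 1))) (by norm_num)
  obtain ⟨ι, hι⟩ : ∃ ι : PSL(2, F) →* H, Function.Injective ι := by
    rcases key with ⟨-, ⟨e⟩⟩ | ⟨-, ⟨e⟩⟩
    · exact ⟨e.symm.toMonoidHom.comp L2.emb, e.symm.injective.comp L2.emb_injective⟩
    · exact ⟨e.symm.toMonoidHom, e.symm.injective⟩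
  have k2 := ker_le hs (h2.le.trans ((sylow_two hF').trans (card_sylow_le_of_injective hι 2)))
  have k3 := ker_le hs (h3.le.trans ((sylow_three hF').trans (card_sylow_le_of_injective hι 3)))
  have hle : ∀ r : ℕ, r.Prime → ¬ r ∣ Nat.card H → ∀ R : Sylow r G,
      (R : Subgroup G) ≤ φ.ker := fun r hr h R x hx => by
    obtain ⟨k, hk⟩ := R.2 ⟨x, hx⟩
    rw [MonoidHom.mem_ker, ← orderOf_eq_one_iff]
    refine Nat.eq_one_of_dvd_coprimes ((hr.coprime_iff_not_dvd.2 h).pow_left k)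
      (orderOf_dvd_of_pow_eq_one ?_) (orderOf_dvd_natCard _)
    rw [← map_pow, show x ^ r ^ k = 1 from congrArg Subtype.val hk, map_one]
  have hK : φ.ker = ⊥ := eq_bot_of_le_normalizer hZ fun r hr hd' R => by
    have : Fact r.Prime := ⟨hr⟩
    rcases hn r hr hd' with ⟨rfl, -⟩ | ⟨rfl | rfl, h⟩ | ⟨rfl | rfl, h⟩
    · exact fun g hg => Sylow.smul_eq_iff_mem_normalizer.1
        (show φ g • R = R by rw [show φ g = 1 from hg, one_smul])
    · exact k3 R
    · exfalso
      obtain ⟨Q⟩ := (inferInstance : Nonempty (Sylow 2 G))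
      obtain ⟨j, h4, h5, h6⟩ := exists_part Q (k2 Q) R (hle 5 hr (by omega) R)
      rw [h] at h4 h6
      have : ¬ 4 ≤ j := fun h7 => absurd ((pow_dvd_pow 2 h7).trans h4) (by norm_num)
      have : j ≠ 0 := fun h7 => h6 h7 (by norm_num)
      obtain rfl | rfl | rfl : j = 1 ∨ j = 2 ∨ j = 3 := by omega
      all_goals exact absurd h5 (by decide)
    · exact k2 R
    · exfalso
      obtain ⟨Q⟩ := (inferInstance : Nonempty (Sylow 3 G))
      obtain ⟨j, h4, h5, h6⟩ := exists_part Q (k3 Q) R (hle 19 hr (by omega) R)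
      rw [h] at h4 h6
      have : ¬ 3 ≤ j := fun h7 => absurd ((pow_dvd_pow 3 h7).trans h4) (by norm_num)
      have : j ≠ 0 := fun h7 => h6 h7 (by norm_num)
      obtain rfl | rfl : j = 1 ∨ j = 2 := by omega
      all_goals exact absurd h5 (by decide)
  let e₀ : G ≃* H := MulEquiv.ofBijective φ ⟨(MonoidHom.ker_eq_bot_iff φ).1 hK, hs⟩
  rcases key with ⟨-, ⟨e⟩⟩ | ⟨-, ⟨e⟩⟩
  · exact Or.inr ⟨e₀.trans e⟩
  · exact Or.inl ⟨e₀.trans e⟩

end Cfsg.Agent.S3641
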