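import Mathlib
import Cfsg.Agent.Inv.DegGraph
import Cfsg.Agent.Inv.NoM12Div
import Cfsg.Agent.Inv.M12C
import Cfsg.Agent.Inv.M11F
import Cfsg.Agent.Spor.M12Unique
import Cfsg.Agent.Cl.PSL2Small
import Cfsg.Agent.S0383
import Cfsg.Agent.S2034
import Cfsg.Agent.S2060
import Cfsg.Statements.S3643

set_option autoImplicit false
open Cfsg

namespace Cfsg.Agent.S3643

open Cfsg.Agent.Ch Cfsg.Agent.Inv Cfsg.Agent.Inv.M11

theorem exists_deg {G : Type*} [Group G] [Finite G] [IsSimpleGroup G] (hG : Nat.card G = 95040) :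
    55 ∈ charDegrees G ∧ 66 ∈ charDegrees G := by
  obtain ⟨x, A, B, Γ, D, θ, θ', a, b, c, d, h⟩ := M12.exists_st1 hG
  obtain ⟨y, z, E, F, K, S, T, s, t, k⟩ := h.exists_st2 hG
  have l := h.st3 hG k
  refine ⟨by_contra fun h1 => ?_, E, k.dE⟩
  obtain ⟨R, hR, hsum⟩ := PB.exists_rest l.nodup
  have h2 := sum_sq_charDegree (G := G)
  rw [hsum, Finset.sum_eq_zero fun φ hφ => (h1 ⟨φ, l.rest φ ((hR φ).1 hφ)⟩).elim, hG] at h2
  simp [h.dA, h.dB, h.dΓ, h.dD, h.dθ, h.dθ', k.dE, k.dF, k.dK, l.dS, l.dT] at h2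

theorem not_dvd {G : Type*} [Group G] [Finite G] [IsSimpleGroup G] (hG : Nat.card G = 7920)
    (ψ : IrrCharacter G) : ¬ 33 ∣ charDegree (ψ : G → ℂ) := by
  obtain ⟨a, χ, θ, θ', ξ, ζ, η, h⟩ := exists_tab hG
  rcases h.cases ψ with rfl | rfl | rfl | rfl | rfl | rfl | rfl | rfl | rfl | rfl <;>
    simp [h.deg_a, h.deg_χ, h.deg_θ, h.deg_θ', h.deg_ξ, h.deg_ζ, h.deg_η]

/-- Let G be a finite group of the same order as the Mathieu group M₁₂ whose character degree graph equals that of M₁₂ (same primes dividing some irreducible complex character degree, same pairs of distinct primes whose product divides some degree). Then G is isomorphic to M₁₂ or to the direct product of the alternating group of degree 4 with M₁₁. -/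
theorem result {G : Type*} [Group G] [Finite G] (hcard : Nat.card G = Nat.card ↥Cfsg.Spor.M12) (hΔ : Cfsg.degreePrimes G = Cfsg.degreePrimes ↥Cfsg.Spor.M12 ∧ Cfsg.degreeGraph G = Cfsg.degreeGraph ↥Cfsg.Spor.M12) :
    Nonempty (G ≃* ↥Cfsg.Spor.M12) ∨ Nonempty (G ≃* alternatingGroup (Fin 4) × ↥Cfsg.Spor.M11) := by
  have hs : IsSimpleGroup Spor.M12 := by
    have := S0383.result _ Spor.Dod.squareDodecad_mem
    exact Spor.Dod.M12Equiv.symm.isSimpleGroup
  obtain ⟨h1, h2⟩ := exists_deg Spor.Dod.card_SporM12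
  rw [Spor.Dod.card_SporM12] at hcard
  obtain ⟨-, -, -, _, ⟨χ, rfl⟩, hχ⟩ : (degreeGraph G).Adj 5 11 :=
    hΔ.2 ▸ ⟨by norm_num, by norm_num, by norm_num, 55, h1, dvd_rfl⟩
  obtain ⟨-, -, -, _, ⟨ψ, rfl⟩, hψ⟩ : (degreeGraph G).Adj 3 11 :=
    hΔ.2 ▸ ⟨by norm_num, by norm_num, by norm_num, 66, h2, by norm_num⟩
  obtain ⟨E, hE, h3, h4, h5, h6⟩ := DG.exists_quasi (p := 11) (by norm_num)
    (by rw [hcard]; norm_num) (hcard ▸ SN.noPow_of_list (by norm_num) [2, 3, 5] (by simp; norm_num)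
      (by decide +kernel)) ((dvd_mul_left 11 5).trans hχ)
  have h7 := DG.card_eq E
  rcases M12.card_cases h5 (hcard ▸ h7 ▸ dvd_mul_left _ _) h6 with h8 | h8 | h8
  · obtain ⟨θ, e, h9, h10⟩ := DG.exists_under E χ
    have h11 := θ.2.charDegree_sq_le_index_center
    have h12 : e ∣ 144 := h9.trans
      ⟨Nat.card (Subgroup.center E), by rw [h8, hcard] at h7; omega⟩
    have h13 := Nat.le_of_dvd θ.2.charDegree_pos
      ((Nat.Coprime.of_dvd_right h12 (by norm_num)).dvd_of_dvd_mul_left (h10 ▸ hχ))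
    rw [Subgroup.index_eq_card, h8] at h11
    nlinarith
  · obtain ⟨H, hH, h9, -⟩ := exists_sharp h8
    obtain ⟨e⟩ := Spor.sharp4_iso_SporM11 h9 hH
    obtain ⟨e'⟩ := DG.equiv_of_mult S2034.result h3 e
    have h10 : IsSimpleGroup E := (e'.trans e.symm).isSimpleGroup
    have h11 : Nat.card E = 7920 := (Nat.card_congr (e'.trans e.symm).toEquiv).trans h8
    obtain ⟨f⟩ := DG.equiv_prod S2060.result (CT.center_eq_bot (by rw [h11]; norm_num)) e'
    have h12 := Nat.card_congr f.toEquiv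
    rw [Nat.card_prod, h11, hcard] at h12
    have h13 : Nat.card (Subgroup.centralizer (E : Set G)) = 12 := by omega
    have := Fact.mk Nat.prime_three
    obtain ⟨x, hx⟩ := exists_prime_orderOf_dvd_card' (G := Subgroup.centralizer (E : Set G)) 3
      (by rw [h13]; norm_num)
    obtain ⟨g⟩ := Cl.L2.nonempty_alt_four h13 (P := PB.P x) (by rw [Nat.card_zpowers, hx]) fun hP => by
      obtain ⟨α, β, hα, hβ, h14⟩ := (isIrrCharacter_prod_iff _).1 (ψ.2.comp_mulEquiv f)
      have h15 := hα.charDegree_dvd_index_of_comm (PB.P x) fun a ha b hb =>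
        PB.comm_of_mem (PB.P_le_C x ha) hb
      have h16 := (PB.P x).index_mul_card
      rw [Nat.card_zpowers, hx, h13] at h16
      rw [show (PB.P x).index = 4 by omega] at h15
      have h17 := congrFun h14 1
      simp only [map_one, Prod.fst_one, Prod.snd_one, ← hα.coe_charDegree, ← hβ.coe_charDegree,
        ← ψ.2.coe_charDegree] at h17
      rw [show charDegree (ψ : G → ℂ) = _ * _ by exact_mod_cast h17] at hψ
      exact not_dvd h11 ⟨β, hβ⟩
        ((Nat.Coprime.of_dvd_right h15 (by norm_num)).dvd_of_dvd_mul_left hψ)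
    exact Or.inr ⟨f.symm.trans (g.prodCongr e')⟩
  · have := DG.simple_of_card (h8.trans hcard.symm)
    obtain ⟨H, hH, h9⟩ := M12.exists_sharp hcard
    exact Or.inl (Spor.sharp5_iso_SporM12 h9 hH)

end Cfsg.Agent.S3643
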