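import Mathlib
import Cfsg.Agent.Inv.MDA
import Cfsg.Agent.Inv.M22B
import Cfsg.Agent.Inv.M24D
import Cfsg.Agent.Spor.M24
import Cfsg.Agent.S0364
import Cfsg.Agent.S0365
import Cfsg.Agent.S2037
import Cfsg.Agent.S3643
import Cfsg.Statements.S3642

set_option autoImplicit false
open Cfsg

namespace Cfsg.Agent.S3642

open Cfsg.Agent.Ch Cfsg.Agent.Inv Cfsg.Agent.Inv.PB Cfsg.Agent.Inv.Srch Subgroup

section

variable {G M : Type*} [Group G] [Finite G] [Group M] [Finite M]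

theorem edge (h : degreeGraph G = degreeGraph M) (p q : ℕ) {χ : IrrCharacter M} {d : ℕ}
    (hd : charDegree (χ : M → ℂ) = d) (h1 : p ≠ q ∧ p.Prime ∧ q.Prime ∧ p * q ∣ d := by norm_num) :
    ∃ ψ : IrrCharacter G, p * q ∣ charDegree (ψ : G → ℂ) := by
  obtain ⟨-, -, -, _, ⟨ψ, rfl⟩, hψ⟩ : (degreeGraph G).Adj p q :=
    h ▸ ⟨h1.1, h1.2.1, h1.2.2.1, d, ⟨χ, hd⟩, h1.2.2.2⟩
  exact ⟨ψ, hψ⟩

theorem under (E : Subgroup G) [E.Normal] {m : ℕ} (hm : m.Coprime E.index) {χ : IrrCharacter G}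
    (h : m ∣ charDegree (χ : G → ℂ)) : ∃ θ : IrrCharacter E, m ∣ charDegree (θ : E → ℂ) ∧
      m ^ 2 ≤ Nat.card (E ⧸ center E) := by
  obtain ⟨θ, e, h1, h2⟩ := DG.exists_under E χ
  have h3 := (hm.coprime_dvd_right h1).dvd_of_dvd_mul_left (h2 ▸ h)
  exact ⟨θ, h3, (Nat.pow_le_pow_left (Nat.le_of_dvd θ.2.charDegree_pos h3) 2).trans
    θ.2.charDegree_sq_le_index_center⟩

theorem bound (E : Subgroup G) [E.Normal] {n p q : ℕ} (hn : Nat.card G = n) {χ : IrrCharacter G}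
    (h : p * q ∣ charDegree (χ : G → ℂ)) (h1 : p ∣ Nat.card (E ⧸ center E))
    (h2 : q ∣ Nat.card (E ⧸ center E))
    (h3 : (p.Prime ∧ ¬ p ^ 2 ∣ n) ∧ q.Prime ∧ ¬ q ^ 2 ∣ n := by norm_num) :
    (p * q) ^ 2 ≤ Nat.card (E ⧸ center E) := by
  have key : ∀ {r : ℕ}, r.Prime ∧ ¬ r ^ 2 ∣ n → r ∣ Nat.card (E ⧸ center E) → r.Coprime E.index :=
    fun h4 h5 => h4.1.coprime_iff_not_dvd.2 fun h6 => h4.2 (by
      rw [← hn, DG.card_eq E, pow_two]
      exact mul_dvd_mul (h6.mul_right _) h5)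
  exact (under E ((key h3.1 h1).mul_left (key h3.2 h2)) h).choose_spec.2

theorem not_dvd [IsSimpleGroup G] (hG : Nat.card G = 10200960) (χ : IrrCharacter G) :
    ¬ 161 ∣ charDegree (χ : G → ℂ) := fun h => by
  have := Fintype.ofFinite G
  obtain ⟨⟨X⟩, ⟨Y⟩, ⟨Z⟩⟩ := M23.exists_BD3 hG
  have d1 := @M11.deg_irrOne G _
  have dθ : charDegree (Z.θ : G → ℂ) = 2024 := Z.natAbs_D.symm
  have h1 : 11 ∣ charDegree (χ : G → ℂ) := by
    rcases Y.cases χ with h1 | rfl | h1 | h1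
    · exact h1
    · omega
    · have h2 : _ = 896 := Y.deg_Y h1
      omega
    · have h2 := Y.sd_mem h1
      have h3 := Y.natAbs_sd h1
      simp only [List.mem_cons, List.not_mem_nil, or_false] at h2
      omega
  have h2 : ∀ ψ ∈ [Z.θ, χ], 253 ∣ charDegree (ψ : G → ℂ) := by simp [dθ]; omega
  have h3 := sqs_le (L := X.F ++ [Z.θ, χ]) (List.nodup_append.2 ⟨X.nodup, by
      simpa using fun h3 : Z.θ = χ => by rw [← h3, dθ] at h; omega,
    fun ψ h3 _ h4 h5 => X.not_dvd h3 (by have := h2 _ (h5 ▸ h4); omega)⟩)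
    (fun h3 => (List.mem_append.1 h3).elim X.one_notMem fun h4 => by have := h2 _ h4; omega) dg_spec
  rw [card_C_one, hG, List.map_append, sqs_append, X.degR, sqs_dg,
    show sqs (degR 23 11 770 _) = 4916249 by decide] at h3
  simp only [List.map_cons, List.map_nil, List.sum_cons, List.sum_nil, dθ] at h3
  have h4 := Nat.le_of_dvd χ.2.charDegree_pos (show 1771 ∣ _ by omega)
  nlinarith

end

/-- Let M be one of the Mathieu groups M₁₁, M₂₂, M₂₃, M₂₄ and let G be a finite group of the same order as M whose character degree graph equals that of M (same set of primes dividing some irreducible complex character degree, and the same pairs of distinct primes whose product divides some degree). Then G is isomorphic to M. -/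
theorem result {M : Type*} [Group M] [Finite M] (hM : Cfsg.Spor.IsoM11 M ∨ Cfsg.Spor.IsoM22 M ∨ Cfsg.Spor.IsoM23 M ∨ Cfsg.Spor.IsoM24 M)
    {G : Type*} [Group G] [Finite G] (hcard : Nat.card G = Nat.card M) (hΔ : Cfsg.degreePrimes G = Cfsg.degreePrimes M ∧ Cfsg.degreeGraph G = Cfsg.degreeGraph M) :
    Nonempty (G ≃* M) := by
  have := Fintype.ofFinite M
  have hq : ∀ {p n : ℕ} {χ : IrrCharacter G}, Nat.card G = n → p ∣ charDegree (χ : G → ℂ) →
      p.Prime → ¬ p ^ 2 ∣ n → SN.NoPow p n → ∃ E : Subgroup G, E.Normal ∧ commutator E = ⊤ ∧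
        IsSimpleGroup (E ⧸ center E) ∧ ¬ (Nat.card (E ⧸ center E)).Prime ∧
        p ∣ Nat.card (E ⧸ center E) ∧ n = E.index * Nat.card (center E) * Nat.card (E ⧸ center E) :=
    fun h1 h2 h3 h4 h5 => by
      obtain ⟨E, h6, h7, h8, h9, h10⟩ := DG.exists_quasi h3 (h1 ▸ h4) (h1 ▸ h5) h2
      exact ⟨E, h6, h7, h8, h9, h10, h1 ▸ DG.card_eq E⟩
  have h11 : SN.NoPow 11 443520 :=
    SN.noPow_of_list (by norm_num) [2, 3, 5, 7] (by simp; norm_num) (by decide +kernel)
  have h23 : SN.NoPow 23 244823040 :=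
    SN.noPow_of_list (by norm_num) [2, 3, 5, 7, 11] (by simp; norm_num) (by decide +kernel)
  rcases hM with ⟨⟨f⟩⟩ | ⟨⟨f⟩⟩ | ⟨⟨f⟩⟩ | ⟨⟨f⟩⟩
  · have := Spor.Dod.simple_SporM11
    have := f.isSimpleGroup
    have h0 := (Nat.card_congr f.toEquiv).trans Spor.Dod.card_SporM11
    rw [h0] at hcard
    obtain ⟨_, _, _, _, _, _, _, h⟩ := M11.exists_tab h0
    obtain ⟨χ, hχ⟩ := edge hΔ.2 5 11 h.deg_η
    obtain ⟨E, _, -, _, h1, h2, h3⟩ := hq hcard ((dvd_mul_left 11 5).trans hχ) (by norm_num)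
      (by norm_num) fun q j h1 h2 => h11 q j h1 (h2.trans (by norm_num))
    have := Fintype.ofFinite (E ⧸ center E)
    have h4 : Nat.card (E ⧸ center E) ∣ 7920 := h3 ▸ dvd_mul_left _ _
    rcases MD.card11 h1 (h4.trans (by norm_num)) h2 with h5 | h5 | h5 | h5
    · exact absurd (bound E hcard hχ h5.1 h2) (not_le.2 h5.2)
    · exact absurd (h5.1.trans h4) (by norm_num)
    · have := DG.simple_of_card (h5.trans hcard.symm)
      obtain ⟨H, hH, h6, -⟩ := M11.exists_sharp hcard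
      obtain ⟨e⟩ := Spor.sharp4_iso_SporM11 h6 hH
      exact ⟨e.trans f.symm⟩
    · exact absurd (h5 ▸ h4) (by norm_num)
  · have := Spor.Golay.simple_M22
    have := f.isSimpleGroup
    have h0 := (Nat.card_congr f.toEquiv).trans Spor.Golay.card_M22
    rw [h0] at hcard
    obtain ⟨_, _, _, _, _, _, _, _, _, _, _, _, _, _, _, _, _, _, h⟩ := M22.exists_st h0
    obtain ⟨χ, hχ⟩ := edge hΔ.2 5 11 h.dK
    obtain ⟨ψ, hψ⟩ := edge hΔ.2 7 11 h.dK
    obtain ⟨φ, hφ⟩ := edge hΔ.2 3 11 h.dD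
    obtain ⟨E, _, h6, _, h1, h2, h3⟩ := hq hcard ((dvd_mul_left 11 5).trans hχ) (by norm_num)
      (by norm_num) h11
    have := Fintype.ofFinite (E ⧸ center E)
    rcases MD.card11 h1 (h3 ▸ dvd_mul_left _ _) h2 with h5 | h5 | h5 | h5
    · exact absurd (bound E hcard hχ h5.1 h2) (not_le.2 h5.2)
    · exact absurd (bound E hcard hψ h5.1 h2) (not_le.2 h5.2)
    · obtain ⟨H, hH, h7, -⟩ := M11.exists_sharp h5
      obtain ⟨e⟩ := Spor.sharp4_iso_SporM11 h7 hH
      obtain ⟨e'⟩ := DG.equiv_of_mult S2034.result h6 e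
      have := (e'.trans e.symm).isSimpleGroup
      obtain ⟨θ, h8, -⟩ := under E (Nat.Coprime.of_dvd_right (b₂ := 56)
        ⟨Nat.card (center E), by rw [h5] at h3; omega⟩ (by norm_num)) hφ
      exact absurd h8 (S3643.not_dvd ((Nat.card_congr (e'.trans e.symm).toEquiv).trans h5) θ)
    · have := DG.simple_of_card (h5.trans hcard.symm)
      exact M22.iso hcard h0
  · have := Spor.Golay.simple_M23
    have := f.isSimpleGroup
    have h0 := (Nat.card_congr f.toEquiv).trans Spor.Golay.card_M23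
    rw [h0] at hcard
    obtain ⟨-, -, ⟨Z⟩⟩ := M23.exists_BD3 h0
    obtain ⟨χ, hχ⟩ := edge hΔ.2 11 23 (d := 2024) Z.natAbs_D.symm
    obtain ⟨E, _, -, _, h1, h2, h3⟩ := hq hcard ((dvd_mul_left 23 11).trans hχ) (by norm_num)
      (by norm_num) fun q j h1 h2 => h23 q j h1 (h2.trans (by norm_num))
    have := Fintype.ofFinite (E ⧸ center E)
    have h4 : Nat.card (E ⧸ center E) ∣ 10200960 := h3 ▸ dvd_mul_left _ _
    rcases MD.card23 h1 (h4.trans (by norm_num)) h2 with h5 | h5 | h5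
    · exact absurd (bound E hcard hχ h5.1 h2) (not_le.2 h5.2)
    · have := DG.simple_of_card (h5.trans hcard.symm)
      exact M23.iso hcard h0
    · exact absurd (h5 ▸ h4) (by norm_num)
  · have := S0365.result
    have := f.isSimpleGroup
    have h0 := (Nat.card_congr f.toEquiv).trans S0364.result
    rw [h0] at hcard
    obtain ⟨_, _, _, _, h⟩ := Inv.M24.exists_S5 h0
    obtain ⟨χ, hχ⟩ := edge hΔ.2 11 23 h.dA
    obtain ⟨ψ, hψ⟩ := edge hΔ.2 7 23 h.dA
    obtain ⟨E, _, h6, _, h1, h2, h3⟩ := hq hcard ((dvd_mul_left 23 11).trans hχ) (by norm_num)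
      (by norm_num) h23
    have := Fintype.ofFinite (E ⧸ center E)
    rcases MD.card23 h1 (h3 ▸ dvd_mul_left _ _) h2 with h5 | h5 | h5
    · exact absurd (bound E hcard hχ h5.1 h2) (not_le.2 h5.2)
    · have := Spor.Golay.simple_M23
      obtain ⟨e⟩ := M23.iso h5 Spor.Golay.card_M23
      obtain ⟨e'⟩ := DG.equiv_of_mult S2037.result h6 e
      have := e'.isSimpleGroup
      obtain ⟨θ, h8, -⟩ := under E (Nat.Coprime.of_dvd_right (b₂ := 24)
        ⟨Nat.card (center E), by rw [h5] at h3; omega⟩ (by norm_num)) hψ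
      exact absurd h8 (not_dvd ((Nat.card_congr e'.toEquiv).trans Spor.Golay.card_M23) θ)
    · have := DG.simple_of_card (h5.trans hcard.symm)
      exact Inv.M24.iso hcard h0

end Cfsg.Agent.S3642
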