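import Mathlib
import Cfsg.Statements.S4775
import Cfsg.Agent.Chev.SzChar
-- import your own Cfsg.Agent.* helpers here

set_option autoImplicit false
open Cfsg

namespace Cfsg.Agent.S4775

open Cfsg.Agent.Chev.Sz Cfsg.Agent.Ch

/-- Let F be a finite field with q = 2^(2m+1) ≥ 8 elements and let S be isomorphic to the Suzuki group over F. Then the vertices of the character degree graph of S are 2 and the primes dividing (q − 1)(q² + 1); the primes dividing (q − 1)(q² + 1) are pairwise adjacent, and 2 is adjacent exactly to the primes dividing q − 1. -/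
theorem result (F : Type*) [Field F] [Fintype F] (m : ℕ) (hm : 1 ≤ m) (q : ℕ) (hq : Fintype.card F = q) (hqm : q = 2 ^ (2 * m + 1)) {S : Type*} [Group S] [Finite S] (hS : Nonempty (S ≃* ↥(Cfsg.Lie.Sz F (2 ^ (m + 1))))) : Cfsg.degreePrimes S = {r : ℕ | r.Prime ∧ (r = 2 ∨ r ∣ (q - 1) * (q ^ 2 + 1))} ∧ ∀ r s : ℕ, (Cfsg.degreeGraph S).Adj r s ↔ (r ≠ s ∧ r.Prime ∧ s.Prime ∧ ((r ∣ (q - 1) * (q ^ 2 + 1) ∧ s ∣ (q - 1) * (q ^ 2 + 1)) ∨ (r = 2 ∧ s ∣ q - 1) ∨ (s = 2 ∧ r ∣ q - 1))) := by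
  have := SzF.of_card hm (hq.trans hqm)
  obtain ⟨e⟩ := hS
  have hc : Nat.card F = q := by rw [Nat.card_eq_fintype_card, hq]
  have h1 := charDegrees_Sz F m
  rw [charDegrees_congr ((szEquiv F m).trans e.symm), hc] at h1
  have h2 := tori_mul (m := m) F
  have h3 := two_pow_lt_card (m := m) F
  rw [hc] at h2 h3
  have h4 : 2 ∣ 2 ^ m := dvd_pow_self 2 (by omega)
  have h5 : 2 ∣ q := hqm ▸ dvd_pow_self 2 (by omega)
  have h6 : 2 ∣ 2 ^ (m + 1) := dvd_pow_self 2 (by omega)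
  have h7 : ∀ {r k : ℕ}, r.Prime → r ∣ 2 ^ k → r = 2 := fun hr h =>
    (Nat.prime_dvd_prime_iff_eq hr Nat.prime_two).1 (hr.dvd_of_dvd_pow h)
  have h8 : ∀ {r : ℕ}, r.Prime → r ∣ q ^ 2 → r = 2 := fun hr h =>
    h7 hr (hqm ▸ hr.dvd_of_dvd_pow h)
  have ha : q - 2 ^ (m + 1) + 1 ∣ q ^ 2 + 1 := Dvd.intro_left _ h2
  have hb : q + 2 ^ (m + 1) + 1 ∣ q ^ 2 + 1 := Dvd.intro _ h2
  have key : ∀ r s : ℕ, r ≠ s → r.Prime → s.Prime → ((∃ d ∈ charDegrees S, r ∣ d ∧ s ∣ d) ↔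
      ((r ∣ (q - 1) * (q ^ 2 + 1) ∧ s ∣ (q - 1) * (q ^ 2 + 1)) ∨ (r = 2 ∧ s ∣ q - 1) ∨
        (s = 2 ∧ r ∣ q - 1))) := by
    intro r s hrs hr hs
    rw [h1]
    simp only [Set.mem_insert_iff, Set.mem_singleton_iff, exists_eq_or_imp, exists_eq_left]
    constructor
    · rintro (h | h | h | h | h | h)
      · exact absurd h.1 hr.not_dvd_one
      · exact absurd ((h8 hr h.1).trans (h8 hs h.2).symm) hrs
      · exact Or.inl ⟨h.1.mul_left _, h.2.mul_left _⟩
      · rcases hr.dvd_mul.1 h.1 with h' | h' <;> rcases hs.dvd_mul.1 h.2 with h'' | h''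
        · exact absurd ((h7 hr h').trans (h7 hs h'').symm) hrs
        · exact Or.inr (Or.inl ⟨h7 hr h', h''⟩)
        · exact Or.inr (Or.inr ⟨h7 hs h'', h'⟩)
        · exact Or.inl ⟨h'.mul_right _, h''.mul_right _⟩
      · exact Or.inl ⟨h.1.trans (mul_dvd_mul_left _ ha), h.2.trans (mul_dvd_mul_left _ ha)⟩
      · exact Or.inl ⟨h.1.trans (mul_dvd_mul_left _ hb), h.2.trans (mul_dvd_mul_left _ hb)⟩
    · rintro (⟨h, h'⟩ | ⟨rfl, h⟩ | ⟨rfl, h⟩)
      · have e : ∀ {r s : ℕ}, r ∣ q - 1 → s.Prime → s ∣ (q - 1) * (q ^ 2 + 1) →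
            (r ∣ (q - 1) * (q - 2 ^ (m + 1) + 1) ∧ s ∣ (q - 1) * (q - 2 ^ (m + 1) + 1)) ∨
            (r ∣ (q - 1) * (q + 2 ^ (m + 1) + 1) ∧ s ∣ (q - 1) * (q + 2 ^ (m + 1) + 1)) := by
          intro r s h hs h'
          rw [← h2, ← mul_assoc] at h'
          rcases hs.dvd_mul.1 h' with h' | h'
          · exact Or.inr ⟨h.mul_right _, h'⟩
          · exact Or.inl ⟨h.mul_right _, h'.mul_left _⟩
        rcases hr.dvd_mul.1 h with g | g
        · exact Or.inr (Or.inr (Or.inr (Or.inr (e g hs h'))))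
        rcases hs.dvd_mul.1 h' with g' | g'
        · exact Or.inr (Or.inr (Or.inr (Or.inr ((e g' hr h).imp And.symm And.symm))))
        · exact Or.inr (Or.inr (Or.inl ⟨g, g'⟩))
      · exact Or.inr (Or.inr (Or.inr (Or.inl ⟨h4.mul_right _, h.mul_left _⟩)))
      · exact Or.inr (Or.inr (Or.inr (Or.inl ⟨h.mul_left _, h4.mul_right _⟩)))
  refine ⟨Set.ext fun r => and_congr_right fun hr => ?_, fun r s => and_congr_right fun hrs =>
    and_congr_right fun hr => and_congr_right fun hs => ?_⟩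
  · rw [h1]
    simp only [Set.mem_insert_iff, Set.mem_singleton_iff, exists_eq_or_imp, exists_eq_left]
    constructor
    · rintro (h | h | h | h | h | h)
      · exact absurd h hr.not_dvd_one
      · exact Or.inl (h8 hr h)
      · exact Or.inr (h.mul_left _)
      · exact (hr.dvd_mul.1 h).imp (h7 hr) fun h => h.mul_right _
      · exact Or.inr (h.trans (mul_dvd_mul_left _ ha))
      · exact Or.inr (h.trans (mul_dvd_mul_left _ hb))
    · rintro (rfl | h)
      · exact Or.inr (Or.inl (h5.trans (dvd_pow_self q two_ne_zero)))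
      · rcases hr.dvd_mul.1 h with h | h
        · exact Or.inr (Or.inr (Or.inr (Or.inl (h.mul_left _))))
        · exact Or.inr (Or.inr (Or.inl h))
  · rw [← key r s hrs hr hs]
    refine exists_congr fun d => and_congr_right fun _ => ⟨fun h =>
      ⟨(Dvd.intro _ rfl).trans h, (Dvd.intro_left _ rfl).trans h⟩, fun h => ?_⟩
    exact ((Nat.coprime_primes hr hs).2 hrs).mul_dvd_of_dvd_of_dvd h.1 h.2

end Cfsg.Agent.S4775
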