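import Mathlib
import Cfsg.Statements.S3648
import Cfsg.Agent.FG.NsePGL
import Cfsg.Agent.Cl.PSL2Finite
import Cfsg.Agent.Cl.PSL2Struct
import Cfsg.Agent.Cl.PSL2Sub
import Cfsg.Agent.Cl.Transport

set_option autoImplicit false
open Cfsg

namespace Cfsg.Agent.S3648

open Subgroup Cfsg.Agent.FG.CI Cfsg.Agent.FG.NsePGL Cfsg.Agent.Cl.L2
open scoped MatrixGroups

variable {F : Type*} [Field F] [Finite F]

theorem exists_uni (p : ℕ) [Fact p.Prime] [CharP F p] {g : PGL(2, F)} (hg : orderOf g = p) :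
    ∃ x : P1 F, g ∈ uni x := by
  have ht := tau_eq_four_of_pow_char p (hg ▸ pow_orderOf_eq_one g)
  obtain ⟨x, hx⟩ := exists_fix_of_tau_eq_four ht
  exact ⟨x, mem_uni.mpr ⟨hx, ht⟩⟩

omit [Finite F] in
theorem cent_uni {g : PGL(2, F)} {x : P1 F} (hg : g ∈ uni x) (h1 : g ≠ 1) :
    centralizer ({g} : Set PGL(2, F)) = uni x :=
  (centralizer_eq_tor (Or.inl (mem_uni.mp hg).2)).trans (tor_eq_uni hg h1)

theorem card_PGL' : Nat.card PGL(2, F) = Nat.card F * (Nat.card F ^ 2 - 1) := by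
  have := two_le_card (F := F)
  rw [card_PGL, mul_assoc]
  obtain ⟨r, hr⟩ : ∃ r, Nat.card F = r + 1 := ⟨Nat.card F - 1, by omega⟩
  rw [hr, show (r + 1) ^ 2 - 1 = r * (r + 1 + 1) from Nat.sub_eq_of_eq_add (by ring),
    Nat.add_sub_cancel]

theorem mo_char (p : ℕ) [Fact p.Prime] [CharP F p] : mo PGL(2, F) p = Nat.card F ^ 2 - 1 := by
  have hu : aff (1 : F) 1 ∈ uni (inf : P1 F) := mem_uni_inf.mpr ⟨1, rfl⟩
  have hu1 : aff (1 : F) 1 ≠ 1 := fun e => by simpa using (aff_eq_one_iff one_ne_zero).mp e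
  have e := card_cent_mul_cidx (aff (1 : F) 1)
  rw [cent_uni hu hu1, card_uni, card_PGL'] at e
  have := two_le_card (F := F)
  rw [← Nat.eq_of_mul_eq_mul_left (by omega) e, cidx, ← FG.natCard_carrier_mk]
  refine Nat.card_congr (Equiv.subtypeEquivRight fun g => ?_)
  rw [ConjClasses.mem_carrier_iff_mk_eq, ConjClasses.mk_eq_mk_iff_isConj]
  constructor
  · intro hg
    obtain ⟨x, hx⟩ := exists_uni p hg
    obtain ⟨c, rfl⟩ := exists_smul_one x
    obtain ⟨b, rfl⟩ := mem_uni_smul_inf.mp hx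
    have hb : b ≠ 0 := by
      rintro rfl
      rw [aff_one_zero, mul_one, mul_inv_cancel, orderOf_one] at hg
      exact (Fact.out : p.Prime).one_lt.ne hg
    refine (isConj_iff.mpr ⟨c * aff b 0, ?_⟩).symm
    have := aff_conj_one hb 0 1
    rw [mul_one] at this
    rw [← this]; group
  · intro hg
    obtain ⟨c, rfl⟩ := isConj_iff.mp hg.symm
    have := (MulAut.conj c).orderOf_eq (aff (1 : F) 1)
    rw [MulAut.conj_apply] at this
    exact this.trans (orderOf_of_mem_uni p hu hu1)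

theorem dvd_mo (p : ℕ) [Fact p.Prime] [CharP F p] {n : ℕ} (h1 : n ≠ 1) (hp : n ≠ p) :
    Nat.card F ∣ mo PGL(2, F) n := by
  classical
  have := Fintype.ofFinite PGL(2, F)
  have := Fintype.ofFinite F
  rw [mo, Nat.subtype_card (Finset.univ.filter fun g : PGL(2, F) => orderOf g = n) (by simp)]
  refine FG.CsL2.dvd_card_of_conj _ _ (fun x hx g => ?_) fun x hx => ?_
  · have := (MulAut.conj g).orderOf_eq x
    rw [MulAut.conj_apply] at this
    simpa [this] using hx
  have hx : orderOf x = n := by simpa using hx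
  have hnd : ¬ p ∣ Nat.card (centralizer ({x} : Set PGL(2, F))) := fun hd => by
    obtain ⟨⟨u, hu⟩, ho⟩ := exists_prime_orderOf_dvd_card' p hd
    rw [← orderOf_coe] at ho
    obtain ⟨y, hy⟩ := exists_uni p ho
    have hu1 : u ≠ 1 := fun e => by
      simp only [e, orderOf_one] at ho
      exact (Fact.out : p.Prime).one_lt.ne ho
    have h2 : x ∈ uni y := cent_uni hy hu1 ▸ mem_cent_symm.mp hu
    have h3 : x ≠ 1 := fun e => h1 (by rw [← hx, e, orderOf_one])
    exact hp (hx.symm.trans (orderOf_of_mem_uni p h2 h3))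
  obtain ⟨f, hpp, hf⟩ := FiniteField.card F p
  have e := card_cent_mul_cidx x
  rw [card_PGL'] at e
  have hc : (Nat.card F).Coprime (Nat.card (centralizer ({x} : Set PGL(2, F)))) := by
    rw [Nat.card_eq_fintype_card (α := F), hf]
    exact (hpp.coprime_iff_not_dvd.mpr hnd).pow_left _
  exact hc.dvd_of_dvd_mul_left (e ▸ Dvd.intro _ rfl)

theorem le_mo_two (h2 : (2 : F) ≠ 0) : Nat.card F ^ 2 ≤ mo PGL(2, F) 2 := by
  classical
  let M : F × F → M2 F := fun z =>
    if z.2 = 0 then !![1, z.1; 0, -1] else !![z.1, z.2 - z.1 ^ 2; 1, -z.1]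
  have hd : ∀ z, (M z).det ≠ 0 := fun z => by
    by_cases hz : z.2 = 0
    · simp [M, hz, Matrix.det_fin_two]
    · simp only [M, hz, if_false, Matrix.det_fin_two_of]
      intro e
      exact hz (by linear_combination -e)
  have h1 : ∀ z, pm (M z) ≠ 1 := fun z e => by
    rw [pm_eq_one_iff (hd z)] at e
    by_cases hz : z.2 = 0
    · simp only [M, hz, if_true] at e
      exact h2 (by have := e.2.2; simp at this; linear_combination this)
    · simp [M, hz] at e
  have ho : ∀ z, orderOf (pm (M z)) = 2 := fun z => by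
    rw [orderOf_eq_two_iff_tau (h1 z), tau_pm_eq_iff (hd z)]
    by_cases hz : z.2 = 0 <;> simp [M, hz, Matrix.trace_fin_two]
  rw [pow_two, ← Nat.card_prod]
  refine Nat.card_le_card_of_injective (fun z => (⟨pm (M z), ho z⟩ : {g // orderOf g = 2}))
    fun z w e => ?_
  obtain ⟨c, hc, e⟩ := (pm_eq_iff (hd z) (hd w)).mp (congrArg Subtype.val e)
  have e00 := congrFun (congrFun e 0) 0
  have e01 := congrFun (congrFun e 0) 1
  have e10 := congrFun (congrFun e 1) 0
  by_cases hz : z.2 = 0 <;> by_cases hw : w.2 = 0 <;> simp [M, hz, hw] at e00 e01 e10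
  · exact Prod.ext (by rw [e01, ← e00, one_mul]) (hz.trans hw.symm)
  · exact absurd e10.symm hc
  · subst e10
    rw [one_mul] at e00 e01
    exact Prod.ext e00.symm (by rw [e00] at e01; linear_combination -e01)

/-- For a finite group X let nse(X) be the set of values of the function 'number of elements of order k' over the element orders k that occur. Let F be a finite field of odd order q > 3 and P = PGL(2, F) = GL(2, F) modulo its centre. If G is a finite group with the same order as P and nse(G) = nse(P), then G is isomorphic to P. -/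
theorem result {F : Type*} [Field F] [Fintype F] (hodd : Odd (Fintype.card F)) (h3 : 3 < Fintype.card F)
    {G : Type*} [Group G] [Finite G] (hcard : Nat.card G = Nat.card (GL (Fin 2) F ⧸ Subgroup.center (GL (Fin 2) F)))
    (hnse : {c : ℕ | 0 < c ∧ ∃ n : ℕ, c = Nat.card {g : G // orderOf g = n}} = {c : ℕ | 0 < c ∧ ∃ n : ℕ, c = Nat.card {g : (GL (Fin 2) F ⧸ Subgroup.center (GL (Fin 2) F)) // orderOf g = n}}) :
    Nonempty (G ≃* (GL (Fin 2) F ⧸ Subgroup.center (GL (Fin 2) F))) := by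
  change Nat.card G = Nat.card PGL(2, F) at hcard
  change {c : ℕ | 0 < c ∧ ∃ n : ℕ, c = mo G n} = {c : ℕ | 0 < c ∧ ∃ n : ℕ, c = mo PGL(2, F) n}
    at hnse
  change Nonempty (G ≃* PGL(2, F))
  obtain ⟨p, hp⟩ := CharP.exists F
  obtain ⟨f, hpp, hf⟩ := FiniteField.card F p
  have := Fact.mk hpp
  rw [← Nat.card_eq_fintype_card] at hodd h3 hf
  have h2 : (2 : F) ≠ 0 := two_ne_zero_iff_odd.mpr (Nat.odd_iff.mp hodd)
  have hp2 : p ≠ 2 := by
    rintro rfl
    exact hodd.not_two_dvd_nat (hf ▸ dvd_pow_self 2 f.ne_zero)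
  have e2 := le_mo_two h2
  have o2 : Odd (mo PGL(2, F) 2) := by
    have := prime_dvd_mo_add_one (G := PGL(2, F)) Nat.prime_two
      (card_PGL (F := F) ▸ hodd.add_one.two_dvd.mul_left _)
    rw [Nat.odd_iff]; omega
  have h16 : 16 ≤ Nat.card F ^ 2 := by nlinarith
  have H : Hyp G p (Nat.card F) := by
    refine ⟨hpp, hp2, ⟨f - 1, by rw [Nat.sub_add_cancel f.pos, hf]⟩, hcard.trans card_PGL',
      fun n => ?_, ?_⟩
    · rcases Nat.eq_zero_or_pos (mo G n) with h0 | h0
      · exact Or.inr (Or.inr (h0 ▸ dvd_zero _))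
      obtain ⟨-, m, hm⟩ : mo G n ∈ {c : ℕ | 0 < c ∧ ∃ n : ℕ, c = mo PGL(2, F) n} :=
        hnse ▸ ⟨h0, n, rfl⟩
      rw [hm]
      by_cases h1 : m = 1
      · exact Or.inl (by rw [h1]; exact mo_one)
      by_cases hm : m = p
      · exact Or.inr (Or.inl (hm ▸ mo_char p))
      · exact Or.inr (Or.inr (dvd_mo p h1 hm))
    · obtain ⟨-, m, hm⟩ : mo PGL(2, F) 2 ∈ {c : ℕ | 0 < c ∧ ∃ n : ℕ, c = mo G n} :=
        hnse ▸ ⟨by omega, 2, rfl⟩
      have := eq_mo_two o2 (by omega) hm
      subst this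
      exact hm ▸ e2
  obtain ⟨K, _, _, hK, ⟨e⟩⟩ := H.exists_iso
  exact ⟨e.trans (Cl.pglMapEquiv (Fin 2)
    (FiniteField.ringEquivOfCardEq (hK.trans Nat.card_eq_fintype_card)))⟩

end Cfsg.Agent.S3648
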