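import Mathlib
import Cfsg.Statements.S3664
import Cfsg.Agent.Cl.SpecPSp
import Cfsg.Agent.S2469
import Cfsg.Agent.S2472
import Cfsg.Agent.S0245
import Cfsg.Agent.S0246
import Cfsg.Agent.Perm.GKAff
import Cfsg.Agent.Chev.SzAut
import Cfsg.Agent.Chev.SzPart
-- import your own Cfsg.Agent.* helpers here

set_option autoImplicit false
open Cfsg

namespace Cfsg.Agent.S3664

open Cfsg.Agent.Cl Cfsg.Agent.Chev.Sz Cfsg.Agent.Perm Matrix

theorem list_le {K : Type*} [Monoid K] {μ : K} (hfin : IsOfFinOrder μ) {R : Multiset K} (l : List ℕ)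
    (h1 : (l.map (· % orderOf μ)).Nodup) (h2 : ∀ k ∈ l, μ ^ k ∈ R) :
    ((l.map (μ ^ ·) : List _) : Multiset _) ≤ R := by
  rw [Multiset.le_iff_subset]
  · intro a ha
    obtain ⟨k, hk, rfl⟩ := List.mem_map.1 ha
    exact h2 k hk
  · exact List.Nodup.map_on (fun a ha b hb h => List.inj_on_of_nodup_map h1 ha hb
      (hfin.pow_eq_pow_iff_modEq.1 h)) (h1.of_map _)

section Sz

variable (E : Type) [Field E] [SzF E 1]

/-- the field automorphisms acting on the Suzuki group -/
noncomputable def gal : (E ≃+* E) →* MulAut (Cfsg.Sz E 1) :=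
  MonoidHom.mk' (fieldAut 1) fun _ _ => MulEquiv.ext fun _ => mat_injective rfl

/-- the Suzuki group extended by its field automorphisms -/
abbrev KK : Type := Cfsg.Sz E 1 ⋊[gal E] (E ≃+* E)

theorem card_E : Nat.card E = 8 := card_F E

theorem card_gal : Nat.card (E ≃+* E) = 3 := card_ringEquiv E

theorem card_KK : Nat.card (KK E) = 87360 := by
  rw [SemidirectProduct.card, card_Sz, card_E, card_gal]
  rfl

instance finite_KK : Finite (KK E) := Nat.finite_of_card_ne_zero (by rw [card_KK]; norm_num)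

variable {E}

theorem mat_gal (σ : E ≃+* E) (g : Cfsg.Sz E 1) : mat (gal E σ g) = (mat g).map σ := rfl

theorem eq_inl {x : KK E} (h : (orderOf x).Coprime 3) :
    ∃ s, x = SemidirectProduct.inl s ∧ orderOf s = orderOf x := by
  have h1 : x.right = 1 := orderOf_eq_one_iff.1 (Nat.eq_one_of_dvd_coprimes h
    (orderOf_map_dvd SemidirectProduct.rightHom x) (card_gal E ▸ orderOf_dvd_natCard _))
  have h2 : x = SemidirectProduct.inl x.left := by ext <;> simp [h1]
  exact ⟨x.left, h2, by rw [h2, orderOf_injective _ SemidirectProduct.inl_injective]; rfl⟩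

theorem sz_orderOf (s : Cfsg.Sz E 1) :
    orderOf s ∣ 4 ∨ orderOf s ∣ 7 ∨ orderOf s ∣ 13 ∨ orderOf s ∣ 5 := by
  obtain ⟨U, ⟨P, rfl⟩ | hU, hs⟩ := exists_isPart s
  · exact Or.inl (orderOf_dvd_of_pow_eq_one hs.2)
  · have h1 := U.orderOf_dvd_natCard hs
    have h2 := IsTorus.card_eq hU
    rw [card_E E] at h2
    rcases h2 with h | h | h <;> rw [h] at h1 <;> tauto

theorem fixed_field {σ : E ≃+* E} (h : σ ≠ 1) {x : E} (hx : σ x = x) : x = 0 ∨ x = 1 := by
  by_contra hc
  push Not at hc
  have : Fact (Nat.Prime 7) := ⟨by norm_num⟩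
  refine h (RingEquiv.ext fun y => ?_)
  by_cases hy : y = 0
  · simp [hy]
  obtain ⟨k, hk⟩ := mem_powers_of_prime_card (p := 7) (G := Eˣ) (by rw [Nat.card_units, card_E])
    (g := Units.mk0 x hc.1) (g' := Units.mk0 y hy) (fun e => hc.2 (congrArg Units.val e))
  obtain rfl : x ^ k = y := congrArg Units.val hk
  simp [hx]

theorem pow_eq_one_of_fix {σ : E ≃+* E} (h : σ ≠ 1) {s : Cfsg.Sz E 1} (hs : fieldAut 1 σ s = s) :
    s ^ 120 = 1 := by
  classical
  have h1 : ∀ x y : E, autPt (fieldAut 1 σ) (pt x y) = pt (σ x) (σ y) := fun x y => by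
    have := autPt_smul (fieldAut 1 σ) (ue x y) (pt 0 0)
    rw [autPt_fieldAut_zero, fieldAut_ue] at this
    simpa using this
  let S : Finset (Ov E 1) := {inf, pt 0 0, pt 0 1, pt 1 0, pt 1 1}
  have h2 : ∀ P, P ∈ S ↔ autPt (fieldAut 1 σ) P = P := fun P => by
    rcases ov_cases P with rfl | ⟨x, y, rfl⟩
    · simpa [S] using autPt_fieldAut_inf σ
    · rw [h1, pt_inj]
      refine ⟨fun hP => ?_, fun hP => ?_⟩
      · simp only [S, Finset.mem_insert, Finset.mem_singleton, pt_ne_inf, pt_inj, false_or] at hP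
        rcases hP with ⟨rfl, rfl⟩ | ⟨rfl, rfl⟩ | ⟨rfl, rfl⟩ | ⟨rfl, rfl⟩ <;> simp
      · rcases fixed_field h hP.1 with rfl | rfl <;> rcases fixed_field h hP.2 with rfl | rfl <;> simp [S]
  have h3 : ∀ P, MulAction.toPerm s P ∈ S ↔ P ∈ S := fun P => by
    rw [h2, h2, MulAction.toPerm_apply, autPt_smul, hs, smul_left_cancel_iff]
  have h4 : (MulAction.toPerm s).subtypePerm h3 ^ 120 = 1 := by
    rw [← orderOf_dvd_iff_pow_eq_one]
    refine (orderOf_dvd_card).trans ?_
    rw [Fintype.card_perm, Fintype.card_coe]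
    exact Nat.factorial_dvd_factorial (n := 5) Finset.card_le_five
  have h5 : ∀ P ∈ S, s ^ 120 • P = P := fun P hP => by
    have := congrArg Subtype.val (DFunLike.congr_fun h4 ⟨P, hP⟩)
    rw [Equiv.Perm.subtypePerm_pow] at this
    change (MulAction.toPermHom _ _ s ^ 120) P = P at this
    rwa [← map_pow] at this
  exact eq_one_of_fix_three (P := inf) (Q := pt 0 0) (R := pt 0 1) (by simp) (by simp) (by simp)
    (h5 _ (by simp [S])) (h5 _ (by simp [S])) (h5 _ (by simp [S]))

theorem KK_ne {x : KK E} {r : ℕ} (hr : r = 7 ∨ r = 13) : orderOf x ≠ 3 * r := by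
  intro hx
  have : Fact (Nat.Prime 3) := ⟨by norm_num⟩
  have h1 : orderOf (x ^ r) = 3 := by
    rw [orderOf_pow' _ (by omega), hx]; rcases hr with rfl | rfl <;> rfl
  have h2 : orderOf (x ^ 3) = r := by
    rw [orderOf_pow' _ (by omega), hx]; rcases hr with rfl | rfl <;> rfl
  let P : Sylow 3 (KK E) := Sylow.ofCard (SemidirectProduct.inr : _ →* KK E).range (by
    rw [← Nat.card_congr (MonoidHom.ofInjective SemidirectProduct.inr_injective).toEquiv, card_gal,
      card_KK, show 87360 = 3 ^ 1 * 29120 from rfl, Nat.factorization_mul (by norm_num) (by norm_num),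
      Nat.Prime.factorization_pow (by norm_num), Finsupp.add_apply, Finsupp.single_eq_same,
      Nat.factorization_eq_zero_of_not_dvd (by norm_num)]
    rfl)
  obtain ⟨Q, hQ⟩ := (IsPGroup.of_card (p := 3) (n := 1) (G := Subgroup.zpowers (x ^ r))
    (by rw [Nat.card_zpowers, h1]; rfl)).exists_le_sylow
  obtain ⟨c, hc⟩ := MulAction.exists_smul_eq (KK E) Q P
  obtain ⟨σ, hσ⟩ : c * x ^ r * c⁻¹ ∈ (SemidirectProduct.inr : _ →* KK E).range := by
    change _ ∈ (P : Subgroup (KK E))
    rw [← hc, Sylow.coe_subgroup_smul]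
    exact Subgroup.smul_mem_pointwise_smul _ (MulAut.conj c) _ (hQ (Subgroup.mem_zpowers _))
  have h3 : orderOf (c * x ^ 3 * c⁻¹) = r := by
    rw [← h2]; exact (orderOf_injective (MulAut.conj c).toMonoidHom (MulAut.conj c).injective _)
  obtain ⟨s, hs, hs'⟩ := eq_inl (x := c * x ^ 3 * c⁻¹) (by rw [h3]; rcases hr with rfl | rfl <;> norm_num)
  have h4 : σ ≠ 1 := by
    rintro rfl
    rw [map_one, eq_comm, conj_eq_one_iff] at hσ
    simp [hσ] at h1
  have h5 : gal E σ s = s := by
    apply (SemidirectProduct.inl_injective : Function.Injective (SemidirectProduct.inl : _ →* KK E))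
    rw [SemidirectProduct.inl_aut, map_inv, hσ, ← hs]
    group
  have h6 := orderOf_dvd_of_pow_eq_one (pow_eq_one_of_fix h4 h5)
  rw [hs', h3] at h6
  rcases hr with rfl | rfl <;> omega

variable (E) [Algebra (ZMod 2) E]

/-- the semilinear action on `4 × 4` matrices -/
noncomputable def rep : KK E →* Module.End (ZMod 2) (Matrix (Fin 4) (Fin 4) E) where
  toFun x := AddMonoidHom.toZModLinearMap 2 (AddMonoidHom.mk'
    (fun X => mat x.left * X.map x.right * (mat x.left⁻¹).map (frobenius E 2))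
    fun X Y => by rw [Matrix.map_add _ (map_add _), mul_add, add_mul])
  map_one' := by
    ext1 X
    change mat 1 * X.map id * (mat 1⁻¹).map _ = X
    rw [inv_one, mat_one, Matrix.map_one _ (map_zero _) (map_one _), Matrix.map_id, one_mul, mul_one]
  map_mul' x y := by
    ext1 X
    change mat (x.left * gal E x.right y.left) * (X.map y.right).map x.right *
      (mat (x.left * gal E x.right y.left)⁻¹).map _ = mat x.left *
        (mat y.left * X.map y.right * (mat y.left⁻¹).map _).map x.right * (mat x.left⁻¹).map _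
    have : ((mat y.left⁻¹).map x.right).map (frobenius E 2) =
        ((mat y.left⁻¹).map (frobenius E 2)).map x.right := by
      ext i j; simp [frobenius_def]
    rw [_root_.mul_inv_rev, ← map_inv, mat_mul, mat_mul, mat_gal, mat_gal, Matrix.map_mul, Matrix.map_mul,
      Matrix.map_mul, this]
    simp only [mul_assoc]

variable {E}

theorem rep_inl (s : Cfsg.Sz E 1) (X : Matrix (Fin 4) (Fin 4) E) :
    rep E (SemidirectProduct.inl s) X = X ↔ mat s * X = X * (mat s).map (frobenius E 2) := by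
  change mat s * X * (mat s⁻¹).map _ = X ↔ _
  have h1 : ∀ a b : Cfsg.Sz E 1, a * b = 1 →
      (mat a).map (frobenius E 2) * (mat b).map (frobenius E 2) = 1 := fun a b h => by
    rw [← Matrix.map_mul, ← mat_mul, h, mat_one, Matrix.map_one _ (map_zero _) (map_one _)]
  constructor
  · intro h
    conv_rhs => rw [← h]
    rw [mul_assoc, h1 _ _ (inv_mul_cancel s), mul_one]
  · intro h
    rw [h, mul_assoc, h1 _ _ (mul_inv_cancel s), mul_one]

omit [Algebra (ZMod 2) E] in
theorem fpf13 {s : Cfsg.Sz E 1} (hs : orderOf s = 13) {X : Matrix (Fin 4) (Fin 4) E}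
    (h : mat s * X = X * (mat s).map (frobenius E 2)) : X = 0 := by
  by_contra h0
  have h1 := irreducible_of_prime (x := s) (by rw [hs]; norm_num) (by rw [hs, card_E]; norm_num)
    (LinearMap.range (toLin' X)) (by
      rintro _ ⟨v, rfl⟩
      exact ⟨(mat s).map (frobenius E 2) *ᵥ v, by simp only [toLin'_apply, mulVec_mulVec, h]⟩)
    (by rwa [Ne, LinearMap.range_eq_bot, map_eq_zero_iff _ toLin'.injective])
  obtain ⟨u, rfl⟩ := mulVec_surjective_iff_isUnit.1 (LinearMap.range_eq_top.1 h1)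
  have h2 : (mat s).charpoly.map (frobenius E 2) = (mat s).charpoly := by
    rw [← charpoly_map, ← charpoly_units_conj u, ← h, ← coe_units_inv, Units.mul_inv_cancel_right]
  have h3 := spec_roots_map_map (K := AlgebraicClosure E) (mat s).charpoly (frobenius E 2)
    (frobenius _ 2) (fun a => by simp [frobenius_def])
  rw [h2, ← charpoly_toLin'] at h3
  change evs _ _ = (evs _ _).map _ at h3
  have h13 : toLin' (mat s) ^ 13 = 1 := by
    rw [← Matrix.toLin'_pow]
    change Matrix.toLin' (matHom E 1 s ^ 13) = 1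
    rw [← map_pow, ← hs, pow_orderOf_eq_one, map_one, Matrix.toLin'_one]
    rfl
  obtain ⟨μ, hμ, h4⟩ : ∃ μ ∈ evs (AlgebraicClosure E) (toLin' (mat s)), μ ≠ 1 := by
    by_contra hc
    push Not at hc
    have := aeval_eq_aeval_of_evs (K := AlgebraicClosure E)
      (by rw [Ne, CharP.cast_eq_zero_iff E 2]; norm_num) h13
      (P := Polynomial.X) (Q := 1) (by simpa using hc)
    rw [Polynomial.aeval_X, map_one] at this
    rw [mat_injective (toLin'.injective (this.trans toLin'_one.symm) : mat s = mat 1), orderOf_one] at hs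
    omega
  have : Fact (Nat.Prime 13) := ⟨by norm_num⟩
  have h5 := pow_eq_one_of_mem_evs h13 hμ
  have h6 : ∀ ν ∈ evs (AlgebraicClosure E) (toLin' (mat s)),
      ν ^ 2 ∈ evs (AlgebraicClosure E) (toLin' (mat s)) := fun ν hν => by
    rw [h3]; exact Multiset.mem_map_of_mem _ hν
  have e1 := h6 _ hμ
  have e2 := h6 _ e1
  have e3 := h6 _ e2
  have e4 := h6 _ e3
  simp only [← pow_mul] at e2 e3 e4
  have h7 := Multiset.card_le_card (list_le (isOfFinOrder_iff_pow_eq_one.2 ⟨13, by norm_num, h5⟩)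
    [1, 2, 4, 8, 16] (by rw [orderOf_eq_prime h5 h4]; decide) (by simpa using ⟨hμ, e1, e2, e3, e4⟩))
  simp [evs_card] at h7

omit [Algebra (ZMod 2) E] in
theorem exists_mul_three {s : Cfsg.Sz E 1} {r : ℕ} (hs : orderOf s = r) (hr : r.Coprime 3)
    (h : ∀ σ, gal E σ s = s) : ∃ x : KK E, orderOf x = r * 3 := by
  have : Fact (Nat.Prime 3) := ⟨by norm_num⟩
  have : Finite (E ≃+* E) := Nat.finite_of_card_ne_zero (by rw [card_gal]; norm_num)
  obtain ⟨σ, hσ⟩ := exists_prime_orderOf_dvd_card' (G := E ≃+* E) 3 (by rw [card_gal])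
  rw [← orderOf_injective (SemidirectProduct.inl : _ →* KK E) SemidirectProduct.inl_injective] at hs
  rw [← orderOf_injective (SemidirectProduct.inr : _ →* KK E) SemidirectProduct.inr_injective] at hσ
  refine ⟨SemidirectProduct.inl s * SemidirectProduct.inr σ, ?_⟩
  rw [Commute.orderOf_mul_eq_mul_orderOf_of_coprime _ (by rwa [hs, hσ]), hs, hσ]
  rw [Commute, SemiconjBy, eq_comm, ← mul_inv_eq_iff_eq_mul, ← map_inv, ← SemidirectProduct.inl_aut, h]

omit [Algebra (ZMod 2) E] in
theorem orderOf_five : orderOf (ue 0 1 * we : Cfsg.Sz E 1) = 5 := by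
  have : Fact (Nat.Prime 5) := ⟨by norm_num⟩
  refine orderOf_eq_prime (mat_injective ?_) fun h => ?_
  · change matHom E 1 (_ ^ 5) = 1
    rw [map_pow]
    change (uMat 0 1 * suzukiForm E) ^ 5 = 1
    have h2 : (1 + 1 : E) = 0 := CharTwo.add_self_eq_zero 1
    simp [uMat, suzukiForm, nrm_def, pow_succ, h2]
    ext i j
    fin_cases i <;> fin_cases j <;> rfl
  · simpa [mul_smul] using congrArg (· • (inf : Ov E 1)) h

theorem KK_edge {r s : ℕ} (hr : r.Prime) (hs : s.Prime) (hrs : r < s) :
    ((∃ g : KK E, orderOf g = r * s) ∨ ∃ g : KK E, (r = 2 ∧ orderOf g = s ∨ s = 2 ∧ orderOf g = r) ∧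
      ∃ v, v ≠ 0 ∧ rep E g v = v) ↔ (r, s) ∈ [(2, 3), (2, 5), (2, 7), (3, 5)] := by
  have h1 : ∀ (g : KK E) t, t.Prime → t ∣ orderOf g → t = 2 ∨ t = 3 ∨ t = 5 ∨ t = 7 ∨ t = 13 :=
      fun g t ht h => by
    have h2 := h.trans (orderOf_dvd_natCard g)
    rw [card_KK, show 87360 = 2 ^ 6 * 3 * 5 * 7 * 13 by norm_num] at h2
    simp only [ht.dvd_mul, ht.prime.dvd_pow_iff_dvd (show 6 ≠ 0 by norm_num)] at h2
    rw [← Nat.prime_dvd_prime_iff_eq ht (by norm_num), ← Nat.prime_dvd_prime_iff_eq ht (by norm_num),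
      ← Nat.prime_dvd_prime_iff_eq ht (by norm_num), ← Nat.prime_dvd_prime_iff_eq ht (by norm_num),
      ← Nat.prime_dvd_prime_iff_eq ht (by norm_num)]
    tauto
  simp only [List.mem_cons, List.not_mem_nil, or_false, Prod.mk.injEq]
  constructor
  · rintro (⟨g, hg⟩ | ⟨g, ⟨rfl, hg⟩ | ⟨rfl, hg⟩, v, hv, h⟩)
    · have h2 := h1 g r hr (hg ▸ dvd_mul_right _ _)
      have h3 := h1 g s hs (hg ▸ dvd_mul_left _ _)
      have h4 := KK_ne (x := g) (Or.inl rfl)
      have h5 := KK_ne (x := g) (Or.inr rfl)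
      have h6 : (orderOf g).Coprime 3 →
          orderOf g ∣ 4 ∨ orderOf g ∣ 7 ∨ orderOf g ∣ 13 ∨ orderOf g ∣ 5 := fun h => by
        obtain ⟨t, -, ht⟩ := eq_inl h
        exact ht ▸ sz_orderOf t
      rw [hg] at h4 h5 h6
      rcases h2 with rfl | rfl | rfl | rfl | rfl <;> rcases h3 with rfl | rfl | rfl | rfl | rfl <;>
        simp_all
    · have h2 := h1 g s hs hg.symm.dvd
      have h3 : s ≠ 13 := by
        rintro rfl
        obtain ⟨t, rfl, ht⟩ := eq_inl (x := g) (by rw [hg]; norm_num)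
        exact hv (fpf13 (ht.trans hg) ((rep_inl _ _).1 h))
      omega
    · have := hr.two_le
      omega
  · rintro (⟨rfl, rfl⟩ | ⟨rfl, rfl⟩ | ⟨rfl, rfl⟩ | ⟨rfl, rfl⟩)
    · exact Or.inl (exists_mul_three (s := we) (orderOf_eq_prime (by rw [sq, we_mul_we]) we_ne_one)
        (by norm_num) fieldAut_we)
    · refine Or.inr ⟨SemidirectProduct.inl (ue 0 1 * we), Or.inl ⟨rfl, ?_⟩, 1, one_ne_zero, ?_⟩
      · rw [orderOf_injective _ SemidirectProduct.inl_injective, orderOf_five]
      · rw [rep_inl, mul_one, one_mul, ← mat_subMap]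
        simp [subMap_ue, subMap_we]
    · have : Fact (Nat.Prime 7) := ⟨by norm_num⟩
      obtain ⟨k, hk⟩ := exists_prime_orderOf_dvd_card' (G := Eˣ) 7 (by rw [Nat.card_units, card_E])
      refine Or.inr ⟨SemidirectProduct.inl (heHom E 1 k), Or.inl ⟨rfl, ?_⟩, single 0 2 1,
        fun h => by simpa using congrFun (congrFun h 0) 2, ?_⟩
      · rw [orderOf_injective _ SemidirectProduct.inl_injective, orderOf_injective _ heHom_injective, hk]
      · rw [rep_inl]
        change hMat k * _ = _ * (hMat k).map _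
        have h7 : (k : E) ^ 7 = 1 := by rw [← Units.val_pow_eq_pow_val, ← hk, pow_orderOf_eq_one, Units.val_one]
        rw [hMat, diagonal_map (map_zero _)]
        ext i j
        rw [diagonal_mul, mul_diagonal, single_apply]
        split_ifs with h
        · obtain ⟨rfl, rfl⟩ := h
          simp [thInv_apply, frobenius_def]
          field_simp
          exact h7
        · simp
    · exact Or.inl ((mul_comm 5 3) ▸ exists_mul_three orderOf_five (by norm_num) fun σ => by
        change fieldAut 1 σ _ = _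
        simp)

end Sz

section Sp

variable {F : Type*} [Field F] [Fintype F]

theorem card_psp (hF : Fintype.card F = 3) : Nat.card (Cfsg.PSp 3 F) = 4585351680 := by
  have h1 := Subgroup.card_eq_card_quotient_mul_card_subgroup
    (Subgroup.center (Matrix.symplecticGroup (Fin 3) F))
  rw [S0245.result hF, S0246.result hF 3 (by norm_num)] at h1
  change _ = Nat.card (Cfsg.PSp 3 F) * _ at h1
  norm_num [Finset.prod_range_succ] at h1
  omega

theorem psp_no26 (hF : Fintype.card F = 3) (x : Cfsg.PSp 3 F) : orderOf x ≠ 26 := by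
  classical
  intro hx
  have : CharP F 3 := charP_of_card_eq_prime hF
  obtain ⟨g, rfl⟩ := QuotientGroup.mk_surjective x
  have h52 : specSp F 3 g ^ 52 = 1 := by
    rw [show 52 = 26 * 2 from rfl, pow_mul]
    rcases (specSp_orderOf_dvd_iff g 26).1 hx.dvd with h | h <;> rw [h]
    exacts [one_pow _, neg_one_sq (R := Module.End F (Fin 3 ⊕ Fin 3 → F))]
  have hc : ((52 : ℕ) : F) ≠ 0 := by rw [Ne, CharP.cast_eq_zero_iff F 3]; norm_num
  have key : ∀ (k : ℕ) (c : F), (∀ ν ∈ evs (AlgebraicClosure F) (specSp F 3 g),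
      ν ^ k = algebraMap F _ c) → specSp F 3 g ^ k = algebraMap F _ c := fun k c h => by
    simpa using aeval_eq_aeval_of_evs (K := AlgebraicClosure F) hc h52
      (P := Polynomial.X ^ k) (Q := Polynomial.C c) (by simpa using h)
  obtain ⟨μ, hμ, h4⟩ : ∃ μ ∈ evs (AlgebraicClosure F) (specSp F 3 g), μ ^ 4 ≠ 1 := by
    by_contra hc
    push Not at hc
    have := (specSp_orderOf_dvd_iff g 4).2 (Or.inl (by simpa using key 4 1 (by simpa using hc)))
    rw [hx] at this
    omega
  set R := evs (AlgebraicClosure F) (specSp F 3 g) with hR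
  have hμ52 : μ ^ 52 = 1 := pow_eq_one_of_mem_evs h52 hμ
  have hfin : IsOfFinOrder μ := isOfFinOrder_iff_pow_eq_one.2 ⟨52, by norm_num, hμ52⟩
  have h3 : ∀ ν ∈ R, ν ^ 3 ∈ R := fun ν hν => by
    rw [hR, ← evs_map_frob, hF]; exact Multiset.mem_map_of_mem _ hν
  have h51 : ∀ ν ∈ R, ν ^ 51 ∈ R := fun ν hν => by
    have h1 : ν ^ 51 = ν⁻¹ := eq_inv_of_mul_eq_one_left (by
      rw [← pow_succ]; exact pow_eq_one_of_mem_evs h52 hν)
    rw [h1, hR, ← evs_specSp_map]; exact Multiset.mem_map_of_mem _ hν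
  have hd : orderOf μ = 13 ∨ orderOf μ = 26 ∨ orderOf μ = 52 := by
    have h1 := orderOf_dvd_of_pow_eq_one hμ52
    rw [Ne, ← orderOf_dvd_iff_pow_eq_one] at h4
    have := Nat.le_of_dvd (by norm_num) h1
    interval_cases orderOf μ <;> simp_all
  have hle := list_le hfin (R := R)
  have hmem : ∀ k ∈ [1, 3, 9, 51, 153, 459, 27], μ ^ k ∈ R := by
    have e1 := h3 _ hμ
    have e2 := h3 _ e1
    have e3 := h3 _ e2
    have e4 := h51 _ hμ
    have e5 := h3 _ e4
    have e6 := h3 _ e5
    simp only [← pow_mul] at e2 e3 e5 e6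
    simpa using ⟨hμ, e1, e2, e4, e5, e6, e3⟩
  have hcard : R.card = 6 := evs_specSp_card g
  have h26 : μ ^ 26 = 1 := by
    rw [← orderOf_dvd_iff_pow_eq_one]
    rcases hd with h | h | h
    · rw [h]; norm_num
    · rw [h]
    · have := Multiset.card_le_card (hle _ (by rw [h]; decide) hmem)
      simp [hcard] at this
  have hall : ∀ ν ∈ R, ν ^ 13 = μ ^ 13 := by
    have h1 := Multiset.eq_of_le_of_card_le (hle [1, 3, 9, 51, 153, 459] (by
      rcases hd with h | h | h <;> rw [h] <;> decide) fun k hk =>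
        hmem k (List.mem_append_left [27] hk)) (by simp [hcard])
    intro ν hν
    rw [← h1] at hν
    obtain ⟨k, hk, rfl⟩ := List.mem_map.1 hν
    obtain ⟨j, rfl⟩ : Odd k := by clear hν; revert k; decide
    rw [← pow_mul, show (2 * j + 1) * 13 = 26 * j + 13 by ring, pow_add, pow_mul, h26, one_pow, one_mul]
  have h13 : orderOf (g : PSp 3 F) ∣ 13 := by
    rw [specSp_orderOf_dvd_iff]
    rcases sq_eq_one_iff.1 (show (μ ^ 13) ^ 2 = 1 by rw [← pow_mul, h26]) with h | h
    · exact Or.inl (by simpa using key 13 1 fun ν hν => by rw [hall ν hν, h, map_one])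
    · exact Or.inr (by simpa using key 13 (-1) fun ν hν => by rw [hall ν hν, h, map_neg, map_one])
  rw [hx] at h13
  omega

theorem psp_edge (hF : Fintype.card F = 3) {r s : ℕ} (hr : r.Prime) (hs : s.Prime) (hrs : r < s) :
    (∃ g : Cfsg.PSp 3 F, orderOf g = r * s) ↔ (r, s) ∈ [(2, 3), (2, 5), (2, 7), (3, 5)] := by
  have : CharP F 3 := charP_of_card_eq_prime hF
  have : Finite (Cfsg.PSp 3 F) := Nat.finite_of_card_ne_zero (by rw [card_psp hF]; norm_num)
  constructor
  · rintro ⟨g, hg⟩
    have h1 : ∀ t, t.Prime → t ∣ r * s → t ∈ [2, 3, 5, 7, 13] := fun t ht h => by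
      have h2 := (h.trans (hg ▸ orderOf_dvd_natCard g))
      rw [card_psp hF, show 4585351680 = 2 ^ 9 * 3 ^ 9 * 5 * 7 * 13 by norm_num] at h2
      simp only [ht.dvd_mul, ht.prime.dvd_pow_iff_dvd (show 9 ≠ 0 by norm_num)] at h2
      simp only [List.mem_cons, List.not_mem_nil, or_false]
      rw [← Nat.prime_dvd_prime_iff_eq ht (by norm_num), ← Nat.prime_dvd_prime_iff_eq ht (by norm_num),
        ← Nat.prime_dvd_prime_iff_eq ht (by norm_num), ← Nat.prime_dvd_prime_iff_eq ht (by norm_num),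
        ← Nat.prime_dvd_prime_iff_eq ht (by norm_num)]
      tauto
    have o5 : 4 = orderOf ((Fintype.card F : ℕ) : ZMod 5) := by
      rw [hF, eq_comm, orderOf_eq_iff (by norm_num)]; decide
    have o7 : 6 = orderOf ((Fintype.card F : ℕ) : ZMod 7) := by
      rw [hF, eq_comm, orderOf_eq_iff (by norm_num)]; decide
    have o13 : 3 = orderOf ((Fintype.card F : ℕ) : ZMod 13) := by
      rw [hF, eq_comm, orderOf_eq_iff (by norm_num)]; decide
    have d5 : 5 ∣ Nat.card (Cfsg.PSp 3 F) := by rw [card_psp hF]; norm_num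
    have d7 : 7 ∣ Nat.card (Cfsg.PSp 3 F) := by rw [card_psp hF]; norm_num
    have d13 : 13 ∣ Nat.card (Cfsg.PSp 3 F) := by rw [card_psp hF]; norm_num
    have n21 := (S2472.result 3 3 (by norm_num) (by norm_num) 7 (by norm_num) (by norm_num) (by norm_num)
      d7 6 3 o7 (by decide)).2 (by norm_num)
    have n39 := (S2472.result 3 3 (by norm_num) (by norm_num) 13 (by norm_num) (by norm_num) (by norm_num)
      d13 3 3 o13 (by decide)).2 (by norm_num)
    have n35 := (S2469.result 3 3 (by norm_num) (by norm_num) 5 7 (by norm_num) (by norm_num) (by norm_num)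
      (by norm_num) (by norm_num) (by norm_num) (by norm_num) d5 d7 4 6 2 3 o5 o7 (by decide) (by decide)
      (by norm_num)).2 (by omega)
    have n65 := (S2469.result 3 3 (by norm_num) (by norm_num) 5 13 (by norm_num) (by norm_num) (by norm_num)
      (by norm_num) (by norm_num) (by norm_num) (by norm_num) d5 d13 4 3 2 3 o5 o13 (by decide) (by decide)
      (by norm_num)).2 (by omega)
    have n91 := (S2469.result 3 3 (by norm_num) (by norm_num) 7 13 (by norm_num) (by norm_num) (by norm_num)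
      (by norm_num) (by norm_num) (by norm_num) (by norm_num) d7 d13 6 3 3 3 o7 o13 (by decide) (by decide)
      (by norm_num)).2 (by omega)
    have n26 := psp_no26 hF g
    have h2 := h1 r hr (dvd_mul_right _ _)
    have h3 := h1 s hs (dvd_mul_left _ _)
    simp only [Set.mem_range, not_exists] at n21 n39 n35 n65 n91
    have := n21 g
    have := n39 g
    have := n35 g
    have := n65 g
    have := n91 g
    simp only [List.mem_cons, List.not_mem_nil, or_false, Prod.mk.injEq] at h2 h3 ⊢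
    rcases h2 with rfl | rfl | rfl | rfl | rfl <;> rcases h3 with rfl | rfl | rfl | rfl | rfl <;> omega
  · intro h
    obtain ⟨x, hx⟩ := spec_exists_torus_PSp (F := F) (n := 3) 3 (by norm_num) (by norm_num) (N := 28)
      (Or.inr (by rw [hF]; norm_num))
    obtain ⟨μ, h0, h1, h2⟩ := spec_exists_torus_gen (F := F) 3 (AlgebraicClosure F) (e := 2) (N := 5)
      (by norm_num) (Or.inr (by rw [hF]; norm_num))
    obtain ⟨y, c, h3, h4, h5, h6⟩ := spec_exists_PSp_block (n := 3) 3 (by norm_num) h0 (by norm_num) h2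
    have h7 : 5 ∣ orderOf y := by
      have : 5 ∣ 2 * orderOf y := by
        rw [← h1, orderOf_dvd_iff_pow_eq_one, two_mul, pow_add, h4 (by norm_num), h3]
      omega
    have h8 : 2 ∣ orderOf y := spec_even_of_neg_one_pow (K := AlgebraicClosure F) 3 (by norm_num) (by
      rw [h5 (by norm_num), ← h4 (by norm_num), ← orderOf_dvd_iff_pow_eq_one, h1]; exact h7)
    have h9 := h6 0 (by norm_num)
    simp only [List.mem_cons, List.not_mem_nil, or_false, Prod.mk.injEq] at h
    rcases h with ⟨rfl, rfl⟩ | ⟨rfl, rfl⟩ | ⟨rfl, rfl⟩ | ⟨rfl, rfl⟩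
    · exact spec_exists_of_dvd y (by omega)
    · exact spec_exists_of_dvd y (by omega)
    · exact spec_exists_of_dvd x (by omega)
    · exact spec_exists_of_dvd y (by omega)

end Sp


/-- The prime graph of a finite group has the prime divisors of its order as vertices, two distinct primes p, q being joined when the group has an element of order pq; two groups have the same prime graph when they have the same prime divisors and the same joined pairs. Let F be the field with 3 elements and L = PSp(6,F). There are finite groups of arbitrarily large order with the same prime graph as L (a prime graph shared by the orthogonal groups Ω₇(3) and PΩ⁺₈(3)). -/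
theorem result {F : Type*} [Field F] [Fintype F] (hF : Fintype.card F = 3) (N : ℕ) :
    ∃ (H : Type) (_ : Group H) (_ : Finite H), N < Nat.card H ∧
      ((∀ p : ℕ, p.Prime → (p ∣ Nat.card (Cfsg.PSp 3 F) ↔ p ∣ Nat.card H)) ∧
      (∀ p q : ℕ, p.Prime → q.Prime → p ≠ q → ((∃ g : (Cfsg.PSp 3 F), orderOf g = p * q) ↔ (∃ g : H, orderOf g = p * q)))) := by
  have := szF_galoisField (k := 1) le_rfl
  obtain ⟨H, _, _, h1, h2, h3⟩ := GK.exists_of_aff 2 (rep (GaloisField 2 (2 * 1 + 1))) N
  refine ⟨H, inferInstance, inferInstance, by rwa [Nat.card_eq_fintype_card], fun r hr => ?_,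
    fun r s hr hs hrs => ?_⟩
  · rw [h2 r hr, card_psp hF, card_KK, show 4585351680 = 2 ^ 9 * 3 ^ 9 * 5 * 7 * 13 by norm_num,
      show 87360 = 2 ^ 6 * 3 * 5 * 7 * 13 by norm_num, ← Nat.prime_dvd_prime_iff_eq hr Nat.prime_two]
    simp only [hr.dvd_mul, hr.prime.dvd_pow_iff_dvd (show 9 ≠ 0 by norm_num),
      hr.prime.dvd_pow_iff_dvd (show 6 ≠ 0 by norm_num)]
    tauto
  · wlog h : r < s generalizing r s
    · rw [mul_comm]
      exact this s r hs hr hrs.symm (by omega)
    rw [h3 r s hr hs hrs, KK_edge hr hs h, psp_edge hF hr hs h]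

end Cfsg.Agent.S3664
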