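import Mathlib
import Cfsg.Statements.S3663
import Cfsg.Agent.Cl.SpecUnitary
import Cfsg.Agent.Cl.UOrder
import Cfsg.Agent.Perm.GKAff
import Cfsg.Agent.S3664
-- import your own Cfsg.Agent.* helpers here

set_option autoImplicit false
open Cfsg

namespace Cfsg.Agent.S3663

open Cfsg.Agent.Cl Cfsg.Agent.Perm Polynomial Module

section Aux

variable {F : Type*} [Field F] [Fintype F] {σ : F →+* F} {V : Type*} [AddCommGroup V] [Module F V]
  [FiniteDimensional F V] {B : V →ₗ[F] V →ₛₗ[σ] F} {l : F → ZMod 5}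

/-- a logarithm modulo five -/
structure IsLog (l : F → ZMod 5) : Prop where
  zero : l 0 = 0
  mul : ∀ x y, x ≠ 0 → y ≠ 0 → l (x * y) = l x + l y

theorem exists_log (hF : Fintype.card F = 16) :
    ∃ l : F → ZMod 5, IsLog l ∧ ∃ z, z ^ 5 = 1 ∧ l z ≠ 0 := by
  classical
  let e : Fˣ ≃* Multiplicative (ZMod 15) :=
    mulEquivOfCyclicCardEq (by rw [Nat.card_units, Nat.card_eq_fintype_card, hF]; simp)
  refine ⟨fun x => if h : x = 0 then 0 else
    ZMod.castHom (show 5 ∣ 15 by norm_num) (ZMod 5) (e (Units.mk0 x h)).toAdd,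
    ⟨by simp, fun x y hx hy => ?_⟩, (e.symm (Multiplicative.ofAdd 3) : Fˣ), ?_, ?_⟩
  · rw [dif_neg hx, dif_neg hy, dif_neg (mul_ne_zero hx hy), Units.mk0_mul, map_mul, toAdd_mul, map_add]
  · rw [← Units.val_pow_eq_pow_val, ← map_pow, show Multiplicative.ofAdd (3 : ZMod 15) ^ 5 = 1 by decide,
      map_one, Units.val_one]
  · beta_reduce
    rw [dif_neg (Units.ne_zero _), Units.mk0_val, MulEquiv.apply_symm_apply]
    decide

omit [Fintype F] in
theorem IsLog.conj (hl : IsLog l) (h : UField σ 4) (x : F) : l (σ x) = -l x := by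
  by_cases hx : x = 0
  · simp [hx, hl.zero]
  rw [h.pow, show x ^ 4 = x * x * (x * x) by ring, hl.mul _ _ (by simpa) (by simpa), hl.mul _ _ hx hx]
  have : (5 : ZMod 5) = 0 := rfl
  linear_combination l x * this

open Classical in
/-- the basic cochain on isotropic vectors -/
noncomputable def gg (l : F → ZMod 5) (B : V →ₗ[F] V →ₛₗ[σ] F) (a v : V) : ZMod 5 :=
  l (B v a) + ∑ c : F, if v = c • a then l c else 0

omit [FiniteDimensional F V] in
theorem gg_self (hl : IsLog l) {a : V} (h0 : a ≠ 0) (ha : B a a = 0) (e : F) :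
    gg l B a (e • a) = l e := by
  have (c : F) : e • a = c • a ↔ e = c := ⟨fun h => smul_left_injective F h0 h, fun h => h ▸ rfl⟩
  rw [gg, Finset.sum_eq_single e (fun c _ hc => if_neg ((this c).not.2 hc.symm)) (by simp), if_pos rfl]
  simp [ha, hl.zero]

omit [FiniteDimensional F V] in
theorem gg_of_ne {a v : V} (ha : B a a = 0) (h : B v a ≠ 0) : gg l B a v = l (B v a) := by
  rw [gg, Finset.sum_eq_zero fun c _ => if_neg (by rintro rfl; simp [ha] at h), add_zero]

omit [Fintype F] in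
theorem dich (hB : IsHerm B) (h3 : finrank F V = 3) {a v : V} (h0 : a ≠ 0) (ha : B a a = 0)
    (hv : B v v = 0) : (∃ e : F, v = e • a) ∨ B v a ≠ 0 := by
  refine or_iff_not_imp_right.2 fun h => ?_
  rw [not_not] at h
  have h1 : Submodule.span F {a, v} ≤ uPerp B (Submodule.span F {a, v}) := by
    rw [Submodule.span_le]
    rintro _ (rfl | rfl)
    exacts [mem_uPerp_span_pair.2 ⟨ha, h⟩, mem_uPerp_span_pair.2 ⟨hB.eq_zero_symm h, hv⟩]
  have h2 := Submodule.finrank_mono h1
  rw [hB.finrank_uPerp, h3] at h2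
  have h4 : (F ∙ a) = Submodule.span F {a, v} := Submodule.eq_of_le_of_finrank_le
    (Submodule.span_mono (by simp)) (by rw [finrank_span_singleton h0]; omega)
  obtain ⟨e, he⟩ := Submodule.mem_span_singleton.1 (h4 ▸ Submodule.subset_span (by simp) : v ∈ F ∙ a)
  exact ⟨e, he.symm⟩

theorem gg_smul (hl : IsLog l) (hB : IsHerm B) (h3 : finrank F V = 3) {a v : V} (h0 : a ≠ 0)
    (ha : B a a = 0) (hv0 : v ≠ 0) (hv : B v v = 0) {c : F} (hc : c ≠ 0) :
    gg l B a (c • v) = gg l B a v + l c := by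
  rcases dich hB h3 h0 ha hv with ⟨e, rfl⟩ | h
  · rw [smul_smul, gg_self hl h0 ha, gg_self hl h0 ha, hl.mul _ _ hc (by rintro rfl; simp at hv0), add_comm]
  · rw [gg_of_ne ha h, gg_of_ne ha (by simp [hc, h]), map_smul, LinearMap.smul_apply, smul_eq_mul,
      hl.mul _ _ hc h, add_comm]

variable {K : Type*} [Field K] [Algebra F K] [IsAlgClosed K]

variable (K) in
theorem exists_ev (hF : Fintype.card F = 16) (h3 : finrank F V = 3) {x : End F V} (hx : x ^ 13 = 1)
    (h1 : x ≠ 1) : ∃ μ : K, orderOf μ = 13 ∧ ∀ P Q : F[X], aeval μ P = aeval μ Q → aeval x P = aeval x Q := by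
  have : CharP F 2 := charP_of_card_eq_prime_pow (f := 4) hF
  have : Fact (Nat.Prime 13) := ⟨by norm_num⟩
  have hc : ((13 : ℕ) : F) ≠ 0 := by rw [Ne, CharP.cast_eq_zero_iff F 2]; norm_num
  obtain ⟨μ, hμ, h4⟩ : ∃ μ ∈ evs K x, μ ≠ 1 := by
    by_contra hn
    push Not at hn
    exact h1 (by simpa using aeval_eq_aeval_of_evs (K := K) hc hx (P := X) (Q := 1) (by simpa using hn))
  have h5 := pow_eq_one_of_mem_evs hx hμ
  have h6 : ∀ ν ∈ evs K x, ν ^ 16 ∈ evs K x := fun ν hν => by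
    rw [← evs_map_frob, hF]; exact Multiset.mem_map_of_mem _ hν
  have e1 := h6 _ hμ
  have e2 := h6 _ e1
  rw [← pow_mul] at e2
  have h7 := Multiset.eq_of_le_of_card_le (S3664.list_le
    (isOfFinOrder_iff_pow_eq_one.2 ⟨13, by norm_num, h5⟩) [1, 16, 16 * 16]
    (by rw [orderOf_eq_prime h5 h4]; decide) (by simpa using ⟨hμ, e1, e2⟩)) (by simp [evs_card, h3])
  refine ⟨μ, orderOf_eq_prime h5 h4, fun P Q h => aeval_eq_aeval_of_evs (K := K) hc hx fun ν hν => ?_⟩
  rw [← h7] at hν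
  simp only [List.map, Multiset.mem_coe, List.mem_cons, List.not_mem_nil, or_false] at hν
  rcases hν with rfl | rfl | rfl
  · rwa [pow_one]
  · rw [← hF, spec_aeval_pow_card, spec_aeval_pow_card, h]
  · rw [pow_mul, ← hF, spec_aeval_pow_card, spec_aeval_pow_card, spec_aeval_pow_card,
      spec_aeval_pow_card, h]

section

variable (hF : Fintype.card F = 16) {x : End F V} {μ : K} (hμ : orderOf μ = 13)
  (hE : ∀ P Q : F[X], aeval μ P = aeval μ Q → aeval x P = aeval x Q)
include hF hμ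

omit [IsAlgClosed K] in
theorem pow_eq_one {P : F[X]} (h : aeval μ P ≠ 0) : aeval μ P ^ 4095 = 1 := by
  have h1 : μ ^ (16 * 16 * 16) = μ := by
    rw [← pow_mod_orderOf, hμ]; exact pow_one _
  have h2 : aeval μ P ^ (16 * 16 * 16) = aeval μ P := by
    conv_rhs => rw [← h1]
    rw [pow_mul, pow_mul, pow_mul, pow_mul, ← hF, spec_aeval_pow_card, spec_aeval_pow_card,
      spec_aeval_pow_card]
  rwa [show 16 * 16 * 16 = 4095 + 1 from rfl, pow_succ, mul_eq_right₀ h] at h2

include hE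

omit [FiniteDimensional F V] [IsAlgClosed K] in
theorem aeval_eq_zero {P : F[X]} {a : V} (h0 : a ≠ 0) (h : aeval x P a = 0) : aeval μ P = 0 := by
  by_contra hc
  have h1 := LinearMap.congr_fun (hE (P ^ 4094 * P) 1 (by
    rw [← pow_succ, map_pow, pow_eq_one hF hμ hc, map_one])) a
  rw [map_mul, End.mul_apply, h, map_zero, map_one] at h1
  exact h0 h1.symm

omit [IsAlgClosed K] in
theorem cyclic (h3 : finrank F V = 3) {a : V} (h0 : a ≠ 0) (v : V) : ∃ P : F[X], aeval x P a = v := by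
  let f : (Fin 3 → F) →ₗ[F] V := Fintype.linearCombination F fun i : Fin 3 => (x ^ (i : ℕ)) a
  have h1 : ∀ c, f c = aeval x (∑ i : Fin 3, C (c i) * X ^ (i : ℕ)) a := fun c => by
    simp [f, Fintype.linearCombination_apply]
  have h2 : Function.Injective f := by
    rw [injective_iff_map_eq_zero]
    intro c hc
    have h4 := aeval_eq_zero hF hμ hE h0 ((h1 c).symm.trans hc)
    have h5 : ∀ j : ℕ, aeval (μ ^ 16 ^ j) (∑ i : Fin 3, C (c i) * X ^ (i : ℕ)) = 0 := fun j => by
      induction j with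
      | zero => simpa using h4
      | succ j ih => rw [pow_succ, pow_mul, ← hF, spec_aeval_pow_card, hF, ih]; simp
    have h6 := Matrix.eq_zero_of_forall_index_sum_mul_pow_eq_zero (f := fun j : Fin 3 => μ ^ 16 ^ (j : ℕ))
      (v := fun i => algebraMap F K (c i)) (fun i j hij => by
        rw [(isOfFinOrder_iff_pow_eq_one.2 ⟨13, by norm_num, hμ ▸ pow_orderOf_eq_one μ⟩).pow_eq_pow_iff_modEq,
          hμ] at hij
        revert i j
        decide) fun j => by simpa using h5 j
    ext i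
    simpa using congrFun h6 i
  obtain ⟨c, hc⟩ := (LinearMap.injective_iff_surjective_of_finrank_eq_finrank (by simp [h3])).1 h2 v
  exact ⟨_, (h1 c).symm.trans hc⟩

omit [IsAlgClosed K] in
theorem sum_gg (hl : IsLog l) (h : UField σ 4) (hB : IsHerm B) (h3 : finrank F V = 3)
    (hx : ∀ u v, B (x u) (x v) = B u v) {a : V} (h0 : a ≠ 0) (ha : B a a = 0) {P : F[X]}
    (hv0 : aeval x P a ≠ 0) (hv : B (aeval x P a) (aeval x P a) = 0) {c : F}
    (hc : algebraMap F K c = aeval μ P ^ 3276) :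
    ∑ i ∈ Finset.range 13, gg l B a ((x ^ i) (aeval x P a)) = 13 * l c := by
  have : CharP F 2 := charP_of_card_eq_prime_pow (f := 4) hF
  have : CharP K 2 := charP_of_injective_algebraMap (algebraMap F K).injective 2
  have hz : aeval μ P ≠ 0 := fun e => hv0 (by rw [hE P 0 (by simpa using e)]; simp)
  have hz1 := pow_eq_one hF hμ hz
  have hμ1 : μ ^ 13 = 1 := hμ ▸ pow_orderOf_eq_one μ
  have hx1 : x ^ 13 = 1 := by
    have := hE (X ^ 13) 1 (by simpa using hμ1)
    rwa [map_pow, aeval_X, map_one] at this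
  have hxi : ∀ (i : ℕ) u v, B ((x ^ i) u) ((x ^ i) v) = B u v := fun i u v => by
    induction i with
    | zero => rfl
    | succ i ih => rw [pow_succ', End.mul_apply, End.mul_apply, hx, ih]
  have hc0 : c ≠ 0 := by rintro rfl; exact pow_ne_zero _ hz (hc.symm.trans (map_zero _))
  obtain ⟨j, -, hj⟩ := (hμ ▸ IsPrimitiveRoot.orderOf μ).eq_pow_of_pow_eq_one (ξ := aeval μ P ^ 2835)
    (by rw [← pow_mul, show 2835 * 13 = 4095 * 9 from rfl, pow_mul, hz1, one_pow])
  obtain ⟨S, hS, hS'⟩ : ∃ S : F[X], aeval μ S ^ 64 = aeval μ S ∧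
      aeval x P = aeval x (C c * (X ^ j * S)) := ⟨P ^ 2080, by
    rw [map_pow, ← pow_mul, show 2080 * 64 = 4095 * 32 + 2080 from rfl, pow_add, pow_mul, hz1, one_pow,
      one_mul], hE _ _ (by
    rw [map_mul, map_mul, aeval_C, map_pow, aeval_X, map_pow, hc, hj, ← pow_add, ← pow_add,
      show 3276 + (2835 + 2080) = 4095 * 2 + 1 from rfl, pow_succ, pow_mul, hz1, one_pow, one_mul])⟩
  have hτ : ∀ (Q : F[X]), aeval (μ ^ 12) (Q.map σ) = aeval μ Q ^ 64 := fun Q => by
    have h1 : ∀ y : K, iterateFrobenius K 2 6 y = y ^ 64 := fun y => iterateFrobenius_def ..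
    rw [← h1, aeval_def, aeval_def, eval₂_map, hom_eval₂, h1]
    congr 1
    · ext e
      rw [RingHom.comp_apply, RingHom.comp_apply, h1, ← map_pow, h.pow,
        show 64 = 16 * 4 from rfl, pow_mul, ← hF, FiniteField.pow_card]
    · rw [← pow_mod_orderOf μ 64, hμ]
  have hadj : ∀ u v, B (aeval x S u) v = B u (aeval x S v) := fun u v => by
    rw [spec_adjoint_aeval B hB.invol (y := x ^ 12) (fun u v => by
      rw [← hx u, ← End.mul_apply x, ← pow_succ', hx1, End.one_apply]),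
      ← hE ((S.map σ).comp (X ^ 12)) S (by rw [aeval_comp, map_pow, aeval_X, hτ, hS]), aeval_comp,
      map_pow, aeval_X]
  set u := aeval x S a with hu
  have hPa : aeval x P a = c • (x ^ j) u := by rw [hS']; simp [hu]
  have hu0 : ∀ i, (x ^ i) u ≠ 0 := fun i e => hv0 (by
    have h1 : u = 0 := hB.nondeg u fun y => by rw [← hxi i, e]; simp
    simp [hPa, h1])
  have hui : ∀ i, B ((x ^ i) u) ((x ^ i) u) = 0 := fun i => by
    rw [hPa] at hv
    rw [hxi]
    simpa [hc0, hxi] using hv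
  have hanti : ∀ i k, i + k = 13 → gg l B a ((x ^ k) u) = -gg l B a ((x ^ i) u) := fun i k hik => by
    rcases dich hB h3 h0 ha (hui i) with ⟨e, he⟩ | h1
    · have h1 := aeval_eq_zero hF hμ hE (P := X ^ i * S - C e) h0 (by
        simpa [sub_eq_zero, hu] using he)
      rw [map_sub, sub_eq_zero] at h1
      have h2 := congrArg (· ^ 64) h1
      simp only [← hτ] at h2
      rw [Polynomial.map_mul, map_mul, hτ S, hS, map_C, aeval_C] at h2
      have h4 : (x ^ k) u = σ e • a := by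
        have := LinearMap.congr_fun (hE (X ^ k * S) (C (σ e)) (by
          rw [aeval_C, ← h2, map_mul, Polynomial.map_pow, map_X, map_pow, map_pow, aeval_X, aeval_X,
            ← pow_mul, ← pow_mod_orderOf μ k, ← pow_mod_orderOf μ (12 * i), hμ]
          congr 2
          omega)) a
        simpa [hu] using this
      rw [h4, he, gg_self hl h0 ha, gg_self hl h0 ha, hl.conj h]
    · have h2 : B ((x ^ k) u) a = σ (B ((x ^ i) u) a) := by
        rw [hB.symm, ← hxi k a, ← End.mul_apply (x ^ k) (x ^ i), ← pow_add, add_comm, hik, hx1,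
          End.one_apply, hu, ← hadj, ← End.mul_apply, ← End.mul_apply]
        congr 3
        simpa using congrArg (aeval x) (mul_comm (X ^ k) S)
      rw [gg_of_ne ha h1, gg_of_ne ha (by rwa [h2, _root_.map_ne_zero]), h2, hl.conj h]
  have hshift : ∀ k, ∑ i ∈ Finset.range 13, gg l B a ((x ^ (i + k)) u) =
      ∑ i ∈ Finset.range 13, gg l B a ((x ^ i) u) := fun k => by
    induction k with
    | zero => rfl
    | succ k ih =>
      rw [← ih, Finset.sum_range_succ, Finset.sum_range_succ' fun i => gg l B a ((x ^ (i + k)) u),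
        show 12 + (k + 1) = 13 + k by ring, pow_add x 13, hx1, one_mul, zero_add]
      simp only [add_assoc, add_comm 1 k]
  have hsum : ∑ i ∈ Finset.range 13, gg l B a ((x ^ i) u) = 0 := by
    have h1 := hanti 0 13 rfl
    rw [hx1, pow_zero] at h1
    have h5 : (5 : ZMod 5) = 0 := rfl
    simp only [Finset.sum_range_succ, Finset.sum_range_zero, pow_zero]
    linear_combination hanti 1 12 rfl + hanti 2 11 rfl + hanti 3 10 rfl + hanti 4 9 rfl +
      hanti 5 8 rfl + hanti 6 7 rfl + 3 * h1 - gg l B a ((1 : End F V) u) * h5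
  simp only [hPa, map_smul, ← End.mul_apply, ← pow_add]
  rw [Finset.sum_congr rfl fun i _ => gg_smul hl hB h3 h0 ha (hu0 _) (hui _) hc0, Finset.sum_add_distrib,
    hshift, hsum]
  simp

end

theorem sum_four (hF : Fintype.card F = 16) (hl : IsLog l) (h : UField σ 4) (hB : IsHerm B)
    (h3 : finrank F V = 3) {x : End F V} (hx : ∀ u v, B (x u) (x v) = B u v) (h13 : x ^ 13 = 1)
    (h1 : x ≠ 1) {a b v w : V} (ha : a ≠ 0 ∧ B a a = 0) (hb : b ≠ 0 ∧ B b b = 0)
    (hv : v ≠ 0 ∧ B v v = 0) (hw : w ≠ 0 ∧ B w w = 0) :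
    ∑ i ∈ Finset.range 13, (gg l B a ((x ^ i) v) - gg l B b ((x ^ i) v) - gg l B a ((x ^ i) w) +
      gg l B b ((x ^ i) w)) = 0 := by
  obtain ⟨μ, hμ, hE⟩ := exists_ev (AlgebraicClosure F) hF h3 h13 h1
  have key : ∀ {a v : V}, a ≠ 0 → v ≠ 0 → ∃ (P : F[X]) (c : F), aeval x P a = v ∧ c ≠ 0 ∧
      algebraMap F _ c = aeval μ P ^ 3276 := fun {a v} h0 hv => by
    obtain ⟨P, rfl⟩ := cyclic hF hμ hE h3 h0 v
    have hz : aeval μ P ≠ 0 := fun e => hv (by rw [hE P 0 (by simpa using e)]; simp)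
    obtain ⟨c, hc⟩ := spec_mem_range_of_pow_card (F := F) (a := aeval μ P ^ 3276) (by
      rw [hF, ← pow_mul, show 3276 * 16 = 4095 * 12 + 3276 from rfl, pow_add, pow_mul,
        pow_eq_one hF hμ hz, one_pow, one_mul])
    exact ⟨P, c, rfl, by rintro rfl; exact pow_ne_zero _ hz (hc.symm.trans (map_zero _)), hc⟩
  obtain ⟨P, c, rfl, hc, hP⟩ := key ha.1 hv.1
  obtain ⟨Q, d, rfl, hd, hQ⟩ := key ha.1 hw.1
  obtain ⟨R, e, hab, he, hR⟩ := key hb.1 ha.1
  have h2 : ∀ T : F[X], aeval x T a = aeval x (T * R) b := fun T => by rw [map_mul, End.mul_apply, hab]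
  simp only [Finset.sum_add_distrib, Finset.sum_sub_distrib]
  rw [sum_gg hF hμ hE hl h hB h3 hx ha.1 ha.2 hv.1 hv.2 hP,
    sum_gg hF hμ hE hl h hB h3 hx ha.1 ha.2 hw.1 hw.2 hQ]
  rw [h2] at hv hw ⊢
  rw [h2 Q, sum_gg hF hμ hE hl h hB h3 hx hb.1 hb.2 hv.1 hv.2 (c := c * e)
      (by rw [map_mul, map_mul, mul_pow, hP, hR]),
    sum_gg hF hμ hE hl h hB h3 hx hb.1 hb.2 hw.1 hw.2 (c := d * e)
      (by rw [map_mul, map_mul, mul_pow, hQ, hR]), hl.mul _ _ hc he, hl.mul _ _ hd he]
  ring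

instance fact_five : Fact (Nat.Prime 5) := ⟨by norm_num⟩

theorem exists_rep (hF : Fintype.card F = 16) :
    ∃ (W : Submodule (ZMod 5) ((Fin 3 → F) × (Fin 3 → F) → ZMod 5)) (_ : Nontrivial W)
      (ρ : SU 3 F 4 →* End (ZMod 5) W), ∀ g, orderOf g = 13 → nrm (ρ g) (orderOf g) = 0 := by
  classical
  have : CharP F 2 := charP_of_card_eq_prime_pow (f := 4) hF
  obtain ⟨σ, h⟩ := exists_uField (q := 4) hF
  obtain ⟨l, hl, z, hz, hz'⟩ := exists_log hF
  have hB := h.isHerm_uStd (Fin 3)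
  set B := uStd σ (Fin 3) with hBd
  have h2 : (1 + 1 : F) = 0 := CharTwo.add_self_eq_zero 1
  have ha : (![1, 1, 0] : Fin 3 → F) ≠ 0 ∧ B ![1, 1, 0] ![1, 1, 0] = 0 :=
    ⟨by simp, by simp [hBd, uStd_apply, Fin.sum_univ_three, h2]⟩
  have hb : (![1, 0, 1] : Fin 3 → F) ≠ 0 ∧ B ![1, 0, 1] ![1, 0, 1] = 0 :=
    ⟨by simp, by simp [hBd, uStd_apply, Fin.sum_univ_three, h2]⟩
  let f : (Fin 3 → F) × (Fin 3 → F) → ZMod 5 := fun p =>
    if (p.1 ≠ 0 ∧ B p.1 p.1 = 0) ∧ p.2 ≠ 0 ∧ B p.2 p.2 = 0 then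
      gg l B ![1, 1, 0] p.1 - gg l B ![1, 0, 1] p.1 - gg l B ![1, 1, 0] p.2 + gg l B ![1, 0, 1] p.2 else 0
  refine ⟨killSub (funRep (ZMod 5) (SU 3 F 4) _) (· = 13), ?_, subRep _ _ (killSub_inv _ _),
    fun g hg => (nrm_subRep_eq_zero_iff _ _ _ _ _).2 fun w hw => hw g hg⟩
  refine Submodule.nontrivial_iff_ne_bot.2 ((Submodule.ne_bot_iff _).2 ⟨f, fun g hg => ?_, fun h0 => ?_⟩)
  · ext ⟨v, w⟩
    have h1 : ∀ (i : ℕ) (u : Fin 3 → F), (g ^ i)⁻¹ • u = (specSU F 3 4 g⁻¹ ^ i) u := fun i u => by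
      rw [← map_pow, inv_pow]; rfl
    have h3 : ∀ (k : SU 3 F 4) (u : Fin 3 → F), (k • u ≠ 0 ∧ B (k • u) (k • u) = 0) ↔
        u ≠ 0 ∧ B u u = 0 := fun k u => by
      rw [smul_ne_zero_iff_ne, show B (k • u) (k • u) = B u u from specSU_isometry h k u u]
    rw [nrm_funRep_apply, hg, Pi.zero_apply]
    simp only [f, Prod.smul_mk, h3]
    split_ifs with h4
    · simp only [h1]
      refine sum_four hF hl h hB (by simp) (specSU_isometry h _) ?_ ?_ ha hb h4.1 h4.2
      · rw [← map_pow, ← hg, ← orderOf_inv, pow_orderOf_eq_one, map_one]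
      · rw [Ne, map_eq_one_iff _ specSU_injective, inv_eq_one]
        rintro rfl
        simp at hg
    · simp
  · have h1 := congrFun h0 (![0, 1, z], ![1, 1, 0])
    have h3 : (![0, 1, z] : Fin 3 → F) ≠ 0 ∧ B ![0, 1, z] ![0, 1, z] = 0 :=
      ⟨by simp, by simp [hBd, uStd_apply, Fin.sum_univ_three, h.pow, ← pow_succ', hz, h2]⟩
    have h4 := gg_self hl ha.1 ha.2 1
    have e1 : B ![0, 1, z] ![1, 1, 0] = 1 := by simp [hBd, uStd_apply, Fin.sum_univ_three]
    have e2 : B ![0, 1, z] ![1, 0, 1] = z := by simp [hBd, uStd_apply, Fin.sum_univ_three]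
    have e3 : B ![1, 1, 0] ![1, 0, 1] = 1 := by simp [hBd, uStd_apply, Fin.sum_univ_three]
    rw [one_smul] at h4
    simp only [f] at h1
    rw [if_pos ⟨h3, ha⟩, h4, gg_of_ne ha.2 (by simp [e1]), gg_of_ne hb.2 (by
      rw [e2]; rintro rfl; exact hz' hl.zero), gg_of_ne hb.2 (by simp [e3]), e1, e2, e3] at h1
    have h5 := hl.mul 1 1 one_ne_zero one_ne_zero
    rw [mul_one] at h5
    exact hz' (by rw [Pi.zero_apply] at h1; linear_combination -h1 - h5)

end Aux


/-- The prime graph of a finite group has the prime divisors of its order as vertices, two distinct primes p, q being joined when the group has an element of order pq; two groups have the same prime graph when they have the same prime divisors and the same joined pairs. Let F be the field with 16 elements and L = PSU(3,4) realised over F. There are finite groups of arbitrarily large order with the same prime graph as L. -/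
theorem result {F : Type*} [Field F] [Fintype F] (hF : Fintype.card F = 16) (N : ℕ) :
    ∃ (H : Type) (_ : Group H) (_ : Finite H), N < Nat.card H ∧
      ((∀ p : ℕ, p.Prime → (p ∣ Nat.card (Cfsg.PSU 3 F 4) ↔ p ∣ Nat.card H)) ∧
      (∀ p q : ℕ, p.Prime → q.Prime → p ≠ q → ((∃ g : (Cfsg.PSU 3 F 4), orderOf g = p * q) ↔ (∃ g : H, orderOf g = p * q)))) := by
  have : CharP F 2 := charP_of_card_eq_prime_pow (f := 4) hF
  have : CharP (AlgebraicClosure F) 2 := inferInstance
  obtain ⟨σ, h⟩ := exists_uField (q := 4) hF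
  obtain ⟨W, _, ρ, hρ⟩ := exists_rep hF
  have hc : Nat.card (SU 3 F 4) = 62400 := by
    have := h.card_SU (n := 3) (by norm_num)
    simp [uOrd, Finset.prod_range_succ] at this
    omega
  have hZ : Subgroup.center (SU 3 F 4) = ⊥ :=
    Subgroup.eq_bot_of_card_eq _ (h.card_center_SU (by norm_num))
  let e : PSU 3 F 4 ≃* SU 3 F 4 := (QuotientGroup.quotientMulEquivOfEq hZ).trans QuotientGroup.quotientBot
  obtain ⟨H, _, _, h1, h2, h3⟩ := GK.exists_same_graph 5 ρ (by rw [hc]; norm_num)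
    (fun g hp h5 ⟨v, hv, hg⟩ => by
      have h4 := orderOf_dvd_natCard g
      rw [hc, show 62400 = 2 ^ 6 * 3 * 5 ^ 2 * 13 by norm_num] at h4
      simp only [hp.dvd_mul, hp.prime.dvd_pow_iff_dvd (show 6 ≠ 0 by norm_num),
        hp.prime.dvd_pow_iff_dvd (show 2 ≠ 0 by norm_num),
        Nat.prime_dvd_prime_iff_eq hp Nat.prime_two, Nat.prime_dvd_prime_iff_eq hp Nat.prime_three,
        Nat.prime_dvd_prime_iff_eq hp Nat.prime_five,
        Nat.prime_dvd_prime_iff_eq hp (show Nat.Prime 13 by norm_num)] at h4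
      rcases h4 with ((h4 | h4) | h4) | h4
      · obtain ⟨z, hz⟩ := exists_prime_orderOf_dvd_card' (G := Fˣ) 5 (by
          rw [Nat.card_units, Nat.card_eq_fintype_card, hF]; norm_num)
        rw [← orderOf_units] at hz
        obtain ⟨k, h6, h7⟩ := spec_exists_block_SU (n := 3) h 2 (by norm_num) (k := 2) (by norm_num)
          (by norm_num) (l := z) (by rw [h.pow, ← pow_succ', ← orderOf_dvd_iff_pow_eq_one, hz])
        have h8 := h6 (by norm_num)
        have h9 := h7 0 (by norm_num)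
        have h10 := orderOf_map_dvd (QuotientGroup.mk' (Subgroup.center (SU 3 F 4))) k
        rw [hz] at h8
        rw [h4]
        exact spec_exists_of_dvd k ((show 5 * 2 ∣ orderOf (k : PSU 3 F 4) by omega).trans h10)
      · obtain ⟨μ, hμ⟩ := spec_exists_orderOf_algClosed (AlgebraicClosure F) 2 (m := 15) (by norm_num)
        have h6 : ∀ a b : ℕ, a * 4 + b = 15 ∨ a * 4 + b = 45 → (μ ^ a) ^ (-((4 : ℕ) : ℤ)) = μ ^ b :=
          fun a b hab => by
            rw [zpow_neg, zpow_natCast, ← pow_mul]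
            refine inv_eq_of_mul_eq_one_right ?_
            rw [← pow_add, ← orderOf_dvd_iff_pow_eq_one, hμ]
            omega
        obtain ⟨k, h7, -⟩ := exists_specSU_evs (n := 3) (K := AlgebraicClosure F) h
          (R := {μ ^ 1, μ ^ 11, μ ^ 3}) (by
            simp only [Multiset.insert_eq_cons, Multiset.map_cons, Multiset.map_singleton]
            rw [h6 1 11 (by norm_num), h6 11 1 (by norm_num), h6 3 3 (by norm_num), Multiset.cons_swap])
          rfl (by simp [← pow_add, ← pow_succ', ← orderOf_dvd_iff_pow_eq_one, hμ])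
        have h8 := pow_eq_one_of_mem_evs (K := AlgebraicClosure F) (x := specSU F 3 4 k) (k := orderOf k)
          (by rw [← map_pow, pow_orderOf_eq_one, map_one]) (μ := μ) (by simp [h7])
        rw [← orderOf_dvd_iff_pow_eq_one, hμ] at h8
        rw [h4]
        exact spec_exists_of_dvd k h8
      · exact absurd h4 h5
      · exact absurd (hρ g h4) (GK.nrm_ne_zero_of_fix 5 ρ (by rw [h4]; norm_num) hv hg)) N
  refine ⟨H, inferInstance, inferInstance, by rwa [Nat.card_eq_fintype_card], fun r hr => ?_,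
    fun r s hr hs hrs => ?_⟩
  · rw [Nat.card_congr e.toEquiv, h2 r hr]
  · rw [← h3 r s hr hs hrs]
    exact Set.ext_iff.mp (spec_range_of_mulEquiv e) _

end Cfsg.Agent.S3663
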