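import Mathlib
import Cfsg.Agent.Inv.SylowNumber
import Cfsg.Agent.S0494
import Cfsg.Agent.Cl.CharPSL2
import Cfsg.Agent.Cl.LinearIso
import Cfsg.Statements.S3669

set_option autoImplicit false
open Cfsg

namespace Cfsg.Agent.S3669

/-- The character degree graph of a finite group has as vertices the primes dividing some irreducible complex character degree, two distinct primes being joined when their product divides some irreducible character degree; two groups have the same character degree graph when they have the same vertices and the same joined pairs. A finite group of order 60 with the same character degree graph as the alternating group A₅ (whose character degrees are 1, 3, 4, 5, so the graph has vertices 2, 3, 5 and no edges) is isomorphic to A₅. -/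
theorem result {G : Type*} [Group G] [Finite G] (hcard : Nat.card G = 60)
    (hΓ : Cfsg.degreePrimes G = Cfsg.degreePrimes (alternatingGroup (Fin 5)) ∧ Cfsg.degreeGraph G = Cfsg.degreeGraph (alternatingGroup (Fin 5))) : Nonempty (G ≃* alternatingGroup (Fin 5)) := by
  refine @S0494.result G _ _ (by_contra fun hs => ?_) hcard
  have := Fact.mk Nat.prime_five
  have h := Inv.SN.card_sylow_mem (p := 5) (n := 60) (by norm_num)
    (Inv.SN.noPow_of_list (by norm_num) [2, 3] (by simp; norm_num) (by decide +kernel))
    {1} rfl (fun S _ _ _ h1 h2 h3 h4 => by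
      have h5 := Inv.SN.card_mem_of_certs h1 (by norm_num) h3 h2 Nat.prime_five [60]
        [(10, 2, 5), (15, 3, 5), (20, 2, 5), (30, 5, 0)] (by decide +kernel)
      simp [h4] at h5) _ G hcard dvd_rfl fun _ => hs
  obtain ⟨P⟩ : Nonempty (Sylow 5 G) := inferInstance
  rw [Set.mem_singleton_iff, P.card_eq_index_normalizer, Subgroup.index_eq_one] at h
  have hP : (P : Subgroup G).Normal := Subgroup.normalizer_eq_top_iff.1 h
  obtain ⟨e⟩ := Cl.psl2_four_equiv_alt (F := Cl.GF4) Cl.natCard_GF4
  have h5 : 5 ∈ degreePrimes G := by
    rw [hΓ.1, Cl.GL2.degreePrimes_of_psl_or_sl (Or.inl ⟨e.symm⟩) (Or.inl Cl.card_GF4), Cl.card_GF4]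
    exact ⟨Nat.prime_five, by norm_num⟩
  obtain ⟨-, _, ⟨χ, rfl⟩, h6⟩ := h5
  have h7 : Nat.card (P : Subgroup G) = 5 := by
    rw [P.card_eq_multiplicity, hcard, show 60 = 5 * 12 from rfl,
      Nat.factorization_mul (by norm_num) (by norm_num)]
    simp [Nat.prime_five.factorization, Nat.factorization_eq_zero_of_not_dvd]
  have := isCyclic_of_prime_card h7
  exact P.not_dvd_index (h6.trans (χ.2.charDegree_dvd_index_of_comm P fun a ha b hb =>
    congrArg Subtype.val (IsCyclic.isMulCommutative.is_comm.comm (⟨a, ha⟩ : (P : Subgroup G)) ⟨b, hb⟩)))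

end Cfsg.Agent.S3669
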