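import Mathlib
import Cfsg.Statements.S3685
import Cfsg.Agent.S3385
import Cfsg.Agent.S2772
import Cfsg.Agent.S2759
import Cfsg.Agent.Inv.Dihedral
import Cfsg.Agent.FG.H93Cyc

set_option autoImplicit false
open Cfsg

namespace Cfsg.Agent.S3685

open Subgroup MulAction Cfsg.Agent.Loc Cfsg.Agent.Loc.Am Cfsg.Agent.Loc.Cub Cfsg.Agent.S3385

theorem dih {M : Type*} [Group M] [Finite M] {z t d : M} (hz : z ∈ center M) (hz2 : z ^ 2 = 1)
    (ht : t * t = 1) (hd : orderOf d = 3) (hc : Nat.card M = 6 * orderOf z) (hn : ¬ Commute t d) :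
    Nonempty (M ≃* DihedralGroup (orderOf z * 3)) := by
  have hzc : ∀ g, Commute z g := fun g => (mem_center_iff.1 hz g).symm
  have h1 : orderOf (z * d) = orderOf z * 3 := by
    rw [(hzc d).orderOf_mul_eq_mul_orderOf_of_coprime (hd ▸ Nat.Coprime.coprime_dvd_left
      (orderOf_dvd_of_pow_eq_one hz2) (by decide)), hd]
  have h2 : (zpowers (z * d)).index = 2 := by
    have := (zpowers (z * d)).card_mul_index
    rw [Nat.card_zpowers, h1, hc] at this
    have h0 := orderOf_pos z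
    nlinarith
  have hd3 : d ^ 3 = 1 := hd ▸ pow_orderOf_eq_one d
  have h3 : d ∈ zpowers (z * d) := ⟨(4 : ℕ), by
    simp only [zpow_natCast]
    rw [(hzc d).mul_pow, show 4 = 2 * 2 by rfl, pow_mul, hz2, one_pow, one_mul,
      show 2 * 2 = 3 + 1 by rfl, pow_succ, hd3, one_mul]⟩
  have h4 : t * d * t⁻¹ = d⁻¹ := by
    classical
    have h5 := FG.H93.mem_zpowers_of_orderOf_dvd_of_mem
      ((normal_of_index_eq_two h2).conj_mem d h3 t) h3 ((MulAut.conj t).orderOf_eq d).dvd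
    rw [mem_zpowers_iff_mem_range_orderOf, hd] at h5
    obtain ⟨k, hk, e⟩ := Finset.mem_image.1 h5
    have := Finset.mem_range.1 hk
    interval_cases k
    · rw [pow_zero, eq_comm, mul_inv_eq_one, mul_eq_left] at e
      rw [e, orderOf_one] at hd
      omega
    · exact absurd (mul_inv_eq_iff_eq_mul.1 (e.symm.trans (pow_one d))) hn
    · rw [← e, eq_inv_iff_mul_eq_one, ← pow_succ, hd3]
  have h5 : t ∉ zpowers (z * d) := fun ⟨k, hk⟩ =>
    hn (hk ▸ ((hzc d).mul_left (Commute.refl d)).zpow_left k)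
  refine Inv.nonempty_equiv_dihedral ht ?_ h5 h1 ?_
  · calc t * (z * d) * t⁻¹ = (t * z) * d * t⁻¹ := by group
      _ = z * (t * d * t⁻¹) := by rw [← (hzc t).eq]; group
      _ = _ := by rw [h4, mul_inv_rev, ← (hzc d).inv_inv.eq, inv_eq_of_mul_eq_one_right
          ((pow_two z).symm.trans hz2)]
  · refine top_le_iff.1 (S2772.le_of_prime Nat.prime_two (T := zpowers (z * d)) le_top
      (by rwa [relIndex_top_right]) (zpowers_le.2 (subset_closure (by simp)))
      (subset_closure (by simp)) (mem_top t) h5)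

theorem exists_cent {X : Type*} [Group X] {B M : Subgroup X} [Finite M]
    (h2 : IsPGroup 2 B) (h : ¬ IsCharP 2 M) :
    ∃ d ∈ M, d ∈ centralizer (pCoreOf 2 M : Set X) ∧ d ∉ B := by
  by_contra hc
  push Not at hc
  exact h (le_pCoreOf inf_le_left (le_normalizer_inf le_normalizer (le_normalizer_centralizer
    (le_normalizer_pCoreOf 2 M))) (h2.to_le fun x hx => hc x hx.1 hx.2))

theorem not_charP {X : Type*} [Group X] [Finite X] {M₁ M₂ : Subgroup X} (h : Cubic M₁ M₂)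
    (h1 : ¬ IsCharP 2 M₁) (h2 : ¬ IsCharP 2 M₂) :
    Nonempty (M₁ ≃* DihedralGroup 3) ∨ Nonempty (M₁ ≃* DihedralGroup 6) := by
  obtain ⟨d₁, a1, a2, a3⟩ := exists_cent h.two h1
  obtain ⟨d₂, b1, b2, b3⟩ := exists_cent h.two h2
  have s1 : IsSylowOf 2 (M₁ ⊓ M₂) M₁ :=
    isSylowOf_of_not_dvd_relIndex inf_le_left h.two (by rw [h.three₁]; decide)
  have s2 : IsSylowOf 2 (M₁ ⊓ M₂) M₂ :=
    isSylowOf_of_not_dvd_relIndex inf_le_right h.two (by rw [h.three₂]; decide)
  set Q₁ := pCoreOf 2 M₁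
  set Q₂ := pCoreOf 2 M₂
  have n := le_normalizer_inf (inf_le_left.trans (le_normalizer_pCoreOf 2 M₁))
    (inf_le_right.trans (le_normalizer_pCoreOf 2 M₂))
  have e : Q₁ ⊓ Q₂ = ⊥ := h.core _ (inf_le_left.trans s1.pCoreOf_le) (by
    rw [← normalizer_eq_top_iff, eq_top_iff, ← h.gen]
    exact sup_le (S2772.le_of_prime Nat.prime_three inf_le_left h.three₁ n
      (centralizer_le_normalizer _ (centralizer_le inf_le_left a2)) a1 a3)
      (S2772.le_of_prime Nat.prime_three inf_le_right h.three₂ n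
      (centralizer_le_normalizer _ (centralizer_le inf_le_right b2)) b1 b3))
  have i1 : Q₁.relIndex (M₁ ⊓ M₂) = 2 := by
    have := relIndex_mul_relIndex Q₁ _ _ s1.pCoreOf_le inf_le_left
    rw [h.three₁] at this
    have := this.trans h.six₁
    omega
  have i2 : Q₂.relIndex (M₁ ⊓ M₂) = 2 := by
    have := relIndex_mul_relIndex Q₂ _ _ s2.pCoreOf_le inf_le_right
    rw [h.three₂] at this
    have := this.trans h.six₂
    omega
  have mul : ∀ Q : Subgroup X, Q.relIndex (M₁ ⊓ M₂) = 2 → ∀ a ∈ M₁ ⊓ M₂, ∀ b ∈ M₁ ⊓ M₂, a ∉ Q →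
      b ∉ Q → a * b ∈ Q := fun Q hQ a ha b hb h1 h2 =>
    (mul_mem_iff_of_index_two (H := Q.subgroupOf _) hQ (a := ⟨a, ha⟩) (b := ⟨b, hb⟩)).2
      (iff_of_false h1 h2)
  have triv : ∀ x ∈ Q₁, x ∈ Q₂ → x = 1 := fun x a b => (eq_bot_iff_forall _).1 e x ⟨a, b⟩
  -- `Q₁ = ⟨z⟩`
  obtain ⟨z, hz, hz2, hzQ⟩ : ∃ z ∈ Q₁, z ^ 2 = 1 ∧ ∀ x ∈ Q₁, x = 1 ∨ x = z := by
    by_cases hb : Q₁ = ⊥
    · exact ⟨1, one_mem _, one_pow _, fun x hx => Or.inl (by rwa [hb, mem_bot] at hx)⟩
    obtain ⟨⟨z, hz⟩, hz1⟩ := ne_bot_iff_exists_ne_one.1 hb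
    have k : ∀ x ∈ Q₁, x ≠ 1 → x * z = 1 := fun x hx hx1 => triv _ (mul_mem hx hz)
      (mul _ i2 x (s1.pCoreOf_le hx) z (s1.pCoreOf_le hz) (fun h' => hx1 (triv x hx h'))
        fun h' => hz1 (Subtype.ext (triv z hz h')))
    have k1 := k z hz fun h' => hz1 (Subtype.ext h')
    exact ⟨z, hz, by rw [pow_two, k1], fun x hx => (em _).imp_right fun hx1 =>
      mul_right_cancel ((k x hx hx1).trans k1.symm)⟩
  have hzc : ∀ g ∈ M₁, g * z = z * g := fun g hg => by
    rcases hzQ _ ((mem_normalizer_iff.1 (le_normalizer_pCoreOf 2 M₁ hg) z).1 hz) with e1 | e1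
    · rw [show z = 1 by simpa using e1]; simp
    · exact mul_inv_eq_iff_eq_mul.1 e1
  obtain ⟨t, ht, htQ, ht2⟩ : ∃ t ∈ M₁ ⊓ M₂, t ∉ Q₁ ∧ t * t = 1 := by
    by_cases hb : Q₂ ≤ Q₁
    · obtain ⟨t, ht, ht'⟩ := SetLike.not_le_iff_exists.1 fun h' : M₁ ⊓ M₂ ≤ Q₁ => by
        rw [relIndex_eq_one.2 h'] at i1; omega
      exact ⟨t, ht, ht', triv _ (mul _ i1 t ht t ht ht' ht')
        (mul _ i2 t ht t ht (fun h' => ht' (hb h')) fun h' => ht' (hb h'))⟩
    · obtain ⟨t, ht, ht'⟩ := SetLike.not_le_iff_exists.1 hb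
      exact ⟨t, s2.pCoreOf_le ht, ht', triv _ (mul _ i1 t (s2.pCoreOf_le ht) t (s2.pCoreOf_le ht)
        ht' ht') (mul_mem ht ht)⟩
  have eQ : zpowers z = Q₁ := le_antisymm (zpowers_le.2 hz) fun x hx =>
    (hzQ x hx).elim (fun e => e ▸ one_mem _) fun e => e ▸ mem_zpowers _
  have c : Nat.card M₁ = 6 * orderOf z := by
    rw [← h.six₁, ← Nat.card_zpowers, eQ, mul_comm, ← card_mul_index (Q₁.subgroupOf M₁),
      Nat.card_congr (subgroupOfEquivOfLe (pCoreOf_le 2 M₁)).toEquiv]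
    rfl
  obtain ⟨d, hd⟩ := exists_prime_orderOf_dvd_card' (G := M₁) 3 (c ▸ Dvd.dvd.mul_right (by decide) _)
  have k := dih (M := M₁) (z := ⟨z, pCoreOf_le 2 M₁ hz⟩) (t := ⟨t, ht.1⟩)
    (mem_center_iff.2 fun g => Subtype.ext (hzc g g.2)) (Subtype.ext hz2) (Subtype.ext ht2) hd
    (by rwa [orderOf_mk]) fun hc => by
      have hc' : Commute t d := congrArg Subtype.val hc
      have hdB : (d : X) ∉ M₁ ⊓ M₂ := fun h' => by
        obtain ⟨n, hn⟩ := h.two ⟨d, h'⟩
        have : orderOf (d : X) ∣ 2 ^ n := orderOf_dvd_of_pow_eq_one (congrArg Subtype.val hn)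
        rw [orderOf_coe, hd] at this
        exact absurd (Nat.prime_three.dvd_of_dvd_pow this) (by decide)
      refine htQ (le_pCoreOf inf_le_left (S2772.le_of_prime Nat.prime_three inf_le_left h.three₁
        le_normalizer (centralizer_le_normalizer _ fun x hx => ?_) d.2 hdB) h.two ht)
      have k0 : ∀ y ∈ Q₁, Commute y d := fun y hy => (hzQ y hy).elim
        (fun e => e ▸ Commute.one_left _) fun e => e ▸ (hzc d d.2).symm
      by_cases hx' : x ∈ Q₁
      · exact k0 x hx'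
      · have := hc'.inv_left.mul_left (k0 _ (mul _ i1 t ht x hx htQ hx'))
        rw [inv_mul_cancel_left] at this
        exact this
  rw [orderOf_mk] at k
  rcases (Nat.dvd_prime Nat.prime_two).1 (orderOf_dvd_of_pow_eq_one hz2) with e1 | e1
  · exact Or.inl (by rwa [e1] at k)
  · exact Or.inr (by rwa [e1] at k)

/-- Let a finite group G act faithfully and primitively on a set Ω, and suppose the stabilizer of a point a has an orbit of length 3. Then the stabilizer of a is isomorphic to one of: the cyclic group of order 3, the symmetric group of degree 3, the dihedral group of order 12, the symmetric group of degree 4, or the direct product of the symmetric group of degree 4 with a group of order 2. -/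
theorem result {G Ω : Type*} [Group G] [Finite G] [MulAction G Ω] [FaithfulSMul G Ω] [Finite Ω]
    (hprim : MulAction.IsPreprimitive G Ω) (a b : Ω) (h3 : Nat.card (MulAction.orbit (MulAction.stabilizer G a) b) = 3) :
    Nonempty (MulAction.stabilizer G a ≃* Multiplicative (ZMod 3)) ∨ Nonempty (MulAction.stabilizer G a ≃* Equiv.Perm (Fin 3)) ∨
      Nonempty (MulAction.stabilizer G a ≃* DihedralGroup 6) ∨ Nonempty (MulAction.stabilizer G a ≃* Equiv.Perm (Fin 4)) ∨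
      Nonempty (MulAction.stabilizer G a ≃* Equiv.Perm (Fin 4) × Multiplicative (ZMod 2)) := by
  set M₁ := stabilizer G a with hM₁
  set M₂ := stabilizer G b with hM₂
  have cardB : ∀ M : Subgroup G, M₁ ⊓ M₂ ≤ M →
      Nat.card M = (M₁ ⊓ M₂).relIndex M * Nat.card (M₁ ⊓ M₂ : Subgroup G) := fun M hle => by
    rw [mul_comm, ← card_mul_index ((M₁ ⊓ M₂).subgroupOf M),
      Nat.card_congr (subgroupOfEquivOfLe hle).toEquiv]
    rfl
  have t1 : (M₁ ⊓ M₂).relIndex M₁ = 3 := by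
    rw [← h3, relIndex, inf_subgroupOf_left]
    exact (MulAction.index_stabilizer M₁ b).trans (Nat.card_coe_set_eq _).symm
  obtain ⟨g, hg⟩ := MulAction.exists_smul_eq G a b
  have e : M₂ = cj g M₁ := by
    rw [hM₂, ← hg]; exact stabilizer_smul_eq_stabilizer_map_conj g a
  have t2 : (M₁ ⊓ M₂).relIndex M₂ = 3 := by
    have a1 := cardB M₁ inf_le_left
    have a2 := cardB M₂ inf_le_right
    have a3 : Nat.card M₂ = Nat.card M₁ := by rw [e, card_cj]
    rw [a3, a1, t1] at a2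
    exact (Nat.eq_of_mul_eq_mul_right Nat.card_pos a2).symm
  have nle : ¬ M₂ ≤ M₁ := fun hle => by
    rw [inf_eq_right.2 hle, relIndex_self] at t2; omega
  have : Nontrivial Ω := ⟨⟨a, b, fun e => nle (by rw [hM₁, hM₂, e])⟩⟩
  have gen : M₁ ⊔ M₂ = ⊤ :=
    (IsPreprimitive.isCoatom_stabilizer_of_isPreprimitive G a).2 _ (left_lt_sup.2 nle)
  have core : ∀ N : Subgroup G, N ≤ M₁ ⊓ M₂ → N.Normal → N = ⊥ := by
    intro N hN hn
    rw [eq_bot_iff]
    intro x hx
    rw [mem_bot]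
    refine eq_of_smul_eq_smul (α := Ω) fun w => ?_
    obtain ⟨y, rfl⟩ := MulAction.exists_smul_eq G a w
    have : y⁻¹ * x * y ∈ stabilizer G a := (hN (hn.conj_mem' x hx y)).1
    rw [mem_stabilizer_iff, mul_smul, mul_smul, inv_smul_eq_iff] at this
    rw [this, one_smul]
  have two := two_of_three gen core t1 t2
  have c1 := cardB M₁ inf_le_left
  rw [t1] at c1
  have eQ : (pCoreOf 2 M₂).relIndex M₂ = (pCoreOf 2 M₁).relIndex M₁ := by
    rw [e, ← cj_pCoreOf, relIndex_cj]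
  rcases three_or_six inf_le_left t1 two with h | h
  · have : M₁ ⊓ M₂ = ⊥ := core _ le_rfl (by
      rw [← normalizer_eq_top_iff, eq_top_iff, ← gen]
      exact sup_le (normal_of_three inf_le_left t1 two h)
        (normal_of_three inf_le_right t2 two (eQ.trans h)))
    exact Or.inl ⟨mulEquivOfPrimeCardEq (p := 3) (by rw [c1, this, card_bot]) (by simp)⟩
  have hc : Cubic M₁ M₂ := ⟨gen, core, inferInstance, inferInstance, two, t1, t2, h, eQ.trans h⟩
  have adj := cg_adj_inl_inr (M₁ := M₁) (M₂ := M₂) 1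
  by_cases hp : IsCharP 2 M₁
  · have hC : CubicC M₁ M₂ := ⟨hc, hp, e ▸ hp.cj g⟩
    have k1 : Nv (Sum.inl ((1 : G) : G ⧸ M₁) : CosetVertex M₁ M₂) ↔
        Nv (Sum.inr ((1 : G) : G ⧸ M₂) : CosetVertex M₁ M₂) := by
      have e2 : Gv (g • (Sum.inl ((1 : G) : G ⧸ M₁) : CosetVertex M₁ M₂)) =
          Gv (Sum.inr ((1 : G) : G ⧸ M₂) : CosetVertex M₁ M₂) := by
        rw [Gv, Gv, stab_smul, cg_stabilizer_inl_one, cg_stabilizer_inr_one, e]
      have e3 : Nv (g • (Sum.inl ((1 : G) : G ⧸ M₁) : CosetVertex M₁ M₂)) ↔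
          Nv (Sum.inr ((1 : G) : G ⧸ M₂) : CosetVertex M₁ M₂) := by
        unfold Nv Zv Qv vertexZ vertexQ Gv
        rw [show stabilizer G _ = stabilizer G _ from e2]
      exact ⟨fun h => e3.1 (h.smul g), fun h => by simpa using (e3.2 h).smul g⁻¹⟩
    have hN : ∀ v : CosetVertex M₁ M₂, Nv v := by
      intro v
      have := hC.Nv_or_Nv adj
      rcases cg_vertex_cases v with ⟨x, rfl⟩ | ⟨x, rfl⟩
      · exact Nv.smul (by tauto) x
      · exact Nv.smul (by tauto) x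
    have := hC.iso_of_N hN adj
    rw [Gv, cg_stabilizer_inl_one] at this
    rcases this with ⟨h1, -⟩ | ⟨⟨φ⟩, -⟩
    · exact Or.inr (Or.inr (Or.inr (Or.inl h1)))
    · exact Or.inr (Or.inr (Or.inr (Or.inr ⟨φ.trans MulEquiv.prodComm⟩)))
  · rcases not_charP hc hp (fun h' => hp (by simpa [e, cj_inv_cj] using h'.cj g⁻¹)) with
      ⟨⟨φ⟩⟩ | h1
    · obtain ⟨ψ⟩ := S2759.nonempty_dihedral_three
      exact Or.inr (Or.inl ⟨φ.trans ψ.symm⟩)
    · exact Or.inr (Or.inr (Or.inl h1))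

end Cfsg.Agent.S3685
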