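import Mathlib
import Cfsg.Statements.S3711
import Cfsg.Agent.Phan.Four2
import Cfsg.Agent.Phan.Chain2

set_option autoImplicit false
open Cfsg

namespace Cfsg.Agent.S3711

/-- Recognition of unitary groups over the field with 4 elements from a weak Phan system. Let F be a field with 4 elements and n ≥ 4. Let G be a group with subgroups U_0, …, U_{n−1}, each isomorphic to SU(2, 4), and, for consecutive indices, subgroups V_{i,i+1} in which U_i and U_{i+1} form a standard pair (via an isomorphism from SU(3, 4) or PSU(3, 4) carrying the block-diagonal subgroups, or their images, onto U_i and U_{i+1}); suppose U_i and U_j commute elementwise whenever the indices differ by at least 2, that G is generated by the U_i and the V_{i,i+1}, that for each i the subgroup generated by V_{i,i+1} and V_{i+1,i+2} is a homomorphic image of SU(4, 4), that U_i and V_{j,j+1} commute elementwise whenever i ≤ j − 2 or i ≥ j + 3, and that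 V_{i,i+1} and V_{k,k+1} commute elementwise whenever k ≥ i + 3. Then G is a homomorphic image of SU(n+1, 4). (G is not assumed finite.) -/
theorem result {G : Type*} [Group G] (n : ℕ) (hn : 4 ≤ n)
    (F : Type*) [Field F] [Fintype F] (hF : Fintype.card F = 4)
    (U : Fin n → Subgroup G) (e : ∀ i, ↥(Cfsg.SU 2 F 2) ≃* ↥(U i))
    (V : Fin n → Fin n → Subgroup G)
    (h1 : ∀ i j : Fin n, (i : ℕ) + 2 ≤ j → ∀ x ∈ U i, ∀ y ∈ U j, x * y = y * x)
    (h2 : ∀ i j : Fin n, (i : ℕ) + 1 = j → Cfsg.IsStandardUnitaryPair (V i j) (U i) (U j) F 2)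
    (hgen : (⨆ i, U i) ⊔ (⨆ (i : Fin n) (j : Fin n) (_ : (i : ℕ) + 1 = j), V i j) = ⊤)
    (h4 : ∀ i j k : Fin n, (i : ℕ) + 1 = j → (j : ℕ) + 1 = k →
      ∃ g : ↥(Cfsg.SU 4 F 2) →* ↥(V i j ⊔ V j k), Function.Surjective g)
    (h5 : ∀ i j k : Fin n, (j : ℕ) + 1 = k → ((i : ℕ) + 2 ≤ j ∨ (k : ℕ) + 2 ≤ i) →
      ∀ x ∈ U i, ∀ y ∈ V j k, x * y = y * x)
    (h6 : ∀ i j k l : Fin n, (i : ℕ) + 1 = j → (k : ℕ) + 1 = l → (j : ℕ) + 2 ≤ k →
      ∀ x ∈ V i j, ∀ y ∈ V k l, x * y = y * x) :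
    ∃ f : ↥(Cfsg.SU (n + 1) F 2) →* G, Function.Surjective f := by
  obtain ⟨σ, hq⟩ := Cl.exists_uField (q := 2) hF
  let U' : ℕ → Subgroup G := fun i => if h : i < n then U ⟨i, h⟩ else ⊥
  let V' : ℕ → Subgroup G := fun i => if h : i + 1 < n then V ⟨i, by omega⟩ ⟨i + 1, h⟩ else ⊥
  have hU : ∀ i (h : i < n), U' i = U ⟨i, h⟩ := fun i h => dif_pos h
  have hV : ∀ i (h : i + 1 < n), V' i = V ⟨i, by omega⟩ ⟨i + 1, h⟩ := fun i h => dif_pos h
  obtain ⟨ρ, hρ, hc⟩ := Cfsg.Agent.Phan.exists_chain hq (n - 1) U' V'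
    (fun i hi => by
      rw [hU i (by omega), hU (i + 2) (by omega)]; exact h1 _ _ le_rfl)
    (fun i hi => by
      rw [hU i (by omega), hU (i + 1) (by omega), hV i (by omega)]; exact h2 _ _ rfl)
  have st : ∀ i (h : i + 1 < n), Cfsg.Agent.Phan.StdU hq (ρ i) (U ⟨i, by omega⟩) (U ⟨i + 1, h⟩)
      (V ⟨i, by omega⟩ ⟨i + 1, h⟩) := fun i h => by
    have := hρ i (by omega)
    rwa [hU i (by omega), hU (i + 1) h, hV i h] at this
  obtain ⟨f, hf⟩ := Cfsg.Agent.Phan.exists_hom_chain2 hq (N := n + 1) (by omega) ρ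
    (fun i hi => by
      obtain ⟨g, hg⟩ := h4 ⟨i, by omega⟩ ⟨i + 1, by omega⟩ ⟨i + 1 + 1, by omega⟩ rfl rfl
      exact Cfsg.Agent.Phan.four_two hq (st i (by omega)) (st (i + 1) (by omega)) (hc i (by omega))
        (h1 _ _ le_rfl) ((Subgroup.subtype _).comp g) (by
          rw [MonoidHom.range_comp, MonoidHom.range_eq_top.2 hg, ← MonoidHom.range_eq_map,
            Subgroup.range_subtype]))
    (fun i k hik hk s t => h5 ⟨i, by omega⟩ ⟨k, by omega⟩ ⟨k + 1, by omega⟩ rfl (Or.inl hik) _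
      ((st i (by omega)).up_mem s) _ ((st k (by omega)).rV.le ⟨t, rfl⟩))
    (fun i k hik hk s t => h6 ⟨i, by omega⟩ ⟨i + 1, by omega⟩ ⟨k, by omega⟩ ⟨k + 1, by omega⟩ rfl
      rfl hik _ ((st i (by omega)).rV.le ⟨s, rfl⟩) _ ((st k (by omega)).rV.le ⟨t, rfl⟩))
    (fun i hi s t => (h5 ⟨i + 2 + 1, by omega⟩ ⟨i, by omega⟩ ⟨i + 1, by omega⟩ rfl (Or.inr le_rfl) _
      ((st (i + 2) (by omega)).lo_mem t) _ ((st i (by omega)).rV.le ⟨s, rfl⟩)).symm)
  refine ⟨f, MonoidHom.range_eq_top.1 (eq_top_iff.2 ?_)⟩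
  rw [← hgen]
  refine sup_le (iSup_le fun i => ?_) (iSup_le fun i => iSup₂_le fun j hij => ?_)
  · obtain ⟨i, hi⟩ := i
    intro x hx
    by_cases h : i + 1 < n
    · obtain ⟨s, rfl⟩ := (st i h).exists_up hx
      exact hf i (by omega) ⟨_, rfl⟩
    · obtain ⟨j, rfl⟩ : ∃ j, i = j + 1 := ⟨i - 1, by omega⟩
      obtain ⟨s, rfl⟩ := (st j hi).exists_lo hx
      exact hf j (by omega) ⟨_, rfl⟩
  · obtain ⟨j, hj⟩ := j
    obtain rfl : i + 1 = j := hij
    rw [← (st i hj).rV]; exact hf i (by omega)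

end Cfsg.Agent.S3711
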