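import Cfsg.Statements.S3726
import Mathlib
import Cfsg.Agent.Perm.TwoTools
import Cfsg.Agent.Perm.Derange
import Cfsg.Agent.Perm.ZassOdd
import Cfsg.Agent.Perm.Witt
import Cfsg.Agent.S0339
import Cfsg.Agent.S1225
import Cfsg.Agent.S1230
import Cfsg.Agent.Inv.SylowElt
-- import your own Cfsg.Agent.* helpers here

set_option autoImplicit false
open Cfsg

namespace Cfsg.Agent.S3726

open Subgroup MulAction Finset Perm Perm.Der Perm.TT

section
variable {G Ω : Type*} [Group G] [Finite G] [Fintype Ω] [MulAction G Ω] [FaithfulSMul G Ω]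

theorem swap_conj (h2 : IsMultiplyPretransitive G Ω 2) {i : ℕ} {t : G} (ht : orderOf t = 2)
    (hC : ∀ g : G, Commute g t → g ≠ 1 → fix Ω g = i) {s : G} {b c : Ω} (hbc : b ≠ c)
    (h1 : s • b = c) (h3 : s • c = b) : ∃ g : G, g⁻¹ * t * g = s := by
  classical
  have := Fintype.ofFinite G
  have ht1 : t ≠ 1 := by rintro rfl; simp at ht
  have htt : t * t = 1 := by rw [← pow_two, ← ht, pow_orderOf_eq_one]
  set C := centralizer ({t} : Set G)
  set H := stabilizer G b ⊓ stabilizer G c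
  have hi := hC t (Commute.refl t) ht1
  have e1 := sum_fix Ω (G := C)
  rw [← add_sum_erase _ _ (mem_univ 1), sum_const_nat (m := i) (f := fun g : C => fix Ω g) fun g hg => hC g
    (mem_centralizer_singleton_iff.1 g.2) (by simpa using hg), fix_one, card_erase_of_mem
    (mem_univ _), card_univ, ← Nat.card_eq_fintype_card] at e1
  have e2 : #{x : Ω | t • x ≠ x} + i = Nat.card Ω := by
    rw [← hi, fix_eq_card_filter, add_comm, card_filter_add_card_filter_not, card_univ,
      Nat.card_eq_fintype_card]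
  have e3 : 0 < #{x : Ω | t • x ≠ x} := by
    obtain ⟨x, hx⟩ := exists_smul_ne (X := Ω) ht1
    exact card_pos.2 ⟨x, by simpa using hx⟩
  have e4 : Nat.card C ≤ #{x : Ω | t • x ≠ x} := by
    refine Nat.le_of_dvd e3 ((Nat.dvd_add_left (dvd_mul_right (Nat.card C) i)).1 ?_)
    obtain ⟨k, hk⟩ : ∃ k, Nat.card C = k + 1 := ⟨_, (Nat.succ_pred_eq_of_pos Nat.card_pos).symm⟩
    rw [hk, Nat.add_sub_cancel, ← e2] at e1
    rw [hk, add_mul, one_mul, add_comm (k * i), ← add_assoc, e1]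
    exact dvd_mul_left _ _
  have e5 := mul_card_image_le_card_of_maps_to (s := {g : G | t • g • b = g • c})
    (t := {x : Ω | t • x ≠ x}) (f := fun g => g • b)
    (fun g hg => by
      simp only [mem_filter, mem_univ, true_and] at hg ⊢
      rw [hg]; exact (MulAction.injective g).ne hbc.symm) (Nat.card H) fun x hx => by
      obtain ⟨g, h4, h5⟩ := exists_smul_eq_two h2 hbc (Ne.symm (mem_filter.1 hx).2)
      rw [Nat.card_eq_fintype_card, ← card_univ]
      exact card_le_card_of_injOn (fun k => g * k) (fun k _ => by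
        have h6 : (k : G) • b = b := k.2.1
        have h7 : (k : G) • c = c := k.2.2
        simp [mul_smul, h6, h7, h4, h5]) fun k _ k' _ e => by simpa using e
  have e6 := card_le_mul_card_image (f := fun g => g⁻¹ * t * g) {g : G | t • g • b = g • c}
    (Nat.card C) fun a ha => by
      obtain ⟨g, -, rfl⟩ := mem_image.1 ha
      rw [Nat.card_eq_fintype_card, Fintype.card_subtype]
      refine card_le_card_of_injOn (fun k => k * g⁻¹) (fun k hk => ?_) fun k _ k' _ e => by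
        simpa using e
      have h6 : k⁻¹ * t * k = g⁻¹ * t * g := (mem_filter.1 hk).2
      simp only [coe_filter, mem_univ, true_and, Set.mem_ofPred_eq]
      rw [mem_centralizer_singleton_iff]
      calc k * g⁻¹ * t = k * (g⁻¹ * t * g) * g⁻¹ := by group
        _ = t * (k * g⁻¹) := by rw [← h6]; group
  have e7 : #{u : G | u • b = c ∧ u • c = b} ≤ Nat.card H := by
    rw [Nat.card_eq_fintype_card, Fintype.card_subtype]
    refine card_le_card_of_injOn (fun k => s * k) (fun k hk => ?_) fun k _ k' _ e => by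
      simpa using e
    obtain ⟨h4, h5⟩ := (mem_filter.1 hk).2
    simp only [coe_filter, mem_univ, true_and, Set.mem_ofPred_eq]
    exact ⟨by change _ • _ = _; rw [mul_smul, h4, h3], by change _ • _ = _; rw [mul_smul, h5, h1]⟩
  have e8 := eq_of_subset_of_card_le (s := image (fun g => g⁻¹ * t * g) {g : G | t • g • b = g • c})
    (t := {u : G | u • b = c ∧ u • c = b}) (fun a ha => by
      obtain ⟨g, hg, rfl⟩ := mem_image.1 ha
      have h4 := (mem_filter.1 hg).2
      simp only [mem_filter, mem_univ, true_and, mul_smul, inv_smul_eq_iff]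
      exact ⟨h4, by rw [← h4, ← mul_smul, htt, one_smul]⟩)
    (e7.trans (Nat.le_of_mul_le_mul_left (by
      rw [mul_comm]; exact e5.trans (e6.trans (Nat.mul_le_mul_right _ e4))) e3))
  obtain ⟨g, -, hg⟩ := mem_image.1 (e8.ge (mem_filter.2 ⟨mem_univ s, h1, h3⟩))
  exact ⟨g, hg⟩

/-- The standing hypothesis. -/
structure Hy (G Ω : Type*) [Group G] [MulAction G Ω] (i : ℕ) : Prop where
  two : IsMultiplyPretransitive G Ω 2
  swap : ∀ (s : G) (b c : Ω), b ≠ c → s • b = c → s • c = b → s * s = 1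
  conj : ∀ s t : G, s ≠ 1 → s * s = 1 → t ≠ 1 → t * t = 1 → IsConj s t
  cen : ∀ g t : G, t ≠ 1 → t * t = 1 → Commute g t → g ≠ 1 → {x : Ω | g • x = x}.ncard = i

namespace Hy

variable {i : ℕ} (h : Hy G Ω i)
include h

omit [Finite G] [Fintype Ω] [FaithfulSMul G Ω]

theorem inv {s k : G} {b c : Ω} (hbc : b ≠ c) (h1 : s • b = c) (h2 : s • c = b) (h3 : k • b = b)
    (h4 : k • c = c) : s * k * s = k⁻¹ := by
  have := h.swap (s * k) b c hbc (by rw [mul_smul, h3, h1]) (by rw [mul_smul, h4, h2])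
  rw [eq_inv_iff_mul_eq_one, ← this, mul_assoc]

theorem exists_swap {b c : Ω} (hbc : b ≠ c) : ∃ s : G, s • b = c ∧ s • c = b ∧ s * s = 1 := by
  obtain ⟨s, h1, h2⟩ := exists_smul_eq_two h.two hbc hbc.symm
  exact ⟨s, h1, h2, h.swap s b c hbc h1 h2⟩

theorem comm {k l : G} {b c : Ω} (hbc : b ≠ c) (h1 : k • b = b) (h2 : k • c = c) (h3 : l • b = b)
    (h4 : l • c = c) : Commute k l := by
  obtain ⟨s, h5, h6, h7⟩ := h.exists_swap hbc
  have e := h.inv hbc h5 h6 (k := l * k) (by rw [mul_smul, h1, h3]) (by rw [mul_smul, h2, h4])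
  rw [show s * (l * k) * s = s * l * (s * s) * k * s by rw [h7]; group,
    show s * l * (s * s) * k * s = s * l * s * (s * k * s) by group, h.inv hbc h5 h6 h1 h2,
    h.inv hbc h5 h6 h3 h4, ← mul_inv_rev, inv_inj] at e
  exact e

theorem fix_of_comm {g u : G} (hg : g * g ≠ 1) (hu : u * u = 1) (hc : Commute g u) {x : Ω}
    (hx : g • x = x) : u • x = x := by
  by_contra hne
  have := h.inv (Ne.symm hne) rfl (by rw [← mul_smul, hu, one_smul]) hx
    (by rw [← mul_smul, hc.eq, mul_smul, hx])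
  rw [← hc.eq, mul_assoc, hu, mul_one, eq_inv_iff_mul_eq_one] at this
  exact hg this

theorem sq_eq_one [Finite Ω] {u : G} (hu1 : u ≠ 1) (hu : u * u = 1) {a b c : Ω} (hab : a ≠ b)
    (hbc : b ≠ c) (hac : a ≠ c) (ha : u • a = a) (hb : u • b = b) (hc : u • c = c) (x : G)
    (hx : Commute x u) : x * x = 1 := by
  have h1 : ∀ x, Commute x u → x * x ≠ 1 → ∀ y : Ω, u • y = y → x • y = y := fun x hx h1 y hy => by
    have := Set.eq_of_subset_of_ncard_le (s := {y : Ω | x • y = y}) (t := {y : Ω | u • y = y})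
      (fun y hy => h.fix_of_comm h1 hu hx hy) (by
        rw [h.cen u u hu1 hu (Commute.refl u) hu1, h.cen x u hu1 hu hx (by rintro rfl; simp at h1)])
    exact this.ge hy
  by_contra hx2
  have h3 : ∀ {s : G} {y z : Ω}, y ≠ z → u • y = y → u • z = z → s • y = z → s • z = y →
      Commute s u := fun {s y z} hyz hy hz e1 e2 => by
    have := h.inv hyz e1 e2 hy hz
    rw [inv_eq_of_mul_eq_one_right hu, ← eq_mul_inv_iff_mul_eq,
      inv_eq_of_mul_eq_one_right (h.swap s y z hyz e1 e2)] at this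
    exact this
  obtain ⟨s, s1, s2, s3⟩ := h.exists_swap hab
  obtain ⟨r, r1, r2, r3⟩ := h.exists_swap hac
  have hs := h3 hab ha hb s1 s2
  have hsr := hs.mul_left (h3 hac ha hc r1 r2)
  have h4 : (s * r) • a ≠ a := fun e => hbc (by
    rw [mul_smul, r1, ← s2] at e
    exact (MulAction.injective s e).symm)
  have h5 : s * r * (s * r) = 1 := by
    by_contra hh
    exact h4 (h1 _ hsr hh a ha)
  have e1 := h.inv hab s1 s2 (h1 x hx hx2 a ha) (h1 x hx hx2 b hb)
  have e2 := h.inv hac r1 r2 (h1 x hx hx2 a ha) (h1 x hx hx2 c hc)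
  have e3 := h.inv h4.symm rfl (by rw [← mul_smul, h5, one_smul]) (h1 x hx hx2 a ha)
    (h1 x hx hx2 _ (by rw [← mul_smul, ← hsr.eq, mul_smul, ha]))
  have e4 : s * r = r * s := by
    rw [← inv_eq_of_mul_eq_one_right h5, mul_inv_rev, inv_eq_of_mul_eq_one_right s3,
      inv_eq_of_mul_eq_one_right r3]
  nth_rw 2 [e4] at e3
  rw [show s * r * x * (r * s) = s * (r * x * r) * s by group, e2, ← inv_inj, mul_inv_rev,
    mul_inv_rev, inv_inv, inv_eq_of_mul_eq_one_right s3, ← mul_assoc, e1] at e3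
  exact hx2 (inv_eq_iff_mul_eq_one.1 e3)

end Hy

theorem orderOf_two {s : G} (h1 : s ≠ 1) (h2 : s * s = 1) : orderOf s = 2 :=
  orderOf_eq_prime (by rwa [pow_two]) h1

theorem of_orderOf {s : G} (h : orderOf s = 2) : s ≠ 1 ∧ s * s = 1 :=
  ⟨by rintro rfl; simp at h, by rw [← pow_two, ← h, pow_orderOf_eq_one]⟩

theorem eq_of_cyc {T : Subgroup G} (h : IsCyclic T) {a b : G} (ha : a ∈ T) (hb : b ∈ T)
    (h1 : a * a = 1) (h2 : b * b = 1) (h3 : a ≠ 1) (h4 : b ≠ 1) : a = b := by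
  classical
  have := Fintype.ofFinite T
  by_contra hne
  have h5 := IsCyclic.card_pow_eq_one_le (α := T) two_pos
  exact h5.not_gt (two_lt_card_iff.2 ⟨⟨a, ha⟩, ⟨b, hb⟩, 1, by simpa [pow_two, Subtype.ext_iff],
    by simpa [pow_two, Subtype.ext_iff], by simp, by simpa, by simpa, by simpa⟩)

theorem Hy.even_case {i : ℕ} (h : Hy G Ω i) (hR : ¬ HasReg G Ω) {u : G} (hu1 : u ≠ 1)
    (hu : u * u = 1) {a b c : Ω} (hab : a ≠ b)
    (hbc : b ≠ c) (hac : a ≠ c) (ha : u • a = a) (hb : u • b = b) (hc : u • c = c) :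
    ∃ (F : Type) (_ : Field F) (_ : Fintype F),
      Nonempty (G ≃* Matrix.ProjectiveSpecialLinearGroup (Fin 2) F) := by
  have := h.two
  have : IsPreprimitive G Ω := isPreprimitive_of_is_two_pretransitive h.two
  have h1 : ∀ t : G, t ≠ 1 → t * t = 1 → ∀ x, Commute x t → x * x = 1 := fun t h1 h2 x hx => by
    obtain ⟨g, rfl⟩ := isConj_iff.1 (h.conj u t hu1 hu h1 h2)
    have := h.sq_eq_one hu1 hu hab hbc hac ha hb hc (g⁻¹ * x * g) (by
      have := hx.eq
      rw [Commute, SemiconjBy]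
      calc g⁻¹ * x * g * u = g⁻¹ * (x * (g * u * g⁻¹)) * g := by group
        _ = u * (g⁻¹ * x * g) := by rw [this]; group)
    rw [show g⁻¹ * x * g * (g⁻¹ * x * g) = g⁻¹ * (x * x) * g by group] at this
    simpa [mul_eq_one_iff_eq_inv, inv_mul_eq_iff_eq_mul] using this
  have h3 : ∀ t : G, t ≠ 1 → t * t = 1 → ∀ x y, Commute x t → Commute y t → x * y = y * x :=
    fun t h2 h3 x y hx hy => by
      rw [← inv_eq_of_mul_eq_one_right (h1 t h2 h3 _ (hx.mul_left hy)), mul_inv_rev,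
        inv_eq_of_mul_eq_one_right (h1 t h2 h3 _ hx), inv_eq_of_mul_eq_one_right (h1 t h2 h3 _ hy)]
  have hP : IsPGroup 2 (centralizer ({u} : Set G)) := fun x => ⟨1, Subtype.ext (by
    simpa [pow_two] using h1 u hu1 hu x (mem_centralizer_singleton_iff.1 x.2))⟩
  obtain ⟨T, hT⟩ := hP.exists_le_sylow
  have huT : u ∈ (T : Subgroup G) := hT (mem_centralizer_singleton_iff.2 rfl)
  obtain ⟨z, hz, hz2, hzc⟩ := Inv.exists_central_of_isPGroup T.isPGroup'
    (ne_bot_iff_exists_ne_one.2 ⟨⟨u, huT⟩, by simpa using hu1⟩)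
  obtain ⟨F, _, _, -, hF⟩ := S1230.result T (fun hc => by
      obtain ⟨s, s1, s2, s3⟩ := h.exists_swap hab
      have e := h.inv hab s1 s2 ha hb
      rw [inv_eq_of_mul_eq_one_right hu, ← eq_mul_inv_iff_mul_eq,
        inv_eq_of_mul_eq_one_right s3] at e
      have hs := hT (mem_centralizer_singleton_iff.2 e)
      have hs1 : s ≠ 1 := by rintro rfl; exact hab (by simpa using s1)
      exact hab (by rw [← s1, eq_of_cyc hc hs huT s3 hu hs1 hu1, ha]))
    (fun hn => hR (hasReg_of_comm (T : Subgroup G)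
      (ne_bot_iff_exists_ne_one.2 ⟨⟨u, huT⟩, by simpa using hu1⟩) fun x hx y hy =>
        h3 z (of_orderOf hz2).1 (of_orderOf hz2).2 x y (hzc x hx) (hzc y hy)))
    fun t ht => ⟨⟨⟨fun x y => Subtype.ext (h3 t (of_orderOf ht).1 (of_orderOf ht).2 x y
      (mem_centralizer_singleton_iff.1 x.2) (mem_centralizer_singleton_iff.1 y.2))⟩⟩,
      fun x hx => by
        rw [pow_two]
        exact h1 t (of_orderOf ht).1 (of_orderOf ht).2 x (mem_centralizer_singleton_iff.1 hx)⟩
  exact ⟨F, inferInstance, inferInstance, hF⟩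

theorem Hy.odd_case {i : ℕ} (h : Hy G Ω i)
    (hi : ∀ u : G, u * u = 1 → ∀ a b : Ω, a ≠ b → u • a = a → u • b = b → u = 1) {k : G}
    (hk : k ≠ 1) {a b c : Ω} (hab : a ≠ b) (hbc : b ≠ c) (hac : a ≠ c) (ha : k • a = a)
    (hb : k • b = b) (hc : k • c = c) : HasReg G Ω := by
  have := h.two
  have : IsPreprimitive G Ω := isPreprimitive_of_is_two_pretransitive h.two
  have hk2 : k * k ≠ 1 := fun e => hk (hi k e a b hab ha hb)
  have h1 : ∀ u, u * u = 1 → Commute k u → u = 1 := fun u hu hc =>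
    hi u hu a b hab (h.fix_of_comm hk2 hu hc ha) (h.fix_of_comm hk2 hu hc hb)
  have odd : ∀ K : Subgroup G, (∀ u ∈ K, u * u = 1 → u = 1) → Odd (Nat.card K) := fun K hK => by
    by_contra hh
    obtain ⟨u, hu⟩ := exists_prime_orderOf_dvd_card' 2 (Nat.not_odd_iff_even.1 hh).two_dvd
    rw [← orderOf_coe] at hu
    exact (of_orderOf hu).1 (hK u u.2 (of_orderOf hu).2)
  have h3 : ∀ {s : G} {x y : Ω}, x ≠ y → k • x = x → k • y = y → s • x = y → s • y = x →
      s * k = k⁻¹ * s := fun {s x y} hxy hx hy e1 e2 => by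
    rw [← h.inv hxy e1 e2 hx hy, mul_assoc, h.swap s x y hxy e1 e2, mul_one]
  have h4 : ∀ {s r : G}, s * k = k⁻¹ * s → r * k = k⁻¹ * r → s * r * k = k * (s * r) :=
    fun {s r} e1 e2 => by
      rw [mul_assoc, e2, ← mul_assoc, ← mul_assoc, mul_left_inj, mul_inv_eq_iff_eq_mul, mul_assoc,
        e1, mul_inv_cancel_left]
  have h5 : orbit (centralizer ({k} : Set G)) a = {x | k • x = x} := by
    ext x
    refine ⟨fun hx => ?_, fun hx => Fx.mem_orbit_sub.2 ?_⟩
    · obtain ⟨d, hd, rfl⟩ := Fx.mem_orbit_sub.1 hx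
      change _ • _ = _
      rw [← mul_smul, ← mem_centralizer_singleton_iff.1 hd, mul_smul, ha]
    by_cases hxa : x = a
    · exact ⟨1, one_mem _, by rw [one_smul, hxa]⟩
    obtain ⟨y, hy, hya, hyx⟩ : ∃ y, k • y = y ∧ a ≠ y ∧ y ≠ x := by
      by_cases e : b = x
      · exact ⟨c, hc, hac, e ▸ hbc.symm⟩
      · exact ⟨b, hb, hab, e⟩
    obtain ⟨s, s1, s2, -⟩ := h.exists_swap hyx
    obtain ⟨r, r1, r2, -⟩ := h.exists_swap hya
    exact ⟨s * r, mem_centralizer_singleton_iff.2 (h4 (h3 hyx hy hx s1 s2) (h3 hya ha hy r1 r2)),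
      by rw [mul_smul, r1, s1]⟩
  have h6 : ¬ 2 ∣ {x : Ω | k • x = x}.ncard := fun hh => by
    have := Fx.card_orbit_dvd (centralizer ({k} : Set G)) a
    rw [h5, Nat.card_coe_set_eq] at this
    exact Nat.not_even_iff_odd.2 (odd _ fun u hu e => h1 u e
      (mem_centralizer_singleton_iff.1 hu).symm) (even_iff_two_dvd.2 (hh.trans this))
  obtain ⟨s, s1, s2, s3⟩ := h.exists_swap hab
  have hs := h3 hab ha hb s1 s2
  have hs1 : s ≠ 1 := by rintro rfl; exact hab (by simpa using s1)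
  obtain ⟨x, hx, hsx⟩ := exists_fixed_of_pow (k := 1) Nat.prime_two (g := s) (by simpa [pow_two])
    {x : Ω | k • x = x} (Set.toFinite _) (fun x hx => by
      change _ • _ = _
      rw [← smul_left_cancel_iff k⁻¹, inv_smul_smul, ← mul_smul, ← hs, mul_smul,
        show k • x = x from hx]) h6
  obtain ⟨y, hy, hyx⟩ : ∃ y, k • y = y ∧ x ≠ y := by
    by_cases e : x = a
    · exact ⟨b, hb, e ▸ hab⟩
    · exact ⟨a, ha, e⟩
  obtain ⟨r, r1, r2, r3⟩ := h.exists_swap hyx
  have hr1 : r ≠ 1 := by rintro rfl; exact hyx (by simpa using r1)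
  have hmem : ∀ g d : G, d ∈ (stabilizer G x).map (MulAut.conj g).toMonoidHom →
      d • g • x = g • x := by
    rintro g _ ⟨d, hd, rfl⟩
    simp [mul_smul, mem_stabilizer_iff.1 hd]
  have hSE : IsStronglyEmbedded (stabilizer G x) :=
    ⟨fun e => hyx (((e ▸ mem_top r :) : r • x = x).symm.trans r1), by
      have := orderOf_dvd_natCard (⟨s, hsx⟩ : stabilizer G x)
      rw [← orderOf_coe, orderOf_two hs1 s3] at this
      exact even_iff_two_dvd.2 this,
    fun g hg => odd _ fun u hu e => hi u e x (g • x) (Ne.symm hg) hu.1 (hmem g u hu.2)⟩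
  refine hasReg_of_isolated (z := s) ⟨orderOf_two hs1 s3, fun g hg => ?_⟩
  set v := g * s * g⁻¹
  have hv1 : v ≠ 1 := by simpa [v] using hs1
  have hv : v * v = 1 := by simp [v, s3]
  have hvx : v • x = x := by
    by_contra hh
    exact hs1 (hi s s3 _ _ hh (by rw [← mul_smul, hg.eq, mul_smul, hsx]) hsx)
  obtain ⟨d, hd, e⟩ := (S1225.result _ hSE r (orderOf_two hr1 r3) (fun e => hyx
    ((mem_stabilizer_iff.1 e).symm.trans r1)) s v (orderOf_two hs1 s3) hsx (orderOf_two hv1 hv)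
    hvx).1
  have hdk := (h.comm hyx hd.1 (r1 ▸ hmem r d hd.2) hx hy).eq
  have h7 : v * k = k⁻¹ * v := by
    rw [← e]
    calc d * s * d⁻¹ * k = d * s * d⁻¹ * (k * d) * d⁻¹ := by group
      _ = d * (s * k) * d⁻¹ := by rw [← hdk]; group
      _ = k⁻¹ * (k * d) * k⁻¹ * s * d⁻¹ := by rw [hs]; group
      _ = k⁻¹ * (d * s * d⁻¹) := by rw [← hdk]; group
  have := h1 (s * v) (by rw [mul_assoc, ← mul_assoc v, ← hg.eq, mul_assoc, hv, mul_one, s3])
    (h4 hs h7).symm
  rw [← inv_eq_of_mul_eq_one_right this, inv_eq_of_mul_eq_one_right s3]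

theorem Hy.simple {i : ℕ} (h : Hy G Ω i) (hZ : IsZassenhausGroup G Ω) : IsSimpleGroup G := by
  obtain ⟨g, hg, a, b, hab, -⟩ := hZ.2.2.2.1
  have : Nontrivial G := ⟨⟨g, 1, hg⟩⟩
  refine ⟨fun N hN => or_iff_not_imp_left.2 fun h1 => eq_top_iff.2 fun g _ => ?_⟩
  have h3 := (S0339.result hZ N h1).2.1
  obtain ⟨u, hu⟩ := exists_prime_orderOf_dvd_card' 2
    (S0339.result hZ N h1).isZT.even_card.two_dvd
  rw [← orderOf_coe] at hu
  have h4 : ∀ s : G, s • a = b → s • b = a → s ∈ N := fun s s1 s2 => by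
    obtain ⟨c, rfl⟩ := isConj_iff.1 (h.conj u s (of_orderOf hu).1 (of_orderOf hu).2
      (by rintro rfl; exact hab (by simpa using s1)) (h.swap s a b hab s1 s2))
    exact hN.conj_mem _ u.2 c
  obtain ⟨n, n1, n2⟩ := exists_smul_eq_two h3 ((MulAction.injective g).ne hab) hab.symm
  have := h4 (n * g) (by rw [mul_smul]; exact n1) (by rw [mul_smul]; exact n2)
  exact (mul_mem_cancel_left n.2).1 this

end

/-- Let a finite group G act faithfully and 2-transitively on a finite set Ω, and suppose there is an involution t of G, fixing exactly i points, such that every non-identity element of the centralizer of t also fixes exactly i points. Then G is isomorphic to PSL₂(q) for some finite field of order q, or to a Suzuki group Sz(q) (q = 2^(2m+1) ≥ 8), or G has a normal subgroup acting regularly on Ω. -/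
theorem result {G Ω : Type*} [Group G] [Finite G] [Fintype Ω] [MulAction G Ω] [FaithfulSMul G Ω]
    (h2 : MulAction.IsMultiplyPretransitive G Ω 2) (i : ℕ) (t : G) (ht : orderOf t = 2)
    (hti : Nat.card {x : Ω // t • x = x} = i)
    (hC : ∀ g : G, Commute g t → g ≠ 1 → Nat.card {x : Ω // g • x = x} = i) :
    (∃ (F : Type) (_ : Field F) (_ : Fintype F), Nonempty (G ≃* Matrix.ProjectiveSpecialLinearGroup (Fin 2) F)) ∨
    Cfsg.Lie.IsoSuzuki G ∨
    (∃ R : Subgroup G, R.Normal ∧ (∀ x y : Ω, ∃ r ∈ R, r • x = y) ∧ ∀ x : Ω, ∀ r ∈ R, r • x = x → r = 1) := by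
  have hsw := fun s b c => @swap_conj G Ω _ _ _ _ _ h2 i t ht hC s b c
  have h0 : ∀ s : G, s ≠ 1 → s * s = 1 → ∃ g : G, g⁻¹ * t * g = s := fun s h1 h3 => by
    obtain ⟨x, hx⟩ := exists_smul_ne (X := Ω) h1
    exact hsw s x _ hx.symm rfl (by rw [← mul_smul, h3, one_smul])
  have h : Hy G Ω i := ⟨h2, fun s b c h1 h3 h4 => by
      obtain ⟨g, rfl⟩ := hsw s b c h1 h3 h4
      simp [mul_assoc, ← mul_assoc t, (of_orderOf ht).2],
    fun s u h1 h3 h4 h5 => by
      obtain ⟨g, rfl⟩ := h0 s h1 h3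
      obtain ⟨g', rfl⟩ := h0 u h4 h5
      exact isConj_iff.2 ⟨g'⁻¹ * g, by group⟩,
    fun g u h1 h3 h4 h5 => by
      obtain ⟨k, rfl⟩ := h0 u h1 h3
      rw [← hC (k * g * k⁻¹) (by
        rw [Commute, SemiconjBy]
        calc k * g * k⁻¹ * t = k * (g * (k⁻¹ * t * k)) * k⁻¹ := by group
          _ = t * (k * g * k⁻¹) := by rw [h4.eq]; group) (by simpa using h5)]
      exact Nat.card_congr (Equiv.subtypeEquiv (toPerm k) fun x => by simp [mul_smul])⟩
  by_cases hR : HasReg G Ω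
  · exact Or.inr (Or.inr hR)
  by_cases h3 : ∀ g : G, ∀ a b c : Ω, a ≠ b → b ≠ c → a ≠ c → g • a = a → g • b = b →
      g • c = c → g = 1
  · have hZ : IsZassenhausGroup G Ω := ⟨inferInstance, h2, h3, by
      by_contra hh
      obtain ⟨x, hx⟩ := exists_smul_ne (X := Ω) (of_orderOf ht).1
      have : Nontrivial Ω := ⟨⟨_, _, hx⟩⟩
      have : IsPretransitive G Ω := isPretransitive_of_is_two_pretransitive
      exact hR (hasReg_of_frobenius fun g a b hab ha hb => by
        by_contra h1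
        exact hh ⟨g, h1, a, b, hab, ha, hb⟩), fun N hN h1 => by
      by_contra hh
      exact hR (hasReg_iff.2 ⟨N, hN, h1, by simpa using hh⟩)⟩
    have := h.simple hZ
    rcases Zass.simple_classification hZ with ⟨F, _, _, -, hF⟩ | hF
    · exact Or.inl ⟨F, inferInstance, inferInstance, hF⟩
    · exact Or.inr (Or.inl hF)
  push Not at h3
  obtain ⟨k, a, b, c, hab, hbc, hac, ha, hb, hc, hk⟩ := h3
  by_cases hi : ∀ u : G, u * u = 1 → ∀ a b : Ω, a ≠ b → u • a = a → u • b = b → u = 1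
  · exact absurd (h.odd_case hi hk hab hbc hac ha hb hc) hR
  push Not at hi
  obtain ⟨u, hu, x, y, hxy, hx, hy, hu1⟩ := hi
  obtain ⟨g, rfl, rfl⟩ := exists_smul_eq_two h2 hxy hab
  have hv1 : g * u * g⁻¹ ≠ 1 := by simpa using hu1
  have hv : g * u * g⁻¹ * (g * u * g⁻¹) = 1 := by simp [hu]
  have e1 := h.cen k _ hv1 hv (h.comm hab ha hb (by simp [mul_smul, hx]) (by simp [mul_smul, hy])) hk
  have e2 := h.cen _ _ hv1 hv (Commute.refl _) hv1
  have e3 : 2 < {z : Ω | k • z = z}.ncard :=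
    (Set.two_lt_ncard_iff (Set.toFinite _)).2 ⟨_, _, _, ha, hb, hc, hab, hac, hbc⟩
  rw [e1, ← e2] at e3
  obtain ⟨a, b, c, ha, hb, hc, hab, hac, hbc⟩ := (Set.two_lt_ncard_iff (Set.toFinite _)).1 e3
  exact Or.inl (h.even_case hR hv1 hv hab hbc hac ha hb hc)

end Cfsg.Agent.S3726
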