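import Mathlib
import Cfsg.Statements.S3758
import Cfsg.Agent.S3759
import Cfsg.Agent.S0518
import Cfsg.Agent.GT.TransferSL23
import Cfsg.Agent.Inv.SmallTwo

set_option autoImplicit false
open Cfsg

namespace Cfsg.Agent.S3758

section
open Subgroup Cfsg.Agent.GT Cfsg.Agent.Loc Cfsg.Agent.Loc.Mss Cfsg.Agent.Loc.ZC Cfsg.Agent.Inv
  Cfsg.Agent.Inv.CS

/-- The normal four-group of `S₄`. -/
def v4 : Subgroup (Equiv.Perm (Fin 4)) where
  carrier := {σ | σ * σ = 1 ∧ Equiv.Perm.sign σ = 1}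
  one_mem' := by simp
  mul_mem' := by
    intro a b
    simp only [Set.mem_ofPred_eq]
    revert a b
    decide +kernel
  inv_mem' := by
    intro a
    simp only [Set.mem_ofPred_eq]
    revert a
    decide +kernel

theorem mem_v4 {σ : Equiv.Perm (Fin 4)} : σ ∈ v4 ↔ σ * σ = 1 ∧ Equiv.Perm.sign σ = 1 := Iff.rfl

theorem four_v4 : Four v4 := by
  refine ⟨⟨⟨⟨fun ⟨a, ha⟩ ⟨b, hb⟩ => Subtype.ext ?_⟩⟩, fun a ha => by rw [pow_two, ha.1]⟩, ?_⟩
  · change a * b = b * a
    rw [mem_v4] at ha hb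
    revert a b
    decide +kernel
  · rw [Nat.card_congr (Equiv.subtypeEquivRight fun _ => mem_v4), Nat.card_eq_fintype_card]
    decide +kernel

theorem norm_v4 : (⊤ : Subgroup (Equiv.Perm (Fin 4))) ≤ 𝐍[v4] := by
  have : v4.Normal := ⟨fun a ha g => by
    rw [mem_v4] at ha ⊢
    revert a g
    decide +kernel⟩
  exact le_normalizer_of_normal

theorem cent_v4 {g : Equiv.Perm (Fin 4)} (h : ∀ a ∈ v4, a * g = g * a) : g ∈ v4 := by
  simp only [mem_v4] at h ⊢
  revert g
  decide +kernel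

/-- Dihedral of order at least 4, or quasidihedral. -/
def DQ (K : Type*) [Group K] : Prop :=
  (∃ n : ℕ, 2 ≤ n ∧ Nonempty (K ≃* DihedralGroup n)) ∨ IsQuasiDihedral K

theorem DQ.of_equiv {K L : Type*} [Group K] [Group L] (e : K ≃* L) (h : DQ K) : DQ L :=
  h.imp (fun ⟨n, h1, ⟨f⟩⟩ => ⟨n, h1, ⟨e.symm.trans f⟩⟩) (Fz.isQuasiDihedral_of_equiv e)

variable {G : Type*} [Group G] [Finite G]

theorem dq_of_S4 {M : Subgroup G} (hM : IsMaximalTwoLocal M) (e : M ≃* Equiv.Perm (Fin 4)) :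
    ∃ P : Subgroup G, Syl 2 P ⊤ ∧ DQ P := by
  set f : Equiv.Perm (Fin 4) →* G := M.subtype.comp e.symm.toMonoidHom with hf
  have hi : Function.Injective f := M.subtype_injective.comp e.symm.injective
  have hV := four_v4.map hi
  have hs : ∀ m ∈ M, ∃ σ, f σ = m := fun m hm => ⟨e ⟨m, hm⟩, by simp [hf]⟩
  have hn : ∀ σ, f σ ∈ 𝐍[v4.map f] := fun σ =>
    le_normalizer_map f (mem_map_of_mem f (norm_v4 (mem_top σ)))
  have h1 : 𝐍[v4.map f] = M := hM.2 _ ⟨_, hV.isPGroup, fun e => by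
    have := hV.2; rw [e, card_bot] at this; omega, rfl⟩ fun m hm => by
      obtain ⟨σ, rfl⟩ := hs m hm
      exact hn σ
  have h2 : 𝐂[v4.map f] ≤ v4.map f := fun x hx => by
    obtain ⟨σ, rfl⟩ := hs x (h1 ▸ cent_le_norm _ hx)
    exact mem_map_of_mem f (cent_v4 fun a ha => hi (by
      rw [map_mul, map_mul]; exact mem_cent.mp hx _ (mem_map_of_mem f ha)))
  have ht : IsPGroup 2 (zpowers (f (Equiv.swap 0 1))) := IsPGroup.of_card_dvd_pow (n := 1) (by
    rw [Nat.card_zpowers]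
    exact orderOf_dvd_of_pow_eq_one (by rw [← map_pow, pow_one, pow_two]; simp))
  obtain ⟨P, hP, hP'⟩ := Syl.exists_ge (pg_sup ht hV.isPGroup (zpowers_le.mpr (hn _)))
    (le_top : _ ≤ (⊤ : Subgroup G))
  have hVP := le_sup_right.trans hP
  have hV' := hV.subgroupOf hVP
  obtain ⟨m, a, b, hm⟩ := PG.exists_maxTwo_of_self_centralizing hP'.pg hV'.2
    (fun x hx => h2 (mem_cent.mpr fun y hy => congrArg Subtype.val
      (mem_cent.mp hx ⟨y, hVP hy⟩ hy))) fun e => by
    obtain ⟨σ, h3, h4⟩ := subgroupOf_eq_top.mp e (hP (mem_sup_left (mem_zpowers _)))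
    rw [hi h4] at h3
    exact absurd (mem_v4.mp h3).2 (by decide)
  refine ⟨P, hP', ?_⟩
  rcases hm.cases with h3 | ⟨⟨g⟩⟩ | h3
  · exact Or.inl ⟨_, by rw [pow_succ]; have := Nat.two_pow_pos m; omega, h3⟩
  · exact absurd (Tr.pRankLE_one_quaternion.of_injective g.toMonoidHom g.injective)
      (CG.not_pRankLE_of_le (k := 1) hV.1 hVP hV.2.ge)
  · exact Or.inr h3.2

theorem se_equiv {K L : Type*} [Group K] [Group L] [Finite K] [Finite L] (e : K ≃* L)
    {M : Subgroup K} (h : IsStronglyEmbedded M) :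
    IsStronglyEmbedded (M.map e.toMonoidHom) := by
  obtain ⟨h1, h2, h3⟩ := isStronglyEmbedded_iff.mp h
  refine isStronglyEmbedded_iff.mpr ⟨fun e' => h1 ?_, by
    rwa [card_map_of_injective e.injective], ?_⟩
  · rw [← comap_map_eq_self_of_injective (f := e.toMonoidHom) e.injective M]
    exact e' ▸ comap_top _
  · rintro _ ⟨t, ht, rfl⟩ ht2 g ⟨x, hx, hx'⟩
    obtain ⟨g, rfl⟩ := e.surjective g
    refine mem_map_of_mem _ (h3 t ht (by rw [← ht2]; exact (e.orderOf_eq t).symm) g ?_)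
    rwa [← e.injective (hx'.trans (by simp) : e x = e (g * t * g⁻¹))]

theorem main (hev : Even (Nat.card G)) (hN : ∀ L : Subgroup G, IsTwoLocal L → Group.IsSolvable L)
    (hZ : ∀ S : Sylow 2 G, 𝐂[Am.omZ 2 (S : Subgroup G)] ≤ 𝐍[(S : Subgroup G)])
    (hO' : pPrimeCore 2 G = ⊥) (hO : pCore 2 G = ⊥) (S : Sylow 2 G) {K : Subgroup G}
    (hK : pResidual 2 G ⊔ Am.omZ 2 (S : Subgroup G) = K) (h : IsCharacteristicTwoType K) :
    (∃ M : Subgroup (pResidual 2 G), IsStronglyEmbedded M) ∨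
      DQ ((S : Subgroup G) ⊓ pResidual 2 G : Subgroup G) := by
  have hn : K.Normal := hK ▸ S3759.normal_sup S
    (le_normalizer.trans (Am.normalizer_le_normalizer_omZ 2 _))
  have hHK : pResidual 2 G ≤ K := hK ▸ le_sup_left
  have em := Tr.map_pResidual_of_le hHK
  let e : pResidual 2 K ≃* pResidual 2 G :=
    (equivMapOfInjective _ _ K.subtype_injective).trans (MulEquiv.subgroupCongr em)
  have hev' : Even (Nat.card (pResidual 2 K)) := by
    rw [Nat.card_congr e.toEquiv]; exact S3759.even_res hev hO' hO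
  have hOK : pCore 2 K = ⊥ := by
    rw [← map_eq_bot_iff_of_injective _ K.subtype_injective]
    exact (pCoreOf_eq_inf K).trans (by rw [hO, bot_inf_eq])
  rcases S0518.result h hOK (fun N ⟨T, h1, h2, h3⟩ => by
    have := hN _ ⟨T.map K.subtype, h1.map _, fun e => h2
      ((map_eq_bot_iff_of_injective _ K.subtype_injective).mp e), rfl⟩
    refine Group.isSolvable_of_isSolvable_injective (G' := 𝐍[T.map K.subtype])
      (f := (K.subtype.comp (Subgroup.subtype _)).codRestrict _ fun x =>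
        le_normalizer_map K.subtype (mem_map_of_mem _ (h3 ▸ x.2))) fun x y h => ?_
    have := congrArg Subtype.val h
    exact Subtype.ext (Subtype.ext this)) (fun T x hx => by
      have h1 := Syl.of_sylow_sub T
      obtain ⟨S', hS'⟩ := h1.pg.exists_le_sylow
      have h2 := (Syl.of_sylow S').inf (M := K) le_top le_normalizer_of_normal
      have h3 := h1.eq_of_le h2.pg (le_inf hS' h1.le) inf_le_right
      obtain ⟨g, -, hg⟩ := (Syl.of_sylow S).conj_eq (Syl.of_sylow S')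
      have h4 : Am.omZ 2 (S' : Subgroup G) ≤ K := by
        rw [← hg, ← Am.cj_omZ]
        exact (cj_mono g (hK ▸ le_sup_right)).trans (cj_of_norm (le_normalizer_of_normal
          (mem_top g))).le
      rw [normalizer_eq_subgroupOf, ← h3]
      refine norm_inf (zpowers_le.mpr (hZ S' (mem_cent.mpr fun y hy => ?_)))
        le_normalizer_of_normal (mem_zpowers _)
      obtain ⟨h5, h6, h7⟩ := Am.mem_omZ.mp hy
      obtain ⟨y', hy', rfl⟩ := h3.le ⟨h5, h4 hy⟩
      exact congrArg Subtype.val (mem_centralizer_iff.mp hx y' ⟨hy', Subtype.ext h7,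
        fun s hs => Subtype.ext (mem_cent.mp h6 s (hS' (mem_map_of_mem _ hs)))⟩))
      (pResidual 2 K) (by simp [pResidual]) with ⟨M, hM⟩ | ⟨M, -, -, h1, -, ⟨f⟩, -⟩
  · exact Or.inl ⟨_, se_equiv e (S3759.se_res hM hev')⟩
  · obtain ⟨P, h2, h3⟩ := dq_of_S4 h1 f
    set φ := (pResidual 2 G).subtype.comp e.toMonoidHom
    have hφ : Function.Injective φ := (subtype_injective _).comp e.injective
    have h4 := h2.map φ
    have h5 : map φ ⊤ = pResidual 2 G := by
      rw [← map_map, map_top_of_surjective e.toMonoidHom e.surjective, ← MonoidHom.range_eq_map,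
        range_subtype]
    rw [h5] at h4
    obtain ⟨g, -, hg⟩ := h4.conj_eq ((Syl.of_sylow S).inf (M := pResidual 2 G) le_top
      le_normalizer_of_normal)
    exact Or.inr (h3.of_equiv (((equivMapOfInjective _ _ hφ).trans
      (equivMapOfInjective _ _ (cj_inj g))).trans (MulEquiv.subgroupCongr hg)))

omit [Finite G] in
theorem solv (hN : ∀ L : Subgroup G, IsTwoLocal L → Group.IsSolvable L) (t : G)
    (ht : orderOf t = 2) : Group.IsSolvable (centralizer ({t} : Set G)) := by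
  have := hN _ ⟨zpowers t, IsPGroup.of_card (n := 1) (by rw [Nat.card_zpowers, ht, pow_one]),
    fun e => ne_one_of_ord ht (zpowers_eq_bot.mp e), rfl⟩
  have h : centralizer ({t} : Set G) ≤ 𝐍[zpowers t] := PG.centralizer_zpowers_eq t ▸ cent_le_norm _
  exact Group.isSolvable_of_isSolvable_injective (inclusion_injective h)

end

/-- Let G be a finite group of even order in which every 2-local subgroup is solvable and C_G(Ω₁(Z(S))) ≤ N_G(S) for every Sylow 2-subgroup S, and suppose O_{2'}(G) = 1 = O₂(G). Fix a Sylow 2-subgroup S, put Z = Ω₁(Z(S)), H = O²(G) (generated by the elements of odd order) and R = S ∩ H. Then one of the following holds: H has a strongly embedded subgroup; R is dihedral (of order at least 4) or semidihedral; Z ∩ R has order 2 and is weakly closed in R with respect to H; or Z has order 4 and is exactly the subgroup generated by the involutions of R. -/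
theorem result {G : Type*} [Group G] [Finite G] (heven : Even (Nat.card G)) (hN : ∀ L : Subgroup G, Cfsg.IsTwoLocal L → Group.IsSolvable L) (hZ : ∀ S : Sylow 2 G, Subgroup.centralizer (Cfsg.omegaOne 2 ((S : Subgroup G) ⊓ Subgroup.centralizer ((S : Subgroup G) : Set G)) : Set G) ≤ Subgroup.normalizer ((S : Subgroup G) : Set G)) (hO' : Cfsg.pPrimeCore 2 G = ⊥) (hO : Cfsg.pCore 2 G = ⊥) (S : Sylow 2 G) : (∃ M : Subgroup ↥(Cfsg.pResidual 2 G), Cfsg.IsStronglyEmbedded M) ∨ ((∃ n : ℕ, 2 ≤ n ∧ Nonempty (↥((S : Subgroup G) ⊓ Cfsg.pResidual 2 G) ≃* DihedralGroup n)) ∨ Cfsg.IsQuasiDihedral ↥((S : Subgroup G) ⊓ Cfsg.pResidual 2 G)) ∨ (Nat.card ↥(Cfsg.omegaOne 2 ((S : Subgroup G) ⊓ Subgroup.centralizer ((S : Subgroup G) : Set G)) ⊓ Cfsg.pResidual 2 G) = 2 ∧ ∀ h ∈ Cfsg.pResidual 2 G, ∀ z ∈ Cfsg.omegaOne 2 ((S : Subgroup G) ⊓ Subgroup.centralizer ((S : Subgroup G) : Set G)) ⊓ Cfsg.pResidual 2 G, h * z * h⁻¹ ∈ (S : Subgroup G) → h * z * h⁻¹ ∈ Cfsg.omegaOne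 2 ((S : Subgroup G) ⊓ Subgroup.centralizer ((S : Subgroup G) : Set G))) ∨ (Nat.card ↥(Cfsg.omegaOne 2 ((S : Subgroup G) ⊓ Subgroup.centralizer ((S : Subgroup G) : Set G))) = 4 ∧ Cfsg.omegaOne 2 ((S : Subgroup G) ⊓ Cfsg.pResidual 2 G) = Cfsg.omegaOne 2 ((S : Subgroup G) ⊓ Subgroup.centralizer ((S : Subgroup G) : Set G))) := by
  rcases S3759.result heven (solv hN) hZ hO' hO S with h | h | h | h
  · exact Or.inl h
  · exact Or.inr (Or.inr (Or.inl h))
  · exact Or.inr (Or.inr (Or.inr h))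
  · exact (main heven hN hZ hO' hO S rfl h).imp_right Or.inl

end Cfsg.Agent.S3758
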