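import Mathlib
import Cfsg.Statements.S3808
import Cfsg.Agent.GT.PiGroups
import Cfsg.Agent.GT.PGroupFrattini

set_option autoImplicit false
open Cfsg

namespace Cfsg.Agent.S3808

theorem card_map_center {S : Type*} [Group S] {p : ℕ} {Q : Subgroup S} (hQ : Cfsg.IsExtraspecial p ↥Q) :
    Nat.card ((Subgroup.center ↥Q).map Q.subtype) = p := by
  rw [GT.card_map_subtype]; exact hQ.2

theorem mem_map_center {S : Type*} [Group S] {Q : Subgroup S} {x : S} :
    x ∈ (Subgroup.center ↥Q).map Q.subtype ↔ x ∈ Q ∧ ∀ y ∈ Q, y * x = x * y := by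
  constructor
  · rintro ⟨z, hz, rfl⟩
    exact ⟨z.2, fun y hy => congrArg Subtype.val (Subgroup.mem_center_iff.1 hz ⟨y, hy⟩)⟩
  · rintro ⟨hx, h⟩
    exact ⟨⟨x, hx⟩, Subgroup.mem_center_iff.2 fun y => Subtype.ext (h y y.2), rfl⟩

/-- The centre of `Q` is central in `S`. -/
theorem map_center_le {S : Type*} [Group S] [Finite S] {p : ℕ} [Fact p.Prime] (hS : IsPGroup p S)
    {Q : Subgroup S} (hQ : Cfsg.IsExtraspecial p ↥Q) (hQi : Q.index = p) :
    (Subgroup.center ↥Q).map Q.subtype ≤ Subgroup.center S := by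
  haveI := GT.PG.normal_of_index_prime hS hQi
  haveI : ((Subgroup.center ↥Q).map Q.subtype).Normal := ConjAct.normal_of_characteristic_of_normal
  exact GT.PG.le_center_of_normal_card_prime hS _ (card_map_center hQ)


/-- Let S be a finite p-group with an extraspecial subgroup Q of index p. Then either Z(S) = Z(Q), or S = Q·Z(S) and Z(S) has order p². -/
theorem result {S : Type*} [Group S] [Finite S] (p : ℕ) [Fact p.Prime] (hS : IsPGroup p S) (Q : Subgroup S) (hQ : Cfsg.IsExtraspecial p ↥Q) (hQi : Q.index = p) :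
    Subgroup.center S = (Subgroup.center ↥Q).map Q.subtype ∨
      (Q ⊔ Subgroup.center S = ⊤ ∧ Nat.card (Subgroup.center S) = p ^ 2) := by
  have hp : p.Prime := Fact.out
  haveI := GT.PG.normal_of_index_prime hS hQi
  have h1 := map_center_le hS hQ hQi
  have h2 : Subgroup.center S ⊓ Q = (Subgroup.center ↥Q).map Q.subtype := by
    refine le_antisymm (fun x hx => mem_map_center.2 ⟨hx.2, fun y _ => ?_⟩)
      (le_inf h1 (Subgroup.map_subtype_le _))
    exact Subgroup.mem_center_iff.1 hx.1 y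
  by_cases h : Subgroup.center S ≤ Q
  · left; rw [← h2, inf_eq_left.2 h]
  · right
    have h3 : Q ⊔ Subgroup.center S = ⊤ :=
      (GT.PG.isCoatom_of_index_prime hp hQi).2 _ (left_lt_sup.2 h)
    refine ⟨h3, ?_⟩
    have h4 := GT.card_sup_mul_card_inf (Subgroup.center S) Q
    rw [sup_comm, h3, h2, card_map_center hQ, Subgroup.card_top, ← Q.index_mul_card, hQi] at h4
    have h5 : 0 < Nat.card Q := Nat.card_pos
    refine Nat.eq_of_mul_eq_mul_right h5 ?_
    rw [← h4]; ring

end Cfsg.Agent.S3808
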