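import Mathlib
import Cfsg.Statements.S3809
import Cfsg.Agent.S3808
import Cfsg.Agent.S0095

set_option autoImplicit false
open Cfsg

namespace Cfsg.Agent.S3809


/-- Let S be a finite p-group with an extraspecial subgroup of index p. Then S has order p^(2+2n) for some n ≥ 1, derived length at most 3, and exponent dividing p³. -/
theorem result {S : Type*} [Group S] [Finite S] (p : ℕ) [Fact p.Prime] (hS : IsPGroup p S) (Q : Subgroup S) (hQ : Cfsg.IsExtraspecial p ↥Q) (hQi : Q.index = p) :
    (∃ n : ℕ, 1 ≤ n ∧ Nat.card S = p ^ (2 + 2 * n)) ∧ derivedSeries S 3 = ⊥ ∧ ∀ x : S, x ^ (p ^ 3) = 1 := by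
  have hp : p.Prime := Fact.out
  have hZ := S3808.map_center_le hS hQ hQi
  refine ⟨?_, ?_, fun x => ?_⟩
  · obtain ⟨n, hn, e⟩ := S0095.result hQ
    exact ⟨n, hn, by rw [← Q.index_mul_card, hQi, e]; ring⟩
  · have h1 : derivedSeries S 1 ≤ Q := GT.PG.commutator_le_of_index_prime hS hQi
    have h2 : derivedSeries S 2 ≤ Subgroup.center S := by
      refine le_trans ?_ hZ
      rw [← hQ.1.2.2, Subgroup.map_subtype_commutator]
      exact Subgroup.commutator_mono h1 h1
    rw [eq_bot_iff, ← Subgroup.commutator_center_right (derivedSeries S 2)]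
    exact Subgroup.commutator_mono le_rfl h2
  · have h1 := GT.PG.pow_mem_of_index_prime hS hQi x
    have h2 := GT.PG.pow_mem_frattini hQ.1.1 ⟨_, h1⟩
    rw [hQ.1.2.1] at h2
    have h3 : (⟨_, h2⟩ : Subgroup.center Q) ^ p = 1 :=
      (congrArg _ hQ.2.symm).trans pow_card_eq_one'
    have h4 := congrArg (fun t : Subgroup.center Q => ((t : Q) : S)) h3
    simp only [SubgroupClass.coe_pow, OneMemClass.coe_one] at h4
    rw [← h4, ← pow_mul, ← pow_mul]; congr 1; ring

end Cfsg.Agent.S3809
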