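import Mathlib
import Cfsg.Statements.S3810
import Cfsg.Agent.S3807
import Cfsg.Agent.S0129

set_option autoImplicit false
open Cfsg

namespace Cfsg.Agent.S3810

theorem not_comm {Q : Type*} [Group Q] {p : ℕ} (hp : p.Prime) (hQ : Cfsg.IsExtraspecial p Q) :
    ¬ IsMulCommutative Q := fun h => by
  have h1 := (commutator_eq_bot_iff Q).2 h
  have h2 := hQ.2
  rw [← hQ.1.2.2, h1, Subgroup.card_bot] at h2
  exact hp.one_lt.ne h2


/-- Let S be a finite p-group with an extraspecial subgroup of index p. Then S has an abelian subgroup of index p if and only if S has order p⁴. -/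
theorem result {S : Type*} [Group S] [Finite S] (p : ℕ) [Fact p.Prime] (hS : IsPGroup p S) (Q : Subgroup S) (hQ : Cfsg.IsExtraspecial p ↥Q) (hQi : Q.index = p) :
    (∃ A : Subgroup S, IsMulCommutative ↥A ∧ A.index = p) ↔ Nat.card S = p ^ 4 := by
  have hp : p.Prime := Fact.out
  have hna := not_comm hp hQ
  have hcard : Nat.card S = p * Nat.card Q := by rw [← Q.index_mul_card, hQi]
  constructor
  · rintro ⟨A, hA, hAi⟩
    have := GT.PG.normal_of_index_prime hS hAi
    have h1 : A.relIndex Q ∣ p := hAi ▸ Subgroup.relIndex_dvd_index_of_normal A Q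
    have h2 : IsMulCommutative (A.subgroupOf Q) := inferInstance
    rcases (Nat.dvd_prime hp).1 h1 with h | h
    · rw [Subgroup.relIndex_eq_one] at h
      exact absurd (GT.PG.isMulCommutative_of_le h hA) hna
    · have h3 := S3807.index_center hQ.1.1 hna h2 h
      rw [hQ.1.2.2, hQ.2] at h3
      rw [hcard, ← (Subgroup.center Q).index_mul_card, h3, hQ.2]; ring
  · intro h
    obtain ⟨A, -, hAn, hA, hmax⟩ := GT.PG.exists_maximal_abelian_normal (⊥ : Subgroup S) inferInstance
    obtain ⟨a, ha⟩ := GT.PG.card_eq_pow_of_isPGroup (hS.to_subgroup A)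
    have h1 := S0129.result hS A hA hmax a ha
    rw [h, Nat.pow_le_pow_iff_right hp.one_lt] at h1
    have h2 : 3 ≤ a := by
      by_contra h3
      obtain rfl | rfl | rfl : a = 0 ∨ a = 1 ∨ a = 2 := by omega
      all_goals omega
    obtain ⟨B, -, hBA, hB⟩ := GT.PG.exists_card_eq_pow_between (hS.to_subgroup A)
      (bot_le : ⊥ ≤ A) (k := 3) (by rw [Subgroup.card_bot]; exact Nat.one_le_pow _ _ hp.pos)
      (by rw [ha]; exact Nat.pow_le_pow_right hp.pos h2)
    refine ⟨B, GT.PG.isMulCommutative_of_le hBA hA, ?_⟩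
    have h4 := B.index_mul_card
    rw [hB, h] at h4
    refine Nat.eq_of_mul_eq_mul_right (pow_pos hp.pos 3) ?_
    rw [h4]; ring

end Cfsg.Agent.S3810
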