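import Mathlib
import Cfsg.Statements.S3869
import Cfsg.Agent.FG.H92Lin
import Cfsg.Agent.FG.H92Basic
import Cfsg.Agent.GT.PGroupBasic
import Cfsg.Agent.GT.PGroupChain
import Cfsg.Agent.NT.Zsigmondy

set_option autoImplicit false
open Cfsg

namespace Cfsg.Agent.S3869

section aux

open Subgroup Cfsg.Agent.GT Cfsg.Agent.FG Cfsg.Agent.FG.H92
open scoped commutatorElement



end aux

open Subgroup Cfsg.Agent.GT Cfsg.Agent.FG Cfsg.Agent.FG.H92 in
open scoped commutatorElement in
/-- Let p and q be distinct primes and G a finite non-abelian group with a normal elementary abelian q-subgroup A that is a minimal normal subgroup of G and has index p. Then A has order q^e with e the multiplicative order of q modulo p, and G is minimal non-p-closed: its Sylow p-subgroups are not normal, while in every proper subgroup and in every proper quotient of G the Sylow p-subgroups are normal. -/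
theorem result {G : Type*} [Group G] [Finite G] {p q : ℕ} [Fact p.Prime] (hq : q.Prime) (hpq : q ≠ p)
    (hna : ¬ IsMulCommutative G) (A : Subgroup G) [A.Normal] (hA : Cfsg.IsElementaryAbelian q A) (hidx : A.index = p)
    (hmin : ∀ B : Subgroup G, B.Normal → B ≤ A → B = ⊥ ∨ B = A) :
    Nat.card ↥A = q ^ orderOf (q : ZMod p) ∧ ¬ Cfsg.IsPClosed p G ∧ (∀ H : Subgroup G, H ≠ ⊤ → Cfsg.IsPClosed p ↥H) ∧
      ∀ (N : Subgroup G) [N.Normal], N ≠ ⊥ → Cfsg.IsPClosed p (G ⧸ N) := by
  have hp := (Fact.out : p.Prime)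
  haveI := Fact.mk hq
  have hAq : IsPGroup q A := isPGroup_of_forall_pow_eq_one hA.2
  obtain ⟨d, hd⟩ := IsPGroup.iff_card.mp hAq
  have hAc : A ≤ centralizer (A : Set G) := isMulCommutative_iff_le.mp hA.1
  have hpA : ¬ p ∣ Nat.card A := by
    rw [hd]
    exact fun h => hpq ((Nat.prime_dvd_prime_iff_eq hp hq).mp (hp.dvd_of_dvd_pow h)).symm
  have hco := PG.isCoatom_of_index_prime hp hidx
  -- no element outside `A` centralizes `A`
  have hcent : ∀ x : G, x ∉ A → x ∉ centralizer (A : Set G) := by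
    intro x hx hxc
    have h1 : centralizer (A : Set G) = ⊤ := by
      rw [eq_top_iff, ← PG.sup_zpowers_eq_top_of_index_prime hp hidx hx]
      exact sup_le hAc (zpowers_le.mpr hxc)
    have h2 : A ≤ center G := by
      rw [← centralizer_top, ← le_centralizer_iff, h1]
    haveI : IsCyclic (G ⧸ A) := isCyclic_of_prime_card (p := p) hidx
    exact hna ⟨⟨commutative_of_cyclic_center_quotient (QuotientGroup.mk' A)
      (by rwa [QuotientGroup.ker_mk'])⟩⟩
  obtain ⟨x, hx⟩ := exists_prime_orderOf_dvd_card' (G := G) p (hidx ▸ A.index_dvd_card)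
  have hxA : x ∉ A := fun h => hpA (hx ▸ orderOf_dvd_natCard A h)
  have hsup := PG.sup_zpowers_eq_top_of_index_prime hp hidx hxA
  have hxP : IsPGroup p (zpowers x) :=
    IsPGroup.of_card (n := 1) (by rw [Nat.card_zpowers, hx, pow_one])
  have hmin' : ∀ B ≤ A, x ∈ normalizer (B : Set G) → B = ⊥ ∨ B = A := by
    intro B hB hxB
    refine hmin B (normal_of_sup_eq_top hsup ?_ (zpowers_le.mpr hxB)) hB
    exact le_normalizer_of_le_centralizer (hAc.trans (centralizer_anti hB))
  have hfix : A ⊓ centralizer (zpowers x : Set G) = ⊥ := by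
    refine (hmin' _ inf_le_left ?_).resolve_right fun h => hcent x hxA ?_
    · exact (le_normalizer_of_le_centralizer (le_centralizer_iff.mp inf_le_right)) (mem_zpowers x)
    · exact le_centralizer_iff.mp (inf_eq_left.mp h) (mem_zpowers x)
  have hAbot : A ≠ ⊥ := by
    rintro rfl
    exact hcent x hxA (by rw [centralizer_bot]; exact mem_top x)
  have hsmall : ∀ (K : Type _) [Group K] [Finite K], Nat.card K ∣ p → Cfsg.IsPClosed p K := by
    intro K _ _ hK
    refine isPClosed_of_isPGroup ?_
    obtain ⟨k, -, hk⟩ := (Nat.dvd_prime_pow hp (m := 1) (i := Nat.card K)).mp (by rwa [pow_one])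
    exact IsPGroup.of_card hk
  refine ⟨?_, ?_, ?_, ?_⟩
  · have h1 := card_modEq_card_inf_centralizer (L := A) hxP le_normalizer_of_normal
    rw [hfix, card_bot, hd] at h1
    have h2 : orderOf (q : ZMod p) ∣ d := by
      rw [← NT.dvd_pow_sub_one_iff_orderOf_dvd hq.pos]
      exact (Nat.modEq_iff_dvd' (Nat.one_le_pow _ _ hq.pos)).mp h1.symm
    have hd0 : d ≠ 0 := by
      rintro rfl
      exact hAbot (by rwa [pow_zero, card_eq_one] at hd)
    have he0 : orderOf (q : ZMod p) ≠ 0 := fun h => hd0 (by rwa [h, zero_dvd_iff] at h2)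
    have h3 := card_le_of_irreducible hq hA (le_normalizer_of_normal (mem_top x)) hmin' he0 (by
      have h4 : p ∣ q ^ orderOf (q : ZMod p) - 1 :=
        (NT.dvd_pow_sub_one_iff_orderOf_dvd hq.pos _).mpr dvd_rfl
      replace h4 := orderOf_dvd_iff_pow_eq_one.mp (hx.dvd.trans h4)
      rw [← Nat.sub_add_cancel (Nat.one_le_pow _ _ hq.pos : 1 ≤ q ^ orderOf (q : ZMod p)),
        pow_succ, h4, one_mul])
    rw [hd] at h3 ⊢
    congr 1
    exact le_antisymm ((Nat.pow_le_pow_iff_right hq.one_lt).mp h3)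
      (Nat.le_of_dvd (Nat.pos_of_ne_zero hd0) h2)
  · intro h
    have h1 := le_pCore_of_isPClosed h hxP
    have h2 : pCore p G ⊓ A = ⊥ :=
      disjoint_iff.mp (IsPGroup.disjoint_of_ne p q hpq.symm _ _ (isPGroup_pCore p) hAq)
    refine hcent x hxA (?_ : x ∈ centralizer (A : Set G))
    refine (commutator_eq_bot_iff_le_centralizer.mp ?_ : pCore p G ≤ _) (h1 (mem_zpowers x))
    exact le_bot_iff.mp (h2 ▸ commutator_le_inf _ _)
  · intro H hH
    by_cases hHA : H ≤ A
    · exact isPClosed_of_not_dvd fun h => hpA (h.trans (card_dvd_of_le hHA))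
    have h1 : A ⊔ H = ⊤ := sup_eq_top_of_isCoatom hco hHA
    have h2 : (A ⊓ H).Normal := normal_of_sup_eq_top h1
      (le_normalizer_of_le_centralizer (hAc.trans (centralizer_anti inf_le_left)))
      ((le_inf le_normalizer_of_normal le_normalizer).trans inf_normalizer_le_normalizer_inf)
    rcases hmin _ h2 inf_le_left with h3 | h3
    · refine hsmall H ?_
      rw [← hidx, ← relIndex_bot_left, ← h3, inf_relIndex_right]
      exact relIndex_dvd_index_of_normal A H
    · exact (hH (by rw [← h1, sup_eq_right.mpr (inf_eq_left.mp h3)])).elim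
  · intro N _ hN
    rcases hmin (A ⊓ N) inferInstance inf_le_left with h3 | h3
    · obtain ⟨y, hy, hy1⟩ := exists_ne_one_of_ne_bot hN
      have hyA : y ∉ A := fun h => hy1 (mem_bot.mp (h3 ▸ mem_inf.mpr ⟨h, hy⟩))
      refine (hcent y hyA ?_).elim
      refine (commutator_eq_bot_iff_le_centralizer.mp ?_ : N ≤ _) hy
      exact le_bot_iff.mp (h3 ▸ inf_comm A N ▸ commutator_le_inf _ _)
    · exact hsmall _ (hidx ▸ index_dvd_of_le (inf_eq_left.mp h3))

end Cfsg.Agent.S3869
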