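import Mathlib
import Cfsg.Statements.S3868
import Cfsg.Agent.S3869
import Cfsg.Agent.GT.CoprimeSylow

set_option autoImplicit false
open Cfsg

namespace Cfsg.Agent.S3868

section aux

open Subgroup Cfsg.Agent.GT Cfsg.Agent.FG Cfsg.Agent.FG.H92
open scoped commutatorElement



end aux

open Subgroup Cfsg.Agent.GT Cfsg.Agent.FG Cfsg.Agent.FG.H92 in
open scoped commutatorElement in
/-- Structure of the non-simple minimal non-p-closed groups. Call a finite group p-closed when its Sylow p-subgroups are normal, and minimal non-p-closed when it is not p-closed but every proper subgroup and every proper quotient is. If such a group G is not simple, then there is a prime q ≠ p such that G has order p · q^e, where e is the multiplicative order of q modulo p, and G has a normal subgroup A of order q^e that is elementary abelian and is a minimal normal subgroup of G (so G is the semidirect product of A by a group of order p acting irreducibly). -/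
theorem result {G : Type*} [Group G] [Finite G] {p : ℕ} [Fact p.Prime]
    (hnc : ¬ Cfsg.IsPClosed p G) (hsub : ∀ H : Subgroup G, H ≠ ⊤ → Cfsg.IsPClosed p ↥H)
    (hquo : ∀ (N : Subgroup G) [N.Normal], N ≠ ⊥ → Cfsg.IsPClosed p (G ⧸ N)) (hns : ¬ IsSimpleGroup G) :
    ∃ q : ℕ, q.Prime ∧ q ≠ p ∧ Nat.card G = p * q ^ orderOf (q : ZMod p) ∧
      ∃ A : Subgroup G, A.Normal ∧ Nat.card ↥A = q ^ orderOf (q : ZMod p) ∧ Cfsg.IsElementaryAbelian q A ∧
        ∀ B : Subgroup G, B.Normal → B ≤ A → B = ⊥ ∨ B = A := by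
  have hp := (Fact.out : p.Prime)
  haveI : Nontrivial G := by
    by_contra h
    rw [not_nontrivial_iff_subsingleton] at h
    exact hnc fun P => inferInstance
  obtain ⟨N, hN, hN1, hN2⟩ : ∃ N : Subgroup G, N.Normal ∧ N ≠ ⊥ ∧ N ≠ ⊤ := by
    by_contra h
    push Not at h
    exact hns ⟨fun N hN => or_iff_not_imp_left.mpr (h N hN)⟩
  have hO : pCore p G = ⊥ := by
    by_contra h
    exact hnc (isPClosed_of_quotient _ (isPGroup_pCore p) (hquo _ h))
  obtain ⟨A, hA, hAN⟩ := exists_isMinNormal_le hN1
  haveI := hA.normal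
  have hAtop : A ≠ ⊤ := fun h => hN2 (top_le_iff.mp (h ▸ hAN))
  have hnormal : ∀ H : Subgroup G, H.Normal → H ≠ ⊤ → ∀ R ≤ H, IsPGroup p R → R = ⊥ := by
    intro H _ hH R hR hRp
    exact le_bot_iff.mp (((le_pCoreOf_of_isPClosed (hsub H hH) hRp hR).trans
      (pCoreOf_le_pCore H)).trans hO.le)
  have hpA : ¬ p ∣ Nat.card A := by
    intro h
    obtain ⟨x, hx⟩ := exists_prime_orderOf_dvd_card' (G := A) p h
    have h1 := hnormal A inferInstance hAtop (zpowers (x : G)) (zpowers_le.mpr x.2)
      (IsPGroup.of_card (n := 1) (by rw [Nat.card_zpowers, Subgroup.orderOf_coe, hx, pow_one]))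
    rw [zpowers_eq_bot] at h1
    rw [← Subgroup.orderOf_coe, h1, orderOf_one] at hx
    exact hp.one_lt.ne hx
  have hdisj : ∀ R : Subgroup G, IsPGroup p R → R ⊓ A = ⊥ := by
    intro R hR
    obtain ⟨k, hk⟩ := IsPGroup.iff_card.mp hR
    exact inf_eq_bot_of_coprime (hk ▸ ((hp.coprime_iff_not_dvd.mpr hpA).pow_left k))
  obtain ⟨P⟩ : Nonempty (Sylow p G) := inferInstance
  have hPn : ¬ (P : Subgroup G).Normal := fun h => hnc (isPClosed_of_normal_sylow P h)
  have hPbot : (P : Subgroup G) ≠ ⊥ := fun h => hPn (h ▸ inferInstance)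
  have hPA : (P : Subgroup G) ⊔ A = ⊤ := by
    by_contra h
    have h1 := hquo A hA.ne_bot (P.mapSurjective (QuotientGroup.mk'_surjective A))
    have h2 := h1.comap (QuotientGroup.mk' A)
    rw [Sylow.coe_mapSurjective, comap_map_mk'] at h2
    exact hPbot (hnormal _ h2 h _ le_sup_left P.isPGroup')
  have hcent : ∀ R B : Subgroup G, IsPGroup p R → B ≤ A → R ⊔ B ≠ ⊤ →
      B ≤ centralizer (R : Set G) := by
    intro R B hR hB h
    have h1 := le_pCoreOf_of_isPClosed (hsub _ h) hR le_sup_left
    rw [← commutator_eq_bot_iff_le_centralizer, eq_bot_iff, ← hdisj _ (isPGroup_pCoreOf p (R ⊔ B))]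
    refine le_inf ((commutator_mono le_rfl h1).trans ?_) ((commutator_mono hB le_top).trans
      (commutator_le_left _ _))
    exact le_normalizer_iff_commutator_le_right.mp (le_sup_right.trans (le_normalizer_pCoreOf _))
  have hAP : ¬ A ≤ centralizer ((P : Subgroup G) : Set G) := fun h =>
    hPn (normal_of_sup_eq_top hPA le_normalizer (le_normalizer_of_le_centralizer h))
  obtain ⟨q, hq, hAq⟩ : ∃ q : ℕ, q.Prime ∧ IsPGroup q A := by
    by_contra hcon
    push Not at hcon
    refine hAP (CopAct.le_of_forall_sylow_le fun q _ hqA => ?_)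
    haveI := P.isPGroup'.isNilpotent
    obtain ⟨Q, hQ⟩ := CopAct.exists_invariant_sylow (A := (P : Subgroup G)) (K := A)
      le_normalizer_of_normal (by
        obtain ⟨k, hk⟩ := IsPGroup.iff_card.mp P.isPGroup'
        exact hk ▸ ((hp.coprime_iff_not_dvd.mpr hpA).pow_left k)) (Or.inl inferInstance) q
    refine ⟨Q, hcent _ _ P.isPGroup' (map_subtype_le _) fun h => ?_⟩
    have h1 := normal_of_sup_eq_top h hQ le_normalizer
    rcases hA.eq_bot_or_eq (map_subtype_le (Q : Subgroup A)) with h2 | h2
    · rw [map_eq_bot_iff_of_injective _ A.subtype_injective] at h2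
      exact Q.ne_bot_of_dvd_card hqA h2
    · exact hcon q Fact.out (h2 ▸ Q.isPGroup'.map _)
  have hqp : q ≠ p := by
    rintro rfl
    exact hA.ne_bot (hnormal A inferInstance hAtop A le_rfl hAq)
  have hidx : A.index = p := by
    obtain ⟨R, -, hRP, hRi, hRn⟩ := PG.exists_invariant_relIndex_eq (N := ⊥) P.isPGroup'
      P.isPGroup' le_normalizer le_normalizer_of_normal (bot_lt_iff_ne_bot.mpr hPbot)
    have hRp : IsPGroup p R := P.isPGroup'.to_le hRP
    have h1 : R ⊔ A ≠ ⊤ := by
      intro h
      have h2 := inf_sup_eq_of_normal_right (K := A) hRP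
      rw [h, inf_top_eq, hdisj _ P.isPGroup', sup_bot_eq] at h2
      rw [← h2, relIndex_self] at hRi
      exact hp.one_lt.ne hRi
    have h2 : R.Normal := normal_of_sup_eq_top hPA hRn
      (le_normalizer_of_le_centralizer (hcent R A hRp le_rfl h1))
    have h3 : R = ⊥ := le_bot_iff.mp ((le_pCore hRp).trans hO.le)
    rw [← relIndex_top_right, ← hPA, relIndex_sup_right, ← inf_relIndex_right, inf_comm,
      hdisj _ P.isPGroup', ← h3, hRi]
  have hE := hA.elementary_of_isPGroup hq hAq
  have hmin : ∀ B : Subgroup G, B.Normal → B ≤ A → B = ⊥ ∨ B = A :=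
    fun B _ hB => hA.eq_bot_or_eq hB
  have hc := (S3869.result hq hqp (fun h => hPn inferInstance) A hE hidx hmin).1
  exact ⟨q, hq, hqp, by rw [← A.index_mul_card, hidx, hc], A, inferInstance, hc, hE, hmin⟩

end Cfsg.Agent.S3868
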