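import Mathlib
import Cfsg.Statements.S3870
import Cfsg.Agent.FG.H92Basic

set_option autoImplicit false
open Cfsg

namespace Cfsg.Agent.S3870

section aux

open Subgroup Cfsg.Agent.GT Cfsg.Agent.FG Cfsg.Agent.FG.H92
open scoped commutatorElement

theorem unique_sylow {G : Type*} [Group G] [Finite G] {p : ℕ} [Fact p.Prime]
    (h : ∀ R : Subgroup G, IsPGroup p R → R ≠ ⊥ → IsPClosed p (normalizer (R : Set G)))
    (R : Subgroup G) : R ≠ ⊥ → ∀ P Q : Sylow p G, R ≤ P → R ≤ Q → P = Q := by
  induction R using subgroup_gt_induction with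
  | h R ih =>
  intro hR P Q hP hQ
  rcases hP.eq_or_lt with h1 | h1
  · exact sylow_eq_of_le (h1 ▸ hQ)
  rcases hQ.eq_or_lt with h2 | h2
  · exact (sylow_eq_of_le (h2 ▸ hP)).symm
  have hc := h R (P.isPGroup'.to_le hP) hR
  obtain ⟨S, hS⟩ := (isPGroup_pCoreOf p (normalizer (R : Set G))).exists_le_sylow
  have key : ∀ P : Sylow p G, R < P → P = S := by
    intro P h1
    have h3 := Tr.lt_inf_normalizer P.isPGroup' h1
    refine ih _ h3 (ne_bot_of_gt h3) P S inf_le_left ?_
    exact (le_pCoreOf_of_isPClosed hc (P.isPGroup'.to_le inf_le_left) inf_le_right).trans hS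
  rw [key P h1, key Q h2]

end aux

open Subgroup Cfsg.Agent.GT Cfsg.Agent.FG Cfsg.Agent.FG.H92 in
open scoped commutatorElement in
/-- Let G be a finite simple group whose Sylow p-subgroups are not normal but such that every proper subgroup of G has a normal Sylow p-subgroup. Then any two distinct Sylow p-subgroups of G intersect trivially, and for every Sylow p-subgroup P the normalizer of every non-identity subgroup of P lies in the normalizer of P. -/
theorem result {G : Type*} [Group G] [Finite G] [IsSimpleGroup G] {p : ℕ} [Fact p.Prime]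
    (hnc : ¬ Cfsg.IsPClosed p G) (hsub : ∀ H : Subgroup G, H ≠ ⊤ → Cfsg.IsPClosed p ↥H) :
    (∀ P Q : Sylow p G, P ≠ Q → (P : Subgroup G) ⊓ (Q : Subgroup G) = ⊥) ∧
      ∀ (P : Sylow p G) (R : Subgroup G), R ≤ P → R ≠ ⊥ →
        Subgroup.normalizer (R : Set G) ≤ Subgroup.normalizer ((P : Subgroup G) : Set G) := by
  have h := unique_sylow (G := G) (p := p) (fun R hR hR0 => hsub _ (by
    intro htop
    rcases (normalizer_eq_top_iff.1 htop).eq_bot_or_eq_top with h | h
    · exact hR0 h
    · exact hnc (isPClosed_of_isPGroup (isPGroup_of_top (h ▸ hR)))))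
  refine ⟨fun P Q hne => ?_, fun P R hR hR0 g hg => ?_⟩
  · by_contra h0
    exact hne (h _ h0 P Q inf_le_left inf_le_right)
  · rw [← map_conj_eq_self_iff, ← coe_smul_sylow_eq_map_conj]
    congr 1
    refine h R hR0 _ _ ?_ hR
    rw [coe_smul_sylow_eq_map_conj, ← map_conj_eq_of_mem_norm hg]
    exact Subgroup.map_mono hR

end Cfsg.Agent.S3870
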