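import Mathlib
import Cfsg.Statements.S3872
import Cfsg.Agent.FG.Regular
import Cfsg.Agent.FG.H92Basic
import Cfsg.Agent.GT.PGroupMaxClass
import Cfsg.Agent.GT.PGroupRank

set_option autoImplicit false
open Cfsg

namespace Cfsg.Agent.S3872

section aux

open Subgroup Cfsg.Agent.GT Cfsg.Agent.FG Cfsg.Agent.FG.H92
open scoped commutatorElement



end aux

open Subgroup Cfsg.Agent.GT Cfsg.Agent.FG Cfsg.Agent.FG.H92 in
open scoped commutatorElement in
/-- Say that a finite group is p-exponent closed when its elements of order dividing p form a subgroup. Let G be a finite p-group that is not p-exponent closed, but all of whose proper subgroups and proper quotients are. Then G is generated by two elements, has nilpotency class at least p, has exponent p², has cyclic center, and has order at least p^(p+1). -/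
theorem result {G : Type*} [Group G] [Finite G] {p : ℕ} [Fact p.Prime] (hG : IsPGroup p G)
    (hnc : ¬ (∃ H : Subgroup G, (H : Set G) = {g : G | g ^ p = 1})) (hsub : ∀ K : Subgroup G, K ≠ ⊤ → (∃ H : Subgroup ↥K, (H : Set ↥K) = {g : ↥K | g ^ p = 1}))
    (hquo : ∀ (N : Subgroup G) [N.Normal], N ≠ ⊥ → (∃ H : Subgroup (G ⧸ N), (H : Set (G ⧸ N)) = {g : (G ⧸ N) | g ^ p = 1})) :
    (∃ x y : G, Subgroup.closure ({x, y} : Set G) = ⊤) ∧ (⊤ : Subgroup G).lowerCentralSeries (p - 1) ≠ ⊥ ∧
      Monoid.exponent G = p ^ 2 ∧ IsCyclic ↥(Subgroup.center G) ∧ p ^ (p + 1) ≤ Nat.card G := by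
  have hp := (Fact.out : p.Prime)
  obtain ⟨x, y, hx, hy, hxy⟩ : ∃ x y : G, x ^ p = 1 ∧ y ^ p = 1 ∧ (x * y) ^ p ≠ 1 := by
    by_contra h
    push Not at h
    exact hnc ⟨⟨⟨⟨{g | g ^ p = 1}, fun ha hb => h _ _ ha hb⟩, one_pow p⟩,
      fun {g} (hg : g ^ p = 1) => show g⁻¹ ^ p = 1 by rw [inv_pow, hg, inv_one]⟩, rfl⟩
  have hgen : closure ({x, y} : Set G) = ⊤ := by
    by_contra h
    obtain ⟨H, hH⟩ := hsub _ h
    have hm : ∀ g, g ∈ H ↔ g ^ p = 1 := fun g => by rw [← SetLike.mem_coe, hH]; rfl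
    have h1 := H.mul_mem ((hm ⟨x, subset_closure (by simp)⟩).mpr (Subtype.ext hx))
      ((hm ⟨y, subset_closure (by simp)⟩).mpr (Subtype.ext hy))
    exact hxy (congrArg Subtype.val ((hm _).mp h1))
  have hpow : ∀ (N : Subgroup G) [N.Normal], N ≠ ⊥ → ∀ g : G, g ^ p ∈ N := by
    intro N _ hN
    obtain ⟨H, hH⟩ := hquo N hN
    have hm : ∀ g, g ∈ H ↔ g ^ p = 1 := fun g => by rw [← SetLike.mem_coe, hH]; rfl
    have h1 : (⊤ : Subgroup G) ≤ H.comap (QuotientGroup.mk' N) := by
      rw [← hgen, closure_le]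
      rintro _ (rfl | rfl) <;> rw [SetLike.mem_coe, mem_comap, hm, ← map_pow]
      · rw [hx, map_one]
      · rw [hy, map_one]
    intro g
    have h2 := h1 (mem_top g)
    rw [mem_comap, hm, ← map_pow] at h2
    exact (QuotientGroup.eq_one_iff _).mp h2
  have hcl : (⊤ : Subgroup G).lowerCentralSeries (p - 1) ≠ ⊥ := fun h =>
    hnc ⟨(weakRegular_of_class_lt h).omega hG, rfl⟩
  haveI := hG.isNilpotent
  have hZ : center G ≠ ⊥ := by
    have := PG.inf_center_ne_bot (⊤ : Subgroup G) fun h => hxy (mem_bot.mp (h ▸ mem_top _))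
    rwa [top_inf_eq] at this
  have hatom : ∀ K : Subgroup G, K ≤ center G → Nat.card K = p → K = zpowers ((x * y) ^ p) := by
    intro K hK hc
    haveI := normal_of_le_center hK
    have h1 : zpowers ((x * y) ^ p) ≤ K := zpowers_le.mpr (hpow K (by
      rintro rfl
      exact hp.one_lt.ne (by simpa using hc)) _)
    have h2 := card_dvd_of_le h1
    rw [hc, Nat.dvd_prime hp] at h2
    rcases h2 with h2 | h2
    · exact (hxy (zpowers_eq_bot.mp (card_eq_one.mp h2))).elim
    · exact (eq_of_le_of_card_ge h1 (by rw [h2, hc])).symm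
  refine ⟨⟨x, y, hgen⟩, hcl, ?_, ?_, ?_⟩
  · obtain ⟨z, hz, hz1, hzp⟩ := PG.exists_mem_ne_one_pow_eq_one (hG.to_subgroup _) hZ
    haveI := normal_of_le_center (zpowers_le.mpr hz)
    have h1 : Monoid.exponent G ∣ p ^ 2 := by
      rw [Monoid.exponent_dvd_iff_forall_pow_eq_one]
      intro g
      obtain ⟨k, hk⟩ := hpow (zpowers z) (by rwa [Ne, zpowers_eq_bot]) g
      simp only at hk
      rw [sq, pow_mul, ← hk, ← zpow_natCast, ← zpow_mul, mul_comm, zpow_mul, zpow_natCast, hzp,
        one_zpow]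
    obtain ⟨k, hk, hk'⟩ := (Nat.dvd_prime_pow hp).mp h1
    rw [hk']
    congr 1
    by_contra h
    refine hxy (Monoid.exponent_dvd_iff_forall_pow_eq_one.mp ?_ _)
    rw [hk']
    simpa using pow_dvd_pow p (show k ≤ 1 by omega)
  · rw [PG.isCyclic_iff_pRankLE_one (hG.to_subgroup _) inferInstance,
      PG.pRankLE_one_iff_unique (hG.to_subgroup _)]
    intro H K hH hK
    apply map_injective (center G).subtype_injective
    rw [hatom _ (map_subtype_le H) (by rwa [card_subtype]),
      hatom _ (map_subtype_le K) (by rwa [card_subtype])]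
  · obtain ⟨n, hn⟩ := IsPGroup.iff_card.mp hG
    rw [hn]
    refine Nat.pow_le_pow_right hp.pos ?_
    by_contra h
    have h2 := hp.two_le
    refine hcl (le_bot_iff.mp ?_)
    by_cases hn2 : 2 ≤ n
    · obtain ⟨r, rfl⟩ := Nat.exists_eq_add_of_le' hn2
      exact (Subgroup.lowerCentralSeries_antitone ⊤ (by omega)).trans
        (PG.lowerCentralSeries_le_of_index hG ⊥ (r := r) (by rw [index_bot, hn]))
    · refine (hxy ?_).elim
      rw [← orderOf_dvd_iff_pow_eq_one]
      refine (_root_.orderOf_dvd_natCard _).trans ?_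
      rw [hn]
      simpa using pow_dvd_pow p (show n ≤ 1 by omega)

end Cfsg.Agent.S3872
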