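import Mathlib
import Cfsg.Statements.S3873
import Cfsg.Agent.S3868

set_option autoImplicit false
open Cfsg

namespace Cfsg.Agent.S3873

section aux

open Subgroup Cfsg.Agent.GT Cfsg.Agent.FG Cfsg.Agent.FG.H92
open scoped commutatorElement

theorem pow_eq_one {K : Type*} [Group K] [Finite K] {p : ℕ} (hp : p.Prime) (B : Subgroup K)
    (hB : ¬ p ∣ Nat.card B) (h : ∀ g : K, g ^ p ∈ B) {x : K} (hx : ∃ k, orderOf x = p ^ k) :
    x ^ p = 1 := by
  obtain ⟨k, hk⟩ := hx
  rw [← orderOf_eq_one_iff]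
  refine Nat.eq_one_of_dvd_coprimes ((hp.coprime_iff_not_dvd.mpr hB).pow_left k)
    (hk ▸ orderOf_pow_dvd p) (orderOf_dvd_natCard B (h x))

theorem closed {K : Type*} [Group K] [Finite K] {p : ℕ} [hp : Fact p.Prime] (B : Subgroup K)
    (hB : ¬ p ∣ Nat.card B) (h : ∀ g : K, g ^ p ∈ B)
    (hX : ∃ H : Subgroup K, (H : Set K) = {g : K | g ^ p = 1}) : Cfsg.IsPClosed p K := by
  obtain ⟨H, hH⟩ := hX
  have hm : ∀ g, g ∈ H ↔ g ^ p = 1 := fun g => by rw [← SetLike.mem_coe, hH]; rfl
  exact isPClosed_of_forall_mem (isPGroup_of_forall_pow_eq_one fun x hx => (hm x).mp hx)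
    fun x hx => (hm x).mpr (pow_eq_one hp.out B hB h hx)

end aux

open Subgroup Cfsg.Agent.GT Cfsg.Agent.FG Cfsg.Agent.FG.H92 in
open scoped commutatorElement in
/-- Say that a finite group is p-exponent closed when its elements of order dividing p form a subgroup. Let G be a finite group that is not p-exponent closed, but all of whose proper subgroups and proper quotients are, and suppose G is neither simple nor a p-group. Then there is a prime q ≠ p such that G has order p · q^e, where e is the multiplicative order of q modulo p, and G has a normal elementary abelian subgroup of order q^e that is a minimal normal subgroup of G. -/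
theorem result {G : Type*} [Group G] [Finite G] {p : ℕ} [Fact p.Prime]
    (hnc : ¬ (∃ H : Subgroup G, (H : Set G) = {g : G | g ^ p = 1})) (hsub : ∀ K : Subgroup G, K ≠ ⊤ → (∃ H : Subgroup ↥K, (H : Set ↥K) = {g : ↥K | g ^ p = 1}))
    (hquo : ∀ (N : Subgroup G) [N.Normal], N ≠ ⊥ → (∃ H : Subgroup (G ⧸ N), (H : Set (G ⧸ N)) = {g : (G ⧸ N) | g ^ p = 1}))
    (hns : ¬ IsSimpleGroup G) (hnp : ¬ IsPGroup p G) :
    ∃ q : ℕ, q.Prime ∧ q ≠ p ∧ Nat.card G = p * q ^ orderOf (q : ZMod p) ∧
      ∃ A : Subgroup G, A.Normal ∧ Nat.card ↥A = q ^ orderOf (q : ZMod p) ∧ Cfsg.IsElementaryAbelian q A ∧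
        ∀ B : Subgroup G, B.Normal → B ≤ A → B = ⊥ ∨ B = A := by
  have hp := (Fact.out : p.Prime)
  haveI : Nontrivial G := by
    by_contra h
    rw [not_nontrivial_iff_subsingleton] at h
    exact hnp (IsPGroup.of_subsingleton p G)
  obtain ⟨N, hN, hN1, hN2⟩ : ∃ N : Subgroup G, N.Normal ∧ N ≠ ⊥ ∧ N ≠ ⊤ := by
    by_contra h
    push Not at h
    exact hns ⟨fun N hN => or_iff_not_imp_left.mpr (h N hN)⟩
  obtain ⟨A, hA, hAN⟩ := exists_isMinNormal_le hN1
  haveI := hA.normal
  have hAtop : A ≠ ⊤ := fun h => hN2 (top_le_iff.mp (h ▸ hAN))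
  have hgen : closure {g : G | g ^ p = 1} = ⊤ := by
    by_contra h
    obtain ⟨H, hH⟩ := hsub _ h
    refine hnc ⟨closure {g : G | g ^ p = 1}, le_antisymm ?_ subset_closure⟩
    have h1 : closure {g : G | g ^ p = 1} ≤ H.map (Subgroup.subtype _) := by
      rw [closure_le]
      intro g hg
      refine ⟨⟨g, subset_closure hg⟩, ?_, rfl⟩
      rw [hH]
      exact Subtype.ext hg
    intro g hg
    obtain ⟨y, hy, rfl⟩ := h1 hg
    rw [hH] at hy
    exact congrArg Subtype.val hy
  have hpow : ∀ g : G, g ^ p ∈ A := by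
    obtain ⟨H, hH⟩ := hquo A hA.ne_bot
    have h1 : (⊤ : Subgroup G) ≤ H.comap (QuotientGroup.mk' A) := by
      rw [← hgen, closure_le]
      intro g hg
      rw [SetLike.mem_coe, mem_comap, ← SetLike.mem_coe, hH, Set.mem_setOf_eq, ← map_pow,
        show g ^ p = 1 from hg, map_one]
    intro g
    have h2 := h1 (mem_top g)
    rw [mem_comap, ← SetLike.mem_coe, hH, Set.mem_setOf_eq, ← map_pow] at h2
    exact (QuotientGroup.eq_one_iff _).mp h2
  have hpA : ¬ p ∣ Nat.card A := by
    intro h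
    obtain ⟨x, hx⟩ := exists_prime_orderOf_dvd_card' (G := A) p h
    obtain ⟨H, hH⟩ := hsub A hAtop
    have hm : ∀ g : G, g ∈ H.map A.subtype ↔ g ∈ A ∧ g ^ p = 1 := by
      intro g
      constructor
      · rintro ⟨y, hy, rfl⟩
        rw [hH] at hy
        exact ⟨y.2, congrArg Subtype.val hy⟩
      · rintro ⟨h1, h2⟩
        refine ⟨⟨g, h1⟩, ?_, rfl⟩
        rw [hH]
        exact Subtype.ext h2
    haveI : (H.map A.subtype).Normal := ⟨fun n hn g => (hm _).mpr
      ⟨hA.normal.conj_mem _ ((hm n).mp hn).1 g, by rw [conj_pow, ((hm n).mp hn).2]; simp⟩⟩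
    rcases hA.eq_bot_or_eq (map_subtype_le H) with h1 | h1
    · have h2 : (x : G) ∈ H.map A.subtype :=
        (hm _).mpr ⟨x.2, by rw [← hx, ← coe_pow, pow_orderOf_eq_one, coe_one]⟩
      rw [h1, mem_bot] at h2
      rw [← Subgroup.orderOf_coe, h2, orderOf_one] at hx
      exact hp.one_lt.ne hx
    · refine hnp fun g => ⟨2, ?_⟩
      rw [sq, pow_mul]
      exact ((hm _).mp (h1.symm ▸ hpow g)).2
  refine S3868.result (fun h => hnc ⟨pCore p G, ?_⟩) (fun H hH => ?_) (fun N _ hN => ?_) hns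
  · ext g
    constructor
    · intro hg
      refine pow_eq_one hp A hpA hpow ?_
      simpa using (IsPGroup.iff_orderOf.mp (isPGroup_pCore p)) ⟨g, hg⟩
    · intro hg
      refine le_pCore_of_isPClosed h (K := zpowers g) ?_ (mem_zpowers g)
      refine isPGroup_of_forall_pow_eq_one ?_
      rintro _ ⟨k, rfl⟩
      simp only
      rw [← zpow_natCast, ← zpow_mul, mul_comm, zpow_mul, zpow_natCast, show g ^ p = 1 from hg,
        one_zpow]
  · exact closed (A.subgroupOf H) (fun h => hpA (h.trans (card_subgroupOf A H ▸ card_dvd_of_le inf_le_left)))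
      (fun g => hpow g) (hsub H hH)
  · refine closed (A.map (QuotientGroup.mk' N)) (fun h => hpA (h.trans (card_map_dvd _ _)))
      (fun g => ?_) (hquo N hN)
    obtain ⟨g, rfl⟩ := QuotientGroup.mk_surjective g
    exact ⟨_, hpow g, rfl⟩

end Cfsg.Agent.S3873
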