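import Mathlib
import Cfsg.Statements.S3875
import Cfsg.Agent.S0999
import Cfsg.Agent.S3868
import Cfsg.Agent.FG.H92Basic
import Cfsg.Agent.Perm.SpecAff
import Cfsg.Agent.Cl.PSL2Class
import Cfsg.Agent.Cl.PSL2Solv

set_option autoImplicit false
open Cfsg

namespace Cfsg.Agent.S3875

section aux

open Subgroup Cfsg.Agent.GT Cfsg.Agent.FG Cfsg.Agent.FG.H92
open scoped commutatorElement

theorem lower (p : ℕ) [hp : Fact p.Prime] (m : ℕ)
    (hleast : ∀ k : ℕ, IsPrimePow k → k % p = 1 → m ≤ k) (n : ℕ) :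
    ∀ (H : Type) [Group H] [Finite H], Nat.card H = n → ¬ Cfsg.IsPClosed p H →
      min (p * m) (p * (p ^ 2 - 1) / 2) ≤ n := by
  induction n using Nat.strong_induction_on with
  | _ n ih =>
  intro H _ _ hn hH
  by_cases hsub : ∀ K : Subgroup H, K ≠ ⊤ → Cfsg.IsPClosed p K
  swap
  · push Not at hsub
    obtain ⟨K, hK, hK'⟩ := hsub
    have hlt : Nat.card K < n := by
      rw [← hn, ← card_top (G := H)]
      exact card_lt_of_lt (lt_top_iff_ne_top.mpr hK)
    exact (ih _ hlt K rfl hK').trans hlt.le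
  by_cases hquo : ∀ (N : Subgroup H) [N.Normal], N ≠ ⊥ → Cfsg.IsPClosed p (H ⧸ N)
  swap
  · push Not at hquo
    obtain ⟨N, _, hN, hN'⟩ := hquo
    have hlt : Nat.card (H ⧸ N) < n := hn ▸ card_quotient_lt hN
    exact (ih _ hlt (H ⧸ N) rfl hN').trans hlt.le
  by_cases hs : IsSimpleGroup H
  swap
  · obtain ⟨q, hq, hqp, hc, -⟩ := Cfsg.Agent.S3868.result hH hsub hquo hs
    refine (min_le_left _ _).trans ?_
    rw [← hn, hc]
    refine Nat.mul_le_mul_left _ (hleast _ ?_ ?_)
    · have hu : (q : ZMod p) ≠ 0 := by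
        rw [Ne, ZMod.natCast_eq_zero_iff]
        exact fun h => hqp ((Nat.prime_dvd_prime_iff_eq hp.out hq).mp h).symm
      have hpos : orderOf (q : ZMod p) ≠ 0 := by
        have := orderOf_pos (Units.mk0 (q : ZMod p) hu)
        rw [← orderOf_units] at this
        exact this.ne'
      exact hq.isPrimePow.pow hpos
    · have h1 : ((q ^ orderOf (q : ZMod p) : ℕ) : ZMod p) = (1 : ℕ) := by
        push_cast
        exact pow_orderOf_eq_one _
      rw [ZMod.natCast_eq_natCast_iff'] at h1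
      rw [h1, Nat.mod_eq_of_lt hp.out.one_lt]
  refine (min_le_right _ _).trans ?_
  have hp2 : 1 ≤ p ^ 2 := Nat.one_le_pow _ _ hp.out.pos
  by_cases hbig : n < p ^ 3
  swap
  · refine le_trans (Nat.div_le_self _ _) (le_trans ?_ (not_lt.mp hbig))
    calc p * (p ^ 2 - 1) ≤ p * p ^ 2 := Nat.mul_le_mul_left _ (Nat.sub_le _ _)
      _ = p ^ 3 := by ring
  have hcyc : ¬ IsCyclic H := fun h => by
    letI := IsCyclic.commGroup (α := H)
    exact hH isPClosed_of_isNilpotent
  have hdvd : p ∣ Nat.card H := by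
    by_contra h
    exact hH (isPClosed_of_not_dvd h)
  rcases Cfsg.Agent.S0999.result hcyc p hp.out hdvd (hn ▸ hbig) with
    ⟨F, _, _, hF, h3, ⟨e⟩⟩ | ⟨k, F, _, _, hF, hk, h3, ⟨e⟩⟩
  · have hF' : Nat.card F = p := by rw [Nat.card_eq_fintype_card, hF]
    have h1 := Cl.L2.card_PSL_mul (F := F)
    rw [← Nat.card_congr e.toEquiv, hn, hF'] at h1
    have h2 : Nat.gcd 2 (p - 1) ≤ 2 := Nat.gcd_le_left _ (by norm_num)
    apply Nat.div_le_of_le_mul
    obtain ⟨r, rfl⟩ : ∃ r, p = r + 1 := ⟨p - 1, by omega⟩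
    have h4 : (r + 1) ^ 2 - 1 = r * (r + 2) := by
      apply Nat.sub_eq_of_eq_add; ring
    rw [h4]
    simp only [Nat.add_sub_cancel] at h1 h2
    calc (r + 1) * (r * (r + 2)) = n * Nat.gcd 2 r := by rw [h1]; ring
      _ ≤ n * 2 := Nat.mul_le_mul_left _ h2
      _ = 2 * n := by ring
  · have hF' : Nat.card F = 2 ^ k := by rw [Nat.card_eq_fintype_card, hF]
    have hk0 : k ≠ 0 := by
      rintro rfl
      omega
    have h2 : (2 : F) = 0 := by
      rw [Cl.L2.two_eq_zero_iff_even, hF']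
      exact Nat.even_iff.mp (Nat.even_pow.mpr ⟨even_two, hk0⟩)
    have h1 := Cl.L2.card_PSL_char_two h2
    rw [← Nat.card_congr e.toEquiv, hn, hF'] at h1
    have h5 : 5 ≤ p := by
      rcases (by omega : p = 4 ∨ 5 ≤ p) with h | h
      · exact absurd hp.out (by rw [h]; norm_num)
      · exact h
    obtain ⟨r, hr⟩ : ∃ r, 2 ^ k = r + 4 := ⟨2 ^ k - 4, by omega⟩
    rw [hr] at h1 hk
    apply Nat.div_le_of_le_mul
    have h4 : p ^ 2 - 1 = (r + 4) * (r + 6) := by
      apply Nat.sub_eq_of_eq_add; rw [hk]; ring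
    rw [h4, h1, hk, show r + 4 - 1 = r + 3 by omega]
    nlinarith [Nat.zero_le r, Nat.zero_le (r * r), Nat.zero_le (r * r * r)]

theorem exists_aff (p : ℕ) [hp : Fact p.Prime] (m : ℕ) (hm : IsPrimePow m) (hm1 : m % p = 1) :
    ∃ (H : Type) (_ : Group H) (_ : Finite H), Nat.card H = p * m ∧ ¬ Cfsg.IsPClosed p H := by
  obtain ⟨q, k, hq, hk, rfl⟩ := (isPrimePow_nat_iff _).mp hm
  haveI := Fact.mk hq
  let F := GaloisField q k
  have hF : Nat.card F = q ^ k := GaloisField.card q k hk.ne'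
  have hpd : p ∣ Nat.card Fˣ := by
    rw [Nat.card_units, hF]
    have h1 : 1 ≤ q ^ k := Nat.one_le_pow _ _ hq.pos
    refine (Nat.modEq_iff_dvd' h1).mp ?_
    rw [Nat.ModEq, hm1, Nat.mod_eq_of_lt hp.out.one_lt]
  obtain ⟨u, hu⟩ := exists_prime_orderOf_dvd_card' p hpd
  let ρ : zpowers u →* Module.End F F :=
    ((Algebra.lsmul F F F).toMonoidHom.comp (Units.coeHom F)).comp (zpowers u).subtype
  have hρ : ∀ (g : zpowers u) (v : F), ρ g v = ((g : Fˣ) : F) * v := fun g v => rfl
  refine ⟨Perm.Aff ρ, inferInstance, inferInstance, ?_, fun hc => ?_⟩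
  · rw [Nat.card_congr SemidirectProduct.equivProd, Nat.card_prod, Nat.card_zpowers, hu,
      Nat.card_congr Multiplicative.toAdd, hF, mul_comm]
  · let g : zpowers u := ⟨u, mem_zpowers u⟩
    let x : Perm.Aff ρ := SemidirectProduct.inr g
    let a : Perm.Aff ρ := SemidirectProduct.inl (Multiplicative.ofAdd (1 : F))
    have hx : orderOf x = p := by
      rw [Perm.aff_orderOf_inr, ← hu]
      exact (orderOf_coe g).symm
    have hxP : x ∈ pCore p (Perm.Aff ρ) := by
      refine le_pCore_of_isPClosed hc (K := zpowers x) ?_ (mem_zpowers x)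
      exact IsPGroup.of_card (n := 1) (by rw [Nat.card_zpowers, hx, pow_one])
    have hy : a * x * a⁻¹ * x⁻¹ ∈ pCore p (Perm.Aff ρ) :=
      mul_mem (Subgroup.Normal.conj_mem inferInstance x hxP a) (inv_mem hxP)
    have heq : a * x * a⁻¹ * x⁻¹ =
        SemidirectProduct.inl (Multiplicative.ofAdd (1 - (u : F))) := by
      rw [mul_assoc a, mul_assoc a, show a⁻¹ = SemidirectProduct.inl
        (Multiplicative.ofAdd (1 : F))⁻¹ from (map_inv _ _).symm,
        show x⁻¹ = SemidirectProduct.inr g⁻¹ from (map_inv _ _).symm, ← SemidirectProduct.inl_aut,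
        ← map_mul]
      congr 1
      change Multiplicative.ofAdd (1 : F) * Multiplicative.ofAdd (ρ g (-1 : F)) = _
      rw [hρ, ← ofAdd_add]
      congr 1
      change 1 + (u : F) * -1 = _
      ring
    rw [heq] at hy
    have hq1 : (SemidirectProduct.inl (Multiplicative.ofAdd (1 - (u : F))) : Perm.Aff ρ) ^ q = 1 := by
      rw [← map_pow, ← ofAdd_nsmul, nsmul_eq_mul, CharP.cast_eq_zero, zero_mul, ofAdd_zero, map_one]
    obtain ⟨j, hj⟩ := (isPGroup_pCore (p := p) (G := Perm.Aff ρ)) ⟨_, hy⟩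
    have hj' : (SemidirectProduct.inl (Multiplicative.ofAdd (1 - (u : F))) : Perm.Aff ρ) ^ p ^ j = 1 :=
      congrArg Subtype.val hj
    have hqp : q ≠ p := by
      rintro rfl
      rw [Nat.mod_eq_zero_of_dvd (dvd_pow_self q hk.ne')] at hm1
      exact zero_ne_one hm1
    have hco : Nat.gcd q (p ^ j) = 1 :=
      Nat.Coprime.pow_right j ((Nat.coprime_primes hq hp.out).mpr hqp)
    have h1 := pow_gcd_eq_one.mpr ⟨hq1, hj'⟩
    rw [hco, pow_one, ← map_one (SemidirectProduct.inl : _ →* Perm.Aff ρ),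
      SemidirectProduct.inl_inj, ofAdd_eq_one, sub_eq_zero] at h1
    have hu1 : u = 1 := Units.ext h1.symm
    rw [hu1, orderOf_one] at hu
    exact hp.out.one_lt.ne hu

theorem exists_psl (p : ℕ) [hp : Fact p.Prime] (h5 : 5 ≤ p) :
    ∃ (H : Type) (_ : Group H) (_ : Finite H), Nat.card H = p * (p ^ 2 - 1) / 2 ∧
      ¬ Cfsg.IsPClosed p H := by
  have hF : Nat.card (ZMod p) = p := Nat.card_zmod p
  have h2 : (2 : ZMod p) ≠ 0 := by
    rw [Cl.L2.two_ne_zero_iff_odd, hF]
    exact Nat.odd_iff.mp (hp.out.odd_of_ne_two (by omega))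
  have h1 := Cl.L2.card_PSL_two h2
  rw [hF] at h1
  refine ⟨Matrix.ProjectiveSpecialLinearGroup (Fin 2) (ZMod p), inferInstance, inferInstance,
    ?_, fun hc => ?_⟩
  · symm
    apply Nat.div_eq_of_eq_mul_left two_pos
    rw [h1]
    obtain ⟨r, rfl⟩ : ∃ r, p = r + 1 := ⟨p - 1, by omega⟩
    have h4 : (r + 1) ^ 2 - 1 = r * (r + 2) := by
      apply Nat.sub_eq_of_eq_add; ring
    rw [h4, Nat.add_sub_cancel]
    ring
  · obtain ⟨P, hP⟩ := Cl.L2.exists_uniS_eq_sylow (F := ZMod p) p Cl.L2.inf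
    obtain ⟨Q, hQ⟩ := Cl.L2.exists_uniS_eq_sylow (F := ZMod p) p (Cl.L2.pt 0)
    haveI := hc P
    have hPQ : Q = P := by
      haveI := Sylow.unique_of_normal P (hc P)
      exact Subsingleton.elim _ _
    rw [hPQ, hP] at hQ
    exact Cl.L2.inf_ne_pt _ (Cl.L2.uniS_injective hQ)

end aux

open Subgroup Cfsg.Agent.GT Cfsg.Agent.FG Cfsg.Agent.FG.H92 in
open scoped commutatorElement in
/-- Let p be an odd prime and let m be the least prime power congruent to 1 modulo p. Then the least order of a finite group whose Sylow p-subgroups are not normal is the smaller of p · m and p(p² − 1)/2: every finite group whose Sylow p-subgroups are not normal has at least that order, and some group of exactly that order has non-normal Sylow p-subgroups. -/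
theorem result (p : ℕ) [Fact p.Prime] (hp : p ≠ 2) (m : ℕ) (hm : IsPrimePow m) (hm1 : m % p = 1)
    (hleast : ∀ k : ℕ, IsPrimePow k → k % p = 1 → m ≤ k) :
    (∀ (H : Type) [Group H] [Finite H], ¬ Cfsg.IsPClosed p H → min (p * m) (p * (p ^ 2 - 1) / 2) ≤ Nat.card H) ∧
      ∃ (H : Type) (_ : Group H) (_ : Finite H), Nat.card H = min (p * m) (p * (p ^ 2 - 1) / 2) ∧ ¬ Cfsg.IsPClosed p H := by
  refine ⟨fun H _ _ hH => lower p m hleast _ H rfl hH, ?_⟩
  rcases le_total (p * m) (p * (p ^ 2 - 1) / 2) with h | h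
  · rw [min_eq_left h]
    exact exists_aff p m hm hm1
  · by_cases h5 : 5 ≤ p
    · rw [min_eq_right h]
      exact exists_psl p h5
    · have hp' := (Fact.out : p.Prime)
      have h3 : p = 3 := by
        have := hp'.two_le
        rcases (by omega : p = 3 ∨ p = 4) with h | h
        · exact h
        · exact absurd hp' (by rw [h]; norm_num)
      subst h3
      have h4 : m ≤ 4 := hleast 4 ⟨2, 2, Nat.prime_two.prime, two_pos, rfl⟩ rfl
      rw [min_eq_left (by norm_num; omega)]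
      exact exists_aff 3 m hm hm1

end Cfsg.Agent.S3875
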