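import Cfsg.Statements.S3892
import Cfsg.Agent.Sym.Hall
import Cfsg.Agent.GT.PGroupBasic
import Cfsg.Agent.Sym.Order

set_option autoImplicit false
open Cfsg

namespace Cfsg.Agent.S3892
open Subgroup Equiv Equiv.Perm

theorem le_centralizer {G : Type*} [Group G] [Finite G] {p : ℕ} (hp : p.Prime)
    (h2 : ¬ p ^ 2 ∣ Nat.card G) {x : G} (hx : orderOf x = p) {A : Subgroup G}
    (hA : Group.IsNilpotent A) (hxA : x ∈ A) : A ≤ centralizer {x} := by
  haveI := Fact.mk hp
  have h1 : IsPGroup p (zpowers (⟨x, hxA⟩ : A)) :=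
    IsPGroup.of_card (n := 1) (by rw [Nat.card_zpowers, orderOf_mk, hx, pow_one])
  obtain ⟨P, hP⟩ := h1.exists_le_sylow
  haveI : (P : Subgroup A).Normal := inferInstance
  obtain ⟨k, hk⟩ := P.2.exists_card_eq
  have h3 : k = 1 := by
    have h4 := card_dvd_of_le hP
    rw [Nat.card_zpowers, orderOf_mk, hx, hk] at h4
    have h5 : ¬ 2 ≤ k := fun h => h2 ((pow_dvd_pow p h).trans (hk ▸
      (card_subgroup_dvd_card _).trans (card_subgroup_dvd_card A)))
    have h6 : k ≠ 0 := fun h => hp.ne_one (by simpa [h] using h4)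
    omega
  have h4 := GT.PG.le_center_of_card_prime hp (P : Subgroup A) (by rw [hk, h3, pow_one])
    (hP (mem_zpowers _))
  exact fun g hg => mem_centralizer_singleton_iff.2
    (congrArg Subtype.val (mem_center_iff.1 h4 ⟨g, hg⟩))

theorem no_cover {G : Type*} [Group G] [Finite G] {p : ℕ} (hp : p.Prime)
    (h2 : ¬ p ^ 2 ∣ Nat.card G) {x y : G} (hx : orderOf x = p) (hy : orderOf y = p)
    (hxy : ¬ Commute x y) (M : Subgroup G) (hM : M ≠ ⊤) (hxM : centralizer {x} ≤ M)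
    (hyM : centralizer {y} ≤ M) :
    ¬ ∃ 𝓐 : Finset (Subgroup G), ((∀ A ∈ 𝓐, A ≠ ⊤) ∧ (∀ g : G, ∃ A ∈ 𝓐, g ∈ A)) ∧
      (∀ 𝓑 : Finset (Subgroup G), (∀ A ∈ 𝓑, A ≠ ⊤) ∧ (∀ g : G, ∃ A ∈ 𝓑, g ∈ A) →
        𝓐.card ≤ 𝓑.card) ∧ (∀ A ∈ 𝓐, Group.IsNilpotent A) := by
  classical
  rintro ⟨𝓐, ⟨h1, h3⟩, h4, h5⟩
  obtain ⟨A, hA, hxA⟩ := h3 x
  obtain ⟨B, hB, hyB⟩ := h3 y
  have hAx := le_centralizer hp h2 hx (h5 A hA) hxA
  have hBy := le_centralizer hp h2 hy (h5 B hB) hyB
  have hAB : B ≠ A := fun h => hxy (mem_centralizer_singleton_iff.1 (hBy (h ▸ hxA)))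
  have h6 := h4 (insert M ((𝓐.erase A).erase B)) ⟨fun C hC => ?_, fun g => ?_⟩
  · have h7 := Finset.card_insert_le M ((𝓐.erase A).erase B)
    have h8 := Finset.card_erase_add_one (Finset.mem_erase.2 ⟨hAB, hB⟩)
    have h9 := Finset.card_erase_add_one hA
    omega
  · rcases Finset.mem_insert.1 hC with rfl | hC
    · exact hM
    · exact h1 C (Finset.mem_of_mem_erase (Finset.mem_of_mem_erase hC))
  · obtain ⟨C, hC, hg⟩ := h3 g
    by_cases hCA : C = A
    · exact ⟨M, Finset.mem_insert_self _ _, hxM (hAx (hCA ▸ hg))⟩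
    by_cases hCB : C = B
    · exact ⟨M, Finset.mem_insert_self _ _, hyM (hBy (hCB ▸ hg))⟩
    · exact ⟨C, by simp [hC, hCA, hCB], hg⟩

theorem large {G α : Type*} [Group G] [Finite G] [Fintype α] [DecidableEq α] (φ : G →* Perm α)
    (hφ : Function.Injective φ) (hA : alternatingGroup α ≤ φ.range) (h6 : 6 ≤ Fintype.card α) :
    ¬ ∃ 𝓐 : Finset (Subgroup G), ((∀ A ∈ 𝓐, A ≠ ⊤) ∧ (∀ g : G, ∃ A ∈ 𝓐, g ∈ A)) ∧
      (∀ 𝓑 : Finset (Subgroup G), (∀ A ∈ 𝓑, A ≠ ⊤) ∧ (∀ g : G, ∃ A ∈ 𝓑, g ∈ A) →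
        𝓐.card ≤ 𝓑.card) ∧ (∀ A ∈ 𝓐, Group.IsNilpotent A) := by
  obtain ⟨p, hp, h1, h2⟩ := Nat.exists_prime_lt_and_le_two_mul (Fintype.card α / 2) (by omega)
  obtain ⟨k, hk⟩ := hp.odd_of_ne_two (by omega)
  obtain ⟨x, hx⟩ := (exists_with_cycleType_iff α (m := {p})).2 ⟨by simp; omega, by simp; omega⟩
  have hc : x.IsCycle := card_cycleType_eq_one.1 (by rw [hx]; rfl)
  have hs : x.support.card = p := by rw [← sum_cycleType, hx]; rfl
  have ho : orderOf x = p := by rw [hc.orderOf, hs]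
  obtain ⟨a, ha, -⟩ := hc
  have hne : ∀ i j : ℕ, i < j → j < p → (x ^ i) a ≠ (x ^ j) a := fun i j hij hj h => by
    have h3 : (x ^ (j - i)) ((x ^ i) a) = (x ^ i) a := by
      rw [← mul_apply, ← pow_add, Nat.sub_add_cancel hij.le, h]
    have h4 := (IsCycle.pow_eq_one_iff (card_cycleType_eq_one.1 (by rw [hx]; rfl))).2
      ⟨_, mem_support.1 ((pow_apply_mem_support (n := i)).2 (mem_support.2 ha)), h3⟩
    have := Nat.le_of_dvd (by omega) (ho ▸ orderOf_dvd_of_pow_eq_one h4)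
    omega
  have h01 : a ≠ x a := by simpa using hne 0 1 (by omega) (by omega)
  have h02 : a ≠ x (x a) := by simpa [pow_succ] using hne 0 2 (by omega) (by omega)
  have h03 : a ≠ x (x (x a)) := by simpa [pow_succ] using hne 0 3 (by omega) (by omega)
  have hxo : ∀ z : Perm α, orderOf z = p → ∃ z', φ z' = z ∧ orderOf z' = p := fun z hz => by
    obtain ⟨z', rfl⟩ := hA (Sym.mem_alternatingGroup_of_odd_orderOf (g := z) ⟨k, hz ▸ hk⟩)
    exact ⟨z', rfl, by rwa [orderOf_injective φ hφ] at hz⟩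
  obtain ⟨x', hx1, hx2⟩ := hxo x ho
  obtain ⟨y', hy1, hy2⟩ := hxo (swap a (x a) * x * (swap a (x a))⁻¹) (by rw [GT.orderOf_conj, ho])
  have hsw : swap a (x a) ∈ Sym.fiberStab fun b => decide (b ∈ x.support) :=
    Sym.swap_mem_fiberStab (by simp [ha])
  have hcent : ∀ g : Perm α, Commute g x → g ∈ Sym.fiberStab fun b => decide (b ∈ x.support) :=
    fun g hg b => by simp only [mem_support, ← mul_apply, ← hg.eq]; simp
  refine no_cover hp (fun h => ?_) hx2 hy2 (fun h => ?_)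
    ((Sym.fiberStab fun b => decide (b ∈ x.support)).comap φ) (fun h => ?_) (fun g hg => ?_)
    fun g hg => ?_
  · have h3 := h.trans (card_dvd_of_injective φ hφ)
    rw [Nat.card_perm, Nat.card_eq_fintype_card, hp.pow_dvd_iff_le_factorization
      (Nat.factorial_ne_zero _), Sym.factorization_factorial_of_lt_sq hp (by
        have := Nat.mul_le_mul_right p hp.two_le; omega)] at h3
    have := (Nat.le_div_iff_mul_le hp.pos).1 h3
    omega
  · have h3 := congrArg (fun g => g (x a)) (h.map φ).eq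
    simp only [hx1, hy1, mul_apply, swap_inv, swap_apply_right, swap_apply_left] at h3
    rw [swap_apply_of_ne_of_ne h02.symm (x.injective.ne h01).symm,
      swap_apply_of_ne_of_ne h03.symm (x.injective.ne h02).symm] at h3
    exact h02 (x.injective h3)
  · obtain ⟨w, hw⟩ := Sym.exists_not_mem_of_card_lt (s := x.support) (by omega)
    have hw' : x a ≠ w := fun h => hw (h ▸ apply_mem_support.2 (mem_support.2 ha))
    obtain ⟨g, hg⟩ := hA (Sym.cyc3_mem_alternatingGroup h01 hw')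
    have h3 := (h.ge (mem_top g)) (x a)
    rw [hg, Sym.cyc3_apply_snd (fun h : a = w => hw (h ▸ mem_support.2 ha)) hw'] at h3
    simp [hw, ha] at h3
  · exact hcent _ (hx1 ▸ (show Commute g x' from mem_centralizer_singleton_iff.1 hg).map φ)
  · have h3 := ((show Commute g y' from mem_centralizer_singleton_iff.1 hg).map φ).map
      (MulAut.conj (swap a (x a))⁻¹)
    rw [hy1, MulAut.conj_apply, MulAut.conj_apply] at h3
    have h4 := mul_mem (mul_mem hsw (hcent _ (by simpa [mul_assoc] using h3))) (inv_mem hsw)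
    simpa [mul_assoc] using h4

theorem five : ∀ g : Perm (Fin 5), sign g = 1 →
    g * (swap 0 1 * swap 1 2) = swap 0 1 * swap 1 2 * g ∨
      g * (swap 0 1 * swap 1 3) = swap 0 1 * swap 1 3 * g → g 4 = 4 := by
  decide +kernel

theorem five' : ∀ g : Perm (Fin 5), g * finRotate 5 = finRotate 5 * g ∨
      g * (swap 0 1 * finRotate 5 * swap 0 1) = swap 0 1 * finRotate 5 * swap 0 1 * g →
        sign g = 1 := by
  decide +kernel

theorem four : ∀ g : Perm (Fin 4), g * (swap 0 1 * swap 1 2) = swap 0 1 * swap 1 2 * g ∨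
      g * (swap 0 1 * swap 1 3) = swap 0 1 * swap 1 3 * g → sign g = 1 := by
  decide +kernel


/-- A cover of a group is a finite set of proper subgroups whose union is the whole group; it is minimal when no cover has fewer members, and nilpotent when all its members are nilpotent. The alternating groups of degree at least 5 and the symmetric groups of degree at least 4 have no nilpotent minimal cover. -/
theorem result (n : ℕ) :
    (5 ≤ n → ¬ ∃ 𝓐 : Finset (Subgroup ↥(alternatingGroup (Fin n))), ((∀ A ∈ 𝓐, A ≠ ⊤) ∧ (∀ g : ↥(alternatingGroup (Fin n)), ∃ A ∈ 𝓐, g ∈ A)) ∧ (∀ 𝓑 : Finset (Subgroup ↥(alternatingGroup (Fin n))), (∀ A ∈ 𝓑, A ≠ ⊤) ∧ (∀ g : ↥(alternatingGroup (Fin n)), ∃ A ∈ 𝓑, g ∈ A) → 𝓐.card ≤ 𝓑.card) ∧ (∀ A ∈ 𝓐, Group.IsNilpotent ↥A)) ∧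
    (4 ≤ n → ¬ ∃ 𝓐 : Finset (Subgroup (Equiv.Perm (Fin n))), ((∀ A ∈ 𝓐, A ≠ ⊤) ∧ (∀ g : (Equiv.Perm (Fin n)), ∃ A ∈ 𝓐, g ∈ A)) ∧ (∀ 𝓑 : Finset (Subgroup (Equiv.Perm (Fin n))), (∀ A ∈ 𝓑, A ≠ ⊤) ∧ (∀ g : (Equiv.Perm (Fin n)), ∃ A ∈ 𝓑, g ∈ A) → 𝓐.card ≤ 𝓑.card) ∧ (∀ A ∈ 𝓐, Group.IsNilpotent ↥A)) := by
  have h5 : Nat.card (Equiv.Perm (Fin 5)) = 120 := by rw [Nat.card_perm]; simp [Nat.factorial]
  have h4 : Nat.card (Equiv.Perm (Fin 4)) = 24 := by rw [Nat.card_perm]; simp [Nat.factorial]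
  haveI : Fact (Nat.Prime 3) := ⟨Nat.prime_three⟩
  haveI : Fact (Nat.Prime 5) := ⟨Nat.prime_five⟩
  refine ⟨fun hn => ?_, fun hn => ?_⟩
  · rcases hn.eq_or_lt with rfl | hn
    · refine no_cover Nat.prime_three (fun h => ?_)
        (x := ⟨Equiv.swap 0 1 * Equiv.swap 1 2, mem_alternatingGroup.2 (by decide)⟩)
        (y := ⟨Equiv.swap 0 1 * Equiv.swap 1 3, mem_alternatingGroup.2 (by decide)⟩)
        (orderOf_eq_prime (by decide) (by decide)) (orderOf_eq_prime (by decide) (by decide))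
        (by unfold Commute SemiconjBy; decide) (MulAction.stabilizer _ (4 : Fin 5)) (fun h => ?_)
        (fun g hg => five g g.2 (Or.inl (congrArg Subtype.val
          (Subgroup.mem_centralizer_singleton_iff.1 hg))))
        fun g hg => five g g.2 (Or.inr (congrArg Subtype.val
          (Subgroup.mem_centralizer_singleton_iff.1 hg)))
      · exact absurd (h5 ▸ h.trans (Subgroup.card_subgroup_dvd_card _)) (by decide)
      · have h3 : (Equiv.swap 0 1 * Equiv.swap 1 4 : Perm (Fin 5)) 4 = 4 :=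
          h.ge (Subgroup.mem_top
            ⟨Equiv.swap 0 1 * Equiv.swap 1 4, mem_alternatingGroup.2 (by decide)⟩)
        exact absurd h3 (by decide)
    · exact large (alternatingGroup (Fin n)).subtype Subtype.val_injective (by simp) (by simpa)
  · have hne : alternatingGroup (Fin n) ≠ ⊤ := fun h => Sym.swap_not_mem_alternatingGroup
      (a := (⟨0, by omega⟩ : Fin n)) (b := ⟨1, by omega⟩) (by simp) (h ▸ Subgroup.mem_top _)
    rcases hn.eq_or_lt with rfl | hn
    · exact no_cover Nat.prime_three (by rw [h4]; decide) (x := Equiv.swap 0 1 * Equiv.swap 1 2)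
        (y := Equiv.swap 0 1 * Equiv.swap 1 3)
        (orderOf_eq_prime (by decide) (by decide)) (orderOf_eq_prime (by decide) (by decide))
        (by unfold Commute SemiconjBy; decide) _ hne
        (fun g hg => four g (Or.inl (Subgroup.mem_centralizer_singleton_iff.1 hg)))
        fun g hg => four g (Or.inr (Subgroup.mem_centralizer_singleton_iff.1 hg))
    rcases (show 5 ≤ n from hn).eq_or_lt with rfl | hn
    · exact no_cover Nat.prime_five (by rw [h5]; decide) (x := finRotate 5)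
        (y := Equiv.swap 0 1 * finRotate 5 * Equiv.swap 0 1)
        (orderOf_eq_prime (by decide) (by decide)) (orderOf_eq_prime (by decide) (by decide))
        (by unfold Commute SemiconjBy; decide) _ hne
        (fun g hg => five' g (Or.inl (Subgroup.mem_centralizer_singleton_iff.1 hg)))
        fun g hg => five' g (Or.inr (Subgroup.mem_centralizer_singleton_iff.1 hg))
    · exact large (MonoidHom.id _) Function.injective_id (fun g _ => ⟨g, rfl⟩) (by simpa)

end Cfsg.Agent.S3892
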