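import Mathlib
import Cfsg.Statements.S3893
import Cfsg.Agent.Chev.SzPart
import Cfsg.Agent.Chev.SzLie
-- import your own Cfsg.Agent.* helpers here

set_option autoImplicit false
open Cfsg

namespace Cfsg.Agent.S3893

open Cfsg.Agent.Chev.Sz

theorem aux {F : Type*} [Field F] {m : ℕ} [SzF F m] {G : Type*} [Group G] (e : Cfsg.Sz F m ≃* G) :
    ¬ ∃ 𝓐 : Finset (Subgroup G), ((∀ A ∈ 𝓐, A ≠ ⊤) ∧ (∀ g : G, ∃ A ∈ 𝓐, g ∈ A)) ∧
      (∀ 𝓑 : Finset (Subgroup G), (∀ A ∈ 𝓑, A ≠ ⊤) ∧ (∀ g : G, ∃ A ∈ 𝓑, g ∈ A) → 𝓐.card ≤ 𝓑.card) ∧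
      (∀ A ∈ 𝓐, Group.IsNilpotent ↥A) := by
  classical
  rintro ⟨𝓐, ⟨-, hcov⟩, hmin, hnil⟩
  let 𝓟 : Finset (Subgroup (Cfsg.Sz F m)) := (Set.toFinite {U | IsPart U}).toFinset
  have h𝓟 : ∀ U, U ∈ 𝓟 ↔ IsPart U := fun U => by simp [𝓟]
  have h1 : ∀ U : Subgroup (Cfsg.Sz F m), IsPart U → ∃ A ∈ 𝓐, ∃ g ∈ U, g ≠ 1 ∧
      ∀ V, IsPart V → A.comap e.toMonoidHom ≤ V → V = U := by
    intro U hU
    have h0 : U ≠ ⊥ := by
      rintro rfl
      exact hU.normalizer_ne_top (Subgroup.normalizer_eq_top _)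
    obtain ⟨⟨g, hg⟩, hg1⟩ := Subgroup.ne_bot_iff_exists_ne_one.mp h0
    have hg2 : g ≠ 1 := fun h => hg1 (Subtype.ext h)
    obtain ⟨A, hA, hgA⟩ := hcov (e g)
    exact ⟨A, hA, g, hg, hg2, fun V hV hle => hV.unique hU (hle hgA) hg hg2⟩
  choose! f hf using h1
  have h2 : 𝓟.card ≤ 𝓐.card := by
    refine Finset.card_le_card_of_injOn f (fun U hU => (hf U ((h𝓟 U).mp hU)).1) ?_
    intro U hU V hV h
    have hU' := (h𝓟 U).mp hU
    have hV' := (h𝓟 V).mp hV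
    have := hnil _ (hf U hU').1
    have h3 : Group.IsNilpotent ((f U).comap e.toMonoidHom) := by
      rw [Subgroup.comap_equiv_eq_map_symm']
      exact Group.nilpotent_of_mulEquiv (e.symm.subgroupMap (f U))
    obtain ⟨W, hW, hle⟩ := exists_isPart_ge_of_isNilpotent h3
    obtain ⟨-, -, -, -, h4⟩ := hf U hU'
    obtain ⟨-, -, -, -, h5⟩ := hf V hV'
    exact (h4 W hW hle).symm.trans (h5 W hW (h ▸ hle))
  have hT : IsPart (torAt (inf : Ov F m) (pt 0 0)) := (isTorus_torAt (inf_ne_pt 0 0)).isPart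
  have h3 := hmin ((𝓟.erase (torAt inf (pt 0 0))).image fun U : Subgroup (Cfsg.Sz F m) =>
    (Subgroup.normalizer (U : Set (Cfsg.Sz F m))).map e.toMonoidHom) ⟨?_, ?_⟩
  · have h4 := Finset.card_erase_lt_of_mem ((h𝓟 _).mpr hT)
    have h5 := h3.trans Finset.card_image_le
    omega
  · intro A hA
    obtain ⟨U, hU, rfl⟩ := Finset.mem_image.mp hA
    intro h
    apply ((h𝓟 U).mp (Finset.mem_of_mem_erase hU)).normalizer_ne_top
    apply Subgroup.map_injective (f := e.toMonoidHom) e.injective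
    rw [h, Subgroup.map_top_of_surjective _ e.surjective]
  · intro g
    obtain ⟨g, rfl⟩ := e.surjective g
    obtain ⟨U, hU, hg⟩ := exists_isPart g
    by_cases h : U = torAt inf (pt 0 0)
    · subst h
      refine ⟨_, Finset.mem_image_of_mem _ (Finset.mem_erase.mpr ⟨?_, (h𝓟 _).mpr (isPart_sylAt inf)⟩),
        g, ?_, rfl⟩
      · intro h
        exact (isTorus_torAt (inf_ne_pt (F := F) (m := m) 0 0)).not_mem_sylAt (g := ue 0 1)
          (by rw [← h, sylAt_inf]; simp) (by simp) inf (by rw [sylAt_inf]; simp)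
      · rw [normalizer_sylAt]
        exact hg.1
    · exact ⟨_, Finset.mem_image_of_mem _ (Finset.mem_erase.mpr ⟨h, (h𝓟 _).mpr hU⟩), g,
        Subgroup.le_normalizer hg, rfl⟩

/-- A cover of a group is a finite set of proper subgroups whose union is the whole group; it is minimal when no cover has fewer members, and nilpotent when all its members are nilpotent. The Suzuki groups Sz(q), q = 2^(2m+1) with m ≥ 1, have no nilpotent minimal cover. -/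
theorem result {F : Type*} [Field F] [Fintype F] (m : ℕ) (hm : 1 ≤ m) (hF : Fintype.card F = 2 ^ (2 * m + 1)) :
    ¬ ∃ 𝓐 : Finset (Subgroup ↥(Cfsg.Lie.Sz F (2 ^ (m + 1)))), ((∀ A ∈ 𝓐, A ≠ ⊤) ∧ (∀ g : ↥(Cfsg.Lie.Sz F (2 ^ (m + 1))), ∃ A ∈ 𝓐, g ∈ A)) ∧ (∀ 𝓑 : Finset (Subgroup ↥(Cfsg.Lie.Sz F (2 ^ (m + 1)))), (∀ A ∈ 𝓑, A ≠ ⊤) ∧ (∀ g : ↥(Cfsg.Lie.Sz F (2 ^ (m + 1))), ∃ A ∈ 𝓑, g ∈ A) → 𝓐.card ≤ 𝓑.card) ∧ (∀ A ∈ 𝓐, Group.IsNilpotent ↥A) := by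
  have := SzF.of_card hm hF
  exact aux (szEquiv F m)

end Cfsg.Agent.S3893
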