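import Mathlib
import Cfsg.Statements.S3904
import Cfsg.Agent.FG.MaxCent

set_option autoImplicit false
open Cfsg

namespace Cfsg.Agent.S3904

section aux

open Subgroup Cfsg.Agent.GT Cfsg.Agent.FG Cfsg.Agent.FG.H92 Cfsg.Agent.FG.MaxCent
open scoped commutatorElement



end aux

open Subgroup Cfsg.Agent.GT Cfsg.Agent.FG Cfsg.Agent.FG.H92 Cfsg.Agent.FG.MaxCent in
open scoped commutatorElement in
/-- Let G be a non-abelian finite group in which the centralizer of every non-central element is a maximal subgroup. Then G/Z(G) is either an elementary abelian p-group for some prime p, or a minimal non-abelian group (non-abelian with all proper subgroups abelian) of order p^a · q for distinct primes p, q with a normal Sylow p-subgroup. -/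
theorem result {G : Type*} [Group G] [Finite G] (hna : ¬ IsMulCommutative G)
    (h : ∀ x : G, x ∉ Subgroup.center G → IsCoatom (Subgroup.centralizer ({x} : Set G))) :
    (∃ p : ℕ, p.Prime ∧ Cfsg.IsElementaryAbelian p (⊤ : Subgroup (G ⧸ Subgroup.center G))) ∨
    (¬ IsMulCommutative (G ⧸ Subgroup.center G) ∧ (∀ H : Subgroup (G ⧸ Subgroup.center G), H ≠ ⊤ → IsMulCommutative ↥H) ∧
      ∃ p q a : ℕ, p.Prime ∧ q.Prime ∧ p ≠ q ∧ Nat.card (G ⧸ Subgroup.center G) = p ^ a * q ∧
        ∀ P : Subgroup (G ⧸ Subgroup.center G), Nat.card ↥P = p ^ a → P.Normal) := by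
  have hH : Hyp (⊤ : Subgroup G) := fun x _ hx => h x (by rwa [centralizer_top] at hx)
  have hs := hH.structure
  simp only [centralizer_top, top_inf_eq] at hs
  rcases hs with ⟨p, hp, h1, h2⟩ | ⟨p, r, V, y, hp, hr, hVn, -, hV, hVc, hVp, -,
    hy, hsup, hinf, hfpf, hDc, hDr⟩
  · refine Or.inl ⟨p, hp, isMulCommutative_of_comm fun a _ b _ => ?_, fun a _ => ?_⟩
    · obtain ⟨a, rfl⟩ := QuotientGroup.mk_surjective a
      obtain ⟨b, rfl⟩ := QuotientGroup.mk_surjective b
      rw [← commutatorElement_eq_one_iff_mul_comm]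
      exact (QuotientGroup.eq_one_iff ⁅a, b⁆).mpr (h1 (commutator_mem_commutator trivial trivial))
    · obtain ⟨a, rfl⟩ := QuotientGroup.mk_surjective a
      exact (QuotientGroup.eq_one_iff (a ^ p)).mpr (h2 a trivial)
  right
  obtain ⟨k1, k2, k3, k4⟩ := frob_quot (p := p) hr hsup (center_le_centralizer _) hinf hV
    (fun hle => hy (hle (mem_centralizer_singleton_iff.mpr rfl))) hfpf hVc hVp hDc hDr
  haveI := normal_map_mk' (N := center G) V
  set K := V.map (QuotientGroup.mk' (center G))
  set Q := (centralizer {y}).map (QuotientGroup.mk' (center G))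
  haveI := Fact.mk hp
  haveI := Fact.mk hr
  have hQ : IsCoatom Q := SS.isCoatom_map_mk' (h y hy) (center_le_centralizer _)
  have hker := k1.kernel_eq_of_isComplement' k3
  obtain ⟨a, ha⟩ := IsPGroup.iff_card.mp (isPGroup_of_forall_pow_eq_one k4.2)
  have hcop := k1.coprime_card_index
  rw [k3.index_eq_card, k2, ha] at hcop
  have ha0 : a ≠ 0 := by
    rintro rfl
    exact k1.ne_bot_of_coe_eq hker.symm (card_eq_one.mp (by simpa using ha))
  have hpr : p ≠ r := by
    rintro rfl
    exact hp.one_lt.ne' (hcop.eq_one_of_dvd (dvd_pow_self p ha0))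
  refine ⟨fun hc => k1.not_normal inferInstance, fun H hH => ?_, p, r, a, hp, hr, hpr,
    by rw [← k3.card_mul, ha, k2], fun P hP => ?_⟩
  · by_cases hHK : H ≤ K
    · exact PG.isMulCommutative_of_le hHK k4.1
    obtain ⟨x, hxH, hxK⟩ := SetLike.not_le_iff_exists.mp hHK
    obtain ⟨hx1, g, hg⟩ := Frob.notMem_frobeniusKernel_iff.mp (show x ∉ Cfsg.frobeniusKernel Q by
      rwa [hker])
    have h1 : zpowers (g * x * g⁻¹) = Q := by
      refine eq_of_le_of_card_ge (zpowers_le.mpr hg) ?_
      have h2 := card_dvd_of_le (zpowers_le.mpr hg)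
      rw [k2, Nat.dvd_prime hr] at h2
      rcases h2 with h2 | h2
      · rw [card_eq_one, zpowers_eq_bot, conj_eq_one_iff] at h2
        exact (hx1 h2).elim
      · rw [h2, k2]
    have h2 : IsCoatom (zpowers x) := by
      have := isCoatom_map_conj hQ g⁻¹
      rwa [← h1, ← map_conj_zpowers, map_conj_inv_map_conj] at this
    rw [(h2.le_iff_eq hH).mp (zpowers_le.mpr hxH)]
    infer_instance
  · have h1 : P ≤ K := by
      refine le_of_coprime_card_index ?_
      rw [k3.symm.index_eq_card, k2, hP]
      exact hcop.symm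
    rw [eq_of_le_of_card_ge h1 (by rw [hP, ha])]
    infer_instance

end Cfsg.Agent.S3904
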