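import Mathlib
import Cfsg.Statements.S3905
import Cfsg.Agent.FG.MaxCent

set_option autoImplicit false
open Cfsg

namespace Cfsg.Agent.S3905

section aux

open Subgroup Cfsg.Agent.GT Cfsg.Agent.FG Cfsg.Agent.FG.H92 Cfsg.Agent.FG.MaxCent
open scoped commutatorElement



end aux

open Subgroup Cfsg.Agent.GT Cfsg.Agent.FG Cfsg.Agent.FG.H92 Cfsg.Agent.FG.MaxCent in
open scoped commutatorElement in
/-- Let N be a normal subgroup of the finite group G such that for every element x of N outside the center of N the centralizer C_G(x) is a maximal subgroup of G. Then N/Z(N) is either an elementary abelian p-group for some prime p, or a Frobenius group whose kernel is an elementary abelian normal subgroup and whose complement has prime order. -/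
theorem result {G : Type*} [Group G] [Finite G] (N : Subgroup G) [N.Normal]
    (h : ∀ x : G, x ∈ N → x ∉ Subgroup.centralizer (N : Set G) → IsCoatom (Subgroup.centralizer ({x} : Set G))) :
    (∃ p : ℕ, p.Prime ∧ Cfsg.IsElementaryAbelian p (⊤ : Subgroup (↥N ⧸ Subgroup.center ↥N))) ∨
    (∃ (Q K : Subgroup (↥N ⧸ Subgroup.center ↥N)) (p : ℕ), p.Prime ∧ Cfsg.IsFrobeniusComplement Q ∧ (Nat.card ↥Q).Prime ∧
      K.Normal ∧ (K : Set (↥N ⧸ Subgroup.center ↥N)) = Cfsg.frobeniusKernel Q ∧ Cfsg.IsElementaryAbelian p K) := by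
  have hZ : ∀ x : N, x ∈ center N ↔ (x : G) ∈ centralizer (N : Set G) := fun x => by
    rw [center_eq_subgroupOf, mem_subgroupOf]
  rcases Hyp.structure h with ⟨p, hp, h1, h2⟩ | ⟨p, r, V, y, hp, hr, hVn, hVN, hV, hVc, hVp, hyN,
    hy, hsup, hinf, hfpf, hDc, hDr⟩
  · refine Or.inl ⟨p, hp, isMulCommutative_of_comm fun a _ b _ => ?_, fun a _ => ?_⟩
    · obtain ⟨a, rfl⟩ := QuotientGroup.mk_surjective a
      obtain ⟨b, rfl⟩ := QuotientGroup.mk_surjective b
      rw [← commutatorElement_eq_one_iff_mul_comm]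
      exact (QuotientGroup.eq_one_iff ⁅a, b⁆).mpr ((hZ _).mpr (h1 (commutator_mem_commutator a.2 b.2)))
    · obtain ⟨a, rfl⟩ := QuotientGroup.mk_surjective a
      exact (QuotientGroup.eq_one_iff (a ^ p)).mpr ((hZ _).mpr (h2 a a.2))
  · right
    obtain ⟨k1, k2, k3, k4⟩ := frob_quot (H := N) (p := p) hr (V := V.subgroupOf N)
      (D := (N ⊓ centralizer {y}).subgroupOf N)
      (by rw [← subgroupOf_sup hVN inf_le_left, hsup, subgroupOf_self])
      (fun x hx => ⟨x.2, cent_le hyN ((hZ x).mp hx)⟩)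
      (fun x hx => (hZ x).mpr (hinf ⟨hx.1, hx.2.2⟩))
      (fun hle => hV fun x hx => (hZ ⟨x, hVN hx⟩).mp (hle hx))
      (fun hle => hy ((hZ ⟨y, hyN⟩).mp (hle ⟨hyN, mem_centralizer_singleton_iff.mpr rfl⟩)))
      (fun d hd hd' v hv hdv => (hZ v).mpr
        (hfpf d hd (fun h => hd' ((hZ d).mpr h)) v hv ((hZ _).mp hdv)))
      (isMulCommutative_of_comm fun a ha b hb => Subtype.ext (comm_of_isMulCommutative hVc ha hb))
      (fun v hv => (hZ _).mpr (hVp v hv))
      (commutator_le.mpr fun a ha b hb => (hZ _).mpr (hDc (commutator_mem_commutator ha hb)))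
      (fun d hd => (hZ _).mpr (hDr d hd))
    haveI := normal_map_mk' (N := center N) (V.subgroupOf N)
    exact ⟨_, _, p, hp, k1, k2 ▸ hr, inferInstance, (k1.kernel_eq_of_isComplement' k3).symm, k4⟩

end Cfsg.Agent.S3905
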