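import Mathlib
import Cfsg.Statements.S3921
import Cfsg.Agent.S0205
import Cfsg.Agent.S0215
import Cfsg.Agent.S1230
import Cfsg.Agent.S3116
import Cfsg.Agent.S3224
import Cfsg.Agent.CIT.Four
import Cfsg.Agent.FG.H92Basic
import Cfsg.Agent.FG.H93Cyc
import Cfsg.Agent.GT.Zipper
import Cfsg.Agent.Inv.Wr
import Cfsg.Agent.Cl.PSL2Class

set_option autoImplicit false
open Cfsg

namespace Cfsg.Agent.S3921

section aux

open Subgroup Cfsg.Agent.GT Cfsg.Agent.FG Cfsg.Agent.FG.H92 Cfsg.Agent.Inv Cfsg.Agent.Inv.Fz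
open scoped commutatorElement

/-- non-cyclic subgroups are self-centralizing -/
def X (G : Type*) [Group G] : Prop :=
  ∀ H : Subgroup G, ¬ IsCyclic H → centralizer (H : Set G) ≤ H

variable {G : Type*} [Group G]

theorem X.of_injective {K : Type*} [Group K] (h : X G) (f : K →* G) (hf : Function.Injective f) :
    X K := by
  intro H hH c hc
  have h1 : ¬ IsCyclic (H.map f) := fun h' =>
    hH ((H.equivMapOfInjective f hf).isCyclic.mpr h')
  have h2 : f c ∈ centralizer ((H.map f : Subgroup G) : Set G) := by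
    rintro _ ⟨y, hy, rfl⟩
    rw [← map_mul, ← map_mul, hc y hy]
  obtain ⟨y, hy, hyc⟩ := h _ h1 h2
  rwa [← hf hyc]

theorem X.mem_klein (h : X G) {t u x : G} (ht : orderOf t = 2) (hu : orderOf u = 2) (hne : t ≠ u)
    (hc : Commute t u) (hxt : Commute t x) (hxu : Commute u x) : x ∈ closure ({t, u} : Set G) := by
  haveI := isKleinFour_closure ht hu hne hc
  refine h _ IsKleinFour.not_isCyclic ?_
  rw [centralizer_closure]
  rintro y (rfl | rfl)
  · exact hxt
  · exact hxu

theorem X.pair [Finite G] (h : X G) {t u v : G} (ht : orderOf t = 2) (htc : t ∈ center G)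
    (hu : u * u = 1) (hv : v * v = 1) (hne : u ≠ t) : IsPGroup 2 (closure ({u, v} : Set G)) := by
  by_cases hw : ∃ k : ℕ, (u * v) ^ 2 ^ k = 1
  · obtain ⟨k, hk⟩ := hw
    exact isPGroup_closure_pair hu hv hk
  exfalso
  obtain ⟨n, r, hr, hr2, hy⟩ := CIT.exists_pow_odd_prime hw
  set y := (u * v) ^ n with hyd
  have hu' : u⁻¹ = u := inv_eq_of_mul_eq_one_right hu
  have hv' : v⁻¹ = v := inv_eq_of_mul_eq_one_right hv
  have hinv : u * y * u⁻¹ = y⁻¹ := by
    rw [hyd, ← conj_pow, ← inv_pow, mul_inv_rev, hu', hv', ← mul_assoc, hu, one_mul]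
  have hyy : y * y ≠ 1 := fun e => by
    have h1 : orderOf y ∣ 2 := orderOf_dvd_of_pow_eq_one (by rw [pow_two, e])
    rw [hy] at h1
    exact hr2 ((Nat.prime_dvd_prime_iff_eq hr Nat.prime_two).mp h1)
  have hnc : ¬ Commute u y := fun e => by
    rw [e.eq, mul_inv_cancel_right] at hinv
    exact hyy (by nth_rewrite 1 [hinv]; exact inv_mul_cancel y)
  have huy : u * y * (u * y) = 1 := by
    rw [← mul_assoc, ← hu', hu', show u * y * u = u * y * u⁻¹ by rw [hu'], hinv, inv_mul_cancel]
  have huuy : u * (u * y) = y := by rw [← mul_assoc, hu, one_mul]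
  have hD : ¬ IsCyclic (closure ({u, u * y} : Set G)) := fun hc => by
    have h1 := comm_of_isMulCommutative (A := closure ({u, u * y} : Set G))
      IsCyclic.isMulCommutative (a := u) (b := u * y) (subset_closure (by simp))
      (subset_closure (by simp))
    rw [mul_assoc] at h1
    exact hnc (mul_left_cancel h1)
  have htD := h _ hD (center_le_centralizer _ htc)
  obtain ⟨m, hm | hm⟩ := (mem_closure_pair_iff hu huy).mp htD
  · rw [huuy] at hm
    have h1 : orderOf t ∣ r := by
      rw [← hy, hm]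
      exact orderOf_dvd_of_mem_zpowers (zpow_mem (mem_zpowers y) m)
    rw [ht] at h1
    exact hr2 ((Nat.prime_dvd_prime_iff_eq Nat.prime_two hr).mp h1).symm
  · rw [huuy] at hm
    have h1 : y * t = t * y := mem_center_iff.mp htc y
    rw [hm, ← mul_assoc, (Commute.zpow_right (Commute.refl y) m).eq, mul_assoc, mul_assoc] at h1
    exact hnc (mul_left_cancel h1).symm

theorem X.card_centralizer (h : X G) {Q : Subgroup G} {t u : G} (ht : orderOf t = 2)
    (hu : orderOf u = 2) (hne : t ≠ u) (htQ : t ∈ Q) (huQ : u ∈ Q) (hc : ∀ y ∈ Q, Commute t y) :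
    Nat.card (centralizer ({(⟨u, huQ⟩ : Q)} : Set Q)) = 4 := by
  haveI hV := isKleinFour_closure ht hu hne (hc u huQ)
  have hle : closure ({t, u} : Set G) ≤ Q := by
    rw [closure_le]
    rintro _ (rfl | rfl) <;> assumption
  have h1 : centralizer ({(⟨u, huQ⟩ : Q)} : Set Q) = (closure ({t, u} : Set G)).subgroupOf Q := by
    ext y
    rw [mem_centralizer_singleton_iff, mem_subgroupOf]
    constructor
    · intro hy
      exact h.mem_klein ht hu hne (hc u huQ) (hc y y.2) (congrArg Subtype.val hy).symm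
    · intro hy
      exact Subtype.ext (comm_of_isMulCommutative (A := closure ({t, u} : Set G))
        IsKleinFour.isMulCommutative hy (subset_closure (by simp)))
  rw [h1, Nat.card_congr (subgroupOfEquivOfLe hle).toEquiv, hV.card_four]

theorem X.isPGroup [Finite G] (h : X G) {t u : G} (ht : orderOf t = 2) (htc : t ∈ center G)
    (hu : orderOf u = 2) (hne : t ≠ u) : IsPGroup 2 G := by
  have hc : ∀ y, Commute t y := fun y => (mem_center_iff.mp htc y).symm
  have huQ : u ∈ pCore 2 G := baer_suzuki_elem fun g =>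
    h.pair ht htc (mul_self_of_two hu) (conj_mul_self_eq_one.2 (mul_self_of_two hu)) hne.symm
  have htQ : t ∈ pCore 2 G := by
    haveI : (zpowers t).Normal := normal_of_le_center (zpowers_le.mpr htc)
    exact le_pCore (IsPGroup.of_card (n := 1) (by rw [Nat.card_zpowers, ht, pow_one]))
      (mem_zpowers t)
  haveI hV := isKleinFour_closure ht hu hne (hc u)
  intro y
  by_contra hy
  obtain ⟨n, r, hr, hr2, hx⟩ := CIT.exists_pow_odd_prime hy
  set x := y ^ n
  have hxo : Odd (orderOf x) := hx ▸ hr.odd_of_ne_two hr2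
  have hxu : ¬ Commute u x := fun e => by
    have h1 := h.mem_klein ht hu hne (hc u) (hc x) e
    have h2 : x * x = 1 := congrArg Subtype.val (IsKleinFour.mul_self (⟨x, h1⟩ : closure {t, u}))
    have h3 : orderOf x ∣ 2 := orderOf_dvd_of_pow_eq_one (by rw [pow_two, h2])
    rw [hx] at h3
    exact hr2 ((Nat.prime_dvd_prime_iff_eq hr Nat.prime_two).mp h3)
  have hodd : OddAut (pCore 2 G) :=
    ⟨x, le_normalizer_of_normal (mem_top x), hxo, fun e => hxu (e u huQ)⟩
  have h4 := h.card_centralizer ht hu hne htQ huQ fun y _ => hc y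
  have hle : closure ({t, u} : Set G) ≤ pCore 2 G := by
    rw [closure_le]
    rintro _ (rfl | rfl) <;> assumption
  have hfour : Nat.card (pCore 2 G) ≠ 4 := fun e => by
    have h1 : closure ({t, u} : Set G) = pCore 2 G :=
      eq_of_le_of_card_ge hle (by rw [e, hV.card_four])
    have h2 : x * u * x⁻¹ ∈ closure ({t, u} : Set G) := by
      rw [h1]
      exact Subgroup.Normal.conj_mem inferInstance u huQ x
    have h3 : x * u * x⁻¹ = t * u := by
      obtain ⟨m, hm⟩ := (mem_closure_pair_iff (mul_self_of_two ht) (mul_self_of_two hu)).mp h2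
      have htu : t * u * (t * u) = 1 := by
        rw [(hc u).symm.mul_mul_mul_comm, mul_self_of_two ht, mul_self_of_two hu, one_mul]
      have hm' : (t * u) ^ m = 1 ∨ (t * u) ^ m = t * u := by
        rcases Int.even_or_odd' m with ⟨j, rfl | rfl⟩
        · left
          rw [zpow_mul, zpow_two, htu, one_zpow]
        · right
          rw [zpow_add, zpow_mul, zpow_two, htu, one_zpow, one_mul, zpow_one]
      rcases hm with hm | hm <;> rcases hm' with hm' | hm' <;> rw [hm'] at hm
      · exact absurd (conj_eq_one_iff.mp hm) (ne_one_of_two hu)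
      · exact hm
      · exfalso
        rw [one_mul, mul_inv_eq_iff_eq_mul, (hc x).eq] at hm
        exact hne (mul_left_cancel hm).symm
      · exfalso
        rw [mul_assoc t u t, ← (hc u).eq, ← mul_assoc t t, mul_self_of_two ht, one_mul,
          mul_inv_eq_iff_eq_mul] at hm
        exact hxu hm.symm
    have h5 : Commute u (x ^ 2) := by
      have : x ^ 2 * u * (x ^ 2)⁻¹ = u := by
        calc x ^ 2 * u * (x ^ 2)⁻¹ = x * (x * u * x⁻¹) * x⁻¹ := by rw [pow_two]; group
          _ = (x * t) * u * x⁻¹ := by rw [h3]; group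
          _ = t * (x * u * x⁻¹) := by rw [← (hc x).eq]; group
          _ = u := by rw [h3, ← mul_assoc, mul_self_of_two ht, one_mul]
      rw [mul_inv_eq_iff_eq_mul] at this
      exact this.symm
    obtain ⟨j, hj⟩ := hxo
    have h6 : x = (x ^ 2) ^ (j + 1) := by
      rw [← pow_mul, show 2 * (j + 1) = orderOf x + 1 by omega, pow_succ, pow_orderOf_eq_one,
        one_mul]
    exact hxu (h6 ▸ h5.pow_right _)
  have hQ := isPGroup_pCore (G := G) 2
  rcases Cfsg.Agent.S3224.result hQ ⟨u, huQ⟩ (by rw [orderOf_mk, hu]) h4 with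
    ⟨m, ⟨e⟩⟩ | h1 | h1
  · refine hodd.not_isPGroup (Cfsg.Agent.S3116.result hQ (Or.inl ⟨m, ?_, ⟨e⟩⟩))
    have h2 : Nat.card (pCore 2 G) = 2 * m := by
      rw [Nat.card_congr e.toEquiv, DihedralGroup.nat_card]
    have h3 : 4 ≤ Nat.card (pCore 2 G) := hV.card_four ▸ card_le_of_le hle
    obtain ⟨k, hk⟩ := IsPGroup.iff_card.mp hQ
    have h5 : m ≠ 3 := by
      rintro rfl
      have : 3 ∣ 2 ^ k := by rw [← hk, h2]; norm_num
      have := Nat.prime_three.dvd_of_dvd_pow this
      omega
    omega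
  · exact hodd.not_isPGroup (Cfsg.Agent.S3116.result hQ (Or.inr h1))
  · exact hfour h1

theorem exists_central [Finite G] {P : Subgroup G} (hP : IsPGroup 2 P) (hne : P ≠ ⊥) :
    ∃ z ∈ P, orderOf z = 2 ∧ ∀ y ∈ P, Commute z y := by
  haveI := (nontrivial_iff_ne_bot P).mpr hne
  haveI := hP.center_nontrivial
  obtain ⟨a, ha⟩ := exists_ne (1 : center P)
  obtain ⟨k, hk⟩ := hP a
  obtain ⟨n, hn⟩ := CIT.exists_pow_involution (a := (a : P)) (fun e => ha (Subtype.ext e)) hk
  refine ⟨((a : P) ^ n : P), ((a : P) ^ n).2, by rw [orderOf_coe, hn], fun y hy => ?_⟩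
  exact (congrArg Subtype.val (mem_center_iff.mp (pow_mem a.2 n) ⟨y, hy⟩)).symm

theorem exists_other [Finite G] [IsSimpleGroup G] (hna : ¬ IsMulCommutative G) (P : Sylow 2 G)
    {t : G} (ht : orderOf t = 2) (htP : t ∈ P) : ∃ u ∈ P, orderOf u = 2 ∧ t ≠ u := by
  by_contra hcon
  push Not at hcon
  obtain ⟨N, hN, hodd, hc⟩ := Cfsg.Agent.S0215.result P t ht htP fun g hg =>
    (hcon _ hg (by rw [orderOf_conj', ht])).symm
  rcases hN.eq_bot_or_eq_top with rfl | rfl
  · have h1 : t ∈ center G := by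
      rw [mem_center_iff]
      intro g
      have := mem_bot.mp (hc g)
      rw [mul_inv_eq_one, mul_inv_eq_iff_eq_mul] at this
      exact this.symm
    rcases (inferInstance : (center G).Normal).eq_bot_or_eq_top with h | h
    · rw [h] at h1
      exact ne_one_of_two ht (mem_bot.mp h1)
    · exact hna ⟨⟨fun a b => mem_center_iff.mp (h ▸ mem_top b) a⟩⟩
  · rw [card_top] at hodd
    exact (Nat.not_even_iff_odd.mpr hodd)
      (even_iff_two_dvd.mpr (ht ▸ _root_.orderOf_dvd_natCard t))

theorem exists_comm [Finite G] [IsSimpleGroup G] (hna : ¬ IsMulCommutative G)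
    {t : G} (ht : orderOf t = 2) : ∃ u, orderOf u = 2 ∧ t ≠ u ∧ Commute t u := by
  have htp : IsPGroup 2 (zpowers t) :=
    IsPGroup.of_card (n := 1) (by rw [Nat.card_zpowers, ht, pow_one])
  obtain ⟨P, hP⟩ := htp.exists_le_sylow
  have htP : t ∈ (P : Subgroup G) := hP (mem_zpowers t)
  obtain ⟨z, hz, hz2, hzc⟩ := exists_central P.isPGroup' fun e =>
    ne_one_of_two ht (mem_bot.mp (e ▸ htP))
  by_cases h : t = z
  · obtain ⟨u, hu, hu2, hne⟩ := exists_other hna P ht htP
    exact ⟨u, hu2, hne, h ▸ hzc u hu⟩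
  · exact ⟨z, hz2, h, (hzc t htP).symm⟩

theorem X.isCIT [Finite G] [IsSimpleGroup G] (hna : ¬ IsMulCommutative G) (h : X G) :
    CIT.IsCIT G := by
  intro t ht
  obtain ⟨u, hu, hne, hc⟩ := exists_comm hna ht
  refine (h.of_injective (centralizer ({t} : Set G)).subtype (subtype_injective _)).isPGroup
    (t := ⟨t, mem_centralizer_singleton_iff.mpr rfl⟩)
    (u := ⟨u, mem_centralizer_singleton_iff.mpr hc.symm.eq⟩) (by rw [← ht, ← orderOf_coe]) ?_
    (by rw [← hu, ← orderOf_coe]) fun e => hne (congrArg Subtype.val e)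
  rw [mem_center_iff]
  exact fun g => Subtype.ext (mem_centralizer_singleton_iff.mp g.2)

theorem of_four [Finite G] [IsSimpleGroup G] (hna : ¬ IsMulCommutative G) (h : X G)
    (S : Sylow 2 G) (hS : Nat.card S = 4) (hc : ¬ IsCyclic (S : Subgroup G)) :
    ∃ (F : Type) (_ : Field F) (_ : Fintype F), Fintype.card F = 4 ∧
      Nonempty (G ≃* Matrix.ProjectiveSpecialLinearGroup (Fin 2) F) := by
  rw [← hS]
  refine Cfsg.Agent.S1230.result S hc (fun hN => ?_) fun t ht => ?_
  · rcases hN.eq_bot_or_eq_top with e | e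
    · rw [e] at hc
      exact hc inferInstance
    · have h4 : Nat.card G = 2 ^ 2 := by
        rw [← card_top, ← e]
        exact hS
      exact hna ⟨⟨IsPGroup.commutative_of_card_eq_prime_sq h4⟩⟩
  · obtain ⟨u, hu, hne, hcm⟩ := exists_comm hna ht
    haveI hV := isKleinFour_closure ht hu hne hcm
    have hle : closure ({t, u} : Set G) ≤ centralizer ({t} : Set G) := by
      rw [closure_le]
      rintro _ (rfl | rfl)
      · exact mem_centralizer_singleton_iff.mpr rfl
      · exact mem_centralizer_singleton_iff.mpr hcm.symm.eq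
    obtain ⟨P, hP⟩ := (h.isCIT hna t ht).exists_le_sylow
    have h1 : closure ({t, u} : Set G) = centralizer ({t} : Set G) := by
      refine eq_of_le_of_card_ge hle ?_
      rw [hV.card_four, ← hS, Nat.card_congr (S.equiv P).toEquiv]
      exact card_le_of_le hP
    rw [← h1]
    exact ⟨IsKleinFour.isMulCommutative, fun c hc => by
      rw [pow_two]
      exact congrArg Subtype.val (IsKleinFour.mul_self (⟨c, hc⟩ : closure {t, u}))⟩

open Cl.L2 in
theorem X_psl {F : Type*} [Field F] [Finite F]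
    (hF : Nat.card F = 4 ∨ Nat.card F = 9 ∨
      ((Nat.card F).Prime ∧ ∃ k : ℕ, Nat.card F = 2 ^ k + 1 ∨ Nat.card F = 2 ^ k - 1)) :
    X (Matrix.ProjectiveSpecialLinearGroup (Fin 2) F) := by
  intro H hH c hc
  by_cases hc1 : c = 1
  · rw [hc1]; exact one_mem H
  have hle : H ≤ centralizer {c} := fun y hy => mem_centralizer_singleton_iff.mpr (hc y hy)
  by_cases ht : tau (emb c) = 4
  · obtain ⟨x, hx⟩ := exists_mem_uniS ht
    rw [centralizer_eq_torS (Or.inl ht), torS_eq_uniS hx hc1] at hle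
    have hd := card_dvd_of_le hle
    rw [card_uniS] at hd
    have key : ∀ p : ℕ, p.Prime → Nat.card F = p ^ 2 → c ∈ H := by
      intro p hp hq
      haveI := Fact.mk hp
      rw [hq] at hd
      obtain ⟨i, hi, hd⟩ := (Nat.dvd_prime_pow hp).mp hd
      interval_cases i
      · exact absurd (isCyclic_of_card_dvd_prime (p := p) (by rw [hd]; simp)) hH
      · exact absurd (isCyclic_of_card_dvd_prime (p := p) (by rw [hd]; simp)) hH
      · rw [eq_of_le_of_card_ge hle (by rw [card_uniS, hd, hq])]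
        exact hx
    rcases hF with h | h | ⟨h, -⟩
    · exact key 2 Nat.prime_two h
    · exact key 3 Nat.prime_three h
    · haveI := Fact.mk h
      exact absurd (isCyclic_of_card_dvd_prime hd) hH
  by_cases h2 : orderOf c = 2
  swap
  · rw [centralizer_eq_torS_of_orderOf hc1 h2] at hle
    exact absurd (isCyclic_of_le_torS ht hle) hH
  have hF2 : (2 : F) ≠ 0 := fun e => ht (tauS_eq_four_of_orderOf_two e h2)
  rw [centralizer_eq_ntorS_of_orderOf hF2 h2] at hle
  have hpow : Nat.card (torS c) ∣ 2 ^ (Nat.card F + 1) := by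
    have hq2 := two_le_card (F := F)
    have aux : ∀ k, Nat.card (torS c) * 2 = 2 ^ k → Nat.card (torS c) ∣ 2 ^ (Nat.card F + 1) := by
      intro k hk
      refine (Dvd.intro _ hk).trans (pow_dvd_pow _ ?_)
      have := k.lt_two_pow_self
      rcases card_torS_of_orderOf_two hF2 h2 with ⟨-, h⟩ | ⟨-, h⟩ <;> omega
    have m4 : ∀ k, 2 ≤ k → 2 ^ k % 4 = 0 := fun k hk =>
      Nat.mod_eq_zero_of_dvd (pow_dvd_pow 2 hk)
    rcases card_torS_of_orderOf_two hF2 h2 with ⟨h4, h⟩ | ⟨h4, h⟩ <;>
      rcases hF with e | e | ⟨-, k, e | e⟩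
    · omega
    · exact aux 3 (by omega)
    · exact aux k (by omega)
    · exfalso
      rcases (by omega : k = 0 ∨ k = 1 ∨ 2 ≤ k) with rfl | rfl | hk
      · omega
      · omega
      · have := m4 k hk
        omega
    · omega
    · omega
    · rcases (by omega : k = 0 ∨ k = 1 ∨ 2 ≤ k) with rfl | rfl | hk
      · omega
      · exact aux 2 (by omega)
      · have := m4 k hk
        omega
    · exact aux k (by have := k.one_le_two_pow; omega)
  by_cases hHT : ∃ y ∈ H, y ∈ torS c ∧ y ≠ 1
  · obtain ⟨y, hy, hyT, hy1⟩ := hHT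
    obtain ⟨n, hn⟩ := CIT.exists_pow_involution hy1
      (orderOf_dvd_iff_pow_eq_one.mp ((orderOf_dvd_natCard _ hyT).trans hpow))
    haveI := isCyclic_torS ht
    exact zpowers_le.mpr (pow_mem hy n) (H93.mem_zpowers_of_orderOf_dvd_of_mem
      (self_mem_torS c) (pow_mem hyT n) (by rw [h2, hn]))
  · push Not at hHT
    refine absurd ?_ hH
    by_cases hT : H ≤ torS c
    · exact isCyclic_of_le_torS ht hT
    · obtain ⟨n, hn, hnT⟩ := SetLike.not_le_iff_exists.mp hT
      refine isCyclic_of_le (H' := zpowers n) fun m hm => ?_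
      by_cases hmT : m ∈ torS c
      · rw [hHT m hm hmT]; exact one_mem _
      · have := hHT _ (mul_mem hn hm) (mul_mem_torS_of_not_mem ht (hle hn) hnT (hle hm) hmT)
        rw [eq_inv_of_mul_eq_one_right this]
        exact inv_mem (mem_zpowers n)

end aux

open Subgroup Cfsg.Agent.GT Cfsg.Agent.FG Cfsg.Agent.FG.H92 Cfsg.Agent.Inv Cfsg.Agent.Inv.Fz in
open scoped commutatorElement in
/-- Say that a group has self-centralizing non-cyclic subgroups when every non-cyclic subgroup H satisfies C_G(H) ≤ H. A non-abelian finite simple group has self-centralizing non-cyclic subgroups if and only if it is isomorphic to PSL₂(q) with q = 4, q = 9, or q a prime of the form 2^k + 1 or 2^k − 1. -/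
theorem result {G : Type*} [Group G] [Finite G] [IsSimpleGroup G] (hna : ¬ IsMulCommutative G) :
    (∀ H : Subgroup G, ¬ IsCyclic ↥H → Subgroup.centralizer (H : Set G) ≤ H) ↔ ∃ (F : Type) (_ : Field F) (_ : Fintype F),
      (Fintype.card F = 4 ∨ Fintype.card F = 9 ∨ ((Fintype.card F).Prime ∧ ∃ k : ℕ, Fintype.card F = 2 ^ k + 1 ∨ Fintype.card F = 2 ^ k - 1)) ∧
      Nonempty (G ≃* Matrix.ProjectiveSpecialLinearGroup (Fin 2) F) := by
  constructor
  swap
  · rintro ⟨F, _, _, hF, ⟨e⟩⟩
    rw [← Nat.card_eq_fintype_card] at hF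
    exact (X_psl hF).of_injective e.toMonoidHom e.injective
  intro h
  have hns : ¬ Group.IsSolvable G := fun _ => hna ⟨⟨IsSimpleGroup.comm_iff_isSolvable.mpr ‹_›⟩⟩
  have hO : pCore 2 G = ⊥ :=
    (inferInstance : (pCore 2 G).Normal).eq_bot_or_eq_top.resolve_right fun e => hns
      (CIT.isSolvable_of_isPGroup_two ((e ▸ isPGroup_pCore (G := G) 2).of_equiv topEquiv))
  have hcit := X.isCIT hna h
  have hev : Even (Nat.card G) := (Nat.even_or_odd _).resolve_right fun ho =>
    hns (Cfsg.Agent.S0205.result ho)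
  let S : Sylow 2 G := default
  obtain ⟨z, hz, hz2, hzc⟩ := exists_central S.isPGroup' (CIT.sylow_ne_bot_of_even hev S)
  obtain ⟨u, hu, hu2, hne⟩ := exists_other hna S hz2 hz
  have h4 := X.card_centralizer h hz2 hu2 hne hz hu hzc
  haveI hV := isKleinFour_closure hz2 hu2 hne (hzc u hu)
  have hle : closure ({z, u} : Set G) ≤ S := by
    rw [closure_le]
    rintro _ (rfl | rfl) <;> assumption
  have hfour : Nat.card S = 4 → ∃ (F : Type) (_ : Field F) (_ : Fintype F),
      (Fintype.card F = 4 ∨ Fintype.card F = 9 ∨ ((Fintype.card F).Prime ∧ ∃ k : ℕ,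
        Fintype.card F = 2 ^ k + 1 ∨ Fintype.card F = 2 ^ k - 1)) ∧
      Nonempty (G ≃* Matrix.ProjectiveSpecialLinearGroup (Fin 2) F) := fun hS => by
    obtain ⟨F, _, _, hF, e⟩ := of_four hna h S hS fun hc =>
      IsKleinFour.not_isCyclic (isCyclic_of_le hle)
    exact ⟨F, inferInstance, inferInstance, Or.inl hF, e⟩
  rcases Cfsg.Agent.S3224.result S.isPGroup' ⟨u, hu⟩ (by rw [orderOf_mk, hu2]) h4 with
    ⟨m, ⟨e⟩⟩ | h1 | h1
  · by_cases h8 : 8 ≤ Nat.card S
    · obtain ⟨F, _, _, hF, e⟩ := hcit.of_dihedral hO S e h8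
      refine ⟨F, inferInstance, inferInstance, Or.inr (hF.imp_right ?_), e⟩
      rintro ⟨hp, -, k, hk⟩
      exact ⟨hp, k, hk.imp_right fun hk => by omega⟩
    · apply hfour
      have h3 : 4 ≤ Nat.card S := hV.card_four ▸ card_le_of_le hle
      obtain ⟨k, hk⟩ := IsPGroup.iff_card.mp S.isPGroup'
      change Nat.card (S : Subgroup G) = 4
      change 4 ≤ Nat.card (S : Subgroup G) at h3
      change ¬ 8 ≤ Nat.card (S : Subgroup G) at h8
      rw [hk] at h3 h8 ⊢
      rcases (by omega : k = 0 ∨ k = 1 ∨ k = 2 ∨ 3 ≤ k) with rfl | rfl | rfl | hk3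
      · omega
      · omega
      · rfl
      · exact absurd (Nat.pow_le_pow_right two_pos hk3) h8
  · exfalso
    obtain ⟨t, ht, r, s, H⟩ := exists_mx_of_qd h1
    have hres : pResidual 2 G = ⊤ := by
      refine no_index_two_iff.mp fun K hK => ?_
      rcases (normal_of_index_eq_two hK).eq_bot_or_eq_top with rfl | rfl
      · rw [index_bot] at hK
        haveI := isCyclic_of_prime_card (p := 2) hK
        exact hna IsCyclic.isMulCommutative
      · rw [index_top] at hK
        omega
    obtain ⟨g, hg, hg1, hg2⟩ := ((H.qd_pResidual_eq_top_iff ht).mp hres).2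
    have h2 := H.conj_z_of_normalizer_q H.qd_s_one hg
    rw [mul_inv_eq_iff_eq_mul] at h2
    rw [hcit.eq_one_of_commute H.z_ne_one ⟨1, sq_of_two H.orderOf_z⟩ h2 hg1] at hg2
    exact hg2 (one_mem _)
  · exact hfour h1

end Cfsg.Agent.S3921
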