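import Mathlib
import Cfsg.Statements.S3929
import Cfsg.Agent.S3264
import Cfsg.Agent.OIF.CoreA
import Cfsg.Agent.OIF.Num
import Cfsg.Agent.OIF.Perm
-- import your own Cfsg.Agent.* helpers here

set_option autoImplicit false
open Cfsg

namespace Cfsg.Agent.S3929

open Subgroup Cfsg.Agent.GT Cfsg.Agent.S3928 Cfsg.Agent.OIF

/-- The fixed points on the central quotient permute the nontrivial inverted elements faithfully. -/
theorem exists_perm {G : Type*} [Group G] [Finite G] {α : MulAut G} (hI : closure (I α) = ⊤)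
    (hZ : ∀ z ∈ center G, α z ∈ center G) :
    ∃ φ : Fx (Frob.quotientAut α (center G) hZ) →* Equiv.Perm ↥(I α \ {1}), Function.Injective φ ∧
      ∀ c (x y : ↥(I α \ {1})), (y : G) = (x : G)⁻¹ → (φ c y : G) = (φ c x : G)⁻¹ := by
  set β := Frob.quotientAut α (center G) hZ with hβ
  have hD : ∀ d : G, (d : G ⧸ center G) ∈ Fx β → ∀ s ∈ I α, d * s * d⁻¹ ∈ I α := by
    intro d hd s hs
    refine ⟨by rw [orderOf_conj]; exact hs.1, ?_⟩
    have h1 : d⁻¹ * α d ∈ center G := QuotientGroup.eq.1 (by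
      rw [← Frob.quotientAut_mk α _ hZ]; exact hd.symm)
    have h2 := mem_center_iff.1 h1 s⁻¹
    rw [map_mul, map_mul, map_inv, hs.2]
    calc α d * s⁻¹ * (α d)⁻¹ = d * (d⁻¹ * α d * s⁻¹) * (α d)⁻¹ := by group
      _ = _ := by rw [← h2]; group
  let D := (Fx β).comap (QuotientGroup.mk' (center G))
  let _ : MulAction D ↥(I α \ {1}) :=
    { smul := fun g x => ⟨g * x * (g : G)⁻¹, hD g g.2 x x.2.1, fun e => x.2.2 (by simpa using e)⟩
      one_smul := fun x => Subtype.ext (by change (1 : G) * x * (1 : G)⁻¹ = x; simp)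
      mul_smul := fun a b x => Subtype.ext (by
        change (a * b : G) * x * (a * b : G)⁻¹ = a * (b * x * (b : G)⁻¹) * (a : G)⁻¹
        group) }
  let ψ := MulAction.toPermHom D ↥(I α \ {1})
  have hψ : ∀ (d : D) x, (ψ d x : G) = d * x * (d : G)⁻¹ := fun _ _ => rfl
  let π : D →* Fx β := (QuotientGroup.mk' (center G)).subgroupComap (Fx β)
  have hπ : Function.Surjective π :=
    MonoidHom.subgroupComap_surjective_of_surjective _ _ (QuotientGroup.mk'_surjective _)
  have hk : ∀ d : D, π d = 1 ↔ (d : G) ∈ center G := fun d =>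
    Subtype.ext_iff.trans (QuotientGroup.eq_one_iff _)
  have hle : π.ker ≤ ψ.ker := fun d hd => Equiv.ext fun x => Subtype.ext (by
    rw [hψ, ← mem_center_iff.1 ((hk d).1 hd), mul_inv_cancel_right]; rfl)
  let φ := π.liftOfSurjective hπ ⟨ψ, hle⟩
  have hφ : ∀ d, φ (π d) = ψ d := fun d => MonoidHom.liftOfRightInverse_comp_apply _ _ _ _ d
  refine ⟨φ, (injective_iff_map_eq_one _).2 fun c hc => ?_, fun c x y e => ?_⟩
  · obtain ⟨d, rfl⟩ := hπ c
    rw [hφ] at hc
    rw [hk, ← centralizer_univ, ← coe_top, ← hI, centralizer_closure]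
    intro s hs
    by_cases e : s = 1
    · simp [e]
    have := congrArg (fun σ : Equiv.Perm ↥(I α \ {1}) => (σ ⟨s, hs, e⟩ : G)) hc
    exact (mul_inv_eq_iff_eq_mul.1 this).symm
  · obtain ⟨d, rfl⟩ := hπ c
    rw [hφ, hψ, hψ, e]
    group

/-- Let G be a non-trivial finite group and α an automorphism of G of order 2 with [G, α] = G (the elements g·α(g)⁻¹ generate G), and let m be the number of elements of odd order inverted by α. Then the index of the Fitting subgroup of G is less than (m!)⁴. -/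
theorem result {G : Type*} [Group G] [Finite G] [Nontrivial G] (α : MulAut G) (hα : orderOf α = 2)
    (hG : Subgroup.closure (Set.range (fun c : G => c * (α c)⁻¹)) = ⊤) :
    (Cfsg.fittingSubgroup G).index < (Nat.card {g : G // Odd (orderOf g) ∧ α g = g⁻¹}).factorial ^ 4 := by
  classical
  have hα2 : α ^ 2 = 1 := hα ▸ pow_orderOf_eq_one α
  have hI := S3264.gen_odd hα2 hG
  have hZ : ∀ z ∈ center G, α z ∈ center G := fun z hz =>
    characteristic_iff_le_comap.1 inferInstance α hz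
  obtain ⟨φ, hφ, hc⟩ := exists_perm hI hZ
  have hinv : ∀ x : ↥(I α \ {1}), (x : G)⁻¹ ∈ I α \ {1} := fun x =>
    ⟨⟨by rw [orderOf_inv]; exact x.2.1.1, by rw [map_inv, x.2.1.2]⟩, fun e => x.2.2 (inv_eq_one.1 e)⟩
  let τ : Equiv.Perm ↥(I α \ {1}) := Function.Involutive.toPerm (fun x => ⟨_, hinv x⟩)
    fun x => Subtype.ext (inv_inv _)
  have hτ : ∀ x, τ (τ x) = x := fun x => Subtype.ext (inv_inv _)
  have hτ' : ∀ x, τ x ≠ x := fun x e => x.2.2 (orderOf_eq_one_iff.1 (Nat.eq_one_of_dvd_coprimes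
    (Nat.coprime_two_left.2 x.2.1.1) (orderOf_dvd_of_pow_eq_one (by
      rw [sq]; exact inv_eq_iff_mul_eq_one.1 (congrArg Subtype.val e))) dvd_rfl))
  obtain ⟨k, hk⟩ : 2 ∣ Nat.card ↥(I α \ {1}) := by
    have := Fintype.ofFinite ↥(I α \ {1})
    have h1 := Equiv.Perm.two_dvd_card_support (σ := τ) (Equiv.ext hτ)
    rwa [Finset.eq_univ_iff_forall.2 fun x => Equiv.Perm.mem_support.2 (hτ' x), Finset.card_univ,
      ← Nat.card_eq_fintype_card] at h1
  have h1 : (1 : G) ∈ I α := ⟨by simp, by simp⟩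
  have hm : (I α).ncard = 2 * k + 1 := by
    rw [← hk, Nat.card_coe_set_eq, Set.ncard_sdiff_singleton_add_one h1]
  have k1 : 1 ≤ k := by
    by_contra n
    rw [show k = 0 by omega, Nat.card_coe_set_eq, mul_zero, Set.ncard_eq_zero, Set.sdiff_eq_empty] at hk
    exact top_ne_bot (hI.symm.trans (closure_eq_bot_iff.2 hk))
  have hi : 2 * k < 2 ^ (Nat.log 2 (2 * k) + 1) := Nat.lt_pow_succ_log_self one_lt_two _
  have hi' : 2 ^ (Nat.log 2 (2 * k) + 1) ≤ 4 * k := by
    have := Nat.pow_log_le_self 2 (show 2 * k ≠ 0 by omega)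
    omega
  have hβm : (I (Frob.quotientAut α (center G) hZ)).ncard ≤ 2 * k + 1 := by
    rw [← image_I hα2]; exact (Set.ncard_image_le).trans hm.le
  have hP : PB k (Fx (Frob.quotientAut α (center G) hZ)) := fun U V hU h2 h3 j b h4 h5 => by
    have hV : V ≤ Fx (Frob.quotientAut α (center G) hZ) := fun v hv => by
      obtain ⟨u, hu, rfl⟩ := h4 v hv
      exact pow_mem (hU hu) _
    refine pb_of_perm φ hφ hk (U.subgroupOf _) (V.subgroupOf _) le_top
      (fun x hx y hy => Subtype.ext (h2 _ hx _ hy)) h3.comap_subtype j b (fun v hv => ?_)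
      (by rwa [Nat.card_congr (subgroupOfEquivOfLe hV).toEquiv])
    obtain ⟨u, hu, e⟩ := h4 v hv
    exact ⟨⟨u, hU hu⟩, hu, Subtype.ext e⟩
  obtain ⟨M, n, c, hM⟩ := core' _ (Frob.quotientAut_pow_eq_one _ hZ hα2) k1 hi hβm _ (fun _ => mem_Fx)
    (card_dvd_of_perm φ hφ τ hτ hτ' (fun c x => Subtype.ext (hc c x _ rfl)) hk) hP
  have : IsMulCommutative M := ⟨⟨fun a b => Subtype.ext (c _ a.2 _ b.2)⟩⟩
  have : Group.IsNilpotent M := by open scoped IsMulCommutative in infer_instance
  have hN : Group.IsNilpotent (M.comap (QuotientGroup.mk' (center G))) :=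
    Subgroup.isNilpotent_of_ker_le_center ((QuotientGroup.mk' (center G)).subgroupComap M) fun x hx =>
      mem_center_iff.2 fun y => Subtype.ext (mem_center_iff.1
        ((QuotientGroup.eq_one_iff _).1 (congrArg Subtype.val hx)) y)
  have h6 : (fittingSubgroup G).index ∣ M.index := by
    rw [← index_comap_of_surjective M (QuotientGroup.mk'_surjective (center G))]
    exact index_dvd_of_le (le_sSup ⟨n.comap _, hN⟩)
  rw [show Nat.card {g : G // Odd (orderOf g) ∧ α g = g⁻¹} = 2 * k + 1 from (Nat.card_coe_set_eq _).trans hm]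
  exact ((Nat.le_of_dvd (Nat.pos_of_ne_zero index_ne_zero_of_finite) h6).trans hM).trans_lt (num k1 hi hi')

end Cfsg.Agent.S3929
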