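import Mathlib
import Cfsg.Statements.S3937
import Cfsg.Agent.S3927
import Cfsg.Agent.GT.Fitting

set_option autoImplicit false
open Cfsg

namespace Cfsg.Agent.S3937

section aux

open Subgroup Cfsg.Agent.GT Cfsg.Agent.FG.GZ
open scoped commutatorElement

theorem foldl_eq {G : Type*} [Group G] (g : G) (n : ℕ) (x : G) :
    (List.replicate n g).foldl (fun a b => a * b * a⁻¹ * b⁻¹) x =
      (fun c : G => c * g * c⁻¹ * g⁻¹)^[n] x := by
  induction n generalizing x with
  | zero => rfl
  | succ n ih => rw [List.replicate_succ, List.foldl_cons, ih, Function.iterate_succ_apply]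

end aux

open Subgroup Cfsg.Agent.GT Cfsg.Agent.FG.GZ in
open scoped commutatorElement in
/-- Baer's characterization of the Fitting subgroup: in a finite group G, an element g lies in the Fitting subgroup if and only if g is a left Engel element, that is, for every x there is n with [x, g, g, …, g] = 1 (n entries g, [a, b] = aba⁻¹b⁻¹). -/
theorem result {G : Type*} [Group G] [Finite G] (g : G) :
    g ∈ Cfsg.fittingSubgroup G ↔ ∀ x : G, ∃ n : ℕ, (List.replicate n g).foldl (fun a b => a * b * a⁻¹ * b⁻¹) x = 1 := by
  simp only [foldl_eq]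
  constructor
  · intro hg x
    obtain ⟨n, hn⟩ := (isNilpotent_iff_lowerCentralSeries (Cfsg.fittingSubgroup G)).mp inferInstance
    have h : ∀ k, (fun c : G => c * g * c⁻¹ * g⁻¹)^[k + 1] x ∈
        (Cfsg.fittingSubgroup G).lowerCentralSeries k := by
      intro k
      induction k with
      | zero => exact mul_mem (Normal.conj_mem inferInstance g hg x) (inv_mem hg)
      | succ k ih =>
        rw [Function.iterate_succ_apply']
        exact commutator_mem_commutator ih hg
    exact ⟨n + 1, by simpa [hn] using h n⟩
  · intro h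
    choose n hn using h
    obtain ⟨k, hk⟩ := (Set.finite_range n).bddAbove
    have hall : ∀ x, (fun c : G => c * g * c⁻¹ * g⁻¹)^[k] x = 1 := by
      intro x
      obtain ⟨j, hj⟩ := Nat.exists_eq_add_of_le' (hk ⟨x, rfl⟩)
      rw [hj, Function.iterate_add_apply, hn]
      exact Function.iterate_fixed (by simp) j
    obtain ⟨F, hgF, hF, hgen⟩ := exists_subnormal_closure (le_top : zpowers g ≤ ⊤)
    let a' : F := ⟨g, hgF (mem_zpowers g)⟩
    have h1 : (zpowers g).subgroupOf F = zpowers a' := by
      apply map_injective F.subtype_injective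
      rw [subgroupOf_map_subtype, inf_eq_left.mpr hgF, MonoidHom.map_zpowers]
      rfl
    have h2 : GenBy (zpowers a') ⊤ := by
      intro N hN hn'
      haveI : N.Normal := normalizer_eq_top_iff.mp (top_le_iff.mp hn')
      rw [← (genBy_iff hgF).mp hgen, h1]
      exact normalClosure_le_normal hN
    have h3 := S3927.gen_aux _ F a' rfl h2 k
    have h4 : ∀ (j : ℕ) (x : F), (((fun c : F => c * a' * c⁻¹ * a'⁻¹)^[j] x : F) : G) =
        (fun c : G => c * g * c⁻¹ * g⁻¹)^[j] x := by
      intro j
      induction j with
      | zero => intro x; rfl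
      | succ j ihj =>
        intro x
        rw [Function.iterate_succ_apply', Function.iterate_succ_apply', ← ihj]
        rfl
    have h5 : (⊤ : Subgroup F) ≤ (zpowers g).subgroupOf F := by
      rw [← h3, sup_le_iff, closure_le, h1]
      refine ⟨?_, le_rfl⟩
      rintro _ ⟨x, rfl⟩
      have : (fun c : F => c * a' * c⁻¹ * a'⁻¹)^[k] x = 1 := Subtype.ext (by rw [h4, hall]; rfl)
      rw [this]
      exact one_mem _
    have h6 : F = zpowers g := le_antisymm (fun x hx => h5 (mem_top (⟨x, hx⟩ : F))) hgF
    rw [h6, subnormalIn_top_iff] at hF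
    haveI : Group.IsNilpotent (zpowers g) := isNilpotent_of_isMulCommutative
    exact le_fitting_of_isSubnormal hF (mem_zpowers g)

end Cfsg.Agent.S3937
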