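import Mathlib
import Cfsg.Statements.S4017
import Cfsg.Agent.FG.H93CycAb
import Cfsg.Agent.FG.H93InvGraph
import Cfsg.Agent.FG.H93Eppo
import Cfsg.Agent.FG.H93Solv
import Cfsg.Agent.Cl.PSL2MaxClass
import Cfsg.Agent.CIT.Models
import Cfsg.Agent.S2202
import Cfsg.Agent.Cl.LinearIso
import Cfsg.Agent.Ch.Burnside

set_option autoImplicit false
open Cfsg

namespace Cfsg.Agent.S4017

open Cfsg.Agent.FG Cfsg.Agent.GT Subgroup
open scoped commutatorElement Pointwise

theorem exists_dihedral {F : Type*} [Field F] [Finite F] [CharP F 2] (h4 : 4 ≤ Nat.card F) {p : ℕ}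
    (hp : p.Prime) (hp2 : p ≠ 2) : ∃ H : Subgroup (Matrix.ProjectiveSpecialLinearGroup (Fin 2) F),
      ¬ p ∣ Nat.card H ∧ 2 ∣ Nat.card H ∧ ¬ IsPGroup 2 H := by
  have he : 2 ∣ Nat.card F := Cl.L2.char_dvd_card 2
  have hg : Nat.gcd 2 (Nat.card F - 1) = 1 := by
    rw [← Nat.coprime_iff_gcd_eq_one, Nat.coprime_two_left, Nat.odd_iff]; omega
  have key : ∀ (g : Matrix.ProjectiveSpecialLinearGroup (Fin 2) F) (n : ℕ), 3 ≤ n → ¬ 2 ∣ n →
      Cl.L2.tau (Cl.L2.emb g) ≠ 4 → Nat.card (Cl.L2.torS g) = n → ¬ p ∣ n →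
      ∃ H : Subgroup (Matrix.ProjectiveSpecialLinearGroup (Fin 2) F),
        ¬ p ∣ Nat.card H ∧ 2 ∣ Nat.card H ∧ ¬ IsPGroup 2 H := fun g n h3 h2 ht hc hd => by
    have h1 := Cl.L2.card_ntorS ht
    rw [hc] at h1
    refine ⟨Cl.L2.ntorS g, fun h => ?_, h1 ▸ dvd_mul_right _ _, fun h => ?_⟩
    · rw [h1] at h
      exact ((Nat.Prime.dvd_mul hp).mp h).elim
        (fun h => hp2 ((Nat.prime_dvd_prime_iff_eq hp Nat.prime_two).mp h)) hd
    · obtain ⟨r, hr, hrn⟩ := Nat.exists_prime_and_dvd (show n ≠ 1 by omega)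
      have := (isPGroup_iff_isPiNum Nat.prime_two).mp h r hr (h1 ▸ hrn.mul_left 2)
      exact h2 ((show r = 2 from this) ▸ hrn)
  by_cases hd : p ∣ Nat.card F - 1
  · obtain ⟨g, h1, h2⟩ := Cl.L2.exists_nofixS (F := F)
    have h3 := Cl.L2.card_torS_mul_of_nofix h1
    rw [hg, mul_one] at h2 h3
    have hg1 : g ≠ 1 := fun h => by rw [h, orderOf_one] at h2; omega
    refine key g _ (by omega) (by omega) (Cl.L2.tauS_ne_four_of_coprime hg1 h2.dvd (Or.inr rfl)) h3
      fun h => ?_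
    have h5 := Nat.dvd_sub h hd
    rw [show Nat.card F + 1 - (Nat.card F - 1) = 2 by omega] at h5
    exact hp2 ((Nat.prime_dvd_prime_iff_eq hp Nat.prime_two).mp h5)
  · obtain ⟨g, h1, -, h2⟩ := Cl.L2.exists_fixS (F := F)
    rw [hg, mul_one] at h2
    have hg1 : g ≠ 1 := fun h => by rw [h, orderOf_one] at h2; omega
    have ht := Cl.L2.tauS_ne_four_of_coprime hg1 h2.dvd (Or.inl rfl)
    have h3 := Cl.L2.card_torS_mul_of_fix ht h1
    rw [hg, mul_one] at h3
    exact key g _ (by omega) (by omega) ht h3 hd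

section

set_option linter.unusedSectionVars false

variable {G : Type*} [Group G] [Finite G] {p q : ℕ} [hp : Fact p.Prime] [hq : Fact q.Prime]

theorem orbit {U : Subgroup G} (hU : Nat.card U ≤ p + 1) {y t : G} (hy : IsPGroup p (zpowers y))
    (hyU : y ∈ normalizer (U : Set G)) (ht : t ∈ U) (hyt : ¬ Commute y t) :
    Nat.card U = p + 1 ∧ ∀ s ∈ U, s ≠ 1 → ∃ z ∈ zpowers y, z * t * z⁻¹ = s := by
  let f : Option (Fin p) → U := fun o => o.elim 1 fun i =>
    ⟨y ^ i.1 * t * (y ^ i.1)⁻¹, (mem_normalizer_iff.mp (pow_mem hyU _) t).mp ht⟩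
  have ht1 : ∀ i : ℕ, y ^ i * t * (y ^ i)⁻¹ ≠ 1 := fun i h =>
    hyt (by rw [show t = 1 by simpa using h]; exact Commute.one_right y)
  have key : ∀ i j : ℕ, i < j → j < p → y ^ i * t * (y ^ i)⁻¹ ≠ y ^ j * t * (y ^ j)⁻¹ :=
    fun i j hij hj h => by
      obtain ⟨k, rfl⟩ := Nat.exists_eq_add_of_lt hij
      obtain ⟨m, hm⟩ := IsPGroup.iff_card.mp hy
      have h1 : y ∈ zpowers (y ^ (k + 1)) := mem_zpowers_pow_iff.mpr (by
        rw [← Nat.card_zpowers, hm]
        exact Nat.Coprime.pow_right m (Nat.coprime_of_lt_prime (by omega) (by omega) hp.out).symm)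
      refine hyt (mem_centralizer_singleton_iff.mp (zpowers_le.mpr
        (mem_centralizer_singleton_iff.mpr (mul_inv_eq_iff_eq_mul.mp ?_)) h1))
      calc _ = (y ^ i)⁻¹ * (y ^ (i + k + 1) * t * (y ^ (i + k + 1))⁻¹) * y ^ i := by group
        _ = t := by rw [← h]; group
  have hf : Function.Injective f := by
    rintro (_ | i) (_ | j) h
    · rfl
    · exact absurd (congrArg Subtype.val h).symm (ht1 _)
    · exact absurd (congrArg Subtype.val h) (ht1 _)
    · rcases lt_trichotomy i.1 j.1 with h1 | h1 | h1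
      · exact absurd (congrArg Subtype.val h) (key _ _ h1 j.2)
      · exact congrArg some (Fin.ext h1)
      · exact absurd (congrArg Subtype.val h).symm (key _ _ h1 i.2)
  have h1 := Nat.card_le_card_of_injective f hf
  have h2 : Nat.card (Option (Fin p)) = p + 1 := by simp
  refine ⟨by omega, fun s hs hs1 => ?_⟩
  obtain ⟨_ | i, h⟩ := ((Nat.bijective_iff_injective_and_card f).mpr ⟨hf, by omega⟩).2 ⟨s, hs⟩
  · exact absurd (congrArg Subtype.val h).symm hs1
  · exact ⟨_, pow_mem (mem_zpowers y) _, congrArg Subtype.val h⟩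

theorem mem_cent (hpq : p ≠ q) {P Q : Subgroup G} (hP : IsPGroup p P) (hQ : IsPGroup q Q)
    (h : Q ≤ normalizer (P : Set G)) {y : G} (hy : y ∈ P) (hy' : y ∈ normalizer (Q : Set G)) :
    y ∈ centralizer (Q : Set G) := fun x hx => by
  have h3 : y * x * y⁻¹ * x⁻¹ ∈ Q := mul_mem ((mem_normalizer_iff.mp hy' x).mp hx) (inv_mem hx)
  have h4 : y * x * y⁻¹ * x⁻¹ ∈ P := by
    simpa [mul_assoc] using mul_mem hy ((mem_normalizer_iff.mp (h hx) _).mp (inv_mem hy))
  have h5 := disjoint_def.mp (IsPGroup.disjoint_of_ne p q hpq _ _ hP hQ) h4 h3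
  rw [mul_inv_eq_one, mul_inv_eq_iff_eq_mul] at h5
  exact h5.symm

/-- a minimal counterexample -/
structure Min (p q r : ℕ) (G : Type*) [Group G] : Prop where
  ne : p ≠ q
  odd : p ≠ 2
  small : ∀ U : Subgroup G, IsPGroup q U → Nat.card U ≤ p ∨
    (Nat.card U = p + 1 ∧ ∀ P : Subgroup G, IsPGroup p P → IsMulCommutative P)
  sub : ∀ H : Subgroup G, H ≠ ⊤ → q ∣ Nat.card H → ∀ s, s.Prime → s ∣ Nat.card H → s = p ∨ s = q
  pG : p ∣ Nat.card G
  qG : q ∣ Nat.card G
  rp : r.Prime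
  rG : r ∣ Nat.card G
  rne : r ≠ p ∧ r ≠ q

variable {r : ℕ}

theorem Min.not_norm (h : Min p q r G) {s : ℕ} (hs : s.Prime) (hsp : s ≠ p) (hsq : s ≠ q)
    {A B : Subgroup G} (hA : IsPGroup s A) (hB : IsPGroup q B) (hA0 : A ≠ ⊥) (hB0 : B ≠ ⊥)
    (hn : A ≤ normalizer (B : Set G) ∨ B ≤ normalizer (A : Set G)) : False := by
  have := Fact.mk hs
  have h1 : Nat.card ↥(A ⊔ B) ∣ Nat.card A * Nat.card B := by
    rcases hn with hn | hn
    · rw [sup_comm, mul_comm]; exact HT.card_sup_dvd hn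
    · exact HT.card_sup_dvd hn
  have h2 : A ⊔ B = ⊤ := by
    by_contra h2
    exact (h.sub _ h2 ((hB.card_eq_or_dvd.resolve_left fun h3 => hB0 (card_eq_one.mp h3)).trans
      (card_dvd_of_le le_sup_right)) s hs ((hA.card_eq_or_dvd.resolve_left
        fun h3 => hA0 (card_eq_one.mp h3)).trans (card_dvd_of_le le_sup_left))).elim hsp hsq
  rw [h2, card_top] at h1
  rcases (Nat.Prime.dvd_mul hp.out).mp (h.pG.trans h1) with h3 | h3
  · exact hsp ((isPGroup_iff_isPiNum hs).mp hA p hp.out h3).symm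
  · exact h.ne ((isPGroup_iff_isPiNum hq.out).mp hB p hp.out h3)

theorem Min.isPGroup (h : Min p q r G) (N : Subgroup G) [N.Normal] (hN : N ≠ ⊤) : IsPGroup p N := by
  have key : ∀ s t : ℕ, s.Prime → t.Prime → s ∣ Nat.card N → ¬ t ∣ Nat.card N → t ∣ Nat.card G →
      ∃ A B : Subgroup G, IsPGroup s A ∧ IsPGroup t B ∧ A ≠ ⊥ ∧ B ≠ ⊥ ∧
        B ≤ normalizer (A : Set G) := fun s t hs ht h1 h2 h3 => by
    have := Fact.mk hs
    obtain ⟨S⟩ : Nonempty (Sylow s N) := inferInstance
    have h4 := HT.card_sup_dvd (N := N) (H := normalizer ((S : Subgroup N).map N.subtype : Set G))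
      (le_top.trans (normalizer_eq_top N).ge)
    rw [sup_comm, S.normalizer_sup_eq_top, card_top] at h4
    obtain ⟨x, hx, hxt⟩ := exists_mem_orderOf_eq_prime ht
      (((Nat.Prime.dvd_mul ht).mp (h3.trans h4)).resolve_left h2)
    exact ⟨_, zpowers x, S.isPGroup'.map _, IsPGroup.of_card (n := 1)
      (by rw [Nat.card_zpowers, hxt, pow_one]), fun h0 => S.ne_bot_of_dvd_card h1
        ((map_eq_bot_iff_of_injective _ N.subtype_injective).mp h0),
      fun h0 => ht.one_lt.ne (by rw [← hxt, zpowers_eq_bot.mp h0, orderOf_one]), zpowers_le.mpr hx⟩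
  have hqN : ¬ q ∣ Nat.card N := fun h1 => by
    obtain ⟨A, B, h2, h3, h4, h5, h6⟩ := key q r hq.out h.rp h1
      (fun h2 => (h.sub N hN h1 r h.rp h2).elim h.rne.1 h.rne.2) h.rG
    exact h.not_norm h.rp h.rne.1 h.rne.2 h3 h2 h5 h4 (Or.inl h6)
  refine (isPGroup_iff_isPiNum hp.out).mpr fun s hs hsN => ?_
  by_contra hsp
  obtain ⟨A, B, h2, h3, h4, h5, h6⟩ := key s q hs hq.out hsN hqN h.qG
  exact h.not_norm hs hsp (fun h7 => hqN (h7 ▸ hsN)) h2 h3 h4 h5 (Or.inr h6)

theorem Min.not_npc (h : Min p q r G) : ¬ HasNormalPComplement q G := fun h1 => by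
  obtain ⟨N, _, h2, k, hk⟩ := h1.exists_normal
  have h3 := h.isPGroup N fun h3 => h2 (by rw [h3, card_top]; exact h.qG)
  have h4 := h.rG
  rw [← N.card_mul_index, hk] at h4
  rcases (Nat.Prime.dvd_mul h.rp).mp h4 with h4 | h4
  · exact h.rne.1 ((isPGroup_iff_isPiNum hp.out).mp h3 r h.rp h4)
  · exact h.rne.2 ((Nat.prime_dvd_prime_iff_eq h.rp hq.out).mp (h.rp.dvd_of_dvd_pow h4))

theorem Min.card_le (h : Min p q r G) {U : Subgroup G} (hU : IsPGroup q U) : Nat.card U ≤ p + 1 :=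
  (h.small U hU).elim Nat.le_succ_of_le fun h => h.1.le

theorem Min.exists_elt (h : Min p q r G) (Q : Sylow q G) : Nat.card Q = p + 1 ∧
    ∃ x ∈ normalizer ((Q : Subgroup G) : Set G), IsPGroup p (zpowers x) ∧
      x ∉ centralizer ((Q : Subgroup G) : Set G) := by
  by_contra hh
  refine h.not_npc (Tr.frobenius_of_primePow Q fun U hUQ hU0 s hs hsq g hg ⟨k, hk⟩ => ?_)
  by_contra h1
  have := Fact.mk hs
  have h2 : IsPGroup s (zpowers g) := IsPGroup.of_card (by rw [Nat.card_zpowers, hk])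
  have hU := Q.isPGroup'.to_le hUQ
  obtain rfl : s = p := by
    by_contra hsp
    exact h.not_norm hs hsp hsq h2 hU (fun h0 => h1 (zpowers_eq_bot.mp h0 ▸ one_mem _)) hU0
      (Or.inl (zpowers_le.mpr hg))
  obtain ⟨t, ht, ht'⟩ : ∃ t ∈ U, ¬ Commute g t := by
    by_contra h3
    push Not at h3
    exact h1 fun t ht => (h3 t ht).symm.eq
  have h3 := (orbit (h.card_le hU) h2 hg ht ht').1
  obtain rfl := PG.eq_of_le_of_card_le hUQ (h3 ▸ h.card_le Q.isPGroup')
  exact hh ⟨h3, g, hg, h2, h1⟩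

theorem Min.ab (h : Min p q r G) {P : Subgroup G} (hP : IsPGroup p P) : IsMulCommutative P := by
  obtain ⟨Q⟩ : Nonempty (Sylow q G) := inferInstance
  have := (h.exists_elt Q).1
  exact ((h.small Q Q.isPGroup').resolve_left (by omega)).2 P hP

theorem Min.eq_two (h : Min p q r G) : q = 2 := by
  obtain ⟨Q⟩ : Nonempty (Sylow q G) := inferInstance
  refine ((isPGroup_iff_isPiNum hq.out).mp Q.isPGroup' 2 Nat.prime_two ?_).symm
  rw [(h.exists_elt Q).1]
  exact even_iff_two_dvd.mp (hp.out.odd_of_ne_two h.odd).add_one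

theorem Min.not_le (h : Min p q r G) (P : Sylow p G) (Q : Sylow q G)
    (h1 : (Q : Subgroup G) ≤ normalizer ((P : Subgroup G) : Set G)) :
    ¬ normalizer ((Q : Subgroup G) : Set G) ≤ normalizer ((P : Subgroup G) : Set G) := fun h2 => by
  obtain ⟨-, x, hx, hx', hx''⟩ := h.exists_elt Q
  exact hx'' (mem_cent h.ne P.isPGroup' Q.isPGroup' h1 (H93.le_sylow_of_le_normalizer P hx'
    (zpowers_le.mpr (h2 hx)) (mem_zpowers x)) hx)

theorem Min.simple (h : Min p q r G) : IsSimpleGroup G := by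
  obtain ⟨P⟩ : Nonempty (Sylow p G) := inferInstance
  obtain ⟨Q⟩ : Nonempty (Sylow q G) := inferInstance
  have hn : ¬ (P : Subgroup G).Normal := fun h1 =>
    h.not_le P Q (le_top.trans (normalizer_eq_top _).ge) (le_top.trans (normalizer_eq_top _).ge)
  have : Nontrivial G := Finite.one_lt_card_iff_nontrivial.mp
    (hp.out.one_lt.trans_le (Nat.le_of_dvd Nat.card_pos h.pG))
  refine ⟨fun N hN => or_iff_not_imp_right.mpr fun h1 => ?_⟩
  have h2 := (h.isPGroup N h1).le_sylow_of_normal P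
  have := h.ab P.isPGroup'
  have h3 : centralizer (N : Set G) = ⊤ := by
    by_contra h3
    exact hn (P.is_maximal' (h.isPGroup _ h3) ((PG.isMulCommutative_iff_le_centralizer.mp
      inferInstance).trans (centralizer_le h2)) ▸ inferInstance)
  have h4 : commutator G = ⊤ := by
    by_contra h4
    exact hn (PG.normal_of_commutator_le ((h.isPGroup _ h4).le_sylow_of_normal P))
  refine eq_bot_iff.mpr (le_trans (le_inf (le_inf h2 (h4 ▸ le_top))
    (centralizer_eq_top_iff_subset.mp h3)) ((Tr.sylow_inf_commutator_inf_center_le P).trans ?_))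
  exact (commutator_eq_bot_iff_le_centralizer.mpr
    (PG.isMulCommutative_iff_le_centralizer.mp inferInstance)).le

theorem Min.not_comm (h : Min p q r G) : ¬ ∀ a b : G, a * b = b * a := fun h1 => by
  obtain ⟨Q⟩ : Nonempty (Sylow q G) := inferInstance
  obtain ⟨-, x, -, -, hx⟩ := h.exists_elt Q
  exact hx fun y _ => h1 y x

theorem Min.not_solv (h : Min p q r G) : ¬ Group.IsSolvable G := fun h1 =>
  have := h.simple
  h.not_comm (IsSimpleGroup.comm_iff_isSolvable.mpr h1)

theorem Min.norm_ne (h : Min p q r G) {H : Subgroup G} (h0 : H ≠ ⊥) (hs : Group.IsSolvable H) :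
    normalizer (H : Set G) ≠ ⊤ := fun h1 => by
  have := h.simple
  rcases (normalizer_eq_top_iff.mp h1).eq_bot_or_eq_top with h2 | h2
  · exact h0 h2
  · subst h2
    exact h.not_solv (isSolvable_of_mulEquiv topEquiv)

theorem Min.primes (h : Min p q r G) (Q : Sylow q G) {L : Subgroup G} (hL : L ≠ ⊤)
    (hQL : (Q : Subgroup G) ≤ L) : ∀ s, s.Prime → s ∣ Nat.card L → s = p ∨ s = q :=
  h.sub L hL ((Q.dvd_card_of_dvd_card h.qG).trans (card_dvd_of_le hQL))

theorem Min.dichotomy (h : Min p q r G) (P : Sylow p G) (Q : Sylow q G) {L : Subgroup G}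
    (hL : L ≠ ⊤) (hPL : (P : Subgroup G) ≤ L) (hQL : (Q : Subgroup G) ≤ L) :
    L ≤ normalizer ((Q : Subgroup G) : Set G) ∨ L ≤ normalizer ((P : Subgroup G) : Set G) := by
  have hpr := h.primes Q hL hQL
  have : Group.IsSolvable L := Ch.burnside_isSolvable_of_primes hq.out hpr
  have h1 := pCoreOf_le_sylow_of_le Q hQL
  by_cases h2 : (P : Subgroup G) ≤ centralizer (pCoreOf q L : Set G)
  · right
    have := h.ab P.isPGroup'
    have h3 : (P : Subgroup G) ≤ pCoreOf p L := by
      refine le_pCoreOf_of_le_fittingOf P.isPGroup' ((le_inf hPL (le_centralizer_iff.mp ?_)).trans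
        (inf_centralizer_fittingOf_le L))
      rw [fittingOf_eq_iSup_pCoreOf]
      refine iSup_le fun ⟨s, hs⟩ => ?_
      by_cases h3 : s ∣ Nat.card L
      · rcases hpr s hs h3 with rfl | rfl
        · exact (pCoreOf_le_sylow_of_le P hPL).trans
            (PG.isMulCommutative_iff_le_centralizer.mp inferInstance)
        · exact le_centralizer_iff.mp h2
      · have := Fact.mk hs
        rw [card_eq_one.mp ((isPGroup_pCoreOf s L).card_eq_or_dvd.resolve_right
          fun h4 => h3 (h4.trans (card_dvd_of_le (pCoreOf_le L))))]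
        exact bot_le
    rw [le_antisymm h3 (pCoreOf_le_sylow_of_le P hPL)]
    exact le_normalizer_pCoreOf L
  · left
    obtain ⟨y, hy, hy'⟩ := SetLike.not_le_iff_exists.mp h2
    obtain ⟨t, ht, ht'⟩ : ∃ t ∈ pCoreOf q L, ¬ Commute y t := by
      by_contra h3
      push Not at h3
      exact hy' fun t ht => (h3 t ht).symm.eq
    have h3 := (orbit (h.card_le (isPGroup_pCoreOf q L)) (P.isPGroup'.to_le (zpowers_le.mpr hy))
      (le_normalizer_pCoreOf L (hPL hy)) ht ht').1
    rw [← PG.eq_of_le_of_card_le h1 (h3 ▸ h.card_le Q.isPGroup')]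
    exact le_normalizer_pCoreOf L

theorem Min.sup_eq (h : Min p q r G) (P : Sylow p G) (Q : Sylow q G) {L : Subgroup G}
    (hL : L ≠ ⊤) (hPL : (P : Subgroup G) ≤ L) (hQL : (Q : Subgroup G) ≤ L) :
    (P : Subgroup G) ⊔ Q = L := by
  refine HT.sup_eq_of_coprime_relIndex hPL hQL (Nat.coprime_of_dvd fun s hs h1 h2 => ?_)
  rcases h.primes Q hL hQL s hs (h1.trans (relIndex_dvd_card _ _)) with rfl | rfl
  · exact P.not_dvd_index (h1.trans (relIndex_dvd_index_of_le hPL))
  · exact Q.not_dvd_index (h2.trans (relIndex_dvd_index_of_le hQL))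

theorem Min.trans (h : Min p q r G) (Q : Sylow q G) {s t : G} (hs : s ∈ (Q : Subgroup G))
    (ht : t ∈ (Q : Subgroup G)) (hs1 : s ≠ 1) (ht1 : t ≠ 1) :
    ∃ z ∈ normalizer ((Q : Subgroup G) : Set G), IsPGroup p (zpowers z) ∧ z * t * z⁻¹ = s := by
  obtain ⟨h1, x, hx, hx', hx''⟩ := h.exists_elt Q
  obtain ⟨u, hu, hu'⟩ : ∃ t ∈ (Q : Subgroup G), ¬ Commute x t := by
    by_contra h3
    push Not at h3
    exact hx'' fun t ht => (h3 t ht).symm.eq
  have h2 := (orbit h1.le hx' hx hu hu').2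
  obtain ⟨a, ha, rfl⟩ := h2 s hs hs1
  obtain ⟨b, hb, rfl⟩ := h2 t ht ht1
  have h3 := mul_mem ha (inv_mem hb)
  exact ⟨_, zpowers_le.mpr hx h3, hx'.to_le (zpowers_le.mpr h3), by group⟩

theorem Min.sq (h : Min p 2 r G) (Q : Sylow 2 G) {s : G} (hs : s ∈ (Q : Subgroup G)) :
    s * s = 1 := by
  by_cases hs1 : s = 1
  · simp [hs1]
  obtain ⟨t, ht, ht2⟩ := exists_mem_orderOf_eq_prime Nat.prime_two (Q.dvd_card_of_dvd_card h.qG)
  obtain ⟨z, -, -, rfl⟩ := h.trans Q hs ht hs1 fun h0 => by simp [h0] at ht2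
  rw [conj_mul, ← pow_two, orderOf_dvd_iff_pow_eq_one.mp ht2.dvd]; simp

theorem Min.comm (h : Min p 2 r G) (Q : Sylow 2 G) {s t : G} (hs : s ∈ (Q : Subgroup G))
    (ht : t ∈ (Q : Subgroup G)) : s * t = t * s := by
  have h1 := h.sq Q (mul_mem hs ht)
  rwa [mul_eq_one_iff_eq_inv, mul_inv_rev, inv_eq_of_mul_eq_one_right (h.sq Q hs),
    inv_eq_of_mul_eq_one_right (h.sq Q ht)] at h1

theorem Min.cent_ne (h : Min p q r G) {t : G} (ht : t ≠ 1) : centralizer {t} ≠ ⊤ := fun h1 =>
  h.norm_ne (mt zpowers_eq_bot.mp ht) (CopAct.isSolvable_zpowers t) (top_le_iff.mp (by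
    rw [← h1, ← H93.centralizer_zpowers]; exact PG.centralizer_le_normalizer' _))

theorem Min.npc (h : Min p 2 r G) (Q : Sylow 2 G) {t : G} (ht : t ∈ (Q : Subgroup G)) (ht1 : t ≠ 1)
    (hQC : (Q : Subgroup G) ≤ centralizer {t}) : HasNormalPComplement 2 (centralizer {t}) := by
  refine Tr.hasNormalPComplement_of_normalizer_le_centralizer (Q.subtype hQC) fun g hg => ?_
  rw [Sylow.coe_subtype, ← subgroupOf_normalizer_eq hQC] at hg
  suffices h1 : (g : G) ∈ centralizer ((Q : Subgroup G) : Set G) from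
    fun x hx => Subtype.ext (h1 x hx)
  refine H93.mem_of_forall_primePow fun y hy s hs ⟨k, hk⟩ => ?_
  have hyN := zpowers_le.mpr (mem_subgroupOf.mp hg) hy
  have hyC := zpowers_le.mpr g.2 hy
  rcases k with _ | k
  · rw [orderOf_eq_one_iff.mp hk]; exact one_mem _
  have := Fact.mk hs
  have hy' : IsPGroup s (zpowers y) := IsPGroup.of_card (by rw [Nat.card_zpowers, hk])
  rcases h.primes Q (h.cent_ne ht1) hQC s hs (((dvd_pow_self s k.succ_ne_zero).trans hk.symm.dvd).trans
    (orderOf_dvd_natCard _ hyC)) with rfl | rfl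
  · intro u hu
    by_contra h1
    obtain ⟨z, hz, hz'⟩ := (orbit (h.card_le Q.isPGroup') hy' hyN hu fun h2 => h1 h2.symm.eq).2 t ht ht1
    have h2 := mem_centralizer_singleton_iff.mp (zpowers_le.mpr hyC hz)
    rw [mul_inv_eq_iff_eq_mul, ← h2, mul_right_inj] at hz'
    exact h1 (hz' ▸ (mem_centralizer_singleton_iff.mp hyC).symm)
  · exact fun u hu => h.comm Q hu (H93.le_sylow_of_le_normalizer Q hy' (zpowers_le.mpr hyN)
      (mem_zpowers y))

theorem Min.comm_cent (h : Min p 2 r G) {t : G} (ht2 : orderOf t = 2) :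
    IsMulCommutative (centralizer {t}) := by
  by_contra hna
  have := h.simple
  obtain ⟨Q, hQ⟩ := (IsPGroup.of_card (n := 1) (G := zpowers t)
    (by rw [Nat.card_zpowers, ht2, pow_one])).exists_le_sylow
  have ht := hQ (mem_zpowers t)
  have ht1 : t ≠ 1 := fun h0 => by simp [h0] at ht2
  have hQC : (Q : Subgroup G) ≤ centralizer {t} := fun s hs =>
    mem_centralizer_singleton_iff.mpr (h.comm Q hs ht)
  have hQQ : (Q : Subgroup G) ≤ centralizer ((Q : Subgroup G) : Set G) := fun s hs u hu =>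
    h.comm Q hu hs
  have hnpc := h.npc Q ht ht1 hQC
  set Z := (pResidual 2 (centralizer {t})).map (centralizer {t}).subtype with hZ
  have hZC : Z ≤ centralizer {t} := map_subtype_le _
  have hZp : IsPGroup p Z := (isPGroup_iff_isPiNum hp.out).mpr fun s hs h1 =>
    (h.primes Q (h.cent_ne ht1) hQC s hs (h1.trans (card_dvd_of_le hZC))).resolve_right fun h2 =>
      hnpc.not_dvd_card_pResidual (by
        rwa [hZ, card_map_of_injective (subtype_injective _), h2] at h1)
  have hZN : centralizer {t} ≤ normalizer (Z : Set G) := by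
    have := le_normalizer_map (H := pResidual 2 (centralizer {t})) (centralizer {t}).subtype
    rwa [normalizer_eq_top, ← MonoidHom.range_eq_map, range_subtype] at this
  have hodd : ∀ {Y : Subgroup G}, IsPGroup p Y → ∀ y ∈ Y, (orderOf y).Coprime 2 :=
    fun {Y} hY y hy => by
      obtain ⟨k, hk⟩ := IsPGroup.iff_card.mp hY
      exact Nat.Coprime.coprime_dvd_left (hk ▸ orderOf_dvd_natCard _ hy) (Nat.Coprime.pow_left k
        ((Nat.coprime_primes hp.out Nat.prime_two).mpr h.ne))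
  have hZm : ∀ y ∈ centralizer {t}, (orderOf y).Coprime 2 → y ∈ Z := fun y hy hy' =>
    ⟨⟨y, hy⟩, hnpc.mem_pResidual_iff.mpr (by rwa [orderOf_mk]), rfl⟩
  have hZle : ∀ Y : Subgroup G, IsPGroup p Y → Y ≤ centralizer {t} → Y ≤ Z := fun Y hY hYC y hy =>
    hZm y (hYC hy) (hodd hY y hy)
  have hZQ : ¬ Z ≤ centralizer ((Q : Subgroup G) : Set G) := fun h1 => hna (by
    have h2 : centralizer {t} ≤ Z ⊔ Q := by
      have := map_mono (f := (centralizer {t}).subtype)
        (hnpc.isComplement'_pResidual (Q.subtype hQC)).sup_eq_top.ge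
      rwa [← MonoidHom.range_eq_map, range_subtype, Subgroup.map_sup, Sylow.coe_subtype,
        map_subgroupOf_eq_of_le hQC] at this
    have := h.ab hZp
    exact PG.isMulCommutative_iff_le_centralizer.mpr (h2.trans ((sup_le (le_centralizer_iff.mp
      (sup_le (PG.isMulCommutative_iff_le_centralizer.mp inferInstance) (le_centralizer_iff.mp h1)))
        (le_centralizer_iff.mp (sup_le h1 hQQ))).trans (centralizer_le h2))))
  have hcent : ∀ {Y : Subgroup G} (P : Sylow p G), Y ≤ P →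
      (P : Subgroup G) ≤ normalizer (Y : Set G) := fun {Y} P hY =>
    have := h.ab P.isPGroup'
    ((PG.isMulCommutative_iff_le_centralizer.mp inferInstance).trans (centralizer_le hY)).trans
      (PG.centralizer_le_normalizer' _)
  have hne : ∀ {Y : Subgroup G}, IsPGroup p Y → Y ≠ ⊥ → normalizer (Y : Set G) ≠ ⊤ :=
    fun {Y} hY h0 => have := hY.isNilpotent; h.norm_ne h0 inferInstance
  obtain ⟨P, hP⟩ := hZp.exists_le_sylow
  have hA : ∀ (Y : Subgroup G) (P : Sylow p G), Y ≤ P → Y ≠ ⊥ →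
      (Q : Subgroup G) ≤ normalizer (Y : Set G) →
      normalizer (Y : Set G) ≤ normalizer ((P : Subgroup G) : Set G) := fun Y P' hY h0 hQY => by
    have hYp := P'.isPGroup'.to_le hY
    refine (h.dichotomy P' Q (hne hYp h0) (hcent P' hY) hQY).resolve_left fun h1 => ?_
    set C := centralizer ((Q : Subgroup G) : Set G) with hC
    have hCt : C ≤ centralizer {t} := centralizer_le (Set.singleton_subset_iff.mpr ht)
    have h2 : Y ≤ C := fun y hy => mem_cent h.ne hYp Q.isPGroup' hQY hy (h1 (le_normalizer hy))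
    have h3 : Y ≤ pCoreOf p C := (le_inf (hZle Y hYp (h2.trans hCt)) h2).trans (le_pCoreOf
      inf_le_right (PG.le_normalizer_inf (hCt.trans hZN) le_normalizer) hZp.to_inf_left)
    have h4 := (hZle _ (isPGroup_pCoreOf p C) ((pCoreOf_le C).trans hCt)).trans hP
    have h5 : normalizer ((Q : Subgroup G) : Set G) ≤ normalizer (pCoreOf p C : Set G) :=
      (PG.le_normalizer_centralizer le_rfl).trans (normalizer_le_normalizer_pCoreOf C)
    rcases h.dichotomy P Q (hne (isPGroup_pCoreOf p C) fun h6 => h0 (eq_bot_iff.mpr (h6 ▸ h3)))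
      (hcent P h4) (le_normalizer.trans h5) with h6 | h6
    · exact hZQ fun y hy => mem_cent h.ne hZp Q.isPGroup' (hQC.trans hZN) hy (h6 (hcent P h4 (hP hy)))
    · exact h.not_le P Q ((le_normalizer.trans h5).trans h6) (h5.trans h6)
  have hQP : (Q : Subgroup G) ≤ normalizer ((P : Subgroup G) : Set G) :=
    (hQC.trans hZN).trans (hA Z P hP (fun h0 => hZQ (h0 ▸ bot_le)) (hQC.trans hZN))
  have hB : ∀ (Y : Subgroup G) (g : G), Y ≤ P → Y ≤ MulAut.conj g • (P : Subgroup G) → Y ≠ ⊥ →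
      (Q : Subgroup G) ≤ normalizer (Y : Set G) → g ∈ normalizer ((P : Subgroup G) : Set G) :=
    fun Y g h1 h2 h0 hQY => HT.conj_smul_eq_iff.mp (PG.eq_of_le_of_card_le
      (H93.le_sylow_of_le_normalizer P (g • P).isPGroup' ((hcent (g • P) h2).trans (hA Y P h1 h0 hQY)))
      (by rw [HT.card_conj_smul]))
  have hinv : ∀ s ∈ (Q : Subgroup G), s ≠ 1 → s ≠ t → ∀ y ∈ (P : Subgroup G), s * y * s⁻¹ = y⁻¹ :=
    fun s hs hs1 hst => (Frob.conj_eq_inv_of_fpf (hQP hs) (h.sq Q hs) (by
      by_contra h0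
      obtain ⟨z, hz, hz', rfl⟩ := h.trans Q hs ht hs1 ht1
      have h1 := hB _ z inf_le_left (fun y hy => HT.mem_conj_smul.mpr (hP (hZm _
        (mem_centralizer_singleton_iff.mpr (by
          calc _ = z⁻¹ * (y * (z * t * z⁻¹)) * z := by group
            _ = _ := by rw [mem_centralizer_singleton_iff.mp hy.2]; group)) (by
          have := (MulAut.conj z⁻¹).orderOf_eq y
          rw [MulAut.conj_apply, inv_inv] at this
          exact this ▸ hodd P.isPGroup' y hy.1)))) h0
        (PG.le_normalizer_inf hQP ((show (Q : Subgroup G) ≤ centralizer _ from fun u hu =>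
          mem_centralizer_singleton_iff.mpr (h.comm Q hu hs)).trans le_normalizer))
      have h2 := mem_cent h.ne P.isPGroup' Q.isPGroup' hQP (H93.le_sylow_of_le_normalizer P hz'
        (zpowers_le.mpr h1) (mem_zpowers z)) hz t ht
      exact hst (by rw [← h2]; group))).1
  set C := centralizer ((P : Subgroup G) : Set G) with hC
  have hCN : C ≤ normalizer ((P : Subgroup G) : Set G) := PG.centralizer_le_normalizer' _
  have hPC : (P : Subgroup G) ≤ C :=
    have := h.ab P.isPGroup'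
    PG.isMulCommutative_iff_le_centralizer.mp inferInstance
  have hmul : ∀ {a b : G}, (∀ y ∈ (P : Subgroup G), a * y * a⁻¹ = y⁻¹) →
      (∀ y ∈ (P : Subgroup G), b * y * b⁻¹ = y⁻¹) → a * b ∈ C := fun {a b} ha hb y hy => by
    refine (mul_inv_eq_iff_eq_mul.mp ?_).symm
    calc _ = a * (b * y * b⁻¹) * a⁻¹ := by group
      _ = y := by rw [hb y hy, ha _ (inv_mem hy), inv_inv]
  have htC : t ∈ C := by
    obtain ⟨s, hs, hs'⟩ := SetLike.exists_of_lt (lt_of_le_of_ne hQ fun h1 => by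
      have h2 := (h.exists_elt Q).1
      have h3 := hp.out.two_le
      rw [← h1, Nat.card_zpowers, ht2] at h2
      omega)
    have h1 := hmul (hinv s hs (fun h0 => hs' (h0 ▸ one_mem _)) fun h0 => hs' (h0 ▸ mem_zpowers _))
      (hinv _ (mul_mem hs ht) (fun h0 => hs' (by
        rw [eq_inv_of_mul_eq_one_left h0]; exact inv_mem (mem_zpowers t)))
        fun h0 => hs' (by rw [mul_eq_right.mp h0]; exact one_mem _))
    rwa [← mul_assoc, h.sq Q hs, one_mul] at h1
  have hP0 : (P : Subgroup G) ≠ ⊥ := P.ne_bot_of_dvd_card h.pG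
  have hPt : (P : Subgroup G) ≤ centralizer {t} := fun y hy =>
    mem_centralizer_singleton_iff.mpr (htC y hy)
  have hN1 := h.sup_eq P Q (hne P.isPGroup' hP0) le_normalizer hQP
  have hN2 := hN1.symm.trans (h.sup_eq P Q (h.cent_ne ht1) hPt hQC)
  have hdec : ∀ g ∈ normalizer ((P : Subgroup G) : Set G), ∃ y ∈ (P : Subgroup G),
      ∃ s ∈ (Q : Subgroup G), y * s = g := fun g hg =>
    (HT.mem_sup_of_le_normalizer hQP).mp (hN1.ge hg)
  have hno : ∀ {a y : G}, y ∈ (P : Subgroup G) → a * y * a⁻¹ = y⁻¹ → a * y = y * a → y = 1 :=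
    fun {a y} hy h1 h2 => by
      rw [h2, mul_inv_cancel_right, eq_inv_iff_mul_eq_one, ← pow_two] at h1
      exact orderOf_eq_one_iff.mp ((hodd P.isPGroup' y hy).eq_one_of_dvd
        (orderOf_dvd_of_pow_eq_one h1))
  have hout : ∀ g ∈ normalizer ((P : Subgroup G) : Set G), g ∉ C →
      ∀ y ∈ (P : Subgroup G), g * y * g⁻¹ = y⁻¹ := fun g hg hg' y hy => by
    obtain ⟨u, hu, s, hs, rfl⟩ := hdec g hg
    calc _ = u * (s * y * s⁻¹) * u⁻¹ := by group
      _ = _ := by
        rw [hinv s hs (fun h0 => hg' (mul_mem (hPC hu) (h0 ▸ one_mem _)))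
          (fun h0 => hg' (mul_mem (hPC hu) (h0 ▸ htC))) y hy, ← hPC hu _ (inv_mem hy)]
        group
  have hin : ∀ c ∈ C, ∃ y ∈ (P : Subgroup G), c * c = y * y ∧ (c = y ∨ c = y * t) := fun c hc => by
    obtain ⟨u, hu, s, hs, rfl⟩ := hdec c (hCN hc)
    have hsC := (Subgroup.mul_mem_cancel_left _ (hPC hu)).mp hc
    refine ⟨u, hu, ?_, ?_⟩
    · calc _ = u * (s * u) * s := by group
        _ = u * u * (s * s) := by rw [← hsC u hu]; group
        _ = _ := by rw [h.sq Q hs, mul_one]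
    by_contra h1
    push Not at h1
    exact hP0 (eq_bot_iff.mpr fun y hy => hno hy (hinv s hs (fun h0 => h1.1 (by simp [h0]))
      (fun h0 => h1.2 (by rw [h0])) y hy) (hsC y hy).symm)
  have hinvo : ∀ c ∈ C, orderOf c = 2 → c = t := fun c hc hc2 => by
    obtain ⟨y, hy, h1, h2⟩ := hin c hc
    rw [← pow_two, orderOf_dvd_iff_pow_eq_one.mp hc2.dvd, ← pow_two] at h1
    obtain rfl : y = 1 := orderOf_eq_one_iff.mp ((hodd P.isPGroup' y hy).eq_one_of_dvd
      (orderOf_dvd_of_pow_eq_one h1.symm))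
    rcases h2 with rfl | h2
    · simp at hc2
    · simpa using h2
  have hQz : ∀ y ∈ (P : Subgroup G), (Q : Subgroup G) ≤ normalizer (zpowers y : Set G) :=
    fun y hy s hs => by
      by_cases h1 : s ∈ C
      · refine PG.centralizer_le_normalizer' _ ?_
        rw [H93.centralizer_zpowers]
        exact mem_centralizer_singleton_iff.mpr (h1 y hy).symm
      · exact H93.mem_normalizer_zpowers_of_inverts (hout s (hQP hs) h1 y hy)
  refine H93.not_simple_of_inv_config h.not_comm (C := C) ht2 hinvo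
    (fun c hc => mem_centralizer_singleton_iff.mp (hN2.le (hCN hc))) (fun g x hx hx1 hx' => ?_)
    (fun a b ha hb ha' hb' => hmul (hout a (hN2.ge (mem_centralizer_singleton_iff.mpr ha)) ha')
      (hout b (hN2.ge (mem_centralizer_singleton_iff.mpr hb)) hb')) (fun u hu => ?_)
    (fun c hc hc' v hv hvc => hinvo v ?_ hv) fun a b ha hb hab => ?_
  · by_cases h1 : x * x = 1
    · have h2 := hinvo x hx (orderOf_eq_prime (by rwa [pow_two]) hx1)
      have h3 := hinvo _ hx' (orderOf_eq_prime (by rw [conj_pow, pow_two, h1]; simp) (by simpa))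
      rw [h2] at h3
      exact mul_inv_eq_iff_eq_mul.mp h3
    obtain ⟨y, hy, h2, -⟩ := hin x hx
    obtain ⟨z, hz, h3, -⟩ := hin _ hx'
    rw [conj_mul, h2] at h3
    exact mem_centralizer_singleton_iff.mp (hN2.le (hB (zpowers (z * z)) g
      (zpowers_le.mpr (mul_mem hz hz)) (zpowers_le.mpr (h3 ▸ HT.conj_mem_conj_smul g (mul_mem hy hy)))
      (fun h0 => h1 (by rw [h2]; simpa [zpowers_eq_bot.mp h0] using h3)) (hQz _ (mul_mem hz hz))))
  · obtain ⟨g, -, hg⟩ := HT.exists_conj_le_of_isPGroup (L := ⊤) (P := zpowers u) le_top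
      (IsPGroup.of_card (n := 1) (by rw [Nat.card_zpowers, hu, pow_one])) Q.isPGroup'
      (by rw [relIndex_top_right]; exact Q.not_dvd_index)
    obtain ⟨z, -, -, hz⟩ := h.trans Q ht (hg (HT.conj_mem_conj_smul g (mem_zpowers u))) ht1
      (fun h0 => by simp [show u = 1 by simpa using h0] at hu)
    exact ⟨z * g, by rw [← hz]; group⟩
  · obtain ⟨y, hy, h2, -⟩ := hin c hc
    rw [h2] at hvc hc'
    by_contra h1
    refine hc' (hno (mul_mem hy hy) (hout v (hA _ P (zpowers_le.mpr (mul_mem hy hy))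
      (mt zpowers_eq_bot.mp hc') (hQz _ (mul_mem hy hy)) (PG.centralizer_le_normalizer' _ ?_)) h1 _
        (mul_mem hy hy)) hvc)
    rw [H93.centralizer_zpowers]
    exact mem_centralizer_singleton_iff.mpr hvc
  · by_cases h1 : a * b = 1
    · exact ⟨1, by rw [h1]; simp⟩
    have ha2 : a * a = 1 := by rw [← pow_two, orderOf_dvd_iff_pow_eq_one.mp ha.dvd]
    have hb2 : b * b = 1 := by rw [← pow_two, orderOf_dvd_iff_pow_eq_one.mp hb.dvd]
    have h2 : a ∈ normalizer (zpowers (a * b) : Set G) := H93.mem_normalizer_zpowers_of_inverts (by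
      rw [mul_inv_rev, inv_eq_of_mul_eq_one_right ha2, inv_eq_of_mul_eq_one_right hb2, ← mul_assoc,
        ha2, one_mul])
    have h3 : IsPGroup p (zpowers (a * b)) := (isPGroup_iff_isPiNum hp.out).mpr fun s hs h3 =>
      (h.sub _ (H93.normalizer_zpowers_ne_top h.not_comm h1) (ha.symm.dvd.trans
        (orderOf_dvd_natCard _ h2)) s hs (h3.trans (card_dvd_of_le le_normalizer))).resolve_right
        fun h4 => by
          rw [h4, Nat.card_zpowers] at h3
          exact Nat.not_even_iff_odd.mpr hab (even_iff_two_dvd.mpr h3)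
    obtain ⟨g, -, hg⟩ := HT.exists_conj_le_of_isPGroup (L := ⊤) le_top h3 P.isPGroup'
      (by rw [relIndex_top_right]; exact P.not_dvd_index)
    exact ⟨g, hPC (hg (HT.conj_mem_conj_smul g (mem_zpowers _)))⟩

theorem Min.false (h : Min p q r G) : False := by
  obtain rfl := h.eq_two
  have := h.simple
  obtain ⟨T⟩ : Nonempty (Sylow 2 G) := inferInstance
  rcases S2202.result (even_iff_two_dvd.mpr h.qG) (fun t ht => h.comm_cent ht)
    with h1 | h1 | ⟨F, _, _, A, _, _, _, -, ⟨e⟩⟩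
  · exact h.not_npc (Tr.hasNormalPComplement_two_of_isCyclic T (h1 T))
  · have := T.isPGroup'.isNilpotent
    exact h.norm_ne (T.ne_bot_of_dvd_card h.qG) inferInstance (normalizer_eq_top_iff.mpr (h1 T))
  · obtain ⟨e'⟩ := CIT.nonempty_psl2_equiv_sl2 (F := F)
    have h4 : 4 ≤ Nat.card F := by
      by_contra h4
      have h5 : 2 ∣ Nat.card F := Cl.L2.char_dvd_card 2
      have h6 : 0 < Nat.card F := Nat.card_pos
      obtain ⟨e2⟩ := Cl.sl2_two_equiv_perm (F := F) (by omega)
      have : Group.IsSolvable (Equiv.Perm (Fin 3)) := Ch.burnside_isSolvable_of_card_eq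
        (a := 1) (b := 1) Nat.prime_two Nat.prime_three (by simp; rfl)
      have : Group.IsSolvable (Matrix.SpecialLinearGroup (Fin 2) F) := isSolvable_of_mulEquiv e2.symm
      exact h.not_solv (isSolvable_of_mulEquiv e.symm)
    obtain ⟨H, h5, h6, h7⟩ := exists_dihedral h4 hp.out h.odd
    let f := e.symm.toMonoidHom.comp ((MonoidHom.inl _ A).comp e'.toMonoidHom)
    have hf : Function.Injective f :=
      e.symm.injective.comp ((Prod.mk_left_injective 1).comp e'.injective)
    rw [← card_map_of_injective hf] at h5 h6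
    refine h7 ((isPGroup_iff_isPiNum Nat.prime_two).mpr fun s hs h8 => ?_)
    rw [← card_map_of_injective hf] at h8
    exact (h.sub _ (fun h9 => h5 (by rw [h9, card_top]; exact h.pG)) h6 s hs h8).resolve_left
      fun h9 => h5 (h9 ▸ h8)

end

universe u in
theorem main {p q : ℕ} [hp : Fact p.Prime] [hq : Fact q.Prime] (hpq : p ≠ q) (hp2 : p ≠ 2)
    (G : Type u) [Group G] [Finite G] :
    (∀ H : Subgroup G, H ≠ ⊤ → ¬ IsPGroup q H → q ∣ Nat.card H → p ∣ Nat.card H) →
    (∀ U : Subgroup G, IsPGroup q U → Nat.card U ≤ p ∨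
      (Nat.card U = p + 1 ∧ ∀ P : Subgroup G, IsPGroup p P → IsMulCommutative P)) →
    p ∣ Nat.card G → q ∣ Nat.card G → ∀ r : ℕ, r.Prime → r ∣ Nat.card G → r = p ∨ r = q := by
  revert G
  refine subgroup_quotient_induction fun G _ _ ih _ h1 h2 h3 h4 r hr h5 => ?_
  by_contra h6
  refine Min.false ⟨hpq, hp2, h2, fun H hH h7 => ?_, h3, h4, hr, h5, not_or.mp h6⟩
  by_cases h8 : IsPGroup q H
  · exact fun s hs h9 => Or.inr ((isPGroup_iff_isPiNum hq.out).mp h8 s hs h9)
  refine ih H hH (fun K _ hK h9 => ?_) (fun U hU => ?_) (h1 H hH h8 h7) h7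
  · rw [← card_map_of_injective H.subtype_injective] at h9 ⊢
    exact h1 _ (fun h0 => hH (top_le_iff.mp (h0.ge.trans (map_subtype_le K))))
      (fun h0 => hK (h0.of_equiv (K.equivMapOfInjective _ H.subtype_injective).symm)) h9
  · have := h2 _ (hU.map H.subtype)
    rw [card_map_of_injective H.subtype_injective] at this
    exact this.imp_right fun h0 => ⟨h0.1, fun P hP => PG.isMulCommutative_iff_forall.mpr
      fun a ha b hb => Subtype.ext (PG.isMulCommutative_iff_forall.mp (h0.2 _ (hP.map H.subtype))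
        _ (mem_map_of_mem _ ha) _ (mem_map_of_mem _ hb))⟩

/-- Let G be a finite group and let p and q be distinct primes dividing the order of G, with p odd. Suppose that p divides the order of every proper subgroup of G that is neither a q-group nor of order prime to q. Let q^a be the q-part of the order of G. If p > q^a − 1, or if p = q^a − 1 and the Sylow p-subgroups of G are abelian, then p and q are the only primes dividing the order of G. -/
theorem result {G : Type*} [Group G] [Finite G]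
    {p q : ℕ} (hp : p.Prime) (hq : q.Prime) (hpq : p ≠ q) (hp2 : p ≠ 2)
    (hpG : p ∣ Nat.card G) (hqG : q ∣ Nat.card G)
    (hmix : ∀ H : Subgroup G, H ≠ ⊤ → ¬ IsPGroup q H → q ∣ Nat.card H → p ∣ Nat.card H)
    (hlarge : q ^ (Nat.card G).factorization q - 1 < p ∨
      (p = q ^ (Nat.card G).factorization q - 1 ∧ ∀ P : Sylow p G, IsMulCommutative P)) :
    ∀ r : ℕ, r.Prime → r ∣ Nat.card G → r = p ∨ r = q := by
  have := Fact.mk hp
  have := Fact.mk hq
  refine main hpq hp2 G hmix (fun U hU => ?_) hpG hqG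
  obtain ⟨Q, hQ⟩ := hU.exists_le_sylow
  have h1 := card_le_of_le hQ
  rw [Q.card_eq_multiplicity] at h1
  have h2 : 0 < q ^ (Nat.card G).factorization q := pow_pos hq.pos _
  rcases hlarge with h | ⟨h, h'⟩
  · exact Or.inl (by omega)
  · refine or_iff_not_imp_left.mpr fun h3 => ⟨by omega, fun P hP => ?_⟩
    obtain ⟨S, hS⟩ := hP.exists_le_sylow
    exact PG.isMulCommutative_iff_forall.mpr fun a ha b hb =>
      PG.isMulCommutative_iff_forall.mp (h' S) a (hS ha) b (hS hb)

end Cfsg.Agent.S4017
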