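import Mathlib
import Cfsg.Statements.S4004
import Cfsg.Agent.FG.H93Same
import Cfsg.Agent.FG.H93Eppo
import Cfsg.Agent.FG.H93EqConj
import Cfsg.Agent.FG.H93Elt
import Cfsg.Agent.Ch.Burnside
import Cfsg.Agent.S4017

set_option autoImplicit false
open Cfsg

namespace Cfsg.Agent.S4004

open Cfsg.Agent.FG Cfsg.Agent.GT Subgroup H93
open scoped Pointwise

section
variable {G : Type*} [Group G] [Finite G] {m n : ℕ}

theorem sq_zero (h : ∀ t, 3 ≤ t → sc G t = 0 ∨ sc G t = m ∨ sc G t = n) {p k : ℕ} (hp : p.Prime)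
    (hm : ¬ p ∣ m) (hn : sc G (p ^ (k + 2)) ≠ n) (g : G) : orderOf g ≠ p ^ (k + 2) := by
  have h1 : p ∣ sc G (p ^ (k + 2)) := Dvd.dvd.trans (by
    rw [Nat.totient_prime_pow_succ hp, pow_succ]
    exact (dvd_mul_left p _).mul_right _) (totient_dvd_sc _)
  have h2 : 2 ^ 2 ≤ p ^ (k + 2) :=
    (Nat.pow_le_pow_left hp.two_le 2).trans (Nat.pow_le_pow_right hp.pos (by omega))
  rcases h (p ^ (k + 2)) (by omega) with h3 | h3 | h3
  · exact sc_eq_zero_iff.mp h3 g
  · exact absurd (h3 ▸ h1) hm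
  · exact absurd h3 hn

theorem pow_eq_one {p : ℕ} (hp : p.Prime) (h : ∀ k, ∀ g : G, orderOf g ≠ p ^ (k + 2)) {g : G} {j : ℕ}
    (hg : g ^ p ^ j = 1) : g ^ p = 1 := by
  obtain ⟨i, -, hi⟩ := (Nat.dvd_prime_pow hp).mp (orderOf_dvd_of_pow_eq_one hg)
  rcases i with _ | _ | i
  · rw [orderOf_eq_one_iff.mp hi, one_pow]
  · exact orderOf_dvd_iff_pow_eq_one.mp (by rw [hi]; simp)
  · exact absurd hi (h i g)

theorem not_dvd {p a : ℕ} (hp : p.Prime) (h : (a : ZMod p) = -1 ∨ (a : ZMod p) = 1) : ¬ p ∣ a :=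
  fun h1 => by
    have := Fact.mk hp
    rw [(ZMod.natCast_eq_zero_iff _ _).mpr h1] at h
    simp at h

theorem sc_ne (h : ∀ t, 3 ≤ t → sc G t = 0 ∨ sc G t = m ∨ sc G t = n) (hodd : ¬ 2 ∣ Nat.card G)
    {p q : ℕ} (hp : p.Prime) (hq : q.Prime) (hpq : p ≠ q) (hpG : p ∣ Nat.card G)
    (hqG : q ∣ Nat.card G) (h1 : sc G p = m) (h2 : sc G q = m) : False := by
  have h3 : ∀ {r : ℕ}, r.Prime → r ∣ Nat.card G → 3 ≤ r ∧ r ≠ 2 := fun {r} hr hrG =>
    have : r ≠ 2 := fun h => hodd (h ▸ hrG)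
    ⟨hr.two_le.lt_of_ne' this, this⟩
  have hnd : ∀ {r s : ℕ}, r.Prime → s.Prime → r ≠ s → ¬ r ∣ s := fun {r s} hr hs hrs h =>
    hrs ((Nat.prime_dvd_prime_iff_eq hr hs).mp h)
  have hd : ∀ {r s : ℕ}, r.Prime → s.Prime → r ≠ s → r ∣ Nat.card G → s ∣ Nat.card G →
      r * s ∣ Nat.card G := fun {r s} hr hs hrs h1 h2 =>
    ((Nat.coprime_primes hr hs).mpr hrs).mul_dvd_of_dvd_of_dvd h1 h2
  have key : ∀ {r s : ℕ}, r.Prime → s.Prime → r ≠ s → r ∣ Nat.card G → s ∣ Nat.card G →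
      sc G r = m → sc G s = m → sc G (s * r) = n ∧ (n : ZMod r) = 1 :=
    fun {r s} hr hs hrs hrG hsG h1 h2 => by
      have := Fact.mk hr
      have h4 := cast_sc_mul hr (hnd hr hs hrs) (hd hs hr hrs.symm hsG hrG)
      have h5 := cast_sc_prime hr hrG
      rw [h2, ← h1, h5, neg_neg] at h4
      rcases h (s * r) ((h3 hs hsG).1.trans (Nat.le_mul_of_pos_right s hr.pos)) with h6 | h6 | h6
      · simp [h6] at h4
      · exact absurd (by rwa [h6, ← h1, h5] at h4) (neg_one_ne_one hr (h3 hr hrG).2)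
      · exact ⟨h6, h6 ▸ h4⟩
  by_cases hall : ∀ r : ℕ, r.Prime → r ∣ Nat.card G → sc G r = m
  · have h4 : Nat.card G ∣ Nat.card {x : G // x ^ p = 1} := by
      refine (Nat.dvd_iff_prime_pow_dvd_dvd _ _).mpr fun r k hr hk => ?_
      rcases k with _ | k
      · simp
      have hrG := (dvd_pow_self r k.succ_ne_zero).trans hk
      have h5 : (n : ZMod r) = 1 := by
        by_cases hrp : r = p
        · exact hrp ▸ (key hp hq hpq hpG hqG h1 h2).2
        · exact (key hr hp hrp hrG hpG (hall r hr hrG) h1).2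
      have h6 := Ch.dvd_card_pow_eq_one hk dvd_rfl
      rw [Nat.card_congr (Equiv.subtypeEquivRight (q := fun x : G => x ^ r = 1) fun x =>
        ⟨pow_eq_one hr fun j => sq_zero h hr (not_dvd hr (Or.inl (hall r hr hrG ▸ cast_sc_prime hr hrG)))
          fun h7 => not_dvd hr (Or.inr h5) (h7 ▸ Dvd.dvd.trans (by
            rw [Nat.totient_prime_pow_succ hr, pow_succ]
            exact (dvd_mul_left r _).mul_right _) (totient_dvd_sc _)),
          fun h7 => by rw [pow_succ', pow_mul, h7, one_pow]⟩), ← sum_sc hr.ne_zero, hr.sum_divisors,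
        hall r hr hrG] at h6
      rwa [← sum_sc hp.ne_zero, hp.sum_divisors, h1]
    have := Fact.mk hq
    obtain ⟨y, hy⟩ := exists_prime_orderOf_dvd_card' q hqG
    have h5 := Finite.card_subtype_lt (p := fun x : G => x ^ p = 1) (x := y) fun h5 =>
      hnd hq hp hpq.symm (hy ▸ orderOf_dvd_of_pow_eq_one h5)
    have : Nonempty {x : G // x ^ p = 1} := ⟨⟨1, one_pow p⟩⟩
    exact absurd (Nat.le_of_dvd Nat.card_pos h4) (by omega)
  push Not at hall
  obtain ⟨r, hr, hrG, h4⟩ := hall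
  have := Fact.mk hr
  have := Fact.mk hp
  have h5 := cast_sc_prime hr hrG
  have h6 : sc G r = n := ((h r (h3 hr hrG).1).resolve_left fun h0 => by simp [h0] at h5).resolve_left h4
  have hrp : r ≠ p := fun h0 => h4 (h0 ▸ h1)
  have hrq : r ≠ q := fun h0 => h4 (h0 ▸ h2)
  obtain ⟨h7, h8⟩ := key hp hq hpq hpG hqG h1 h2
  have h9 := cast_sc_mul hp (hnd hp hr hrp.symm) (hd hr hp hrp hrG hpG)
  have h10 := cast_sc_mul hr (hnd hr hp hrp) (hd hp hr hrp.symm hpG hrG)
  rw [h6, h8] at h9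
  have h11 : sc G (r * p) = m := by
    rcases h (r * p) ((h3 hr hrG).1.trans (Nat.le_mul_of_pos_right r hp.pos)) with h11 | h11 | h11
    · simp [h11] at h9
    · exact h11
    · exact absurd (by rwa [h11, h8, eq_comm] at h9) (neg_one_ne_one hp (h3 hp hpG).2)
  rw [mul_comm, h11, h1] at h10
  have hc := Nat.Coprime.mul_right ((Nat.coprime_primes hr hq).mpr hrq)
    ((Nat.coprime_primes hr hp).mpr hrp)
  have h12 := cast_sc_mul hr ((Nat.Prime.coprime_iff_not_dvd hr).mp hc)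
    (hc.symm.mul_dvd_of_dvd_of_dvd (hd hq hp hpq.symm hqG hpG) hrG)
  rw [h6] at h5
  rw [h7, h5, neg_neg] at h12
  have h13 := neg_one_ne_one hr (h3 hr hrG).2
  rcases h (q * p * r) ((h3 hr hrG).1.trans (Nat.le_mul_of_pos_left r (mul_pos hq.pos hp.pos)))
    with h14 | h14 | h14 <;> rw [h14] at h12
  · simp at h12
  · rw [h12] at h10
    exact h13 h10.symm
  · exact h13 (h5.symm.trans h12)

theorem no_mixed {p q : ℕ} (h : ∀ t, 3 ≤ t → sc G t = 0 ∨ sc G t = sc G p ∨ sc G t = sc G q)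
    (hp : p.Prime) (hq : q.Prime) (hq3 : 3 ≤ q) (hpq : p ≠ q) (hpG : p ∣ Nat.card G)
    (hqG : q ∣ Nat.card G) : sc G (p * q) ≠ sc G p := fun h1 => by
  have := Fact.mk hp
  have hc := (Nat.coprime_primes hp hq).mpr hpq
  have h2 := cast_sc_mul hp ((Nat.Prime.coprime_iff_not_dvd hp).mp hc)
    (hc.symm.mul_dvd_of_dvd_of_dvd hqG hpG)
  have h3 := cast_sc_prime hp hpG
  rw [mul_comm, h1, h3, neg_inj] at h2
  have h4 := two_mul_sc_le (G := G) hc hq3 fun x hx => by
    by_contra h4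
    push Not at h4
    exact not_dvd hp (Or.inr h2.symm) (dvd_sc_of_not_commute hp hx h4)
  have h5 : sc G p = 0 := by omega
  simp [h5] at h3

theorem expo {p q : ℕ} (h : ∀ t, 3 ≤ t → sc G t = 0 ∨ sc G t = sc G p ∨ sc G t = sc G q)
    (hp : p.Prime) (hq : q.Prime) (hpG : p ∣ Nat.card G) (hqG : q ∣ Nat.card G)
    (hc : ∀ x y : G, orderOf x = p → orderOf y = q → ¬ Commute x y) {g : G} {j : ℕ}
    (hg : g ^ p ^ j = 1) : g ^ p = 1 := by
  have := Fact.mk hq
  obtain ⟨y, hy⟩ := exists_prime_orderOf_dvd_card' q hqG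
  refine pow_eq_one hp (fun k => sq_zero h hp (not_dvd hp (Or.inl (cast_sc_prime hp hpG))) fun h1 =>
    not_dvd hq (Or.inl (cast_sc_prime hq hqG)) (h1 ▸ dvd_sc_of_not_commute hq hy fun x hx h2 => ?_)) hg
  obtain ⟨i, hi⟩ := exists_orderOf_eq_of_dvd_orderOf (g := x) (n := p)
    (hx ▸ dvd_pow_self p (by omega))
  exact hc _ y hi hy (h2.symm.pow_left i)

theorem expo_sylow {p : ℕ} [hp : Fact p.Prime] (hpG : p ∣ Nat.card G)
    (h : ∀ {g : G} {j : ℕ}, g ^ p ^ j = 1 → g ^ p = 1) (P : Sylow p G) :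
    Monoid.exponent (P : Subgroup G) = p := by
  have := ((P : Subgroup G).nontrivial_iff_ne_bot).mpr (P.ne_bot_of_dvd_card hpG)
  refine (Monoid.exponent_eq_prime_iff hp.out).mpr fun g hg => orderOf_eq_prime ?_ hg
  obtain ⟨j, hj⟩ := P.isPGroup' g
  exact Subtype.ext (h (congrArg Subtype.val hj))

end

/-- Let G be a finite group of odd order in which the numbers of elements of each order that occurs (the numbers #{g : o(g) = m}, m ranging over the element orders of G) take exactly three different values. Then the order of G has at most two prime divisors; and if it has exactly two, then every Sylow subgroup of G for a prime dividing its order has prime exponent, G is a Frobenius group, and some Frobenius complement of G has prime order. -/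
theorem result {G : Type*} [Group G] [Finite G] (hodd : Odd (Nat.card G)) (h : (((fun m : ℕ => Nat.card {g : G // orderOf g = m}) '' Set.range (orderOf : G → ℕ))).ncard = 3) :
    (Nat.card G).primeFactors.card ≤ 2 ∧
      ((Nat.card G).primeFactors.card = 2 →
        (∀ (p : ℕ) [Fact p.Prime] (P : Sylow p G), p ∣ Nat.card G → Monoid.exponent ↥(P : Subgroup G) = p) ∧
        ∃ C : Subgroup G, Cfsg.IsFrobeniusComplement C ∧ (Nat.card ↥C).Prime) := by
  obtain ⟨m, n, h0⟩ := exists_values h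
  have h1 : ∀ t, 3 ≤ t → sc G t = 0 ∨ sc G t = m ∨ sc G t = n := fun t ht => values_three h0 ht
  have ho : ¬ 2 ∣ Nat.card G := fun h2 => Nat.not_even_iff_odd.mpr hodd (even_iff_two_dvd.mpr h2)
  have h3 : ∀ {r : ℕ}, r.Prime → r ∣ Nat.card G → 3 ≤ r := fun {r} hr hrG =>
    hr.two_le.lt_of_ne' fun h => ho (h ▸ hrG)
  have hv : ∀ {r : ℕ}, r.Prime → r ∣ Nat.card G → sc G r = m ∨ sc G r = n := fun {r} hr hrG =>
    (h1 r (h3 hr hrG)).resolve_left fun h0 => by
      have := Fact.mk hr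
      have := cast_sc_prime hr hrG
      simp [h0] at this
  have hne : ∀ {p q : ℕ}, p.Prime → q.Prime → p ≠ q → p ∣ Nat.card G → q ∣ Nat.card G →
      sc G p ≠ sc G q := fun {p q} hp hq hpq hpG hqG h2 => by
    rcases hv hp hpG with h4 | h4
    · exact sc_ne h1 ho hp hq hpq hpG hqG h4 (h2 ▸ h4)
    · exact sc_ne (fun t ht => (h1 t ht).imp_right Or.symm) ho hp hq hpq hpG hqG h4 (h2 ▸ h4)
  have hle : (Nat.card G).primeFactors.card ≤ 2 := by
    by_contra h2
    obtain ⟨p, hp, q, hq, r, hr, hpq, hpr, hqr⟩ := Finset.two_lt_card.mp (not_le.mp h2)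
    obtain ⟨hp, hpG, -⟩ := Nat.mem_primeFactors.mp hp
    obtain ⟨hq, hqG, -⟩ := Nat.mem_primeFactors.mp hq
    obtain ⟨hr, hrG, -⟩ := Nat.mem_primeFactors.mp hr
    have := hne hp hq hpq hpG hqG
    have := hne hp hr hpr hpG hrG
    have := hne hq hr hqr hqG hrG
    have := hv hp hpG
    have := hv hq hqG
    have := hv hr hrG
    omega
  refine ⟨hle, fun h2 => ?_⟩
  have := Ch.burnside_isSolvable_of_card_primeFactors_le_two hle
  have : Nontrivial G := Finite.one_lt_card_iff_nontrivial.mp (by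
    by_contra h4
    rw [show Nat.card G = 1 by have := Nat.card_pos (α := G); omega] at h2
    simp at h2)
  obtain ⟨q, hq, A, -, _, hA0, _, hA⟩ := HT.exists_normal_comm_pGroup_le (⊤ : Subgroup G)
    inferInstance top_ne_bot
  have := Fact.mk hq
  have hqA := hA.card_eq_or_dvd.resolve_left fun h4 => hA0 (card_eq_one.mp h4)
  have hqG := hqA.trans (card_subgroup_dvd_card A)
  obtain ⟨p, hp, hpG, hpq, hall⟩ : ∃ p, p.Prime ∧ p ∣ Nat.card G ∧ p ≠ q ∧
      ∀ r, r.Prime → r ∣ Nat.card G → r = p ∨ r = q := by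
    obtain ⟨a, b, hab, h4⟩ := Finset.card_eq_two.mp h2
    have h5 : ∀ r, r.Prime ∧ r ∣ Nat.card G ↔ r = a ∨ r = b := fun r => by
      have := Finset.ext_iff.mp h4 r
      simpa [Nat.card_pos.ne'] using this
    rcases (h5 q).mp ⟨hq, hqG⟩ with rfl | rfl
    · exact ⟨b, ((h5 b).mpr (Or.inr rfl)).1, ((h5 b).mpr (Or.inr rfl)).2, hab.symm,
        fun r hr h6 => ((h5 r).mp ⟨hr, h6⟩).symm⟩
    · exact ⟨a, ((h5 a).mpr (Or.inl rfl)).1, ((h5 a).mpr (Or.inl rfl)).2, hab,
        fun r hr h6 => (h5 r).mp ⟨hr, h6⟩⟩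
  have := Fact.mk hp
  have h4 : ∀ t, 3 ≤ t → sc G t = 0 ∨ sc G t = sc G p ∨ sc G t = sc G q := fun t ht => by
    have := h1 t ht
    have := hne hp hq hpq hpG hqG
    have := hv hp hpG
    have := hv hq hqG
    omega
  have h4' : ∀ t, 3 ≤ t → sc G t = 0 ∨ sc G t = sc G q ∨ sc G t = sc G p := fun t ht =>
    (h4 t ht).imp_right Or.symm
  have h5 : ∀ g : G, orderOf g ≠ p * q := sc_eq_zero_iff.mp (((h4 (p * q)
    ((h3 hp hpG).trans (Nat.le_mul_of_pos_right p hq.pos))).resolve_right (not_or.mpr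
      ⟨no_mixed h4 hp hq (h3 hq hqG) hpq hpG hqG,
        mul_comm q p ▸ no_mixed h4' hq hp (h3 hp hpG) hpq.symm hqG hpG⟩)))
  have hc : ∀ x y : G, orderOf x = p → orderOf y = q → ¬ Commute x y := fun x y hx hy h6 =>
    h5 (x * y) (by rw [h6.orderOf_mul_eq_mul_orderOf_of_coprime
      (by rw [hx, hy]; exact (Nat.coprime_primes hp hq).mpr hpq), hx, hy])
  have hep := fun {g : G} {j : ℕ} => expo (g := g) (j := j) h4 hp hq hpG hqG hc
  have heq := fun {g : G} {j : ℕ} => expo (g := g) (j := j) h4' hq hp hqG hpG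
    fun x y hx hy h6 => hc y x hy hx h6.symm
  refine ⟨fun r hr R hrG => ?_, ?_⟩
  · rcases hall r hr.out hrG with rfl | rfl
    · exact expo_sylow hrG hep R
    · exact expo_sylow hrG heq R
  have hpow : ∀ g : G, g ^ p = 1 ∨ g ^ q = 1 := fun g => by
    by_cases h6 : p ∣ orderOf g
    · refine Or.inl (hep (j := (orderOf g).primeFactorsList.length) ?_)
      rw [← Nat.eq_prime_pow_of_unique_prime_dvd (orderOf_pos g).ne', pow_orderOf_eq_one]
      intro r hr h7
      refine (hall r hr (h7.trans (_root_.orderOf_dvd_natCard g))).resolve_right ?_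
      rintro rfl
      obtain ⟨i, hi⟩ := exists_orderOf_eq_of_dvd_orderOf
        (((Nat.coprime_primes hp hq).mpr hpq).mul_dvd_of_dvd_of_dvd h6 h7)
      exact h5 _ hi
    · refine Or.inr (heq (j := (orderOf g).primeFactorsList.length) ?_)
      rw [← Nat.eq_prime_pow_of_unique_prime_dvd (orderOf_pos g).ne', pow_orderOf_eq_one]
      exact fun {r} hr h7 => (hall r hr (h7.trans (_root_.orderOf_dvd_natCard g))).resolve_left
        fun h8 => h6 (h8 ▸ h7)
  obtain ⟨P⟩ : Nonempty (Sylow p G) := inferInstance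
  have hP0 := P.ne_bot_of_dvd_card hpG
  have hPp : ∀ u ∈ (P : Subgroup G), u ^ p = 1 := fun u hu => by
    obtain ⟨j, hj⟩ := P.isPGroup' ⟨u, hu⟩
    exact hep (congrArg Subtype.val hj)
  have hfix : ∀ u ∈ (P : Subgroup G), u ≠ 1 → ∀ v ∈ A, Commute u v → v = 1 := fun u hu hu1 v hv h6 => by
    by_contra h7
    obtain ⟨j, hj⟩ := hA ⟨v, hv⟩
    exact hc u v (orderOf_eq_prime (hPp u hu) hu1)
      (orderOf_eq_prime (heq (congrArg Subtype.val hj)) h7) h6
  have hPA : (P : Subgroup G) ≤ normalizer (A : Set G) := le_top.trans (normalizer_eq_top A).ge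
  have hcyc : IsCyclic P := by
    have := (Frob.hasFpfAction_of_fpf hA0 hPA fun u hu hu1 => eq_bot_iff.mpr fun v hv =>
      hfix u hu hu1 v hv.1 (mem_centralizer_singleton_iff.mp hv.2).symm).isCyclic_of_isPGroup
      (fun h6 => ho (h6 ▸ hpG)) (P.isPGroup'.to_subgroup ⊤)
    exact isCyclic_of_surjective _ topEquiv.surjective
  obtain ⟨x, hx⟩ := (Subgroup.isCyclic_iff_exists_zpowers_eq_top _).mp hcyc
  have hxP : x ∈ (P : Subgroup G) := hx ▸ mem_zpowers x
  have hx1 : x ≠ 1 := fun h6 => hP0 (by rw [← hx, h6, zpowers_one_eq_bot])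
  have hPc : Nat.card P = p := by rw [← hx, Nat.card_zpowers, orderOf_eq_prime (hPp x hxP) hx1]
  have hN : ∀ y ∈ normalizer ((P : Subgroup G) : Set G), y ∈ (P : Subgroup G) := fun y hy => by
    by_contra hyP
    have hyq := (hpow y).resolve_left fun h6 => hyP (le_sylow_of_le_normalizer P
      (isPGroup_zpowers_of_pow h6) (zpowers_le.mpr hy) (mem_zpowers y))
    have hyK : y ∉ A ⊔ P := fun h6 => by
      obtain ⟨a, ha, u, hu, rfl⟩ := HT.mem_sup_of_normal.mp h6
      have h7 := S4017.mem_cent hpq.symm hA P.isPGroup' hPA ha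
        ((Subgroup.mul_mem_cancel_right _ (le_normalizer hu)).mp hy) x hxP
      exact hyP (by rwa [hfix x hxP hx1 a ha h7, one_mul])
    obtain ⟨v, hv, hv1⟩ := (A.bot_or_exists_ne_one).resolve_left hA0
    have h6 := pow_card_eq_one_of_coset (A := A) hy hq (fun u hu v hv => (hpow _).resolve_left
      fun h6 => hyK ?_) (fun v hv h6 => hfix x hxP hx1 v hv (mul_inv_eq_iff_eq_mul.mp (h6 x hxP))) hv
    · obtain ⟨j, hj⟩ := hA ⟨v, hv⟩
      rw [hPc] at h6
      exact hv1 (orderOf_eq_one_iff.mp (Nat.eq_one_of_dvd_coprimes ((Nat.coprime_primes hp hq).mpr hpq)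
        (orderOf_dvd_of_pow_eq_one h6) (orderOf_dvd_of_pow_eq_one (heq (congrArg Subtype.val hj)))))
    have h7 := pow_mem_mul (K := A ⊔ P) (y := y) (normalizer_inf_normalizer_le_normalizer_sup _ _
      ⟨(normalizer_eq_top A).ge trivial, hy⟩) (u := y⁻¹ * v * y * u) (mul_mem (mem_sup_left
        (by simpa using (inferInstance : A.Normal).conj_mem v hv y⁻¹)) (mem_sup_right hu)) p
    rw [show y * (y⁻¹ * v * y * u) = v * (y * u) by group, h6, mul_one, inv_mem_iff] at h7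
    refine zpowers_le.mpr h7 (mem_zpowers_pow_iff.mpr ?_)
    exact Nat.Coprime.coprime_dvd_right (orderOf_dvd_of_pow_eq_one hyq)
      ((Nat.coprime_primes hp hq).mpr hpq)
  refine ⟨P, Frob.isFrobeniusComplement_iff.mpr ⟨hP0, fun h6 => ?_, fun g z hz hz1 hz' => hN g ?_⟩,
    by rw [hPc]; exact hp⟩
  · rw [← card_top, ← h6, hPc] at hqG
    exact hpq ((Nat.prime_dvd_prime_iff_eq hq hp).mp hqG).symm
  · have h6 : zpowers z = P := PG.eq_of_le_of_card_le (zpowers_le.mpr hz)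
      (by rw [hPc, Nat.card_zpowers, orderOf_eq_prime (hPp z hz) hz1])
    rw [← h6, mem_normalizer_zpowers_iff, h6]
    exact hz'

end Cfsg.Agent.S4004
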