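import Mathlib
import Cfsg.Statements.S4018
import Cfsg.Agent.FG.H93InvGraph
import Cfsg.Agent.Inv.SylowElt
import Cfsg.Agent.GT.PGroupBasic
import Cfsg.Agent.GT.TransferPNilp
import Cfsg.Agent.GT.PiGroups

set_option autoImplicit false
open Cfsg

namespace Cfsg.Agent.S4018

open Cfsg.Agent.FG Cfsg.Agent.GT Cfsg.Agent.Inv

theorem general {G : Type*} [Group G] [Finite G] {p : ℕ} [Fact p.Prime] (hp2 : p ≠ 2)
    (P : Sylow p G) (hab : IsMulCommutative P)
    (hN : Nat.card (Subgroup.normalizer ((P : Subgroup G) : Set G)) = 4 * Nat.card P)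
    (hC : Nat.card (Subgroup.centralizer ((P : Subgroup G) : Set G)) = 2 * Nat.card P)
    (hTI : Cfsg.IsTISubset (Subgroup.centralizer ((P : Subgroup G) : Set G) : Set G))
    (heven : ∀ H : Subgroup G, H ≠ ⊤ → 2 ∣ Nat.card H → Nat.card H ∣ 4 * Nat.card P) :
    ¬ IsSimpleGroup G := by
  intro hS
  have hp : p.Prime := Fact.out
  set C := Subgroup.centralizer ((P : Subgroup G) : Set G) with hCdef
  set N := Subgroup.normalizer ((P : Subgroup G) : Set G) with hNdef
  obtain ⟨k, hk⟩ := P.isPGroup'.exists_card_eq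
  have hk' : Nat.card P = p ^ k := hk
  have hPpos : 0 < Nat.card P := Nat.card_pos
  have hPC : (P : Subgroup G) ≤ C := PG.isMulCommutative_iff_le_centralizer.mp hab
  have hCN : C ≤ N := Subgroup.centralizer_le_normalizer _
  have hna : ¬ ∀ a b : G, a * b = b * a := by
    intro h
    have h1 : N ≤ C := fun a _ => Subgroup.mem_centralizer_iff.mpr fun b _ => h b a
    have := Subgroup.card_le_of_le h1
    omega
  have hodd : ∀ x ∈ (P : Subgroup G), x * x = 1 → x = 1 := by
    intro x hx h2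
    refine Tr.eq_one_of_coprime_of_isPGroup P.isPGroup' hx ?_
    exact Nat.Coprime.coprime_dvd_left (orderOf_dvd_of_pow_eq_one (by rwa [sq]))
      ((Nat.coprime_primes Nat.prime_two hp).mpr hp2.symm)
  obtain ⟨d, hdC, hd⟩ := exists_mem_orderOf_eq_prime (H := C) Nat.prime_two (by omega)
  have hdP : d ∉ (P : Subgroup G) := fun h => ne_one_of_two hd (hodd d h (mul_self_of_two hd))
  have hPCi : (P : Subgroup G).relIndex C = 2 := by
    have := card_mul_relIndex hPC
    rw [hC, mul_comm] at this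
    exact Nat.eq_of_mul_eq_mul_right hPpos this
  have hCNi : C.relIndex N = 2 := by
    have := card_mul_relIndex hCN
    rw [hC, hN] at this
    exact Nat.eq_of_mul_eq_mul_left (by omega : 0 < 2 * Nat.card P) (by omega)
  have hform : ∀ c ∈ C, ∃ n ∈ (P : Subgroup G), ∃ i : ℤ, n * d ^ i = c := by
    intro c hc
    rw [← PG.sup_zpowers_eq_of_relIndex_prime Nat.prime_two hPC hPCi hdC hdP] at hc
    exact (PG.mem_sup_zpowers_of_mem_normalizer (hCN hdC)).mp hc
  have hdn : ∀ n ∈ (P : Subgroup G), Commute n d := fun n hn =>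
    Subgroup.mem_centralizer_iff.mp hdC n hn
  have hdi : ∀ i : ℤ, d ^ i * d ^ i = 1 := fun i => by
    rw [← (Commute.refl d).mul_zpow, mul_self_of_two hd, one_zpow]
  have hsq : ∀ n ∈ (P : Subgroup G), ∀ i : ℤ, n * d ^ i * (n * d ^ i) = n * n := by
    intro n hn i
    rw [mul_assoc, ← mul_assoc (d ^ i), ← ((hdn n hn).zpow_right i).eq, mul_assoc, hdi, mul_one]
  have huniq : ∀ c ∈ C, orderOf c = 2 → c = d := by
    intro c hc h2
    obtain ⟨n, hn, i, rfl⟩ := hform c hc
    have h1 := mul_self_of_two h2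
    rw [hsq n hn] at h1
    rw [hodd n hn h1, one_mul] at h2 ⊢
    exact involution_unique_of_mem_zpowers h2 hd ⟨i, rfl⟩ (Subgroup.mem_zpowers d)
  have hnorm : Subgroup.normalizer (C : Set G) ≤ Subgroup.centralizer {d} := fun g hg =>
    CI.mem_cent'.mpr (huniq _ ((Subgroup.mem_normalizer_iff.mp hg d).mp hdC)
      (by rwa [orderOf_conj']))
  have hNd : N = Subgroup.centralizer {d} := by
    have h1 : N ≤ Subgroup.centralizer {d} :=
      (Tr.normalizer_le_normalizer_centralizer _).trans hnorm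
    refine PG.eq_of_le_of_card_le h1 (Nat.le_of_dvd Nat.card_pos (hN ▸ heven _ ?_ ?_))
    · rw [Ne, CI.cent_eq_top_iff, H93.center_eq_bot_of_simple hna]
      exact ne_one_of_two hd
    · exact (even_card_of_involution_mem (CI.self_mem_cent d) hd).two_dvd
  have hTI' : ∀ g x : G, x ∈ C → x ≠ 1 → g * x * g⁻¹ ∈ C → g ∈ N := by
    intro g x hx hx1 hg
    rw [hNd]
    refine hnorm ?_
    by_contra hn
    exact hx1 (hTI g hn x hx hg)
  have hcop : ∀ m : ℕ, m.Coprime p → m ∣ 4 * Nat.card P → m ∣ 4 := fun m hm h =>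
    (hm.pow_right k).dvd_of_dvd_mul_right (hk' ▸ h)
  have hNi : ¬ 2 ∣ N.index := by
    intro h2
    obtain ⟨T⟩ : Nonempty (Sylow 2 G) := inferInstance
    have h8 : 2 ^ 3 ∣ Nat.card G := by
      rw [← N.card_mul_index, hN]
      obtain ⟨m, hm⟩ := h2
      exact ⟨Nat.card P * m, by rw [hm]; ring⟩
    have h8' : 2 ^ 3 ∣ Nat.card T := T.pow_dvd_card_of_pow_dvd_card h8
    have hT : (T : Subgroup G) ≠ ⊤ := by
      intro ht
      have h1 : IsPGroup 2 G := (ht ▸ T.isPGroup').of_equiv Subgroup.topEquiv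
      have := h1.isNilpotent
      exact hna mul_comm
    obtain ⟨j, hj⟩ := T.isPGroup'.exists_card_eq
    have h4 := hcop _ (by
      rw [hj]
      exact ((Nat.coprime_primes Nat.prime_two hp).mpr hp2.symm).pow_left j)
      (heven T hT (dvd_trans (by norm_num) h8'))
    have := Nat.le_of_dvd (by norm_num) (h8'.trans h4)
    omega
  have hconj : ∀ u : G, orderOf u = 2 → ∃ g : G, g * u * g⁻¹ = d := by
    intro u hu
    rcases Tr.thompson_transfer_index_two hNi hCNi (sq_of_two hu) with ⟨M, hM, hM2, -⟩ | ⟨g, hg⟩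
    · rcases hM.eq_bot_or_eq_top with rfl | rfl
      · have := N.card_le_card_group
        rw [Subgroup.index_bot] at hM2
        omega
      · simp at hM2
    · exact ⟨g, huniq _ hg (by rwa [orderOf_conj'])⟩
  have hPN : ∀ x ∈ N, (∃ j, orderOf x = p ^ j) → x ∈ (P : Subgroup G) := by
    rintro x hx ⟨j, hj⟩
    exact mem_sylow_of_mem_normalizer P hj hx
  refine H93.not_simple_of_inv_config hna hd huniq (fun c hc => ?_) (fun g x hx hx1 hg => ?_)
    (fun s t hs ht hs' ht' => ?_) hconj (fun c hc hc2 v hv hvc => ?_) (fun s t hs ht ho => ?_)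
  · exact CI.mem_cent.mp (hNd ▸ hCN hc)
  · exact CI.mem_cent.mp (hNd ▸ hTI' g x hx hx1 hg)
  · have h1 : s ∈ N := hNd ▸ CI.mem_cent.mpr hs
    have h2 : t ∈ N := hNd ▸ CI.mem_cent.mpr ht
    have := (Subgroup.mul_mem_iff_of_index_two (H := C.subgroupOf N) hCNi
      (a := ⟨s, h1⟩) (b := ⟨t, h2⟩)).mpr (by simp [Subgroup.mem_subgroupOf, hs', ht'])
    exact this
  · obtain ⟨n, hn, i, rfl⟩ := hform c hc
    rw [hsq n hn] at hc2 hvc
    have hx : n * n ∈ (P : Subgroup G) := Subgroup.mul_mem _ hn hn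
    obtain ⟨g, hg⟩ := hconj v hv
    have h1 : g * (n * n) * g⁻¹ ∈ N := by
      rw [hNd, ← hg]
      exact CI.mem_cent.mpr (hvc.symm.map (MulAut.conj g)).eq
    have h2 := hPN _ h1 (by rw [orderOf_conj']; exact CI.orderOf_of_mem P.isPGroup' hx)
    have h3 := CI.mem_cent'.mp (hNd ▸ (N.inv_mem (hTI' g _ (hPC hx) hc2 (hPC h2))))
    rw [← h3, ← hg]
    group
  · by_cases h1 : s * t = 1
    · exact ⟨1, by rw [h1]; simp⟩
    have hs2 := mul_self_of_two hs
    have ht2 := mul_self_of_two ht
    have h2 := heven _ (H93.normalizer_zpowers_ne_top hna h1) (even_card_of_involution_mem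
      (H93.mem_normalizer_zpowers_of_inverts (left_inverts_mul hs2 ht2)) hs).two_dvd
    have h3 := (Subgroup.orderOf_dvd_natCard _
      (Subgroup.le_normalizer (Subgroup.mem_zpowers (s * t)))).trans h2
    have h4 : (orderOf (s * t)).Coprime 4 :=
      ((Nat.coprime_two_right.mpr ho).pow_right 2)
    obtain ⟨j, -, hj⟩ := (Nat.dvd_prime_pow hp).mp (hk' ▸ h4.dvd_of_dvd_mul_left h3)
    obtain ⟨g, hg⟩ := CI.exists_conj_mem_sylow P ⟨j, hj⟩
    exact ⟨g, hPC hg⟩

/-- Let G be a finite group with an abelian Sylow 3-subgroup P such that the normalizer of P has order 4·#P, the centralizer C of P has order 2·#P, C meets each of its conjugates by elements outside its normalizer trivially, and every proper subgroup of G of even order has order dividing 4·#P. Then G is not simple. -/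
theorem result {G : Type*} [Group G] [Finite G]
    (P : Sylow 3 G) (hab : IsMulCommutative P)
    (hN : Nat.card (Subgroup.normalizer ((P : Subgroup G) : Set G)) = 4 * Nat.card P)
    (hC : Nat.card (Subgroup.centralizer (P : Set G)) = 2 * Nat.card P)
    (hTI : Cfsg.IsTISubset (Subgroup.centralizer (P : Set G) : Set G))
    (heven : ∀ H : Subgroup G, H ≠ ⊤ → 2 ∣ Nat.card H → Nat.card H ∣ 4 * Nat.card P) :
    ¬ IsSimpleGroup G := by
  exact general (by norm_num) P hab hN hC hTI heven

end Cfsg.Agent.S4018
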