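import Mathlib
import Cfsg.Statements.S4016
import Cfsg.Agent.FG.H93CycAb
import Cfsg.Agent.FG.H93Eppo
import Cfsg.Agent.FG.H93Solv
import Cfsg.Agent.Cl.PSL2MaxClass
import Cfsg.Agent.CIT.Models
import Cfsg.Agent.S2202
import Cfsg.Agent.S4018
import Cfsg.Agent.FG.WithFT
import Cfsg.Agent.Cl.LinearIso
import Cfsg.Agent.Ch.Burnside

set_option autoImplicit false
open Cfsg

namespace Cfsg.Agent.S4016

open Cfsg.Agent.FG Cfsg.Agent.GT Subgroup
open scoped commutatorElement Pointwise

theorem exists_dihedral {F : Type*} [Field F] [Finite F] [CharP F 2] (h4 : 4 ≤ Nat.card F) {p : ℕ}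
    (hp : p.Prime) (hp2 : p ≠ 2) : ∃ H : Subgroup (Matrix.ProjectiveSpecialLinearGroup (Fin 2) F),
      ¬ p ∣ Nat.card H ∧ ¬ IsMulCommutative H := by
  have he : 2 ∣ Nat.card F := Cl.L2.char_dvd_card 2
  have hg : Nat.gcd 2 (Nat.card F - 1) = 1 := by
    rw [← Nat.coprime_iff_gcd_eq_one, Nat.coprime_two_left, Nat.odd_iff]; omega
  have key : ∀ (g : Matrix.ProjectiveSpecialLinearGroup (Fin 2) F) (n : ℕ), orderOf g = n → 3 ≤ n →
      Cl.L2.tau (Cl.L2.emb g) ≠ 4 → Nat.card (Cl.L2.torS g) = n → ¬ p ∣ n →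
      ∃ H : Subgroup (Matrix.ProjectiveSpecialLinearGroup (Fin 2) F),
        ¬ p ∣ Nat.card H ∧ ¬ IsMulCommutative H := fun g n hn h3 ht hc hd => by
    refine ⟨Cl.L2.ntorS g, fun h => ?_, fun h => ?_⟩
    · rw [Cl.L2.card_ntorS ht, hc] at h
      exact ((Nat.Prime.dvd_mul hp).mp h).elim
        (fun h => hp2 ((Nat.prime_dvd_prime_iff_eq hp Nat.prime_two).mp h)) hd
    · obtain ⟨m, hm, hm'⟩ := Cl.L2.exists_mem_ntorS_not_mem ht
      have h1 := Cl.L2.conj_eq_inv_of_mem_ntorS ht hm hm' (Cl.L2.self_mem_torS g)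
      rw [PG.isMulCommutative_iff_forall.mp h m hm g (Cl.L2.torS_le_ntorS g (Cl.L2.self_mem_torS g)),
        mul_inv_cancel_right, eq_inv_iff_mul_eq_one, ← pow_two, ← orderOf_dvd_iff_pow_eq_one, hn] at h1
      have := Nat.le_of_dvd two_pos h1
      omega
  by_cases hd : p ∣ Nat.card F - 1
  · obtain ⟨g, h1, h2⟩ := Cl.L2.exists_nofixS (F := F)
    have h3 := Cl.L2.card_torS_mul_of_nofix h1
    rw [hg, mul_one] at h2 h3
    have hg1 : g ≠ 1 := fun h => by rw [h, orderOf_one] at h2; omega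
    refine key g _ h2 (by omega) (Cl.L2.tauS_ne_four_of_coprime hg1 h2.dvd (Or.inr rfl)) h3 fun h => ?_
    have h5 := Nat.dvd_sub h hd
    rw [show Nat.card F + 1 - (Nat.card F - 1) = 2 by omega] at h5
    exact hp2 ((Nat.prime_dvd_prime_iff_eq hp Nat.prime_two).mp h5)
  · obtain ⟨g, h1, -, h2⟩ := Cl.L2.exists_fixS (F := F)
    rw [hg, mul_one] at h2
    have hg1 : g ≠ 1 := fun h => by rw [h, orderOf_one] at h2; omega
    have ht := Cl.L2.tauS_ne_four_of_coprime hg1 h2.dvd (Or.inl rfl)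
    have h3 := Cl.L2.card_torS_mul_of_fix ht h1
    rw [hg, mul_one] at h3
    exact key g _ h2 (by omega) ht h3 hd

section simple

set_option linter.unusedSectionVars false

variable {G : Type*} [Group G] [Finite G] {p : ℕ} [hp : Fact p.Prime]

/-- a minimal simple counterexample -/
structure Min (p : ℕ) (G : Type*) [Group G] : Prop where
  hyp : H93.CycAb p G
  simple : IsSimpleGroup G
  ns : ¬ Group.IsSolvable G
  dvd : p ∣ Nat.card G
  sub : ∀ L : Subgroup G, L ≠ ⊤ → IsPSolvable p L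

theorem Min.not_npc (h : Min p G) {q : ℕ} [hq : Fact q.Prime] (hd : q ∣ Nat.card G) :
    ¬ HasNormalPComplement q G := fun h1 => by
  have := h.simple
  exact h.ns (H93.isSolvable_of_prime_card (h1.card_eq_of_isSimpleGroup hd ▸ hq.out))

theorem Min.ne_top (h : Min p G) {H : Subgroup G} (h0 : H ≠ ⊥) (hs : Group.IsSolvable H) :
    normalizer (H : Set G) ≠ ⊤ := fun h1 => by
  have := h.simple
  rcases (normalizer_eq_top_iff.mp h1).eq_bot_or_eq_top with h2 | h2
  · exact h0 h2
  · subst h2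
    exact h.ns (isSolvable_of_mulEquiv topEquiv)

theorem Min.eq_of_le (h : Min p G) (P : Sylow p G) {L : Subgroup G} (hL : L ≠ ⊤)
    (hle : normalizer ((P : Subgroup G) : Set G) ≤ L) :
    L ≤ normalizer ((P : Subgroup G) : Set G) := by
  have hPL := le_normalizer.trans hle
  rcases (h.hyp.subgroup L).dichotomy (h.sub L hL) (P.subtype hPL) with h1 | h1
  · refine absurd (Tr.hasNormalPComplement_of_normalizer_le_centralizer P fun g hg => ?_)
      (h.not_npc h.dvd)
    refine H93.mem_of_forall_primePow fun y hy q hq ⟨k, hk⟩ => ?_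
    have hyN := zpowers_le.mpr hg hy
    have := h.hyp.cyc P P.isPGroup'
    by_cases hqp : q = p
    · subst hqp
      exact PG.isMulCommutative_iff_le_centralizer.mp inferInstance (H93.le_sylow_of_le_normalizer P
        (IsPGroup.of_card (by rw [Nat.card_zpowers, hk])) (zpowers_le.mpr hyN) (mem_zpowers y))
    · have h2 := h1.mem_centralizer (P.subtype hPL).isPGroup' (g := ⟨y, hle hyN⟩)
        (by rw [Sylow.coe_subtype, ← subgroupOf_normalizer_eq hPL]; exact hyN)
        (by rw [orderOf_mk, hk]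
            exact Nat.Coprime.pow_left k ((Nat.coprime_primes hq hp.out).mpr hqp))
      exact fun x hx => congrArg Subtype.val (h2 ⟨x, hPL hx⟩ hx)
  · rw [Sylow.coe_subtype] at h1
    exact le_normalizer_of_normal_subgroupOf hPL

theorem Min.normalizer_le_centralizer (h : Min p G) (P : Sylow p G) {d : G}
    (hd : d ∈ centralizer ((P : Subgroup G) : Set G)) (hdp : ¬ p ∣ orderOf d) :
    normalizer ((P : Subgroup G) : Set G) ≤ centralizer {d} := by
  set C := centralizer ((P : Subgroup G) : Set G) with hC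
  have := h.hyp.cyc P P.isPGroup'
  have hPC : (P : Subgroup G) ≤ C := PG.isMulCommutative_iff_le_centralizer.mp inferInstance
  have h1 : HasNormalPComplement p C := Tr.hasNormalPComplement_of_sylow_le_center (P.subtype hPC)
    fun x hx => mem_center_iff.mpr fun y => Subtype.ext (y.2 x hx).symm
  have h2 : d ∈ pPrimeCoreOf p C := ⟨⟨d, hd⟩, by
    rw [h1.pPrimeCore_eq_pResidual]
    exact h1.mem_pResidual_iff.mpr (by
      rw [orderOf_mk]; exact ((Nat.Prime.coprime_iff_not_dvd hp.out).mpr hdp).symm), rfl⟩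
  intro g hg
  refine H93.mem_of_forall_primePow fun y hy q hq ⟨k, hk⟩ => ?_
  have hyN := zpowers_le.mpr hg hy
  rw [mem_centralizer_singleton_iff]
  by_cases hqp : q = p
  · subst hqp
    exact hd y (H93.le_sylow_of_le_normalizer P
      (IsPGroup.of_card (by rw [Nat.card_zpowers, hk])) (zpowers_le.mpr hyN) (mem_zpowers y))
  · refine (h.hyp.mem_centralizer ((Nat.Prime.coprime_iff_not_dvd hp.out).mp
      (coprime_card_pPrimeCoreOf p C).symm) (normalizer_le_normalizer_pPrimeCoreOf C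
        (PG.le_normalizer_centralizer le_rfl hyN)) (fun h3 => hqp ?_) d h2).symm
    exact ((Nat.prime_dvd_prime_iff_eq hp.out hq).mp (hp.out.dvd_of_dvd_pow (hk ▸ h3))).symm

theorem Min.centralizer_le (h : Min p G) (P : Sylow p G) {y : G}
    (hy : y ∈ centralizer ((P : Subgroup G) : Set G)) (hy1 : y ≠ 1) :
    centralizer {y} ≤ normalizer ((P : Subgroup G) : Set G) := by
  obtain ⟨q, hq, hd⟩ := Nat.exists_prime_and_dvd (mt orderOf_eq_one_iff.mp hy1)
  obtain ⟨k, hk⟩ := H93.exists_orderOf_eq_of_dvd_orderOf hd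
  have h1 : centralizer {y} ≤ normalizer (zpowers (y ^ k) : Set G) := by
    refine le_trans (fun g hg => ?_) (PG.centralizer_le_normalizer' _)
    rw [H93.centralizer_zpowers, mem_centralizer_singleton_iff]
    exact ((show Commute g y from mem_centralizer_singleton_iff.mp hg).pow_right k).eq
  have h0 : zpowers (y ^ k) ≠ ⊥ := fun h0 =>
    hq.one_lt.ne (by rw [← hk, zpowers_eq_bot.mp h0, orderOf_one])
  refine h1.trans (h.eq_of_le P (h.ne_top h0 (CopAct.isSolvable_zpowers _)) ?_)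
  have := h.hyp.cyc P P.isPGroup'
  by_cases hqp : q = p
  · subst hqp
    exact H93.normalizer_le_normalizer_of_isCyclic (H93.le_sylow_of_le_normalizer P
      (IsPGroup.of_card (n := 1) (by rw [Nat.card_zpowers, hk, pow_one]))
      (zpowers_le.mpr (PG.centralizer_le_normalizer' _ (pow_mem hy k))))
  · refine (h.normalizer_le_centralizer P (pow_mem hy k) (fun h3 => hqp ?_)).trans ?_
    · exact ((Nat.prime_dvd_prime_iff_eq hp.out hq).mp (hk ▸ h3)).symm
    · rw [← H93.centralizer_zpowers]; exact PG.centralizer_le_normalizer' _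

theorem Min.ti (h : Min p G) (P : Sylow p G) {g x : G}
    (hg : g ∉ normalizer ((P : Subgroup G) : Set G))
    (hx : x ∈ centralizer ((P : Subgroup G) : Set G))
    (hx' : g * x * g⁻¹ ∈ centralizer ((P : Subgroup G) : Set G)) : x = 1 := by
  by_contra hx1
  have h1 := h.centralizer_le P hx' (by simpa using hx1)
  have h2 : MulAut.conj g • (P : Subgroup G) ≤ centralizer {g * x * g⁻¹} := fun y hy => by
    have h3 := hx _ (HT.mem_conj_smul.mp hy)
    rw [mem_centralizer_singleton_iff]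
    calc _ = g * (g⁻¹ * y * g * x) * g⁻¹ := by group
      _ = _ := by rw [h3]; group
  exact hg (HT.conj_smul_eq_iff.mp (PG.eq_of_le_of_card_le (H93.le_sylow_of_le_normalizer P
    (g • P).isPGroup' (h2.trans h1)) (by rw [HT.card_conj_smul])))

theorem Min.exists_elt (h : Min p G) (P : Sylow p G) {q : ℕ} [hq : Fact q.Prime] (hqp : q ≠ p)
    (hd : q ∣ Nat.card G) (Q : Sylow q G)
    (hQM : (Q : Subgroup G) ≤ normalizer ((P : Subgroup G) : Set G)) :
    ∃ u ∈ normalizer ((Q : Subgroup G) : Set G), orderOf u = p ∧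
      ∀ i : ℕ, u ^ i ∈ normalizer ((P : Subgroup G) : Set G) → p ∣ i := by
  have hQp : ¬ p ∣ Nat.card Q := fun h1 =>
    hqp ((isPGroup_iff_isPiNum hq.out).mp Q.isPGroup' p hp.out h1).symm
  by_contra hh
  push Not at hh
  refine h.not_npc hd (Tr.hasNormalPComplement_of_normalizer_le_centralizer Q fun g hg => ?_)
  refine H93.mem_of_forall_primePow fun y hy r hr ⟨k, hk⟩ => ?_
  have hyN := zpowers_le.mpr hg hy
  by_cases hrp : r = p
  · subst hrp
    have := h.hyp.cyc P P.isPGroup'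
    have hP : ∀ z ∈ normalizer ((P : Subgroup G) : Set G), ∀ j, orderOf z = r ^ j →
        z ∈ (P : Subgroup G) := fun z hz j hj => H93.le_sylow_of_le_normalizer P
      (IsPGroup.of_card (by rw [Nat.card_zpowers, hj])) (zpowers_le.mpr hz) (mem_zpowers z)
    rcases k with _ | k
    · rw [orderOf_eq_one_iff.mp hk]; exact one_mem _
    have ho : orderOf (y ^ r ^ k) = r := by
      rw [PG.orderOf_pow_prime_pow hr.pos hk k.le_succ]; simp
    obtain ⟨i, hi, hi'⟩ := hh _ (pow_mem hyN _) ho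
    have ho' : orderOf ((y ^ r ^ k) ^ i) = r := by
      rw [Nat.Coprime.orderOf_pow (ho.symm ▸ (Nat.Prime.coprime_iff_not_dvd hr).mpr hi'), ho]
    have h1 := h.centralizer_le P (PG.isMulCommutative_iff_le_centralizer.mp inferInstance
      (hP _ hi 1 (by rw [ho', pow_one]))) (fun h0 => hr.one_lt.ne (by rw [← ho', h0, orderOf_one]))
      (mem_centralizer_singleton_iff.mpr (((Commute.refl y).pow_right _).pow_right i).eq)
    have h2 := hP y h1 _ hk
    intro x hx
    have h3 : y * x * y⁻¹ * x⁻¹ ∈ (Q : Subgroup G) :=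
      mul_mem ((mem_normalizer_iff.mp hyN x).mp hx) (inv_mem hx)
    have h4 : y * x * y⁻¹ * x⁻¹ ∈ (P : Subgroup G) := by
      simpa [mul_assoc] using mul_mem h2 ((mem_normalizer_iff.mp (hQM hx) _).mp (inv_mem h2))
    have h5 := disjoint_def.mp (IsPGroup.disjoint_of_ne q r hqp _ _ Q.isPGroup' P.isPGroup') h3 h4
    rw [mul_inv_eq_one, mul_inv_eq_iff_eq_mul] at h5
    exact h5.symm
  · exact h.hyp.mem_centralizer hQp hyN fun h3 =>
      hrp ((Nat.prime_dvd_prime_iff_eq hp.out hr).mp (hp.out.dvd_of_dvd_pow (hk ▸ h3))).symm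

theorem Min.exists_sylow (h : Min p G) (P : Sylow p G) {q : ℕ} [hq : Fact q.Prime] (hqp : q ≠ p)
    {d : G} (hd : d ∈ centralizer ((P : Subgroup G) : Set G)) (hdq : orderOf d = q) :
    ∃ Q : Sylow q G, d ∈ (Q : Subgroup G) ∧
      (Q : Subgroup G) ≤ normalizer ((P : Subgroup G) : Set G) ∧ IsMulCommutative Q := by
  obtain ⟨Q, hQ⟩ := (IsPGroup.of_card (n := 1) (G := zpowers d)
    (by rw [Nat.card_zpowers, hdq, pow_one])).exists_le_sylow
  have hc := h.hyp.ab Q fun h1 =>
    hqp ((isPGroup_iff_isPiNum hq.out).mp Q.isPGroup' p hp.out h1).symm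
  refine ⟨Q, hQ (mem_zpowers d), le_trans (fun x hx => ?_) (h.centralizer_le P hd fun h0 =>
    hq.out.one_lt.ne (by rw [← hdq, h0, orderOf_one])), hc⟩
  exact mem_centralizer_singleton_iff.mpr
    (PG.isMulCommutative_iff_forall.mp hc x hx d (hQ (mem_zpowers d)))

theorem Min.ne_two (h : Min p G) : p ≠ 2 := by
  rintro rfl
  obtain ⟨P⟩ : Nonempty (Sylow 2 G) := inferInstance
  exact h.not_npc h.dvd (Tr.hasNormalPComplement_two_of_isCyclic P (h.hyp.cyc P P.isPGroup'))

theorem Min.mul_mem_centralizer (h : Min p G) (P : Sylow p G) {s t : G}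
    (hs : s ∈ normalizer ((P : Subgroup G) : Set G)) (ht : t ∈ normalizer ((P : Subgroup G) : Set G))
    (hs2 : s ^ 2 = 1) (ht2 : t ^ 2 = 1) (hs' : s ∉ centralizer ((P : Subgroup G) : Set G))
    (ht' : t ∉ centralizer ((P : Subgroup G) : Set G)) :
    s * t ∈ centralizer ((P : Subgroup G) : Set G) := by
  have := h.hyp.cyc P P.isPGroup'
  have key : ∀ s ∈ normalizer ((P : Subgroup G) : Set G), s ^ 2 = 1 →
      s ∉ centralizer ((P : Subgroup G) : Set G) → ∀ x ∈ (P : Subgroup G), s * x * s⁻¹ = x⁻¹ :=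
    fun s hs hs2 hs' => (Frob.conj_eq_inv_of_fpf hs (by rwa [← pow_two]) (eq_bot_iff.mpr fun x hx => by
      by_contra hx1
      exact hs' (H93.mem_centralizer_of_cyclic P.isPGroup' hx.1 hx1 hs (fun hd => h.ne_two
        ((Nat.prime_dvd_prime_iff_eq hp.out Nat.prime_two).mp
          (hd.trans (orderOf_dvd_of_pow_eq_one hs2))))
        (mem_centralizer_singleton_iff.mp hx.2).symm))).1
  intro x hx
  refine (mul_inv_eq_iff_eq_mul.mp ?_).symm
  calc _ = s * (t * x * t⁻¹) * s⁻¹ := by group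
    _ = x := by rw [key t ht ht2 ht' x hx, key s hs hs2 hs' _ (inv_mem hx), inv_inv]

theorem Min.false_of_involution (h : Min p G) (P : Sylow p G) {d : G}
    (hd : d ∈ centralizer ((P : Subgroup G) : Set G)) (hd2 : orderOf d = 2) : False := by
  set C := centralizer ((P : Subgroup G) : Set G) with hC
  set M := normalizer ((P : Subgroup G) : Set G) with hM
  have hcyc := h.hyp.cyc P P.isPGroup'
  have hPC : (P : Subgroup G) ≤ C := PG.isMulCommutative_iff_le_centralizer.mp inferInstance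
  have hCM : C ≤ M := PG.centralizer_le_normalizer' _
  have hp2 := h.ne_two
  obtain ⟨T, hdT, hTM, hTc⟩ := h.exists_sylow P hp2.symm hd hd2
  obtain ⟨u, huT, hu, hui⟩ := h.exists_elt P hp2.symm (hd2 ▸ orderOf_dvd_natCard d) T hTM
  have hd1 : d ≠ 1 := fun h0 => by rw [h0, orderOf_one] at hd2; norm_num at hd2
  have hdd : d ^ 2 = 1 := orderOf_dvd_iff_pow_eq_one.mp hd2.dvd
  have hcj : ∀ i : ℕ, ∀ e ∈ (T : Subgroup G), u ^ i * e * (u ^ i)⁻¹ ∈ (T : Subgroup G) :=
    fun i e he => (mem_normalizer_iff.mp (pow_mem huT i) e).mp he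
  have hnC : ∀ i : ℕ, ¬ p ∣ i → ∀ e ∈ C, e ≠ 1 → u ^ i * e * (u ^ i)⁻¹ ∉ C :=
    fun i hi e he he1 h1 => he1 (h.ti P (fun h2 => hi (hui i h2)) he h1)
  have hp1 : ¬ p ∣ 1 := hp.out.one_lt.ne' ∘ Nat.dvd_one.mp
  have hsq : ∀ (g e : G), e ^ 2 = 1 → (g * e * g⁻¹) ^ 2 = 1 := fun g e he => by
    rw [conj_pow, he]; group
  have hV0 : ∀ e ∈ (T : Subgroup G), e ∈ C → e ^ 2 = 1 → e = 1 ∨ e = d := fun e heT heC he => by
    refine or_iff_not_imp_left.mpr fun he1 => ?_
    have h1 := h.mul_mem_centralizer P (hTM (hcj 1 e heT)) (hTM (hcj 1 d hdT)) (hsq _ _ he)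
      (hsq _ _ hdd) (hnC 1 hp1 e heC he1) (hnC 1 hp1 d hd hd1)
    rw [conj_mul] at h1
    by_contra hne
    refine hnC 1 hp1 _ (mul_mem heC hd) (fun h2 => hne ?_) h1
    rw [eq_inv_of_mul_eq_one_left h2]
    exact inv_eq_of_mul_eq_one_right (by rwa [← pow_two])
  have hmul : ∀ a ∈ (T : Subgroup G), ∀ b ∈ (T : Subgroup G), a ^ 2 = 1 → b ^ 2 = 1 → a ∉ C → b ∉ C →
      a = b ∨ a * b = d := fun a ha b hb ha2 hb2 ha' hb' => by
    refine (hV0 _ (mul_mem ha hb) (h.mul_mem_centralizer P (hTM ha) (hTM hb) ha2 hb2 ha' hb') (by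
      rw [(show Commute a b from PG.isMulCommutative_iff_forall.mp hTc a ha b hb).mul_pow, ha2, hb2,
        one_mul])).imp_left fun h1 => ?_
    rw [eq_inv_of_mul_eq_one_left h1]
    exact inv_eq_of_mul_eq_one_right (by rwa [← pow_two])
  have hne : ∀ i j : ℕ, ¬ p ∣ j → u ^ i * d * (u ^ i)⁻¹ ≠ u ^ (i + j) * d * (u ^ (i + j))⁻¹ :=
    fun i j hj h1 => hnC j hj d hd hd1 (by
      have h2 : u ^ j * d * (u ^ j)⁻¹ = d := by
        calc _ = (u ^ i)⁻¹ * (u ^ (i + j) * d * (u ^ (i + j))⁻¹) * u ^ i := by group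
          _ = d := by rw [← h1]; group
      rw [h2]; exact hd)
  have hp2' : ¬ p ∣ 2 := fun h1 => hp2 ((Nat.prime_dvd_prime_iff_eq hp.out Nat.prime_two).mp h1)
  have h12 := (hmul _ (hcj 1 d hdT) _ (hcj 2 d hdT) (hsq _ _ hdd) (hsq _ _ hdd) (hnC 1 hp1 d hd hd1)
    (hnC 2 hp2' d hd hd1)).resolve_left (hne 1 1 hp1)
  obtain rfl : p = 3 := by
    by_contra hp3
    have hp3' : ¬ p ∣ 3 := fun h1 => hp3 ((Nat.prime_dvd_prime_iff_eq hp.out Nat.prime_three).mp h1)
    have h13 := (hmul _ (hcj 1 d hdT) _ (hcj 3 d hdT) (hsq _ _ hdd) (hsq _ _ hdd)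
      (hnC 1 hp1 d hd hd1) (hnC 3 hp3' d hd hd1)).resolve_left (hne 1 2 hp2')
    exact hne 2 1 hp1 (mul_left_cancel (h12.trans h13.symm))
  have hconj : ∀ s : G, orderOf s = 2 → ∃ g : G, s = g * d * g⁻¹ := fun s hs => by
    obtain ⟨g, -, hg⟩ := HT.exists_conj_le_of_isPGroup (L := ⊤) (P := zpowers s) le_top
      (IsPGroup.of_card (n := 1) (by rw [Nat.card_zpowers, hs, pow_one])) T.isPGroup'
      (by rw [relIndex_top_right]; exact T.not_dvd_index)
    have h1 := hg (HT.conj_mem_conj_smul g (mem_zpowers s))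
    have h2 := hsq g s (orderOf_dvd_iff_pow_eq_one.mp hs.dvd)
    suffices h3 : ∃ w : G, g * s * g⁻¹ = w * d * w⁻¹ by
      obtain ⟨w, hw⟩ := h3
      refine ⟨g⁻¹ * w, ?_⟩
      calc s = g⁻¹ * (g * s * g⁻¹) * g := by group
        _ = _ := by rw [hw]; group
    by_cases h3 : g * s * g⁻¹ ∈ C
    · refine ⟨1, ((hV0 _ h1 h3 h2).resolve_left fun h4 => ?_).trans (by simp)⟩
      rw [mul_inv_eq_one, mul_eq_left] at h4
      rw [h4, orderOf_one] at hs
      norm_num at hs
    · rcases hmul _ (hcj 1 d hdT) _ h1 (hsq _ _ hdd) h2 (hnC 1 hp1 d hd hd1) h3 with h4 | h4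
      · exact ⟨_, h4.symm⟩
      · exact ⟨_, mul_left_cancel (h4.trans h12.symm)⟩
  obtain ⟨k, hk⟩ := IsPGroup.iff_card.mp P.isPGroup'
  have hCi : C.relIndex M = 2 := by
    have h1 : C.relIndex M ∣ Nat.card (MulAut P) := by
      have h2 := card_subgroup_dvd_card ((P : Subgroup G).normalizerMonoidHom).range
      rwa [← index_ker, normalizerMonoidHom_ker] at h2
    have h2 : ¬ 3 ∣ C.relIndex M := fun h3 => P.not_dvd_index
      ((h3.trans (relIndex_dvd_of_le_left M hPC)).trans (relIndex_dvd_index_of_le (hPC.trans hCM)))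
    have h3 : C.relIndex M ≠ 1 := fun h3 => hnC 1 hp1 d hd hd1
      (relIndex_eq_one.mp h3 (hTM (hcj 1 d hdT)))
    rw [IsCyclic.card_mulAut, hk] at h1
    rcases k with _ | k
    · exact absurd (Nat.dvd_one.mp (by simpa using h1)) h3
    rw [Nat.totient_prime_pow_succ Nat.prime_three] at h1
    have h4 := (Nat.Coprime.pow_right k
      ((Nat.Prime.coprime_iff_not_dvd Nat.prime_three).mpr h2).symm).dvd_of_dvd_mul_left h1
    exact ((Nat.dvd_prime Nat.prime_two).mp h4).resolve_left h3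
  have hodd : ∀ q : ℕ, q.Prime → q ∣ Nat.card C → q = 2 ∨ q = 3 := fun q hq hqd => by
    by_contra hh
    push Not at hh
    have := Fact.mk hq
    obtain ⟨e, he, heq⟩ := exists_mem_orderOf_eq_prime hq hqd
    obtain ⟨Q, heQ, hQM, -⟩ := h.exists_sylow P hh.2 he heq
    obtain ⟨v, hvQ, -, hvi⟩ := h.exists_elt P hh.2 (heq ▸ orderOf_dvd_natCard e) Q hQM
    have h1 : v * e * v⁻¹ ∈ M := hQM ((mem_normalizer_iff.mp hvQ e).mp heQ)
    have h2 : (v * e * v⁻¹) ^ 2 ∈ C := by
      have := (C.subgroupOf M).pow_index_mem ⟨_, h1⟩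
      rwa [show (C.subgroupOf M).index = 2 from hCi] at this
    rw [conj_pow] at h2
    have h3 := h.ti P (fun h3 => hp1 (hvi 1 (by rwa [pow_one]))) (pow_mem he 2) h2
    exact hh.1 ((Nat.prime_dvd_prime_iff_eq hq Nat.prime_two).mp
      (heq ▸ orderOf_dvd_of_pow_eq_one h3))
  have hTC : ∀ e ∈ (T : Subgroup G) ⊓ C, e ∈ zpowers d := fun e he => by
    have h2 : (u ^ 1 * e * (u ^ 1)⁻¹) ^ 2 ∈ C := by
      have := (C.subgroupOf M).pow_index_mem ⟨_, hTM (hcj 1 e he.1)⟩
      rwa [show (C.subgroupOf M).index = 2 from hCi] at this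
    rw [conj_pow] at h2
    have h3 : e ^ 2 = 1 := by
      by_contra h3
      exact hnC 1 hp1 _ (pow_mem he.2 2) h3 h2
    rcases hV0 e he.1 he.2 h3 with rfl | rfl
    · exact one_mem _
    · exact mem_zpowers _
  have hCc : Nat.card C = 2 * Nat.card P := by
    have h1 : zpowers d ⊔ P = C := by
      refine le_antisymm (sup_le (zpowers_le.mpr hd) hPC) (relIndex_eq_one.mp ?_)
      refine Nat.eq_one_iff_not_exists_prime_dvd.mpr fun q hq hqd => ?_
      rcases hodd q hq (hqd.trans (relIndex_dvd_card _ _)) with rfl | rfl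
      · have h2 := hqd.trans (relIndex_dvd_of_le_left C (le_trans hTC le_sup_left))
        exact Tr.not_dvd_relIndex_inf_of_normal (H := M)
          (fun h3 => T.not_dvd_index (h3.trans (relIndex_dvd_index_of_le hTM))) T.isPGroup' hCM
          (PG.le_normalizer_centralizer le_rfl) h2
      · exact P.not_dvd_index ((hqd.trans (relIndex_dvd_of_le_left C le_sup_right)).trans
          (relIndex_dvd_index_of_le hPC))
    rw [← h1, HT.card_sup_of_coprime ((le_centralizer_iff.mp (zpowers_le.mpr hd)).trans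
      (PG.centralizer_le_normalizer' _)) (by
        rw [Nat.card_zpowers, hd2, hk]; exact Nat.Coprime.pow_right k (by norm_num)),
      Nat.card_zpowers, hd2]
  have hMc : Nat.card M = 4 * Nat.card P := by
    rw [← HT.card_mul_relIndex hCM, hCi, hCc]; ring
  have hNC : normalizer (C : Set G) ≤ M := fun g hg => by
    by_contra h1
    exact hd1 (h.ti P h1 hd ((mem_normalizer_iff.mp hg d).mp hd))
  refine S4018.general (by norm_num) P inferInstance hMc hCc (fun g hg x hx hx' => h.ti P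
    (fun h1 => hg (PG.le_normalizer_centralizer le_rfl h1)) hx hx') (fun L hL h2 => ?_) h.simple
  obtain ⟨K, hK⟩ := (isPSolvable_iff_isPiSeparable.mp (h.sub L hL)).compl.exists_isPiHall
  have hK3 : ¬ 3 ∣ Nat.card K := fun h1 => hK.1 3 Nat.prime_three h1 rfl
  have hKi : K.index ∣ Nat.card P := by
    obtain ⟨j, hj⟩ : ∃ j, K.index = 3 ^ j := ⟨_, Nat.eq_prime_pow_of_unique_prime_dvd
      index_ne_zero_of_finite fun {q} hq hqd => by
        by_contra hne
        exact hK.2 q hq hne hqd⟩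
    rw [hj]
    exact P.pow_dvd_card_of_pow_dvd_card
      (hj ▸ (index_dvd_card K).trans (card_subgroup_dvd_card L))
  have hK2 : 2 ∣ Nat.card K := by
    rw [← K.card_mul_index] at h2
    refine ((Nat.Prime.dvd_mul Nat.prime_two).mp h2).resolve_right fun h3 => ?_
    have := Nat.prime_two.dvd_of_dvd_pow (hk ▸ h3.trans hKi)
    norm_num at this
  obtain ⟨s, hs, hs2⟩ := exists_mem_orderOf_eq_prime Nat.prime_two hK2
  obtain ⟨g, hg⟩ := hconj s (by rwa [orderOf_coe])
  have hKc := (h.hyp.subgroup L).ab K hK3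
  have h3 : K.map L.subtype ≤ MulAut.conj g • M := by
    rintro _ ⟨x, hx, rfl⟩
    refine HT.mem_conj_smul.mpr (h.centralizer_le P hd hd1 (mem_centralizer_singleton_iff.mpr ?_))
    have h4 : (x : G) * s = s * x := congrArg Subtype.val
      (PG.isMulCommutative_iff_forall.mp hKc x hx s hs)
    calc _ = g⁻¹ * (x * (g * d * g⁻¹)) * g := by simp only [coe_subtype]; group
      _ = _ := by rw [← hg, h4, hg]; simp only [coe_subtype]; group
  have h4 := card_dvd_of_le h3
  rw [card_map_of_injective L.subtype_injective, HT.card_conj_smul, hMc, hk] at h4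
  rw [← K.card_mul_index]
  exact mul_dvd_mul ((Nat.Coprime.pow_right k ((Nat.Prime.coprime_iff_not_dvd Nat.prime_three).mpr
    hK3).symm).dvd_of_dvd_mul_right h4) hKi

theorem Min.false (h : Min p G) : False := by
  have := h.simple
  have he : 2 ∣ Nat.card G := by
    by_contra h1
    exact h.ns (ft_solvable_of_not_two_dvd h1)
  have hp2 := h.ne_two
  obtain ⟨T⟩ : Nonempty (Sylow 2 G) := inferInstance
  rcases S2202.result (even_iff_two_dvd.mpr he) (fun t ht => h.hyp.ab _ fun hd => by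
    obtain ⟨x, hx, hxp⟩ := exists_mem_orderOf_eq_prime hp.out hd
    obtain ⟨P, hP⟩ := (IsPGroup.of_card (n := 1) (G := zpowers x)
      (by rw [Nat.card_zpowers, hxp, pow_one])).exists_le_sylow
    have hx1 : x ≠ 1 := fun h0 => hp.out.one_lt.ne (by rw [← hxp, h0, orderOf_one])
    have := h.hyp.cyc P P.isPGroup'
    have hc : t * x = x * t := (mem_centralizer_singleton_iff.mp hx).symm
    exact h.false_of_involution P (H93.mem_centralizer_of_cyclic P.isPGroup' (hP (mem_zpowers x)) hx1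
      (h.centralizer_le P (PG.isMulCommutative_iff_le_centralizer.mp inferInstance
        (hP (mem_zpowers x))) hx1 (mem_centralizer_singleton_iff.mpr hc))
      (fun h1 => hp2 ((Nat.prime_dvd_prime_iff_eq hp.out Nat.prime_two).mp (ht ▸ h1))) hc) ht)
    with h1 | h1 | ⟨F, _, _, A, _, _, _, -, ⟨e⟩⟩
  · exact h.not_npc he (Tr.hasNormalPComplement_two_of_isCyclic T (h1 T))
  · have := T.isPGroup'.isNilpotent
    exact h.ne_top (T.ne_bot_of_dvd_card he) inferInstance (normalizer_eq_top_iff.mpr (h1 T))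
  · obtain ⟨e'⟩ := CIT.nonempty_psl2_equiv_sl2 (F := F)
    have h4 : 4 ≤ Nat.card F := by
      by_contra h4
      have h5 : 2 ∣ Nat.card F := Cl.L2.char_dvd_card 2
      have h6 : 0 < Nat.card F := Nat.card_pos
      obtain ⟨e2⟩ := Cl.sl2_two_equiv_perm (F := F) (by omega)
      have : Group.IsSolvable (Equiv.Perm (Fin 3)) := Ch.burnside_isSolvable_of_card_eq
        (a := 1) (b := 1) Nat.prime_two Nat.prime_three (by simp [Nat.card_perm]; rfl)
      have : Group.IsSolvable (Matrix.SpecialLinearGroup (Fin 2) F) := isSolvable_of_mulEquiv e2.symm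
      exact h.ns (isSolvable_of_mulEquiv e.symm)
    obtain ⟨H, h5, h6⟩ := exists_dihedral h4 hp.out hp2
    let f := e.symm.toMonoidHom.comp ((MonoidHom.inl _ A).comp e'.toMonoidHom)
    have hf : Function.Injective f :=
      e.symm.injective.comp ((Prod.mk_left_injective 1).comp e'.injective)
    have h7 := h.hyp.ab (H.map f) (by rwa [card_map_of_injective hf])
    exact h6 (PG.isMulCommutative_iff_forall.mpr fun a ha b hb => hf (by
      rw [map_mul, map_mul]
      exact PG.isMulCommutative_iff_forall.mp h7 _ ⟨a, ha, rfl⟩ _ ⟨b, hb, rfl⟩))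

end simple

universe u in
theorem isPSolvable {p : ℕ} [Fact p.Prime] (G : Type u) [Group G] [Finite G] :
    H93.CycAb p G → IsPSolvable p G := by
  revert G
  refine subgroup_quotient_induction fun G _ _ ih1 ih2 h => ?_
  by_cases h1 : ∃ N : Subgroup G, N.Normal ∧ N ≠ ⊥ ∧ N ≠ ⊤
  · obtain ⟨N, _, h2, h3⟩ := h1
    exact IsPSolvable.extension N (ih1 N h3 (h.subgroup N)) (ih2 N h2 (h.quotient N))
  by_contra h2
  push Not at h1
  have hns : ¬ Group.IsSolvable G := fun h3 => h2 (isPSolvable_of_isSolvable h3)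
  have : Nontrivial G := by
    by_contra h3
    have := not_nontrivial_iff_subsingleton.mp h3
    exact hns inferInstance
  exact Min.false (p := p) ⟨h, ⟨fun N hN => or_iff_not_imp_left.mpr (h1 N hN)⟩, hns, by
    by_contra h3
    exact h2 (isPSolvable_of_coprime ((Nat.Prime.coprime_iff_not_dvd Fact.out).mpr h3).symm),
    fun L hL => ih1 L hL (h.subgroup L)⟩

/-- Let G be a finite group and p a prime such that a Sylow p-subgroup P of G is cyclic and every subgroup of G of order prime to p is abelian. Then G has a normal p-complement or P is normal in G. -/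
theorem result {G : Type*} [Group G] [Finite G] {p : ℕ}
    [Fact p.Prime] (P : Sylow p G) (hcyc : IsCyclic P)
    (hab : ∀ H : Subgroup G, ¬ p ∣ Nat.card H → IsMulCommutative H) :
    Cfsg.HasNormalPComplement p G ∨ (P : Subgroup G).Normal := by
  have h : H93.CycAb p G := ⟨fun Q hQ => by
    obtain ⟨g, -, hg⟩ := HT.exists_conj_le_of_isPGroup (L := ⊤) le_top hQ P.isPGroup'
      (by rw [relIndex_top_right]; exact P.not_dvd_index)
    have h1 := Subgroup.isCyclic_of_le hg
    rw [HT.conj_smul_eq_map] at h1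
    exact @isCyclic_of_surjective _ _ _ _ _ h1 _ _ _
      ((MulAut.conj g).subgroupMap Q).symm.surjective, hab⟩
  exact h.dichotomy (isPSolvable G h) P

end Cfsg.Agent.S4016
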