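import Mathlib
import Cfsg.Statements.S4025
import Cfsg.Agent.FG.H94Dp
-- import your own Cfsg.Agent.* helpers here

set_option autoImplicit false
open Cfsg

namespace Cfsg.Agent.S4025

open Subgroup Cfsg.Agent.GT Cfsg.Agent.FG Module

/-- `p`-subgroups of equal order are conjugate. -/
def Dp (p : ℕ) (G : Type*) [Group G] : Prop :=
  ∀ H K : Subgroup G, IsPGroup p H → IsPGroup p K → Nat.card H = Nat.card K →
    ∃ g : G, K = H.map (MulAut.conj g).toMonoidHom

section

variable {G : Type*} [Group G] [Finite G] {p : ℕ} [hp : Fact p.Prime]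

theorem Dp.quotient (h : Dp p G) (N : Subgroup G) [N.Normal] : Dp p (G ⧸ N) := fun H K hH hK e => by
  have aux : ∀ H : Subgroup (G ⧸ N), IsPGroup p H → ∃ Q : Subgroup G, IsPGroup p Q ∧
      Nat.card Q = p ^ (Nat.card H * Nat.card N).factorization p ∧
      Q.map (QuotientGroup.mk' N) = H := fun H hH => by
    obtain ⟨P, hP, hPH⟩ := exists_isPGroup_map_eq (QuotientGroup.mk' N) hH
      (by rw [MonoidHom.range_eq_top_of_surjective _ (QuotientGroup.mk'_surjective N)]; exact le_top)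
    have h1 : P ≤ H.comap (QuotientGroup.mk' N) := map_le_iff_le_comap.1 hPH.le
    obtain ⟨Q, hQ⟩ := (hP.comap_subtype (K := H.comap (QuotientGroup.mk' N))).exists_le_sylow
    refine ⟨(Q : Subgroup (H.comap (QuotientGroup.mk' N))).map (Subgroup.subtype _), Q.2.map _, ?_,
      le_antisymm ?_ ?_⟩
    · rw [card_map_of_injective (subtype_injective _), Q.card_eq_multiplicity, card_comap_mk']
    · exact map_le_iff_le_comap.2 (map_subtype_le _)
    · exact hPH.ge.trans (map_mono fun x hx => ⟨⟨x, h1 hx⟩, hQ hx, rfl⟩)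
  obtain ⟨H₁, h1, h2, rfl⟩ := aux H hH
  obtain ⟨K₁, h4, h5, rfl⟩ := aux K hK
  obtain ⟨g, rfl⟩ := h H₁ K₁ h1 h4 (by rw [h2, h5, e])
  exact ⟨g, DG.map_conj_map _ _ _⟩

theorem Dp.normalizer (h : Dp p G) (P : Sylow p G) (hP : IsMulCommutative (P : Subgroup G)) :
    Dp p (normalizer ((P : Subgroup G) : Set G)) := by
  set N := Subgroup.normalizer ((P : Subgroup G) : Set G) with hN
  intro H K hH hK e
  have hW : IsWeaklyClosed (P : Subgroup G) (P : Subgroup G) := ⟨le_rfl, fun g hg =>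
    eq_of_le_of_card_ge hg (by rw [card_map_of_injective (MulAut.conj g).injective])⟩
  have hle : ∀ H : Subgroup N, IsPGroup p H → H.map N.subtype ≤ P := fun H hH => by
    have h1 := IsPGroup.inf_normalizer_sylow (hH.map N.subtype) P
    exact (le_inf le_rfl (map_subtype_le H)).trans (h1.le.trans inf_le_right)
  have hC : (P : Subgroup G) ≤ centralizer (P : Set G) := le_centralizer _
  obtain ⟨g, hg⟩ := h (H.map N.subtype) (K.map N.subtype) (hH.map _) (hK.map _) (by
    rw [card_map_of_injective N.subtype_injective, card_map_of_injective N.subtype_injective, e])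
  obtain ⟨n, hn, hn2⟩ := hW.exists_conj_eq (A := (H.map N.subtype : Set G)) (g := g)
    (fun a ha => hC (hle H hH ha))
    (fun a ha => hC (hle K hK (hg ▸ mem_map_of_mem (MulAut.conj g).toMonoidHom ha)))
  refine ⟨⟨n, hn⟩, map_injective N.subtype_injective ?_⟩
  rw [hg, DG.map_conj_map]
  ext x
  constructor
  · rintro ⟨a, ha, rfl⟩
    exact ⟨a, ha, hn2 a ha⟩
  · rintro ⟨a, ha, rfl⟩
    exact ⟨a, ha, (hn2 a ha).symm⟩

theorem core [Group.IsSolvable G] (h : Dp p G) (hO : pPrimeCore p G = ⊥) (P : Sylow p G)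
    [(P : Subgroup G).Normal] (hP : IsElementaryAbelian p (P : Subgroup G)) {n : ℕ} (hn : 3 ≤ n)
    (hcard : Nat.card (P : Subgroup G) = p ^ n) :
    (n = 3 ∨ (n = 5 ∧ p = 2)) ∧
      (∃ c, c * ((p - 1) * (p ^ 2 - 1)) = (p ^ (n - 1) - 1) * (p ^ n - 1) ∧
        c ∣ (P : Subgroup G).index) ∧
      ∃ ψ : G →* Equiv.Perm (GaloisField p n), Function.Injective ψ ∧
        ψ.range ≤ semiaffineGroup (GaloisField p n) := by
  obtain ⟨E, hE⟩ := exists_right_complement'_of_coprime (N := (P : Subgroup G)) P.card_coprime_index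
  have hEc : Nat.card E = (P : Subgroup G).index := hE.symm.index_eq_card.symm
  have : FaithfulSMul G (G ⧸ E) := ⟨fun {a b} hab => by
    have h2 : E.normalCore = ⊥ := le_bot_iff.1 (hO ▸ le_pPrimeCore_of_not_dvd hp.out fun e =>
      P.not_dvd_index (hEc ▸ e.trans (card_dvd_of_le E.normalCore_le)))
    rw [normalCore_eq_ker] at h2
    exact (MonoidHom.ker_eq_bot_iff _).1 h2 (Equiv.ext hab)⟩
  have := DG.isPretransitive_of (X := G ⧸ E) (P : Subgroup G) fun x y => by
    obtain ⟨x, rfl⟩ := QuotientGroup.mk_surjective x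
    obtain ⟨y, rfl⟩ := QuotientGroup.mk_surjective y
    obtain ⟨⟨a, e⟩, rfl⟩ := hE.2 x
    obtain ⟨⟨b, f⟩, rfl⟩ := hE.2 y
    refine ⟨_, (b * a⁻¹).2, QuotientGroup.eq.2 ?_⟩
    simpa [mul_assoc] using E.mul_mem (E.inv_mem e.2) f.2
  obtain ⟨V, _, _, e, ρ, he, hρ, htr, hker⟩ :=
    Perm.exists_affine_coord hP ((1 : G) : G ⧸ E)
  have : Finite V := Finite.of_equiv _ e
  have hV : Nat.card V = Nat.card (P : Subgroup G) := by
    rw [← Nat.card_congr e, ← index_eq_card, hE.index_eq_card]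
  set o : G ⧸ E := ((1 : G) : G ⧸ E) with ho
  have htrans : ∀ m ∈ (P : Subgroup G), ∀ x, e (m • x) = e x + e (m • o) := fun m hm x => by
    rw [hρ, (hker m).2 hm]; rfl
  let φ : (P : Subgroup G) →* Multiplicative V := MonoidHom.mk'
    (fun m => Multiplicative.ofAdd (e ((m : G) • o))) fun a b => by
      rw [← ofAdd_add, coe_mul, mul_smul, htrans _ a.2, add_comm]
  have hφs : Function.Surjective φ := fun v => by
    obtain ⟨m, hm, hmv⟩ := htr v.toAdd
    refine ⟨⟨m, hm⟩, ?_⟩
    change Multiplicative.ofAdd (e (m • o)) = v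
    rw [hmv, he, zero_add, ofAdd_toAdd]
  have hφi : Function.Injective φ :=
    ((Nat.bijective_iff_surjective_and_card φ).2 ⟨hφs, hV.symm⟩).1
  have hconj : ∀ (g : G), ∀ m ∈ (P : Subgroup G), e ((g * m * g⁻¹) • o) = ρ g (e (m • o)) :=
    fun g m hm => by
    have h1 := hρ g (g⁻¹ • o)
    rw [smul_inv_smul, he] at h1
    rw [mul_smul, mul_smul, hρ, htrans m hm, map_add, add_right_comm, ← h1, zero_add]
  let S : Submodule (ZMod p) V → Subgroup G := fun U =>
    ((AddSubgroup.toSubgroup U.toAddSubgroup).comap φ).map (P : Subgroup G).subtype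
  have hS : ∀ U m, m ∈ S U ↔ m ∈ (P : Subgroup G) ∧ e (m • o) ∈ U := fun U m =>
    ⟨by rintro ⟨a, ha, rfl⟩; exact ⟨a.2, ha⟩, fun hm => ⟨⟨m, hm.1⟩, hm.2, rfl⟩⟩
  have hSc : ∀ U, Nat.card (S U) = p ^ finrank (ZMod p) U := fun U => by
    have h1 := Module.natCard_eq_pow_finrank (K := ZMod p) (V := U)
    rw [Nat.card_zmod] at h1
    rw [card_map_of_injective (subtype_injective _), ← h1,
      ← card_map_of_injective hφi, map_comap_eq_self_of_surjective hφs]
    rfl
  have hsub : ∀ U W : Submodule (ZMod p) V, finrank (ZMod p) U = finrank (ZMod p) W →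
      ∃ g : E, U.map ((ρ.comp E.subtype) g : V →ₗ[ZMod p] V) = W := fun U W hUW => by
    obtain ⟨g, hg⟩ := h (S U) (S W) (IsPGroup.of_card (hSc U)) (IsPGroup.of_card (hSc W))
      (by rw [hSc, hSc, hUW])
    obtain ⟨⟨a, s⟩, rfl⟩ := hE.2 g
    refine ⟨s, Submodule.eq_of_le_of_finrank_eq ?_
      ((LinearEquiv.finrank_map_eq _ U).trans hUW)⟩
    rintro _ ⟨u, hu, rfl⟩
    obtain ⟨m, hm⟩ := hφs (Multiplicative.ofAdd u)
    have hm' : e ((m : G) • o) = u := Multiplicative.ofAdd.injective hm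
    have h1 : ((a : G) * s) * m * ((a : G) * s)⁻¹ ∈ S W :=
      hg ▸ mem_map_of_mem (MulAut.conj ((a : G) * s)).toMonoidHom ((hS U m).2 ⟨m.2, hm' ▸ hu⟩)
    have h2 := ((hS W _).1 h1).2
    rw [hconj _ _ m.2, hm', map_mul, (hker a).2 a.2, one_mul] at h2
    exact h2
  obtain ⟨h1, h2, f, hf⟩ := H94Dp.linear hn (hV.trans hcard) (ρ.comp E.subtype)
    (hEc ▸ P.not_dvd_index) hsub
  refine ⟨h1, hEc ▸ h2,
    (Equiv.permCongrHom (e.trans f.toEquiv)).toMonoidHom.comp (MulAction.toPermHom G _),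
    (Equiv.permCongrHom _).injective.comp MulAction.toPerm_injective, ?_⟩
  rintro _ ⟨g, rfl⟩
  obtain ⟨⟨a, s⟩, rfl⟩ := hE.2 g
  obtain ⟨c, σ, hc⟩ := hf s
  refine ⟨c, f (e (((a : G) * s) • o)), σ, fun x => ?_⟩
  have := hc (f.symm x)
  rw [f.apply_symm_apply] at this
  rw [← this, ← map_add]
  change f (e (((a : G) * s) • e.symm (f.symm x))) = f (ρ s (f.symm x) + _)
  rw [hρ, e.apply_symm_apply, map_mul, (hker a).2 a.2, one_mul]

theorem idx3 {i : ℕ} (h1 : 7 ∣ i) (h2 : i ∣ 21) : i = 7 ∨ i = 21 := by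
  have := Nat.le_of_dvd (by norm_num) h2
  interval_cases i <;> omega

theorem core2 [Group.IsSolvable G] (h : Dp p G) (hO : pPrimeCore p G = ⊥) (P : Sylow p G)
    [(P : Subgroup G).Normal] (hP : IsElementaryAbelian p (P : Subgroup G)) {n : ℕ} (hn : 3 ≤ n)
    (hcard : Nat.card (P : Subgroup G) = p ^ n) :
    (n = 3 ∧ (∃ f : G →* ↥(semiaffineGroup (GaloisField p 3)), Function.Injective f) ∧
      (p = 2 → Nonempty (G ≃* semiaffineGroup (GaloisField 2 3)) ∨
               Nonempty (G ≃* affineGroup (GaloisField 2 3)))) ∨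
    (n = 5 ∧ p = 2 ∧ Nonempty (G ≃* semiaffineGroup (GaloisField 2 5))) := by
  obtain ⟨h1, ⟨c, hc, hcd⟩, ψ, hψ, hr⟩ := core h hO P hP hn hcard
  have hF : Nat.card (GaloisField p n) = p ^ n := GaloisField.card p n (by omega)
  have hA : Nat.card (RingAut (GaloisField p n)) = n := Cl.Aut.card_ringAut hF
  have hS := DG.card_semiaffine (F := GaloisField p n)
  rw [hF, hA] at hS
  let e := MonoidHom.ofInjective hψ
  have hG : Nat.card ψ.range = p ^ n * (P : Subgroup G).index := by
    rw [← Nat.card_congr e.toEquiv, ← hcard, card_mul_index]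
  have hd : (P : Subgroup G).index ∣ (p ^ n - 1) * n := by
    have := card_dvd_of_le hr
    rw [hG, hS, mul_assoc] at this
    exact Nat.dvd_of_mul_dvd_mul_left (pow_pos hp.out.pos n) this
  have full : (P : Subgroup G).index = (p ^ n - 1) * n →
      Nonempty (G ≃* semiaffineGroup (GaloisField p n)) := fun hi =>
    ⟨e.trans (MulEquiv.subgroupCongr (eq_of_le_of_card_ge hr (by rw [hG, hS, hi, mul_assoc])))⟩
  rcases h1 with rfl | ⟨rfl, rfl⟩
  · refine Or.inl ⟨rfl, ⟨ψ.codRestrict _ fun g => hr ⟨g, rfl⟩, fun a b hab =>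
      hψ (congrArg Subtype.val hab)⟩, ?_⟩
    rintro rfl
    norm_num at hc hd
    obtain rfl : c = 7 := by omega
    rcases idx3 hcd hd with hi | hi
    · have h2 : ψ.range ≤ affineGroup (GaloisField 2 3) := fun g hg =>
        DG.mem_affine_of_pow (hr hg) (k := Nat.card ψ.range)
          (congrArg Subtype.val (pow_card_eq_one' (x := (⟨g, hg⟩ : ψ.range))))
          (by rw [hG, hi, hA]; norm_num)
      exact Or.inr ⟨e.trans (MulEquiv.subgroupCongr (eq_of_le_of_card_ge h2 (by
        rw [hG, DG.card_affine, hF, hi]; norm_num)))⟩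
    · exact Or.inl (full (by rw [hi]; norm_num))
  · refine Or.inr ⟨rfl, rfl, full ?_⟩
    norm_num at hc hd ⊢
    obtain rfl : c = 155 := by omega
    exact Nat.dvd_antisymm hd hcd

end

/-- Let p be a prime and G a finite group in which any two p-subgroups of the same order are conjugate, and suppose a Sylow p-subgroup P of G is elementary abelian of order pⁿ with n ≥ 3. Let N be the normalizer of P and K the largest normal subgroup of N of order prime to p, and assume N/K is solvable. Then either n = 3 and N/K embeds in the one-dimensional semi-affine group over the field with p³ elements (and for p = 2 it is isomorphic to the affine or the semi-affine group over the field with 8 elements), or n = 5, p = 2 and N/K is isomorphic to the one-dimensional semi-affine group over the field with 32 elements. -/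
theorem result {G : Type*} [Group G] [Finite G]
    {p : ℕ} [Fact p.Prime] (hC : ∀ H K : Subgroup G, IsPGroup p H → IsPGroup p K → Nat.card H = Nat.card K →
      ∃ g : G, K = H.map (MulAut.conj g).toMonoidHom) (P : Sylow p G) (n : ℕ) (hn : 3 ≤ n)
    (hel : Cfsg.IsElementaryAbelian p (P : Subgroup G)) (hcard : Nat.card P = p ^ n)
    (N : Subgroup G) (hN : N = Subgroup.normalizer ((P : Subgroup G) : Set G))
    (hsolv : Group.IsSolvable (↥N ⧸ Cfsg.pPrimeCore p ↥N)) :
    (n = 3 ∧ (∃ f : ↥N ⧸ Cfsg.pPrimeCore p ↥N →* ↥(Cfsg.semiaffineGroup (GaloisField p 3)), Function.Injective f) ∧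
      (p = 2 → Nonempty (↥N ⧸ Cfsg.pPrimeCore p ↥N ≃* Cfsg.semiaffineGroup (GaloisField 2 3)) ∨
               Nonempty (↥N ⧸ Cfsg.pPrimeCore p ↥N ≃* Cfsg.affineGroup (GaloisField 2 3)))) ∨
    (n = 5 ∧ p = 2 ∧ Nonempty (↥N ⧸ Cfsg.pPrimeCore p ↥N ≃* Cfsg.semiaffineGroup (GaloisField 2 5))) := by
  subst hN
  set N := Subgroup.normalizer ((P : Subgroup G) : Set G) with hN
  have h1 : Dp p (N ⧸ pPrimeCore p N) := (Dp.normalizer hC P hel.1).quotient _
  let P₁ : Sylow p N := P.subtype le_normalizer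
  have hP₁ : (P₁ : Subgroup N).Normal := normal_in_normalizer
  let P₂ : Sylow p (N ⧸ pPrimeCore p N) := P₁.mapSurjective (QuotientGroup.mk'_surjective _)
  have hP₂ : (P₂ : Subgroup (N ⧸ pPrimeCore p N)).Normal :=
    hP₁.map _ (QuotientGroup.mk'_surjective _)
  have hc₁ : Nat.card (P₁ : Subgroup N) = p ^ n := by
    rw [← hcard]
    exact HT.card_subgroupOf_of_le le_normalizer
  have hc₂ : Nat.card (P₂ : Subgroup (N ⧸ pPrimeCore p N)) = p ^ n := by
    rw [← hc₁, P₂.card_eq_multiplicity, P₁.card_eq_multiplicity,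
      card_eq_card_quotient_mul_card_subgroup (pPrimeCore p N),
      Nat.factorization_mul Nat.card_pos.ne' Nat.card_pos.ne', Finsupp.add_apply,
      Nat.factorization_eq_zero_of_not_dvd (not_dvd_card_pPrimeCore (Fact.out : p.Prime)), add_zero]
  have hel₂ : IsElementaryAbelian p (P₂ : Subgroup (N ⧸ pPrimeCore p N)) := by
    refine ⟨⟨⟨?_⟩⟩, ?_⟩
    · rintro ⟨_, a, ha, rfl⟩ ⟨_, b, hb, rfl⟩
      refine Subtype.ext ?_
      change QuotientGroup.mk' _ a * QuotientGroup.mk' _ b =
        QuotientGroup.mk' _ b * QuotientGroup.mk' _ a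
      rw [← map_mul, ← map_mul]
      exact congrArg _ (Subtype.ext (hel.comm ha hb))
    · rintro _ ⟨a, ha, rfl⟩
      rw [← map_pow, show a ^ p = 1 from Subtype.ext (hel.2 a ha), map_one]
  exact core2 h1 pPrimeCore_quotient_pPrimeCore P₂ hel₂ hn hc₂

end Cfsg.Agent.S4025
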