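import Mathlib
import Cfsg.Statements.S4038
import Cfsg.Agent.S3022
import Cfsg.Agent.S0078
import Cfsg.Agent.S0108
import Cfsg.Agent.GT.NilpotentMaximal
import Cfsg.Agent.GT.Thompson
import Cfsg.Agent.GT.CoprimeAct
import Cfsg.Agent.FG.WithFT
import Cfsg.Agent.GT.TransferPNilp
import Cfsg.Agent.GT.PPrimeCore
import Cfsg.Agent.FG.H93Class2

set_option autoImplicit false
open Cfsg

namespace Cfsg.Agent.S4038

open Cfsg.Agent.FG Cfsg.Agent.GT Subgroup
open scoped commutatorElement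

theorem isKGroup_of_solvable {L : Type*} [Group L] [Group.IsSolvable L] : IsKGroup L := by
  intro H N _ hs hc
  exact absurd ⟨⟨IsSimpleGroup.comm_iff_isSolvable.2 inferInstance⟩⟩ hc

theorem center_ne_bot {G : Type*} [Group G] [Finite G] {p : ℕ} [Fact p.Prime] {S : Subgroup G}
    (hS : IsPGroup p S) (h0 : S ≠ ⊥) : S ⊓ centralizer (S : Set G) ≠ ⊥ := by
  have := hS.isNilpotent
  obtain ⟨n, hn⟩ := PG.exists_iterCommutator_eq_bot_of_isNilpotent (S := S) le_rfl le_rfl
  exact PG.inf_centralizer_ne_bot_of_iterCommutator hn le_normalizer h0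

theorem map_eq_of_inv {G : Type*} [Group G] [Finite G] {U : Subgroup G} {σ : MulAut G}
    (h : ∀ x ∈ U, σ x ∈ U) : U.map σ.toMonoidHom = U :=
  eq_of_le_of_card_eq (by rintro _ ⟨x, hx, rfl⟩; exact h x hx)
    (card_map_of_injective σ.injective)

theorem inv_center {G : Type*} [Group G] [Finite G] {U : Subgroup G} {σ : MulAut G}
    (h : ∀ x ∈ U, σ x ∈ U) : ∀ x ∈ U ⊓ centralizer (U : Set G), σ x ∈ U ⊓ centralizer (U : Set G) := by
  intro x hx
  refine ⟨h x hx.1, fun y hy => ?_⟩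
  rw [← map_eq_of_inv h] at hy
  obtain ⟨y, hy, rfl⟩ := hy
  have := congrArg σ (hx.2 y hy)
  simpa using this

theorem inv_thJ {G : Type*} [Group G] [Finite G] {U : Subgroup G} {σ : MulAut G} (e : ℕ)
    (h : ∀ x ∈ U, σ x ∈ U) : ∀ x ∈ thJ e U, σ x ∈ thJ e U := by
  intro x hx
  have := thJ_map_equiv (e := e) (P := U) σ
  rw [map_eq_of_inv h] at this
  rw [this]
  exact mem_map_of_mem _ hx

/-- The restriction of an action by automorphisms to an invariant subgroup. -/
def resAut {G H : Type*} [Group G] [Group H] (ψ : H →* MulAut G) (S : Subgroup G)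
    (h : ∀ a, ∀ x ∈ S, ψ a x ∈ S) : H →* MulAut S where
  toFun a :=
    { toFun := fun x => ⟨ψ a x, h a x x.2⟩
      invFun := fun x => ⟨ψ a⁻¹ x, h a⁻¹ x x.2⟩
      left_inv := fun x => Subtype.ext (by simp)
      right_inv := fun x => Subtype.ext (by simp)
      map_mul' := fun x y => Subtype.ext (by simp) }
  map_one' := by ext x; simp
  map_mul' a b := by ext x; simp

/-- Pushing up, from Stellmacher's theorem. -/
theorem push {G H : Type*} [Group G] [Finite G] [Group H] [Finite H] (P : Sylow 2 G)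
    {L : Subgroup G} (hPL : (P : Subgroup G) ≤ L) (hco : IsCoatom ((P : Subgroup G).subgroupOf L))
    (h2 : ⁅(P : Subgroup G), (P : Subgroup G)⁆ ≤ centralizer ((P : Subgroup G) : Set G))
    (hch : centralizer (pCore 2 L : Set L) ≤ pCore 2 L) (hodd : Odd (Nat.card H))
    (ψ : H →* MulAut G) (hP : ∀ a, ∀ x ∈ (P : Subgroup G), ψ a x ∈ (P : Subgroup G)) :
    ∃ U : Subgroup G, U ≠ ⊥ ∧ U ≤ P ∧ L ≤ normalizer (U : Set G) ∧ ∀ a, ∀ x ∈ U, ψ a x ∈ U := by
  let T : Sylow 2 L := P.subtype hPL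
  have hT : (T : Subgroup L) = (P : Subgroup G).subgroupOf L := rfl
  have hTn := T.2.isNilpotent
  have hsol : Group.IsSolvable L := NM.isSolvable_of_class_two (M := (T : Subgroup L)) hco (by
    rw [hT, centralizer_subgroupOf_of_le hPL]
    refine commutator_le.2 fun x hx y hy => ?_
    exact h2 (commutator_mem_commutator (show (x : G) ∈ (P : Subgroup G) from hx)
      (show (y : G) ∈ (P : Subgroup G) from hy)))
  let e : (T : Subgroup L) ≃* (P : Subgroup G) := subgroupOfEquivOfLe hPL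
  let ρ : H →* MulAut (T : Subgroup L) := (MulAut.congr e.symm).toMonoidHom.comp (resAut ψ P hP)
  obtain ⟨U, hU0, hUn, hUT, hUi⟩ := S3022.result isKGroup_of_solvable (fun T' => by
    obtain ⟨g, rfl⟩ := MulAction.exists_smul_eq L T T'
    have h1 : IsCoatom ((g • T : Sylow 2 L) : Subgroup L) := isCoatom_map_conj hco g
    exact ⟨_, ⟨h1, le_rfl⟩, fun M hM => (h1.le_iff.1 hM.2).resolve_left hM.1.1⟩) hch T ρ.range
    (hodd.of_dvd_nat (card_range_dvd ρ))
  refine ⟨U.map L.subtype, fun h => hU0 ((map_eq_bot_iff_of_injective _ L.subtype_injective).1 h),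
    ?_, ?_, ?_⟩
  · rintro _ ⟨x, hx, rfl⟩
    exact hUT hx
  · have := le_normalizer_map (H := U) L.subtype
    rwa [normalizer_eq_top, ← MonoidHom.range_eq_map, range_subtype] at this
  · rintro a _ ⟨x, hx, rfl⟩
    exact ⟨_, hUi (ρ a) ⟨a, rfl⟩ ⟨x, hUT hx⟩ hx, rfl⟩

theorem two_case {G H : Type*} [Group G] [Finite G] [Group H] [Finite H] (P : Sylow 2 G)
    (h0 : (P : Subgroup G) ≠ ⊥)
    (h2 : ⁅(P : Subgroup G), (P : Subgroup G)⁆ ≤ centralizer ((P : Subgroup G) : Set G))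
    (hodd : Odd (Nat.card H)) (ψ : H →* MulAut G)
    (hP : ∀ a, ∀ x ∈ (P : Subgroup G), ψ a x ∈ (P : Subgroup G))
    (key : ∀ U : Subgroup G, U ≤ P → U ≠ ⊥ → (P : Subgroup G) ≤ normalizer (U : Set G) →
      (∀ a, ∀ x ∈ U, ψ a x ∈ U) → normalizer (U : Set G) ≤ P) :
    HasNormalPComplement 2 G := by
  have hZ := key _ inf_le_left (center_ne_bot P.2 h0)
    (PG.le_normalizer_inf le_normalizer (PG.le_normalizer_centralizer le_normalizer))
    fun a => inv_center (hP a)
  have hPP : ∀ X : Subgroup G, ⁅X, X⁆ ≤ X := fun X =>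
    CopAct.commutator_le_of_le_normalizer le_normalizer
  rw [Tr.hasNormalPComplement_iff_inf_pResidual P, S0078.result P (fun Q hQ => ?_) P hZ,
    pResidual_eq_bot_iff.2 P.2, Subgroup.map_bot, inf_bot_eq]
  suffices h : Q = P by rw [h]
  by_contra hne
  have hQ2 : ⁅(Q : Subgroup G), (Q : Subgroup G)⁆ ≤ centralizer ((Q : Subgroup G) : Set G) := by
    obtain ⟨g, rfl⟩ := MulAction.exists_smul_eq G P Q
    change ⁅(P : Subgroup G).map (MulAut.conj g).toMonoidHom,
      (P : Subgroup G).map (MulAut.conj g).toMonoidHom⁆ ≤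
        centralizer (((P : Subgroup G).map (MulAut.conj g).toMonoidHom : Subgroup G) : Set G)
    rw [← map_commutator, centralizer_map_conj]
    exact map_mono h2
  set Z := (P : Subgroup G) ⊓ centralizer ((P : Subgroup G) : Set G) with hZd
  have hCZ : centralizer (Z : Set G) ≤ P := (PG.centralizer_le_normalizer' _).trans hZ
  have hD1 : (P : Subgroup G) ≤ normalizer (((P : Subgroup G) ⊓ Q : Subgroup G) : Set G) :=
    PG.le_normalizer_of_commutator_le (N := ⁅(P : Subgroup G), (P : Subgroup G)⁆)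
      (commutator_mono inf_le_left le_rfl) (le_inf (hPP _) ((le_inf (hPP _) h2).trans hQ))
  have hD2 : (Q : Subgroup G) ≤ normalizer (((P : Subgroup G) ⊓ Q : Subgroup G) : Set G) :=
    PG.le_normalizer_of_commutator_le (N := ⁅(Q : Subgroup G), (Q : Subgroup G)⁆)
      (commutator_mono inf_le_right le_rfl)
      (le_inf (hQ2.trans ((centralizer_le hQ).trans hCZ)) (hPP _))
  have hlt : (P : Subgroup G) < normalizer (((P : Subgroup G) ⊓ Q : Subgroup G) : Set G) :=
    lt_of_le_of_ne hD1 fun e => hne (Sylow.ext (P.3 Q.2 (by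
      have h1 : (Q : Subgroup G) ≤ P := e ▸ hD2
      exact (Q.3 P.2 h1).le)))
  obtain ⟨L, hPL, hLN⟩ := exists_covBy_le_of_lt hlt
  have hco : IsCoatom ((P : Subgroup G).subgroupOf L) := by
    refine ⟨fun e => hPL.1.not_ge (subgroupOf_eq_top.1 e), fun X hX => ?_⟩
    have h1 : (P : Subgroup G) < X.map L.subtype := by
      rw [← map_subgroupOf_eq_of_le hPL.1.le]
      exact (map_lt_map_iff_of_injective L.subtype_injective).2 hX
    have h3 : X.map L.subtype = L := ((hPL.eq_or_eq h1.le (map_subtype_le X)).resolve_left h1.ne')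
    exact map_injective L.subtype_injective (by
      rw [h3, ← MonoidHom.range_eq_map, range_subtype])
  have hDL : (P : Subgroup G) ⊓ Q ≤ L := inf_le_left.trans hPL.1.le
  have hDO : ((P : Subgroup G) ⊓ Q).subgroupOf L ≤ pCore 2 L := by
    have := (normal_subgroupOf_iff_le_normalizer hDL).2 hLN
    exact le_pCore ((P.2.to_le inf_le_left).comap_subtype)
  obtain ⟨U, hU0, hUP, hUL, hUi⟩ := push P hPL.1.le hco h2 (by
    refine le_pCore ((P.2.comap_subtype (K := L)).to_le ?_)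
    intro x hx
    refine hCZ fun z hz => ?_
    exact congrArg Subtype.val (hx ⟨z, hDL ⟨hz.1, hQ hz⟩⟩ (hDO ⟨hz.1, hQ hz⟩))) hodd ψ hP
  exact hPL.1.not_ge (hUL.trans (key U hUP hU0 (hPL.1.le.trans hUL) hUi))

theorem odd_case {G H : Type*} [Group G] [Finite G] [Group H] {p : ℕ} [Fact p.Prime] (hp : p ≠ 2)
    (P : Sylow p G) (h0 : (P : Subgroup G) ≠ ⊥) (ψ : H →* MulAut G)
    (hP : ∀ a, ∀ x ∈ (P : Subgroup G), ψ a x ∈ (P : Subgroup G)) {M : Subgroup G}
    [Group.IsNilpotent M]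
    (key : ∀ U : Subgroup G, U ≤ P → U ≠ ⊥ → (∀ a, ∀ x ∈ U, ψ a x ∈ U) →
      normalizer (U : Set G) ≤ M) :
    HasNormalPComplement p G := by
  refine (S0108.result hp P).2 ⟨?_, ?_⟩
  · rw [thompsonSubgroupOf_eq]
    exact Tr.hasNormalPComplement_of_isNilpotent (isNilpotent_of_le
      (key _ (thJ_le p _) (thJ_ne_bot dvd_rfl P.2 h0) fun a => inv_thJ p (hP a)))
  · exact Tr.hasNormalPComplement_of_isNilpotent (isNilpotent_of_le
      ((PG.centralizer_le_normalizer' _).trans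
        (key _ inf_le_left (center_ne_bot P.2 h0) fun a => inv_center (hP a))))

theorem keyN {Γ : Type*} [Group Γ] [Finite Γ] {B G : Subgroup Γ} [G.Normal] (hB : IsCoatom B)
    (hc : B.normalCore = ⊥) {U : Subgroup G} (hU : U ≤ B.subgroupOf G) (h0 : U ≠ ⊥)
    (hinv : ∀ b ∈ B, ∀ x ∈ U, MulAut.conjNormal b x ∈ U) :
    normalizer (U : Set G) ≤ B.subgroupOf G := by
  have h1 := NM.normalizer_eq hB hc (K := U.map G.subtype) (by rintro _ ⟨x, hx, rfl⟩; exact hU hx)
    (fun h => h0 ((map_eq_bot_iff_of_injective _ G.subtype_injective).1 h)) (fun b hb => by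
      refine mem_normalizer_fintype ?_
      rintro _ ⟨x, hx, rfl⟩
      exact ⟨_, hinv b hb x hx, rfl⟩)
  intro g hg
  have := le_normalizer_map (H := U) G.subtype (mem_map_of_mem _ hg)
  rwa [h1] at this

theorem aux {Γ : Type*} [Group Γ] [Finite Γ] {B : Subgroup Γ} (hB : IsCoatom B)
    (hc : B.normalCore = ⊥) {n : ℕ} (hn : Odd n) (k : ℕ) : ∀ (G : Subgroup Γ) [G.Normal],
    Nat.card G = k → (Nat.card G).Coprime G.index → Group.IsNilpotent (B ⊓ G : Subgroup Γ) →
    (∀ x ∈ B ⊓ G, ∀ y ∈ B ⊓ G, ∀ w ∈ B ⊓ G, Commute ⁅x ^ n, y ^ n⁆ (w ^ n)) →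
    Group.IsSolvable G := by
  induction k using Nat.strong_induction_on with
  | _ k ih =>
  intro G _ hk hco hnil h2
  have step : ∀ (p : ℕ) [Fact p.Prime], p ∣ Nat.card G → HasNormalPComplement p G →
      Group.IsSolvable G := by
    intro p hp hd h
    have h1 := Tr.hasNormalPComplement_iff_not_dvd_card_pResidual.1 h
    have := pResidual_characteristic (p := p) (G := G)
    have h3 : Nat.card ((pResidual p G).map G.subtype) = Nat.card (pResidual p G) :=
      card_map_of_injective G.subtype_injective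
    obtain ⟨j, hj⟩ := exists_index_pResidual (G := G) hp.out
    have h4 : (pResidual p G).map G.subtype ≤ G := map_subtype_le _
    have h5 := ih _ (by
      rw [← hk]
      refine lt_of_le_of_ne (card_le_of_le h4) fun e => h1 ?_
      rwa [← h3, e]) ((pResidual p G).map G.subtype) rfl (by
        rw [index_map_subtype, h3, hj]
        exact Nat.Coprime.mul_right (((Nat.Prime.coprime_iff_not_dvd hp.out).2 h1).symm.pow_right j)
          (hco.coprime_dvd_left (card_subgroup_dvd_card _)))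
      (isNilpotent_of_le (inf_le_inf_left B h4))
      (fun x hx y hy w hw => h2 x ⟨hx.1, h4 hx.2⟩ y ⟨hy.1, h4 hy.2⟩ w ⟨hw.1, h4 hw.2⟩)
    have h6 : Group.IsSolvable (pResidual p G) :=
      isSolvable_of_mulEquiv ((pResidual p G).equivMapOfInjective _ G.subtype_injective).symm
    have := (isPGroup_quotient_pResidual (G := G) p).isNilpotent
    exact Group.isSolvable_of_ker_le_range (pResidual p G).subtype
      (QuotientGroup.mk' (pResidual p G)) (by simp)
  by_cases hG0 : G = ⊥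
  · subst hG0; infer_instance
  have hGB : ¬ G ≤ B := fun h => hG0 (eq_bot_iff.2 (hc ▸ normal_le_normalCore.2 h))
  have hrel : G.relIndex B ∣ G.index := relIndex_dvd_index_of_normal G B
  by_cases hM0 : B ⊓ G = ⊥
  · have h1 : (Nat.card B).Coprime (Nat.card G) := by
      have : G.relIndex B = Nat.card B := by
        rw [← inf_relIndex_right, inf_comm, hM0, relIndex_bot_left]
      exact (hco.coprime_dvd_right (this ▸ hrel)).symm
    obtain ⟨q, hq, hqd⟩ := exists_prime_dvd_card_of_ne_bot hG0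
    have := Fact.mk hq
    obtain ⟨Q, hQG, hQ, hQi, hQn⟩ := CopAct.exists_invariant_sylowIn (A := B) (K := G)
      (by simp [normalizer_eq_top]) h1 (ft_solvable_or_of_coprime h1) q
    have h3 : B ⊔ Q = ⊤ := hB.2 _ (lt_of_le_of_ne le_sup_left fun e => hQi (by
      have h2 : Q = ⊥ := eq_bot_iff.2 (hM0 ▸ le_inf (e ▸ le_sup_right) hQG)
      rw [h2, relIndex_bot_left]; exact hqd))
    have h4 : G ≤ Q := fun g hg => by
      obtain ⟨y, hy, b, hb, rfl⟩ := (PG.mem_sup_of_le_normalizer hQn).1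
        (by rw [sup_comm, h3]; exact mem_top g)
      have : b ∈ B ⊓ G := ⟨hb, (G.mul_mem_cancel_left (hQG hy)).1 hg⟩
      rw [hM0, mem_bot] at this
      simpa [this] using hy
    exact CopAct.isSolvable_of_isPGroup (hQ.to_le h4)
  have hM' : (B ⊓ G).subgroupOf G = B.subgroupOf G := inf_subgroupOf_right B G
  have hMn : Group.IsNilpotent (B.subgroupOf G) := hM' ▸ isNilpotent_subgroupOf (B ⊓ G) G
  have hMc : Nat.card (B.subgroupOf G) = Nat.card (B ⊓ G : Subgroup Γ) := by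
    rw [← hM']; exact Nat.card_congr (subgroupOfEquivOfLe inf_le_right).toEquiv
  have hMi : ∀ b ∈ B, ∀ x ∈ B.subgroupOf G, MulAut.conjNormal b x ∈ B.subgroupOf G :=
    fun b hb x hx => B.mul_mem (B.mul_mem hb hx) (B.inv_mem hb)
  have syl : ∀ (p : ℕ) [Fact p.Prime], p ∣ Nat.card (B.subgroupOf G) →
      ∃ P : Sylow p G, (P : Subgroup G) = pCoreOf p (B.subgroupOf G) ∧ (P : Subgroup G) ≠ ⊥ ∧
        ∀ b ∈ B, ∀ x ∈ (P : Subgroup G), MulAut.conjNormal b x ∈ (P : Subgroup G) := by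
    intro p hp hd
    have h1 := NM.pCoreOf_ne_bot hp.out hd
    have h3 : ∀ b ∈ B, ∀ x ∈ pCoreOf p (B.subgroupOf G),
        MulAut.conjNormal b x ∈ pCoreOf p (B.subgroupOf G) := fun b hb x hx => by
      have := map_pCoreOf_le (p := p) (B.subgroupOf G) (MulAut.conjNormal b).toMonoidHom
      rw [map_eq_of_inv (hMi b hb)] at this
      exact this (mem_map_of_mem _ hx)
    obtain ⟨P, hP⟩ := NM.exists_sylow_eq_pCoreOf (keyN hB hc (pCoreOf_le _) h1 h3)
    exact ⟨P, hP, hP ▸ h1, hP ▸ h3⟩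
  by_cases hodd : ∃ p : ℕ, p.Prime ∧ p ≠ 2 ∧ p ∣ Nat.card (B.subgroupOf G)
  · obtain ⟨p, hp, hp2, hd⟩ := hodd
    have := Fact.mk hp
    obtain ⟨P, hP, hP0, hPi⟩ := syl p hd
    exact step p (hd.trans (card_subgroup_dvd_card _)) (odd_case hp2 P hP0
      ((MulAut.conjNormal (H := G)).comp B.subtype) (fun a => hPi a a.2) (M := B.subgroupOf G)
      fun U hU h0 hi => keyN hB hc (hU.trans (hP ▸ pCoreOf_le _)) h0 fun b hb => hi ⟨b, hb⟩)
  push Not at hodd
  have hM2 : IsPGroup 2 (B.subgroupOf G) := by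
    rw [IsPGroup.iff_card]
    exact ⟨_, Nat.eq_prime_pow_of_unique_prime_dvd Nat.card_pos.ne' fun hq hd => by
      by_contra h; exact hodd _ hq h hd⟩
  have hd : 2 ∣ Nat.card (B.subgroupOf G) := by
    obtain ⟨q, hq, hqd⟩ := exists_prime_dvd_card_of_ne_bot hM0
    rw [← hMc] at hqd
    have : q = 2 := by by_contra h; exact hodd _ hq h hqd
    exact this ▸ hqd
  obtain ⟨P, hP, hP0, hPi⟩ := syl 2 hd
  have hPM : (P : Subgroup G) = B.subgroupOf G :=
    hP.trans (le_antisymm (pCoreOf_le _) (le_pCoreOf_of_isNilpotent le_rfl hM2))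
  have hdG : 2 ∣ Nat.card G := hd.trans (card_subgroup_dvd_card _)
  have hio : ¬ 2 ∣ G.relIndex B := fun h =>
    absurd (Nat.eq_one_of_dvd_coprimes hco hdG (h.trans hrel)) (by norm_num)
  obtain ⟨H, hH⟩ := exists_right_complement'_of_coprime (N := G.subgroupOf B) (by
    refine (hco.coprime_dvd_right hrel).coprime_dvd_left ?_
    rw [← inf_subgroupOf_right, Nat.card_congr (subgroupOfEquivOfLe inf_le_right).toEquiv]
    exact card_dvd_of_le inf_le_left)
  have hsurj : ∀ x ∈ (P : Subgroup G), ∃ y ∈ B ⊓ G, (x : Γ) = y ^ n := fun x hx => by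
    obtain ⟨j, hj⟩ := P.2 ⟨x, hx⟩
    have h1 : n.Coprime (orderOf x) := (Nat.Coprime.pow_right j
      (Nat.coprime_two_right.2 hn)).coprime_dvd_right
        (orderOf_dvd_of_pow_eq_one (congrArg Subtype.val hj))
    obtain ⟨m, hm⟩ := exists_pow_eq_self_of_coprime h1
    rw [hPM] at hx
    refine ⟨(x : Γ) ^ m, pow_mem (show (x : Γ) ∈ B ⊓ G from ⟨hx, x.2⟩) m, ?_⟩
    rw [← pow_mul, mul_comm, pow_mul]
    exact (congrArg Subtype.val hm).symm
  refine step 2 hdG (two_case (H := H) P hP0 ?_ ?_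
    ((MulAut.conjNormal (H := G)).comp (B.subtype.comp H.subtype)) (fun a => hPi _ a.1.2) ?_)
  · refine commutator_le.2 fun x hx y hy w hw => Subtype.ext ?_
    obtain ⟨x', hx', e1⟩ := hsurj x hx
    obtain ⟨y', hy', e2⟩ := hsurj y hy
    obtain ⟨w', hw', e3⟩ := hsurj w hw
    have := (h2 x' hx' y' hy' w' hw').symm.eq
    rw [← e1, ← e2, ← e3] at this
    exact this
  · rw [← hH.symm.index_eq_card, ← Nat.not_even_iff_odd, even_iff_two_dvd]
    exact hio
  · intro U hU h0 hPU hi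
    rw [hPM] at hU hPU ⊢
    refine keyN hB hc hU h0 fun b hb x hx => ?_
    obtain ⟨⟨s, h⟩, e⟩ := hH.2 ⟨b, hb⟩
    have e' : b = (s.1 : Γ) * (h.1 : Γ) := (congrArg Subtype.val e).symm
    rw [e', map_mul, MulAut.mul_apply]
    have := (hPU (show (⟨s.1, s.2⟩ : G) ∈ B.subgroupOf G from s.1.2) _).1 (hi h x hx)
    exact this

theorem main {Γ : Type*} [Group Γ] [Finite Γ] {B : Subgroup Γ} (hB : IsCoatom B) {n : ℕ}
    (hn : Odd n) (G : Subgroup Γ) [G.Normal] (hco : (Nat.card G).Coprime G.index)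
    (hnil : Group.IsNilpotent (B ⊓ G : Subgroup Γ))
    (h2 : ∀ x ∈ B ⊓ G, ∀ y ∈ B ⊓ G, ∀ w ∈ B ⊓ G, Commute ⁅x ^ n, y ^ n⁆ (w ^ n)) :
    Group.IsSolvable G := by
  let f := QuotientGroup.mk' B.normalCore
  have hf : Function.Surjective f := QuotientGroup.mk'_surjective _
  have hn' : (G.map f).Normal := Normal.map inferInstance f hf
  have h1 : B.map f ⊓ G.map f ≤ (B ⊓ G).map f := by
    rintro _ ⟨hx, g, hg, rfl⟩
    refine ⟨g, ⟨?_, hg⟩, rfl⟩
    have : g ∈ (B.map f).comap f := hx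
    rwa [comap_map_eq, QuotientGroup.ker_mk', sup_eq_left.2 (normalCore_le B)] at this
  have h3 := isNilpotent_map (B ⊓ G) f
  have h4 := aux (SS.isCoatom_map_mk' hB (normalCore_le B)) (NM.normalCore_map_eq_bot B) hn _
    (G.map f) rfl ((hco.coprime_dvd_left (card_map_dvd _ _)).coprime_dvd_right
      (index_map_dvd _ hf)) (isNilpotent_of_le h1) (fun x hx y hy w hw => by
        obtain ⟨x, hx', rfl⟩ := h1 hx
        obtain ⟨y, hy', rfl⟩ := h1 hy
        obtain ⟨w, hw', rfl⟩ := h1 hw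
        simpa [map_commutatorElement] using (h2 x hx' y hy' w hw').map f)
  have h5 := isNilpotent_subgroupOf (B ⊓ G) G
  refine Group.isSolvable_of_ker_le_range ((B ⊓ G).subgroupOf G).subtype (f.subgroupMap G) ?_
  intro x hx
  rw [range_subtype]
  refine ⟨normalCore_le B ?_, x.2⟩
  exact (QuotientGroup.eq_one_iff (x : Γ)).1 (congrArg Subtype.val hx)

/-- Let A and G be finite groups of coprime orders with A acting on G by automorphisms. Suppose G has a proper A-invariant subgroup M, maximal among proper A-invariant subgroups, which is nilpotent and whose Sylow 2-subgroups have nilpotency class at most 2. Then G is solvable. -/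
theorem result {G A : Type*} [Group G] [Finite G]
    [Group A] [Finite A] (φ : A →* MulAut G) (hcop : (Nat.card A).Coprime (Nat.card G))
    (M : Subgroup G) (hMtop : M ≠ ⊤) (hMinv : ∀ a : A, ∀ m : G, m ∈ M → φ a m ∈ M)
    (hMmax : ∀ H : Subgroup G, M ≤ H → H ≠ ⊤ → (∀ a : A, ∀ h : G, h ∈ H → φ a h ∈ H) → H = M)
    (hnil : Group.IsNilpotent M) (h2 : ∀ S : Sylow 2 ↥M, Group.nilpotencyClass ↥(S : Subgroup ↥M) ≤ 2) :
    Group.IsSolvable G := by
  have : Finite (G ⋊[φ] A) := Finite.of_equiv _ SemidirectProduct.equivProd.symm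
  have hKn := CopAct.sdL_top_normal φ
  have hdis : ∀ a ∈ CopAct.sdR φ ⊤, a ∈ CopAct.sdL φ ⊤ → a = 1 := by
    rintro _ ⟨a, -, rfl⟩ ⟨g, -, e⟩
    have := congrArg SemidirectProduct.rightHom e
    simp only [SemidirectProduct.rightHom_inl, SemidirectProduct.rightHom_inr] at this
    rw [← this, map_one]
  have hRM : CopAct.sdR φ ⊤ ≤ normalizer (CopAct.sdL φ M : Set (G ⋊[φ] A)) :=
    (CopAct.sdR_top_le_normalizer_iff φ).2 hMinv
  have hMK : CopAct.sdL φ M ≤ CopAct.sdL φ ⊤ := (CopAct.sdL_le_sdL φ).2 le_top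
  have hBK : (CopAct.sdL φ M ⊔ CopAct.sdR φ ⊤) ⊓ CopAct.sdL φ ⊤ = CopAct.sdL φ M := by
    refine le_antisymm (fun x hx => ?_) (le_inf le_sup_left hMK)
    obtain ⟨y, hy, b, hb, rfl⟩ := (PG.mem_sup_of_le_normalizer hRM).1 hx.1
    rw [hdis b hb (((CopAct.sdL φ ⊤).mul_mem_cancel_left (hMK hy)).1 hx.2), mul_one]
    exact hy
  have hB : IsCoatom (CopAct.sdL φ M ⊔ CopAct.sdR φ ⊤) := by
    refine ⟨fun e => hMtop (CopAct.sdL_injective φ ?_), fun X hX => ?_⟩
    · rw [← hBK, e, top_inf_eq]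
    · obtain ⟨U, hU⟩ := CopAct.exists_eq_sdL φ (inf_le_right : X ⊓ CopAct.sdL φ ⊤ ≤ _)
      have hRX : CopAct.sdR φ ⊤ ≤ X := le_sup_right.trans hX.le
      have h1 : M ≤ U := (CopAct.sdL_le_sdL φ).1 (hU ▸ le_inf (le_sup_left.trans hX.le) hMK)
      have h3 : CopAct.ActInv φ U := (CopAct.sdR_top_le_normalizer_iff φ).1 (hU ▸
        PG.le_normalizer_inf (hRX.trans le_normalizer) (CopAct.sdR_le_normalizer_top φ ⊤))
      by_cases h4 : U = ⊤
      · rw [eq_top_iff, ← CopAct.sdL_top_sup_sdR_top φ]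
        exact sup_le (by rw [← h4, ← hU]; exact inf_le_left) hRX
      · rw [hMmax U h1 h4 h3] at hU
        refine absurd (fun x hx => ?_) hX.not_ge
        obtain ⟨y, hy, b, hb, rfl⟩ := (PG.mem_sup_of_le_normalizer
          (CopAct.sdR_le_normalizer_top φ ⊤)).1 (by
            rw [CopAct.sdL_top_sup_sdR_top φ]; exact mem_top x)
        exact mul_mem_sup (hU ▸ ⟨(X.mul_mem_cancel_right (hRX hb)).1 hx, hy⟩) hb
  have hidx : (CopAct.sdL φ ⊤).index = Nat.card A := by
    have h1 := (CopAct.sdL φ ⊤).card_mul_index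
    rw [CopAct.card_sdL_top, SemidirectProduct.card] at h1
    exact Nat.eq_of_mul_eq_mul_left Nat.card_pos h1
  obtain ⟨k, n, hn, hkn⟩ := Nat.exists_eq_two_pow_mul_odd (Nat.card_pos (α := M)).ne'
  obtain ⟨S⟩ := (inferInstance : Nonempty (Sylow 2 M))
  have hSn : (S : Subgroup M).Normal := Sylow.normal_of_normalizerCondition
    Group.normalizerCondition_of_isNilpotent S
  have hS := S.2.isNilpotent
  have hcl := H93.commutator_le_center_iff_class.2 (h2 S)
  have hmem : ∀ x : M, x ^ n ∈ (S : Subgroup M) := fun x => by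
    have h1 : IsPGroup 2 (zpowers (x ^ n)) := IsPGroup.of_card_dvd_pow (n := k) (by
      rw [Nat.card_zpowers]
      refine orderOf_dvd_of_pow_eq_one ?_
      rw [← pow_mul, mul_comm, ← hkn, pow_card_eq_one'])
    obtain ⟨T, hT⟩ := h1.exists_le_sylow
    have := Sylow.unique_of_normal S hSn
    exact Subsingleton.elim T S ▸ hT (mem_zpowers _)
  have := main hB hn (CopAct.sdL φ ⊤) (by rw [hidx, CopAct.card_sdL_top]; exact hcop.symm)
    (by rw [hBK]; exact (CopAct.isNilpotent_sdL_iff φ M).2 hnil) (by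
      rw [hBK]
      rintro _ ⟨x, hx, rfl⟩ _ ⟨y, hy, rfl⟩ _ ⟨w, hw, rfl⟩
      have h1 := mem_center_iff.1 (hcl (commutator_mem_commutator
        (mem_top (⟨_, hmem ⟨x, hx⟩⟩ : (S : Subgroup M))) (mem_top ⟨_, hmem ⟨y, hy⟩⟩)))
        ⟨_, hmem ⟨w, hw⟩⟩
      have h3 : Commute ⁅x ^ n, y ^ n⁆ (w ^ n) := (congrArg (fun s : (S : Subgroup M) => ((s : M) : G)) h1).symm
      simpa [map_commutatorElement] using h3.map (SemidirectProduct.inl (φ := φ)))
  have := (CopAct.isSolvable_sdL_iff φ ⊤).1 this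
  exact isSolvable_of_mulEquiv topEquiv

end Cfsg.Agent.S4038
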