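import Mathlib
import Cfsg.Statements.S4310
import Cfsg.Agent.FG.WithFT
import Cfsg.Agent.GT.Conj
import Cfsg.Agent.GT.CoprimeFixed

set_option autoImplicit false
open Cfsg

namespace Cfsg.Agent.S4310

open Cfsg.Agent.GT Cfsg.Agent.FG
open scoped Pointwise

variable {G : Type*} [Group G] [Finite G] {π : Set ℕ}

theorem sep_ext {N M : Subgroup G} (hNM : N ≤ M) (hn : M ≤ Subgroup.normalizer (N : Set G))
    (hN : IsPiSeparable π N) (h : IsPiNum π (N.relIndex M) ∨ IsPiNum πᶜ (N.relIndex M)) :
    IsPiSeparable π M := by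
  have : (N.subgroupOf M).Normal := (Subgroup.normal_subgroupOf_iff_le_normalizer hNM).2 hn
  refine IsPiSeparable.extension (N.subgroupOf M)
    (hN.of_mulEquiv (Subgroup.subgroupOfEquivOfLe hNM).symm) ?_
  rcases h with h | h
  · exact isPiSeparable_of_isPiNum h
  · exact isPiSeparable_of_isPiNum_compl h

theorem sep_normalizer {A L H : Subgroup G} [A.Normal] (hAL : A ≤ L)
    (hL : IsPiNum π (A.relIndex L)) (hH : IsPiHallOf π H A) :
    IsPiSeparable π ↥(L ⊓ Subgroup.normalizer (H : Set G)) := by
  set N := L ⊓ Subgroup.normalizer (H : Set G) with hN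
  have h1 : IsPiSeparable π ↥(A ⊓ N) := by
    have hle : H ≤ A ⊓ N := le_inf hH.le (le_inf (hH.le.trans hAL) Subgroup.le_normalizer)
    refine sep_ext hle (inf_le_right.trans inf_le_right) (isPiSeparable_of_isPiNum hH.card)
      (Or.inr ?_)
    exact (hH.of_le hle inf_le_left).relIndex
  refine sep_ext inf_le_right ?_ h1 (Or.inl ?_)
  · exact CopAct.le_normalizer_inf (by rw [Subgroup.normalizer_eq_top]; exact le_top)
      Subgroup.le_normalizer
  · rw [Subgroup.inf_relIndex_right, ← Subgroup.relIndex_sup_left]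
    refine hL.of_dvd ?_
    exact Dvd.intro _ (Subgroup.relIndex_mul_relIndex A (A ⊔ N) L le_sup_left
      (sup_le hAL inf_le_left))

theorem conj_in {A : Subgroup G} (hA : IsCPiGroup π A) {H K : Subgroup G} (hH : IsPiHallOf π H A)
    (hK : IsPiHallOf π K A) : ∃ a ∈ A, H.map (MulAut.conj a).toMonoidHom = K := by
  obtain ⟨a, ha⟩ := hA.2 _ _ hH.subgroupOf hK.subgroupOf
  refine ⟨a, a.2, ?_⟩
  exact HT.conj_smul_eq_of_subgroupOf hH.le hK.le ha.symm

theorem frattini_hall {A L H : Subgroup G} [A.Normal] (hA : IsCPiGroup π A) (hAL : A ≤ L)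
    (hH : IsPiHallOf π H A) : (L ⊓ Subgroup.normalizer (H : Set G)) ⊔ A = L := by
  refine le_antisymm (sup_le inf_le_left hAL) fun x hx => ?_
  obtain ⟨a, ha, e⟩ := conj_in hA (hH.map_conj (g := x)
    (by rw [Subgroup.normalizer_eq_top]; trivial)) hH
  rw [map_conj_map_conj, map_conj_eq_self_iff] at e
  have : x = a⁻¹ * (a * x) := by group
  rw [this]
  exact Subgroup.mul_mem _ (Subgroup.mem_sup_right (A.inv_mem ha))
    (Subgroup.mem_sup_left ⟨L.mul_mem (hAL ha) hx, e⟩)

/-- Let `π` be a set of primes and `A` a normal subgroup of the finite group `G`. Suppose `A` has a Hall `π`-subgroup and all Hall `π`-subgroups of `A` are conjugate in `A`, and likewise for `G/A`. Then `G` has a Hall `π`-subgroup and all Hall `π`-subgroups of `G` are conjugate. (The conjugacy of complements of coprime order that the usual proof uses rests, in general, on the odd order Theorem.) -/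
theorem result {G : Type*} [Group G] [Finite G] (π : Set ℕ) (A : Subgroup G) [A.Normal]
    (hA : Cfsg.IsCPiGroup π ↥A) (hQ : Cfsg.IsCPiGroup π (G ⧸ A)) : Cfsg.IsCPiGroup π G := by
  constructor
  · obtain ⟨H0, hH0⟩ := hA.1
    obtain ⟨K, hK⟩ := hQ.1
    set L := K.comap (QuotientGroup.mk' A) with hL
    have hAL : A ≤ L := by
      intro a ha
      rw [hL, Subgroup.mem_comap, QuotientGroup.mk'_apply, (QuotientGroup.eq_one_iff a).2 ha]
      exact K.one_mem
    have hLi : IsPiNum π (A.relIndex L) := by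
      rw [← card_map_mk'_eq_relIndex, hL,
        Subgroup.map_comap_eq_self_of_surjective (QuotientGroup.mk'_surjective A)]
      exact hK.card
    have hH := hH0.map_subtype
    obtain ⟨H, hH'⟩ := (sep_normalizer hAL hLi hH).exists_isPiHall
    refine ⟨_, hH'.map_subtype.isPiHall ?_⟩
    rw [← Subgroup.relIndex_mul_index (inf_le_left : _ ≤ L)]
    refine IsPiNum.mul ?_ ?_
    · have e := relIndex_sup_of_le_normalizer_left
        (H := L ⊓ Subgroup.normalizer ((H0.map A.subtype : Subgroup G) : Set G)) (N := A)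
        (by rw [Subgroup.normalizer_eq_top (H := A)]; exact le_top)
      rw [frattini_hall hA hAL hH] at e
      rw [e]
      exact hH.relIndex.of_dvd (Subgroup.relIndex_dvd_of_le_left _
        (le_inf (hH.le.trans hAL) Subgroup.le_normalizer))
    · rw [hL, Subgroup.index_comap_of_surjective _ (QuotientGroup.mk'_surjective A)]
      exact hK.index
  · have key : ∀ H K : Subgroup G, IsPiHall π H → IsPiHall π K → K ≤ H ⊔ A →
        H ⊓ A = K ⊓ A → ∃ g : G, K = H.map (MulAut.conj g).toMonoidHom := by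
      intro H K hH hK hle heq
      have hLi : IsPiNum π (A.relIndex (H ⊔ A)) := by
        rw [Subgroup.relIndex_sup_right]
        exact hH.card.of_dvd (Subgroup.relIndex_dvd_card _ _)
      have hs := sep_normalizer le_sup_right hLi (hH.inf_normal A)
      have hn : ∀ X : Subgroup G, X ≤ Subgroup.normalizer ((X ⊓ A : Subgroup G) : Set G) :=
        fun X => CopAct.le_normalizer_inf Subgroup.le_normalizer
          (by rw [Subgroup.normalizer_eq_top]; exact le_top)
      have h1 : H ≤ (H ⊔ A) ⊓ Subgroup.normalizer ((H ⊓ A : Subgroup G) : Set G) :=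
        le_inf le_sup_left (hn H)
      have h2 : K ≤ (H ⊔ A) ⊓ Subgroup.normalizer ((H ⊓ A : Subgroup G) : Set G) :=
        le_inf hle (heq ▸ hn K)
      obtain ⟨g, hg⟩ := ft_hall_exists_conj_eq hs (hH.isPiHallOf h1).subgroupOf
        (hK.isPiHallOf h2).subgroupOf
      exact ⟨g, (HT.conj_smul_eq_of_subgroupOf h1 h2 hg).symm⟩
    intro H K hH hK
    have hs := QuotientGroup.mk'_surjective A
    obtain ⟨g, hg⟩ := hQ.2 _ _ (hH.map_of_surjective hs) (hK.map_of_surjective hs)
    obtain ⟨g, rfl⟩ := hs g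
    rw [← map_map_conj] at hg
    have h1 : K ≤ H.map (MulAut.conj g).toMonoidHom ⊔ A := by
      have := Subgroup.le_comap_map (QuotientGroup.mk' A) K
      rwa [hg, Subgroup.comap_map_eq, QuotientGroup.ker_mk'] at this
    have hH1 := hH.map_conj g
    obtain ⟨a, ha, e⟩ := conj_in hA (hH1.inf_normal A) (hK.inf_normal A)
    rw [map_conj_inf, map_conj_eq_of_normal A] at e
    obtain ⟨x, hx⟩ := key _ K (hH1.map_conj a) hK (by
      refine h1.trans (sup_le ?_ le_sup_right)
      rw [← map_conj_le_map_conj_iff (g := a)]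
      rw [map_conj_eq_of_mem (Subgroup.mem_sup_right ha)]
      exact le_sup_left) e
    exact ⟨x * (a * g), by rw [hx, map_conj_map_conj, map_conj_map_conj, mul_assoc]⟩

end Cfsg.Agent.S4310
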