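import Mathlib
import Cfsg.Statements.S4072
import Cfsg.Agent.S3807
import Cfsg.Agent.GT.TransferAbelian
import Cfsg.Agent.GT.TransferEval
import Cfsg.Agent.FG.H93EqConj
import Cfsg.Agent.FG.H93Solv
import Cfsg.Agent.FG.H93Elt

set_option autoImplicit false
open Cfsg

namespace Cfsg.Agent.S4072

open Cfsg.Agent.FG Cfsg.Agent.GT Subgroup
open scoped commutatorElement

theorem card_commutator {S : Type*} [Group S] [Finite S] {p : ℕ} [hp : Fact p.Prime]
    (hS : IsPGroup p S) (hna : ¬ IsMulCommutative S)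
    (h : ∀ H : Subgroup S, H ≠ ⊤ → IsMulCommutative H) : Nat.card (commutator S) = p := by
  have hz : ∀ x : S, zpowers x ≠ ⊤ := fun x hx =>
    hna (PG.isMulCommutative_top_iff.mp (hx ▸ inferInstance))
  have hne : ∀ {A : Subgroup S}, A.index = p → A ≠ ⊤ := fun hA h0 =>
    hp.out.one_lt.ne (by rw [← hA, h0, index_top])
  obtain ⟨A, -, hA⟩ := PG.exists_index_eq_prime_of_ne_top hS (hz 1)
  rcases (S3807.result p hS hna A (h A (hne hA)) hA).2 with h1 | h1
  · exact h1.1
  · obtain ⟨x, hx⟩ : ∃ x, x ∉ A := by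
      by_contra hh
      push Not at hh
      exact hne hA (eq_top_iff.mpr fun x _ => hh x)
    obtain ⟨B, hB1, hB⟩ := PG.exists_index_eq_prime_of_ne_top hS (hz x)
    exact absurd (h1.2 B (h B (hne hB)) hB ▸ hB1 (mem_zpowers x)) hx

theorem false_of_burnside {G : Type*} [Group G] [Finite G] (hG : commutator G = ⊤) (M : Subgroup G)
    [M.Normal] {p : ℕ} [hp : Fact p.Prime] (P : Sylow p (G ⧸ M)) (hd : p ∣ Nat.card (G ⧸ M))
    (h : normalizer ((P : Subgroup (G ⧸ M)) : Set (G ⧸ M)) ≤ P) (hc : IsMulCommutative P) : False := by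
  obtain ⟨N, hN, hi⟩ := (Tr.hasNormalPComplement_of_normalizer_le_centralizer P
    (h.trans (PG.isMulCommutative_iff_le_centralizer.mp hc))).exists_index_eq hd
  have h1 : (N.comap (QuotientGroup.mk' M)).index = p := by
    rw [index_comap_of_surjective _ (QuotientGroup.mk'_surjective M), hi]
  have := isCyclic_of_prime_card (α := G ⧸ N.comap (QuotientGroup.mk' M)) (p := p)
    (by rw [← index_eq_card, h1])
  have h2 : commutator G ≤ N.comap (QuotientGroup.mk' M) :=
    Normal.quotient_commutative_iff_commutator_le.mp inferInstance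
  rw [hG, top_le_iff] at h2
  exact hp.out.one_lt.ne (by rw [← h1, h2, index_top])

theorem normalizer_le_of_comap {G : Type*} [Group G] (M : Subgroup G) [M.Normal]
    {H : Subgroup (G ⧸ M)}
    (h : normalizer ((H.comap (QuotientGroup.mk' M) : Subgroup G) : Set G) = H.comap (QuotientGroup.mk' M)) :
    normalizer (H : Set (G ⧸ M)) ≤ H := fun y hy => by
  obtain ⟨y, rfl⟩ := QuotientGroup.mk'_surjective M y
  exact h.le (le_normalizer_comap _ hy)

/-- A finite group in which every non-abelian subgroup is self-normalizing is solvable or simple. -/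
theorem result {G : Type*} [Group G] [Finite G] (hS : ∀ H : Subgroup G, ¬ IsMulCommutative H → Subgroup.normalizer (H : Set G) = H) :
    Group.IsSolvable G ∨ IsSimpleGroup G := by
  by_contra hh
  rw [not_or] at hh
  obtain ⟨hs, hsim⟩ := hh
  have hnt : Nontrivial G := by
    by_contra h
    have := not_nontrivial_iff_subsingleton.mp h
    exact hs inferInstance
  have hab : ∀ N : Subgroup G, N.Normal → N ≠ ⊤ → IsMulCommutative N := fun N hN h0 => by
    by_contra h
    exact h0 ((hS N h).symm.trans (normalizer_eq_top N))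
  have hG : commutator G = ⊤ := by
    by_contra h
    have := hab _ inferInstance h
    have : IsMulCommutative (G ⧸ commutator G) :=
      Normal.quotient_commutative_iff_commutator_le.mpr le_rfl
    exact hs (H93.isSolvable_of_normal (commutator G) isSolvable_of_isMulCommutative
      isSolvable_of_isMulCommutative)
  obtain ⟨N, hN, hN0, hN1⟩ : ∃ N : Subgroup G, N.Normal ∧ N ≠ ⊥ ∧ N ≠ ⊤ := by
    by_contra h
    push Not at h
    exact hsim ⟨fun N hN => or_iff_not_imp_left.mpr (h N hN)⟩
  obtain ⟨M, hNM, ⟨hM, hM1⟩, hmax⟩ := exists_maximal_ge (P := fun M : Subgroup G => M.Normal ∧ M ≠ ⊤)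
    ⟨hN, hN1⟩
  have hM0 : M ≠ ⊥ := fun h => hN0 (eq_bot_iff.mpr (h ▸ hNM))
  have hMc := hab M hM hM1
  by_cases hC : centralizer (M : Set G) = ⊤
  · obtain ⟨p, hp, hd⟩ := exists_prime_dvd_card_of_ne_bot hM0
    have := Fact.mk hp
    obtain ⟨P⟩ : Nonempty (Sylow p G) := inferInstance
    have hMZ : M ≤ center G := fun m hm => mem_center_iff.mpr fun g => (hC.ge (mem_top g) m hm).symm
    have hle : M ⊓ P ≤ ⁅(P : Subgroup G), (P : Subgroup G)⁆ := le_trans
      (le_inf (le_inf inf_le_right (hG ▸ le_top)) (inf_le_left.trans hMZ))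
      (Tr.sylow_inf_commutator_inf_center_le P)
    obtain ⟨z, hz, hzp⟩ := exists_mem_orderOf_eq_prime hp hd
    have hzP : z ∈ (P : Subgroup G) := H93.le_sylow_of_le_normalizer P
      (H93.isPGroup_zpowers_of_pow (orderOf_dvd_iff_pow_eq_one.mp hzp.dvd))
      ((zpowers_le.mpr (hMZ hz)).trans (center_le_normalizer _)) (mem_zpowers z)
    have hz1 : z ≠ 1 := fun h => hp.one_lt.ne (by rw [← hzp, h, orderOf_one])
    have hna : ¬ IsMulCommutative P := fun h => hz1 (mem_bot.mp
      ((commutator_eq_bot_iff_le_centralizer.mpr (PG.isMulCommutative_iff_le_centralizer.mp h)).le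
        (hle ⟨hz, hzP⟩)))
    have hMP : M ≤ P := hMZ.trans ((center_le_normalizer _).trans (hS _ hna).le)
    have h1 := card_commutator P.isPGroup' hna fun H hH => by
      by_contra h
      have h2 : ¬ IsMulCommutative (H.map (P : Subgroup G).subtype) := fun h3 => h
        (PG.isMulCommutative_iff_forall.mpr fun a ha b hb => Subtype.ext
          (PG.isMulCommutative_iff_forall.mp h3 _ ⟨a, ha, rfl⟩ _ ⟨b, hb, rfl⟩))
      have := P.isPGroup'.isNilpotent
      obtain ⟨x, -, hx1, hx2⟩ := PG.exists_mem_normalizer_notMem (M := ⊤) (lt_top_iff_ne_top.mpr hH)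
      have h3 := (hS _ h2).le (le_normalizer_map _ ⟨x, hx2, rfl⟩)
      obtain ⟨y, hy, hxy⟩ := h3
      exact hx1 (Subtype.ext hxy ▸ hy)
    have h2 : Nat.card ↥⁅(P : Subgroup G), (P : Subgroup G)⁆ = p := by
      rw [← map_subtype_commutator, card_map_of_injective (subtype_injective _), h1]
    have h3 : ⁅(P : Subgroup G), (P : Subgroup G)⁆ ≤ M := by
      rw [← PG.eq_of_le_of_card_le (zpowers_le.mpr (hle ⟨hz, hzP⟩)) (by rw [h2, Nat.card_zpowers, hzp])]
      exact zpowers_le.mpr hz
    set Q := P.mapSurjective (QuotientGroup.mk'_surjective M) with hQ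
    have hQe : (Q : Subgroup (G ⧸ M)) = (P : Subgroup G).map (QuotientGroup.mk' M) := rfl
    have hQc : (Q : Subgroup (G ⧸ M)).comap (QuotientGroup.mk' M) = P := by
      rw [hQe, comap_map_eq, QuotientGroup.ker_mk', sup_eq_left.mpr hMP]
    have hcomm : IsMulCommutative Q := by
      refine PG.isMulCommutative_iff_le_centralizer.mpr (commutator_eq_bot_iff_le_centralizer.mp ?_)
      rw [hQe, ← Subgroup.map_commutator, Subgroup.map_eq_bot_iff, QuotientGroup.ker_mk']
      exact h3
    refine false_of_burnside hG M Q ?_ (normalizer_le_of_comap M (by rw [hQc]; exact hS _ hna)) hcomm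
    by_contra hd'
    have h4 : (Q : Subgroup (G ⧸ M)) = ⊥ := card_eq_one.mp
      (Q.isPGroup'.card_eq_or_dvd.resolve_right fun h => hd' (h.trans (card_subgroup_dvd_card _)))
    rw [hQe, Subgroup.map_eq_bot_iff, QuotientGroup.ker_mk'] at h4
    exact hna (PG.isMulCommutative_of_le h4 hMc)
  · have hCM := hmax _ ⟨inferInstance, hC⟩ (PG.isMulCommutative_iff_le_centralizer.mp hMc)
    have : Nontrivial (G ⧸ M) := QuotientGroup.nontrivial_iff.mpr hM1
    obtain ⟨p, hp, hd⟩ := Nat.exists_prime_and_dvd (Finite.one_lt_card (α := G ⧸ M)).ne'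
    have := Fact.mk hp
    obtain ⟨P⟩ : Nonempty (Sylow p (G ⧸ M)) := inferInstance
    obtain ⟨x, hx, hx1⟩ := (Subgroup.ne_bot_iff_exists_ne_one.mp
      (PG.inf_centralizer_ne_bot_of_isPGroup P.isPGroup' P.isPGroup' le_normalizer
        (P.ne_bot_of_dvd_card hd))).imp fun d hd => (⟨d.2, hd⟩ : _ ∧ _)
    have h1 : ¬ IsMulCommutative ((zpowers (x : G ⧸ M)).comap (QuotientGroup.mk' M)) := fun h => by
      obtain ⟨y, hy⟩ := QuotientGroup.mk'_surjective M x
      have h2 : y ∈ centralizer (M : Set G) := fun m hm =>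
        PG.isMulCommutative_iff_forall.mp h m (by
          rw [mem_comap, QuotientGroup.mk'_apply, (QuotientGroup.eq_one_iff m).mpr hm]
          exact one_mem _) y (by rw [mem_comap, hy]; exact mem_zpowers _)
      rw [hCM] at h2
      exact hx1 (Subtype.ext (hy.symm.trans ((QuotientGroup.eq_one_iff y).mpr h2)))
    have h2 := normalizer_le_of_comap M (hS _ h1)
    have h3 : zpowers (x : G ⧸ M) = P := le_antisymm (zpowers_le.mpr hx.1)
      (((le_centralizer_iff.mp (zpowers_le.mpr hx.2)).trans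
        (PG.centralizer_le_normalizer' _)).trans h2)
    exact false_of_burnside hG M P hd (h3 ▸ h2) (h3 ▸ (inferInstance : IsMulCommutative (zpowers _)))

end Cfsg.Agent.S4072
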