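import Mathlib
import Cfsg.Statements.S4079
import Cfsg.Agent.FG.Regular
import Cfsg.Agent.FG.RankTwo3
import Cfsg.Agent.FG.Metacyclic
import Cfsg.Agent.FG.MaxClassPow
import Cfsg.Agent.S3865
import Cfsg.Agent.S0638
import Cfsg.Agent.FT.BG4_8
import Cfsg.Agent.FT.BG4_12
import Cfsg.Agent.GT.PGroupAlperin
import Cfsg.Agent.GT.ThompsonComm
import Cfsg.Agent.GT.CoprimeNilp
import Cfsg.Agent.GT.HallTools
-- import your own Cfsg.Agent.* helpers here

set_option autoImplicit false
open Cfsg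

namespace Cfsg.Agent.S4079

open Subgroup Cfsg.Agent.GT Cfsg.Agent.FG
open scoped commutatorElement

section L

variable {L : Type*} [Group L] [Finite L] {p : ℕ} [hp : Fact p.Prime]

omit [Finite L] in
theorem zpowers_normal {N : Subgroup L} [hN : N.Normal] (hc : IsCyclic N) {w : L} (hw : w ∈ N) :
    (zpowers w).Normal := by
  obtain ⟨⟨z, hz⟩, h⟩ := hc.exists_generator
  refine ⟨fun x hx g => ?_⟩
  obtain ⟨k, rfl⟩ := hx
  obtain ⟨i, hi⟩ := h ⟨w, hw⟩
  obtain ⟨j, hj⟩ := h ⟨_, hN.conj_mem z hz g⟩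
  have hi' : z ^ i = w := congrArg Subtype.val hi
  have hj' : z ^ j = g * z * g⁻¹ := congrArg Subtype.val hj
  refine ⟨j * k, ?_⟩
  change w ^ (j * k) = g * w ^ k * g⁻¹
  rw [← conj_zpow, ← hi', ← conj_zpow, ← hj', ← zpow_mul, ← zpow_mul, ← zpow_mul]
  congr 1
  ring

theorem weakReg (h2 : p ≠ 2) (hL : IsPGroup p L) (hc : IsCyclic (commutator L)) :
    WeakRegular p L := fun a b => by
  have hw : ⁅b, a⁆ ∈ commutator L := commutator_mem_commutator (mem_top _) (mem_top _)
  have h1 := zpowers_normal hc hw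
  have h3 := zpowers_normal hc (pow_mem hw p)
  set K := zpowers (⁅b, a⁆ ^ p)
  let π := QuotientGroup.mk' K
  have h4 : π ⁅b, a⁆ ^ p = 1 := by
    rw [← map_pow]; exact (QuotientGroup.eq_one_iff _).2 (mem_zpowers _)
  have h5 : π ⁅b, a⁆ ∈ center (L ⧸ K) := by
    by_cases h : π ⁅b, a⁆ = 1
    · exact h ▸ one_mem _
    have h6 : (zpowers (π ⁅b, a⁆)).Normal := by
      rw [← MonoidHom.map_zpowers]; exact h1.map _ (QuotientGroup.mk'_surjective K)
    exact PG.le_center_of_normal_card_prime (hL.to_quotient K) (zpowers (π ⁅b, a⁆))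
      (by rw [Nat.card_zpowers, orderOf_eq_prime h4 h]) (mem_zpowers _)
  rw [map_commutatorElement] at h4 h5
  have h6 := CopAct.mul_pow_of_commute_commutatorElement (x := π a) (y := π b)
    (mem_center_iff.1 h5 _) (mem_center_iff.1 h5 _) p
  obtain ⟨k, hk⟩ := hp.out.dvd_choose_self two_ne_zero (lt_of_le_of_ne hp.out.two_le h2.symm)
  rw [hk, pow_mul, h4, one_pow, mul_one, ← map_mul, ← map_pow, ← map_pow, ← map_pow,
    ← map_mul] at h6
  refine ⟨(a ^ p * b ^ p)⁻¹ * (a * b) ^ p, ?_, by group⟩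
  exact (zpowers_le.2 (PG.pow_mem_powerClosure_one (commutator_mem_commutator
    (subset_closure (by simp)) (subset_closure (by simp))))) (QuotientGroup.eq.1 h6.symm)

theorem not_cyclic (hL : IsPGroup p L) [Nontrivial L]
    (hnc : ∀ C : Subgroup L, IsCyclic C → C.index ≠ p) : ¬ IsCyclic L := fun hc => by
  obtain ⟨M, hM, -⟩ := (eq_top_or_exists_le_coatom (⊥ : Subgroup L)).resolve_left bot_ne_top
  have := hL.isNilpotent
  have : M.Normal := NormalizerCondition.normal_of_coatom M Group.normalizerCondition_of_isNilpotent hM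
  have h1 := index_prime_of_isCoatom_of_normal hM
  obtain ⟨k, hk⟩ := hL.index M
  rw [hk] at h1
  refine hnc M inferInstance ?_
  rw [hk, h1.eq_one_of_pow, pow_one]

theorem facts (h2 : p ≠ 2) (hL : IsPGroup p L) (hmc : IsMetacyclic L) [Nontrivial L]
    (hnc : ∀ C : Subgroup L, IsCyclic C → C.index ≠ p) :
    p ^ 4 ∣ Nat.card L ∧ ∀ x : L, x ^ p = 1 → ∃ y : L, x = y ^ p := by
  have hc : IsCyclic (commutator L) := FT.b4_isCyclic_der_of_metacyclic (FT.b4_metacyclic_top.2 hmc)
  have hW := weakReg h2 hL hc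
  obtain ⟨hR, hRc⟩ := S0638.result h2 hL hmc (not_cyclic hL hnc)
  set R := omegaOne p (⊤ : Subgroup L)
  set U := powerClosure p 1 (⊤ : Subgroup L)
  have hR' : ∀ x, x ∈ R ↔ x ^ p = 1 := fun x => ⟨hR.2 x, PG.mem_omegaOne (mem_top x)⟩
  have hU : ∀ x, x ∈ U ↔ ∃ y, x = y ^ p := fun x => by
    rw [hW.mem_powerClosure_iff hL]; simp
  have hcard : Nat.card L = Nat.card U * p ^ 2 := by
    rw [card_eq_card_quotient_mul_card_subgroup R, hRc]
    congr 1
    refine Nat.card_eq_of_bijective (fun q => ⟨q.out ^ p, (hU _).2 ⟨_, rfl⟩⟩) ⟨fun a b h => ?_,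
      fun ⟨x, hx⟩ => ?_⟩
    · have h3 : a.out ^ p = b.out ^ p := congrArg Subtype.val h
      rw [← QuotientGroup.out_eq' a, ← QuotientGroup.out_eq' b, QuotientGroup.eq, hR']
      simpa using (hW.pow_eq_pow_iff_one hL a.out⁻¹ b.out⁻¹).1 (by rw [inv_pow, inv_pow, h3])
    · obtain ⟨y, rfl⟩ := (hU x).1 hx
      refine ⟨(y : L ⧸ R), Subtype.ext ?_⟩
      have h3 := QuotientGroup.eq.1 (QuotientGroup.out_eq' (y : L ⧸ R))
      have h4 := (hW.pow_eq_pow_iff_one hL (y : L ⧸ R).out⁻¹ y⁻¹).2 (by simpa using (hR' _).1 h3)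
      rw [inv_pow, inv_pow, inv_inj] at h4
      exact h4
  have hUc : ¬ IsCyclic U := fun h => by
    obtain ⟨y, hy⟩ : ∃ y : L, orderOf y = p * Nat.card U := by
      obtain ⟨⟨z, hz⟩, h3⟩ := h.exists_generator
      have h4 : orderOf z = Nat.card U := (orderOf_mk z hz).symm.trans
        (orderOf_eq_card_of_forall_mem_zpowers h3)
      obtain ⟨y, rfl⟩ := (hU z).1 hz
      by_cases h5 : y ^ p = 1
      · obtain ⟨x, hx⟩ := exists_prime_orderOf_dvd_card' (G := L) p
          (hcard ▸ Dvd.dvd.mul_left (dvd_pow_self p two_ne_zero) _)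
        exact ⟨x, by rw [← h4, h5, orderOf_one, mul_one, hx]⟩
      · obtain ⟨k, hk⟩ := IsPGroup.iff_orderOf.1 hL y
        have h6 : p ∣ orderOf y := by
          rcases k with _ | k
          · rw [pow_zero, orderOf_eq_one_iff] at hk
            exact absurd (by rw [hk, one_pow]) h5
          · exact hk ▸ dvd_pow_self p (by omega)
        exact ⟨y, by rw [← h4, orderOf_pow_of_dvd hp.out.ne_zero h6, Nat.mul_div_cancel' h6]⟩
    refine hnc (zpowers y) inferInstance ?_
    have h3 := (zpowers y).card_mul_index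
    rw [Nat.card_zpowers, hy, hcard] at h3
    exact Nat.eq_of_mul_eq_mul_left (Nat.mul_pos hp.out.pos Nat.card_pos) (h3.trans (by ring))
  obtain ⟨-, h3⟩ := S0638.result h2 (hL.to_subgroup U)
    (TM.isMetacyclic_of_injective hmc U.subtype U.subtype_injective) hUc
  rw [PG.card_omegaOne_top] at h3
  have h4 : omegaOne p U = R := eq_of_le_of_card_ge (PG.omegaOne_mono le_top) (by rw [h3, hRc])
  have h5 : R ≤ U := h4 ▸ PG.omegaOne_le U
  refine ⟨?_, fun x hx => (hU x).1 (h5 ((hR' x).2 hx))⟩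
  rw [hcard, show p ^ 4 = p ^ 2 * p ^ 2 by ring]
  exact Nat.mul_dvd_mul_right (hRc ▸ card_dvd_of_le h5) _

end L

theorem main {G : Type*} [Group G] [Finite G] {p : ℕ} [hp : Fact p.Prime] (h2 : p ≠ 2)
    (hG : IsPGroup p G) (L : Subgroup G) [L.Normal] (hi : L.index = p) (hmc : IsMetacyclic L)
    [Nontrivial L] (hnc : ∀ C : Subgroup L, IsCyclic C → C.index ≠ p) {α : G} (hα : α ^ p = 1)
    (hαL : α ∉ L) {m : ℕ} (hm : Nat.card L = p ^ m) :
    (∃ x ∈ L, x ^ p = 1 ∧ α * x ≠ x * α) ↔ (p = 3 ∧ Group.nilpotencyClass G = m) := by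
  have hL := hG.to_subgroup L
  have hc : IsCyclic (commutator L) := FT.b4_isCyclic_der_of_metacyclic (FT.b4_metacyclic_top.2 hmc)
  have hW := weakReg h2 hL hc
  obtain ⟨h4, hpw⟩ := facts h2 hL hmc hnc
  obtain ⟨hR, hRc⟩ := S0638.result h2 hL hmc (not_cyclic hL hnc)
  rw [PG.card_omegaOne_top] at hRc
  replace hR := hR.map L.subtype
  rw [PG.map_subtype_omegaOne_top] at hR
  set R := omegaOne p L
  have hR' : ∀ x, x ∈ R ↔ x ∈ L ∧ x ^ p = 1 := fun x =>
    ⟨fun h => ⟨PG.omegaOne_le L h, hR.2 x h⟩, fun h => PG.mem_omegaOne h.1 h.2⟩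
  have hpw' : ∀ x ∈ R, ∃ y ∈ L, x = y ^ p := fun x hx => by
    obtain ⟨y, hy⟩ := hpw ⟨x, ((hR' x).1 hx).1⟩ (Subtype.ext ((hR' x).1 hx).2)
    exact ⟨y, y.2, congrArg Subtype.val hy⟩
  have hco := PG.isCoatom_of_index_prime hp.out hi
  have hGc : Nat.card G = p ^ (m + 1) := by rw [← L.card_mul_index, hm, hi, pow_succ]
  have hcomm : ∀ l ∈ L, (∀ y ∈ L, ⁅y, l⁆ ^ p = 1) → ∀ x ∈ R, x * l = l * x := fun l hl h x hx => by
    obtain ⟨y, hy, rfl⟩ := hpw' x hx
    have := (hW.commute_pow_iff hL 1 ⟨y, hy⟩ ⟨l, hl⟩).2 (Subtype.ext (by rw [pow_one]; exact h y hy))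
    simpa using congrArg Subtype.val this.eq
  have := hG.isNilpotent
  constructor
  · rintro ⟨x, hxL, hxp, hx⟩
    have hxR := (hR' x).2 ⟨hxL, hxp⟩
    have claim : ∀ N : Subgroup G, N.Normal → (∀ g ∈ N, g ^ p = 1) → Nat.card N ≤ p ^ 2 := by
      intro N hN hNp
      by_cases hNL : N ≤ L
      · exact hRc ▸ card_le_of_le fun g hg => (hR' g).2 ⟨hNL hg, hNp g hg⟩
      exfalso
      have hT : L ⊔ N = ⊤ := hco.2 _ (left_lt_sup.2 hNL)
      obtain ⟨l, hl, b, hb, rfl⟩ := HT.mem_sup_of_normal.1 (hT.ge (mem_top α))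
      have hbR : ∀ y ∈ L, ⁅b, y⁆ ∈ R := fun y hy => by
        have h5 : ⁅b, y⁆ ∈ N := by
          simpa [commutatorElement_def, mul_assoc] using N.mul_mem hb (hN.conj_mem _ (N.inv_mem hb) y)
        exact (hR' _).2 ⟨L.mul_mem ((inferInstance : L.Normal).conj_mem y hy b) (L.inv_mem hy),
          hNp _ h5⟩
      have hbx : b * x = x * b := by
        obtain ⟨y, hy, rfl⟩ := hpw' x hxR
        have h5 := (hW.pow_eq_pow_iff_one hL ⟨_, (inferInstance : L.Normal).conj_mem y hy b⟩
          ⟨y, hy⟩).2 (Subtype.ext ((hR' _).1 (hbR y hy)).2)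
        have h6 : (b * y * b⁻¹) ^ p = y ^ p := congrArg Subtype.val h5
        rw [conj_pow] at h6
        exact mul_inv_eq_iff_eq_mul.1 h6
      have hZ : ⁅R, ⊤⁆ ≤ center G := by
        have h5 := PG.commutator_top_lt R (fun e => by
          rw [e, card_bot] at hRc
          exact (Nat.one_lt_pow two_ne_zero hp.out.one_lt).ne hRc)
        obtain ⟨k, hk, e⟩ := (Nat.dvd_prime_pow hp.out).1 (hRc ▸ card_dvd_of_le h5.le)
        have h6 := HT.card_lt_of_lt h5
        rw [e, hRc, Nat.pow_lt_pow_iff_right hp.out.one_lt] at h6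
        obtain rfl | rfl : k = 0 ∨ k = 1 := by omega
        · rw [card_eq_one.1 e]; exact bot_le
        · exact PG.le_center_of_normal_card_prime hG _ (e.trans (pow_one p))
      let π := QuotientGroup.mk' ⁅R, (⊤ : Subgroup G)⁆
      have h5 : ∀ g : G, Commute ⁅π b, π l⁆ (π g) := fun g => by
        rw [← map_commutatorElement, ← commutatorElement_eq_one_iff_commute,
          ← map_commutatorElement]
        exact (QuotientGroup.eq_one_iff _).2 (commutator_mem_commutator (hbR l hl) (mem_top g))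
      have h6 := th_mul_pow_odd (hp.out.odd_of_ne_two h2) (h5 l) (h5 b) (by
        rw [← map_pow, hNp b hb, map_one]; exact Commute.one_left _)
      rw [← map_mul, ← map_pow, hα, map_one, ← map_pow, ← map_pow, hNp b hb, map_one,
        mul_one] at h6
      have h7 := mem_center_iff.1 (hZ ((QuotientGroup.eq_one_iff _).1 h6.symm))
      have h8 := hcomm l hl (fun y hy => by
        have := (hW.commute_pow_iff hL 1 ⟨l, hl⟩ ⟨y, hy⟩).1
          (Subtype.ext (by simpa using (h7 y).symm))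
        rw [pow_one] at this
        have h9 : ⁅l, y⁆ ^ p = 1 := congrArg Subtype.val this
        rw [← commutatorElement_inv, inv_pow, h9, inv_one]) x hxR
      exact hx (by rw [mul_assoc, hbx, ← mul_assoc, ← h8, mul_assoc])
    have hom : ¬ ∀ g ∈ omegaOne p (⊤ : Subgroup G), g ^ p = 1 := fun h => by
      have h5 := claim _ inferInstance h
      have h6 : R = omegaOne p ⊤ := eq_of_le_of_card_ge (PG.omegaOne_mono le_top) (hRc ▸ h5)
      exact hαL ((hR' α).1 (h6 ▸ PG.mem_omegaOne (mem_top α) hα)).1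
    have h3 : p = 3 := by
      by_contra h3
      have h5 := hp.out.two_le
      refine hom (FT.exponent_Ohm1_rank2 (hG.to_subgroup ⊤) (PRankLE.top_iff.2
        ((PG.pRankLE_two_iff_of_odd h2 hG).2 ?_)) (by omega))
      rintro ⟨A, hA, hA1, hA2⟩
      have := claim A hA hA1.2
      rw [hA2, Nat.pow_le_pow_iff_right hp.out.one_lt] at this
      omega
    subst h3
    rcases R2.H3.metacyclic_or_maxClass (m + 1) G hGc claim with h | ⟨k, hk, h⟩
    · refine absurd (S0638.result h2 hG h fun hc => hx (mul_comm' _ _)).1.2 hom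
    · exact ⟨rfl, by omega⟩
  · rintro ⟨-, hcl⟩
    by_contra hx
    rw [hm, Nat.pow_dvd_pow_iff_le_right hp.out.one_lt] at h4
    obtain ⟨n, rfl⟩ : ∃ n, m = n + 2 := ⟨m - 2, by omega⟩
    have hZ : Nat.card (center G) = p := by
      rw [← MxC.γ_last_eq_center hGc hcl, MxC.card_γ hGc hcl (by omega) (by omega)]
      simp
    have hRp : Nat.card R ≠ p := by
      rw [hRc, pow_two]
      exact (lt_mul_self hp.out.one_lt).ne'
    have hLR : ¬ ∀ l ∈ L, ∀ y ∈ L, ⁅y, l⁆ ^ p = 1 := fun h => by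
      have h5 : centralizer (R : Set G) = ⊤ := hco.2 _ (lt_of_le_of_ne
        (fun l hl x hx => hcomm l hl (h l hl) x hx) fun e => hαL (e ▸ fun x hxR => by
          by_contra h6
          exact hx ⟨x, ((hR' x).1 hxR).1, ((hR' x).1 hxR).2, fun e => h6 e.symm⟩))
      have h6 := card_le_of_le (centralizer_eq_top_iff_subset.1 h5 : R ≤ center G)
      rw [hZ, hRc, pow_two] at h6
      exact (lt_mul_self hp.out.one_lt).not_ge h6
    have hD : ∀ k, p ^ k = p ∨ k = 0 → Nat.card ↥⁅L, L⁆ ≠ p ^ k := fun k hk e =>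
      hLR fun l hl y hy => by
        have h5 := orderOf_dvd_natCard _ (commutator_mem_commutator hy hl)
        rw [e] at h5
        refine orderOf_dvd_iff_pow_eq_one.1 (h5.trans ?_)
        rcases hk with hk | rfl
        · exact hk.dvd
        · simp
    have h5 := S3865.γ_le hGc hcl ⁅L, L⁆ (fun e => hD 0 (Or.inr rfl) (by rw [e]; simp))
      (fun e => hD 1 (Or.inl (pow_one p)) (by rw [e, pow_one])) (by omega)
    have h6 := S3865.γ_le hGc hcl R (fun e => by
      rw [e, card_bot] at hRc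
      exact (Nat.one_lt_pow two_ne_zero hp.out.one_lt).ne hRc) hRp (by omega)
    have h7 := eq_of_le_of_card_ge h6 (by
      rw [MxC.card_γ hGc hcl (by omega) (by omega), hRc]; simp)
    have h8 := FT.b4_isCyclic_der_of_metacyclic hmc
    have h9 := hR.isCyclic_iff.1 (isCyclic_of_le (h7 ▸ h5))
    rw [hRc, pow_two] at h9
    exact (lt_mul_self hp.out.one_lt).not_ge h9

/-- Let p be an odd prime and L a finite metacyclic p-group with no cyclic subgroup of index p, and let a be an automorphism of L of order p. Then a moves some element of order p of L if and only if p = 3 and the semidirect product L ⋊ ⟨a⟩ (of order 3·#L) has maximal class, i.e. nilpotency class m where #L = 3^m. -/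
theorem result {L : Type*} [Group L] [Finite L] {p : ℕ} [Fact p.Prime]
    (hp : p ≠ 2) (hL : IsPGroup p L) (hmc : Cfsg.IsMetacyclic L) (hnc : ∀ C : Subgroup L, IsCyclic C → C.index ≠ p)
    (a : MulAut L) (ha : orderOf a = p) (m : ℕ) (hm : Nat.card L = p ^ m) :
    (∃ x : L, orderOf x = p ∧ a x ≠ x) ↔
    (p = 3 ∧ Group.nilpotencyClass (SemidirectProduct L ↥(Subgroup.zpowers a) (Subgroup.zpowers a).subtype) = m) := by
  have hp' : p.Prime := Fact.out
  set G := SemidirectProduct L ↥(Subgroup.zpowers a) (Subgroup.zpowers a).subtype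
  have hA : Nat.card (zpowers a) = p := by rw [Nat.card_zpowers, ha]
  have : Finite G := Finite.of_equiv _ SemidirectProduct.equivProd.symm
  have hG : IsPGroup p G := IsPGroup.of_card (n := m + 1) (by
    rw [SemidirectProduct.card, hm, hA, pow_succ])
  have ha1 : a ≠ 1 := fun e => by rw [e, orderOf_one] at ha; exact hp'.one_lt.ne ha
  have : Nontrivial L := by
    by_contra h
    rw [not_nontrivial_iff_subsingleton] at h
    exact ha1 (MulEquiv.ext fun x => Subsingleton.elim _ _)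
  let ι : L →* G := SemidirectProduct.inl
  let e : L ≃* ι.range := MonoidHom.ofInjective SemidirectProduct.inl_injective
  have : ι.range.Normal := by
    rw [SemidirectProduct.range_inl_eq_ker_rightHom]; infer_instance
  have : Nontrivial ι.range := e.injective.nontrivial
  let α : G := SemidirectProduct.inr ⟨a, mem_zpowers a⟩
  have hconj : ∀ x : L, ι (a x) = α * ι x * α⁻¹ := fun x => by
    rw [← map_inv]; exact SemidirectProduct.inl_aut (⟨a, mem_zpowers a⟩ : zpowers a) x
  rw [← main hp hG ι.range (by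
      rw [SemidirectProduct.range_inl_eq_ker_rightHom, index_ker,
        MonoidHom.range_eq_top_of_surjective _ SemidirectProduct.rightHom_surjective, card_top, hA])
    ((FT.b4_metacyclic_congr e) hmc) (fun C hC hi => hnc (C.map (e.symm : ι.range →* L))
      (isCyclic_of_surjective _ (e.symm.subgroupMap C).surjective)
      (by rw [index_map_equiv, hi])) (α := α) (by
      rw [← map_pow, show (⟨a, mem_zpowers a⟩ : zpowers a) ^ p = 1 from
        Subtype.ext (ha ▸ pow_orderOf_eq_one a), map_one]) (by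
      rw [SemidirectProduct.range_inl_eq_ker_rightHom]
      exact fun h => ha1 (congrArg Subtype.val h)) (m := m) (by rw [← Nat.card_congr e.toEquiv, hm])]
  constructor
  · rintro ⟨x, hx, hax⟩
    refine ⟨ι x, ⟨x, rfl⟩, by rw [← map_pow, ← hx, pow_orderOf_eq_one, map_one], fun h => hax ?_⟩
    apply SemidirectProduct.inl_injective (φ := (zpowers a).subtype)
    change ι (a x) = ι x
    rw [hconj, h, mul_inv_cancel_right]
  · rintro ⟨_, ⟨x, rfl⟩, hx, hax⟩
    have h1 : a x ≠ x := fun h => hax (by rw [← mul_inv_eq_iff_eq_mul, ← hconj, h])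
    refine ⟨x, orderOf_eq_prime ?_ (by rintro rfl; exact h1 (map_one a)), h1⟩
    apply SemidirectProduct.inl_injective (φ := (zpowers a).subtype)
    rw [map_pow, map_one]
    exact hx

end Cfsg.Agent.S4079
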