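import Mathlib
import Cfsg.Statements.S4083
import Cfsg.Agent.FG.H93PBy
import Cfsg.Agent.Cl.PSL2Norm
import Cfsg.Agent.Cl.PSL2Small
import Cfsg.Agent.Inv.SmallTwo
import Cfsg.Agent.Inv.TwoAut
import Cfsg.Agent.Ch.BSWDih

set_option autoImplicit false
open Cfsg

namespace Cfsg.Agent.S4083

open Cfsg.Agent.FG Cfsg.Agent.GT Subgroup
open scoped commutatorElement Pointwise

theorem sub_dihedral {X : Type*} [Group X] {m : ℕ} (f : X →* DihedralGroup m) [NeZero m]
    (hf : Function.Injective f) (hc : ¬ IsCyclic X) : ∃ k, Nonempty (X ≃* DihedralGroup k) := by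
  set T := (zpowers (DihedralGroup.r (1 : ZMod m))).comap f with hT
  have h1 : ∀ x, x ∈ T ↔ ∃ i, f x = DihedralGroup.r i := fun x => by
    refine ⟨fun ⟨i, hi⟩ => ⟨i, by rw [← hi]; simp⟩, fun ⟨i, hi⟩ => ?_⟩
    rw [hT, mem_comap, hi]
    exact ⟨i.val, by simp⟩
  have h2 : ∀ x, x ∉ T → ∃ i, f x = DihedralGroup.sr i := fun x hx => by
    rcases h : f x with i | i
    · exact absurd ((h1 x).mpr ⟨i, h⟩) hx
    · exact ⟨i, rfl⟩
  have h3 : IsCyclic T := isCyclic_of_injective
    (f.subgroupComap (zpowers (DihedralGroup.r (1 : ZMod m)))) fun x y h =>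
      Subtype.ext (hf (congrArg Subtype.val h))
  obtain ⟨e⟩ := Cl.L2.nonempty_dihedral_of_inverting (T := T) (H := ⊤) (by rwa [top_inf_eq])
    (fun h => hc (by
      rw [top_le_iff.mp h] at h3
      exact isCyclic_of_surjective _ topEquiv.surjective))
    (fun n _ hn h hh => hf (by
      obtain ⟨i, hi⟩ := h2 n hn
      obtain ⟨j, hj⟩ := (h1 h).mp hh
      simp [hi, hj]))
    (fun n _ hn => hf (by
      obtain ⟨i, hi⟩ := h2 n hn
      simp [hi]))
    (fun n _ k _ hn hk => by
      obtain ⟨i, hi⟩ := h2 n hn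
      obtain ⟨j, hj⟩ := h2 k hk
      exact (h1 _).mpr ⟨j - i, by simp [hi, hj]⟩)
  exact ⟨_, ⟨topEquiv.symm.trans e⟩⟩

theorem aux {X : Type*} [Group X] [Finite X] (S : Sylow 2 X) [(S : Subgroup X).Normal] {n : ℕ}
    (e : S ≃* DihedralGroup (2 ^ (n + 1)))
    (hK : ∀ K : Subgroup X, Nat.card K = 4 → (∀ k ∈ K, k ^ 2 = 1) → centralizer (K : Set X) ≤ K) :
    Nonempty (X ≃* DihedralGroup (2 ^ (n + 1))) ∨ Nonempty (X ≃* alternatingGroup (Fin 4)) := by
  by_cases hS : (S : Subgroup X) = ⊤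
  · exact Or.inl ⟨((MulEquiv.subgroupCongr hS).trans topEquiv).symm.trans e⟩
  right
  obtain ⟨a, b, ha, hi, hb, hab, hb2⟩ := PG.exists_generators_of_dihedral e
  have hz : orderOf (a ^ 2 ^ n) = 2 := by
    rw [PG.orderOf_pow_prime_pow two_pos ha n.le_succ]; simp
  obtain ⟨e2⟩ := Inv.nonempty_closure_equiv_dihedral (c := a ^ 2 ^ n) (t := b) (by rwa [← pow_two])
    (by rw [← conj_pow, hab, inv_pow]) (fun h => hb (zpowers_le.mpr (pow_mem (mem_zpowers a) _) h)) hz
  set K := (closure {a ^ 2 ^ n, b}).map (S : Subgroup X).subtype with hKd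
  have hKS : K ≤ S := map_subtype_le _
  have hK4 : Nat.card K = 4 := by
    rw [card_map_of_injective (subtype_injective _), Nat.card_congr e2.toEquiv, DihedralGroup.nat_card]
  have hC : centralizer ((S : Subgroup X) : Set X) ≤ S :=
    (centralizer_le hKS).trans ((hK K hK4 (by
      rintro _ ⟨k, hk, rfl⟩
      have h1 : (⟨k, hk⟩ : closure {a ^ 2 ^ n, b}) ^ 2 = 1 := e2.injective (by
        rw [map_pow, map_one]
        exact (by decide : ∀ x : DihedralGroup 2, x ^ 2 = 1) _)
      rw [← map_pow, show k ^ 2 = 1 from congrArg Subtype.val h1, map_one])).trans hKS)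
  have h1 : (S : Subgroup X).index ∣ Nat.card (MulAut S) := by
    have h2 := card_subgroup_dvd_card (MulAut.conjNormal (H := (S : Subgroup X))).range
    rw [← index_ker] at h2
    refine (index_dvd_of_le fun x hx => hC fun y hy => ?_).trans h2
    have := congrArg Subtype.val (DFunLike.congr_fun (MonoidHom.mem_ker.mp hx) ⟨y, hy⟩)
    exact (mul_inv_eq_iff_eq_mul.mp this).symm
  have h2 : (S : Subgroup X).index ≠ 1 := fun h => hS (index_eq_one.mp h)
  have h3 := S.not_dvd_index
  rcases n with _ | n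
  · have hS4 : Nat.card S = 4 := by rw [Nat.card_congr e.toEquiv, DihedralGroup.nat_card]; rfl
    have h4 := h1.trans (card_dvd_of_injective (MulAction.toPermHom (MulAut S) S)
      MulAction.toPerm_injective)
    rw [Nat.card_perm, hS4, show Nat.factorial 4 = 2 ^ 3 * 3 from rfl] at h4
    have h5 := ((Nat.dvd_prime Nat.prime_three).mp ((Nat.Coprime.pow_right 3
      ((Nat.Prime.coprime_iff_not_dvd Nat.prime_two).mpr h3).symm).dvd_of_dvd_mul_left h4)).resolve_left h2
    have h6 : Nat.card X = 12 := by rw [← (S : Subgroup X).card_mul_index, hS4, h5]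
    obtain ⟨x, hx⟩ := exists_prime_orderOf_dvd_card' (G := X) 3 (by rw [h6]; norm_num)
    refine Cl.L2.nonempty_alt_four h6 (P := zpowers x) (by rw [Nat.card_zpowers, hx]) fun hn => ?_
    have h7 : Disjoint (S : Subgroup X) (zpowers x) :=
      disjoint_of_coprime_natCard (by rw [Nat.card_zpowers, hx, hS4]; norm_num)
    have h8 := disjoint_def.mp h7 (hC fun y hy =>
      commute_of_normal_of_disjoint _ _ inferInstance hn h7 y x hy (mem_zpowers x)) (mem_zpowers x)
    rw [h8, orderOf_one] at hx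
    norm_num at hx
  · obtain ⟨k, hk⟩ := IsPGroup.iff_card.mp (Inv.Fz.isPGroup_mulAut_of_zpowers S.isPGroup' hi.dvd
      fun ψ _ => by
        by_contra h4
        have h5 := Ch.BSW.dihedral_outside e (by
          calc 2 ≤ 2 ^ 1 := le_rfl
            _ ≤ _ := Nat.pow_le_pow_right two_pos (by omega)) inferInstance hi h4
        rw [← map_mul, map_eq_one_iff _ ψ.injective, ← pow_two, ← orderOf_dvd_iff_pow_eq_one, ha,
          pow_succ, pow_succ] at h5
        have := Nat.le_of_dvd two_pos h5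
        have := Nat.one_le_two_pow (n := n)
        omega)
    rw [hk] at h1
    obtain ⟨j, -, hj⟩ := (Nat.dvd_prime_pow Nat.prime_two).mp h1
    rcases j with _ | j
    · exact absurd hj h2
    · exact absurd (hj ▸ dvd_pow_self 2 j.succ_ne_zero) h3

/-- Let G be a finite group with Sylow 2-subgroup P. Every subgroup H of G whose Sylow 2-subgroup is normal in H with cyclic quotient is cyclic, dihedral of 2-power order, or isomorphic to the alternating group of degree 4, if and only if either P is cyclic, or P is dihedral (of order at least 4) and every elementary abelian subgroup K of order 4 of P satisfies C_G(K) = K. -/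
theorem result {G : Type*} [Group G] [Finite G] (P : Sylow 2 G) :
    (∀ H : Subgroup G, (∀ S : Sylow 2 ↥H, (S : Subgroup ↥H).Normal) →
        (∀ (S : Sylow 2 ↥H) [(S : Subgroup ↥H).Normal], IsCyclic (↥H ⧸ (S : Subgroup ↥H))) →
        IsCyclic H ∨ (∃ n : ℕ, Nonempty (H ≃* DihedralGroup (2 ^ n))) ∨ Nonempty (H ≃* alternatingGroup (Fin 4))) ↔
    (IsCyclic P ∨
      ((∃ n : ℕ, 1 ≤ n ∧ Nonempty ((P : Subgroup G) ≃* DihedralGroup (2 ^ n))) ∧
        ∀ K : Subgroup G, K ≤ P → Nat.card K = 4 → (∀ k ∈ K, k ^ 2 = 1) → Subgroup.centralizer (K : Set G) = K)) := by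
  refine ⟨fun h => or_iff_not_imp_left.mpr fun hP => ⟨?_, fun K hKP hK hK2 => ?_⟩,
    fun h H h1 h2 => ?_⟩
  · have h1 := H93.pby_sup P.isPGroup' (x := 1) (one_mem _)
    rw [zpowers_one_eq_bot, sup_bot_eq] at h1
    rcases (h P h1.1 h1.2).resolve_left hP with ⟨n, ⟨e⟩⟩ | ⟨⟨e⟩⟩
    · refine ⟨n, Nat.pos_of_ne_zero ?_, ⟨e⟩⟩
      rintro rfl
      exact hP (isCyclic_of_prime_card (p := 2)
        (by rw [Nat.card_congr e.toEquiv, DihedralGroup.nat_card]; rfl))
    · have := (isPGroup_iff_isPiNum Nat.prime_two).mp P.isPGroup' 3 Nat.prime_three (by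
        rw [Nat.card_congr e.toEquiv, nat_card_alternatingGroup]; simp [Nat.factorial])
      simp at this
  · have hKC : K ≤ centralizer (K : Set G) := fun x hx y hy => by
      have h1 := hK2 _ (mul_mem hy hx)
      rw [pow_two, mul_eq_one_iff_eq_inv, mul_inv_rev, inv_eq_of_mul_eq_one_right
        (pow_two x ▸ hK2 x hx), inv_eq_of_mul_eq_one_right (pow_two y ▸ hK2 y hy)] at h1
      exact h1
    refine le_antisymm (fun x hx => ?_) hKC
    have h1 := H93.pby_sup (P.isPGroup'.to_le hKP) (PG.centralizer_le_normalizer' _ hx)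
    have hc : IsMulCommutative ↥(K ⊔ zpowers x) := PG.isMulCommutative_iff_le_centralizer.mpr (by
      exact sup_le (le_centralizer_iff.mp (sup_le hKC (zpowers_le.mpr hx))) (le_centralizer_iff.mp
        (sup_le (le_centralizer_iff.mp (zpowers_le.mpr hx))
          (PG.isMulCommutative_iff_le_centralizer.mp inferInstance))))
    rcases h _ h1.1 h1.2 with h3 | ⟨n, ⟨e⟩⟩ | ⟨⟨e⟩⟩
    · obtain ⟨a, ha⟩ := (Subgroup.isCyclic_iff_exists_zpowers_eq_top K).mp
        (Subgroup.isCyclic_of_le (le_sup_left : K ≤ K ⊔ zpowers x))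
      have h4 := orderOf_dvd_of_pow_eq_one (hK2 a (ha ▸ mem_zpowers a))
      rw [← Nat.card_zpowers, ha, hK] at h4
      norm_num at h4
    · obtain ⟨a, b, ha, hi, -, hab, -⟩ := PG.exists_generators_of_dihedral e
      rw [hc.is_comm.comm b a, mul_inv_cancel_right, eq_inv_iff_mul_eq_one, ← pow_two,
        ← orderOf_dvd_iff_pow_eq_one] at hab
      have h4 := (zpowers a).card_mul_index
      have h5 := Nat.le_of_dvd two_pos hab
      rw [Nat.card_zpowers, hi] at h4
      rw [PG.eq_of_le_of_card_le (le_sup_left : K ≤ K ⊔ zpowers x) (by omega)]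
      exact mem_sup_right (mem_zpowers x)
    · exfalso
      have h4 : ∀ a b : alternatingGroup (Fin 4), a * b = b * a := fun a b => e.symm.injective (by
        rw [map_mul, map_mul, hc.is_comm.comm])
      revert h4
      decide
  obtain ⟨S⟩ : Nonempty (Sylow 2 H) := inferInstance
  have := h1 S
  have := h2 S
  by_cases hS : IsCyclic S
  · exact Or.inl (H93.isCyclic_of_npc (Tr.hasNormalPComplement_two_of_isCyclic S hS) S)
  rcases h with h | ⟨⟨n, hn, ⟨e⟩⟩, h⟩
  · exact absurd (H93.isCyclic_sylow_subgroup P S) hS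
  have hcj : ∀ Q : Subgroup G, IsPGroup 2 Q → ∃ g : G, MulAut.conj g • Q ≤ P := fun Q hQ => by
    obtain ⟨g, -, hg⟩ := HT.exists_conj_le_of_isPGroup (L := ⊤) le_top hQ P.isPGroup'
      (by rw [relIndex_top_right]; exact P.not_dvd_index)
    exact ⟨g, hg⟩
  obtain ⟨g, hg⟩ := hcj _ (S.isPGroup'.map H.subtype)
  obtain ⟨k, ⟨e1⟩⟩ := sub_dihedral (e.toMonoidHom.comp (((MulAut.conj g).toMonoidHom.comp
    (H.subtype.comp (S : Subgroup H).subtype)).codRestrict (P : Subgroup G)
      fun x => hg (HT.conj_mem_conj_smul g ⟨x, x.2, rfl⟩)))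
    (e.injective.comp fun x y hxy => Subtype.ext (Subtype.ext
      ((MulAut.conj g).injective (congrArg Subtype.val hxy)))) hS
  have hk := (Nat.card_congr e1.toEquiv).trans DihedralGroup.nat_card
  obtain ⟨t, rfl⟩ := Inv.Fz.exists_eq_two_pow_of_dihedral S.isPGroup' (by
    have h3 : 0 < Nat.card S := Nat.card_pos
    have h4 : k ≠ 1 := by
      rintro rfl
      exact hS (isCyclic_of_prime_card (p := 2) hk)
    omega) e1
  refine Or.inr ((aux S e1 fun K hK hK2 x hx => ?_).imp_left fun h => ⟨_, h⟩)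
  have hK' : Nat.card (K.map H.subtype) = 4 := by rwa [card_map_of_injective H.subtype_injective]
  obtain ⟨w, hw⟩ := hcj (K.map H.subtype) (IsPGroup.of_card (n := 2) hK')
  have h3 := (h _ hw (by rw [HT.card_conj_smul, hK']) fun y hy => by
    obtain ⟨z, hz, hz'⟩ := HT.mem_conj_smul.mp hy
    have h3 : (w⁻¹ * y * w) ^ 2 = 1 := by rw [← hz', ← map_pow, hK2 z hz, map_one]
    calc _ = w * (w⁻¹ * y * w) ^ 2 * w⁻¹ := by simp only [pow_two]; group
      _ = 1 := by rw [h3]; group).le (x := w * x * w⁻¹) fun y hy => by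
    obtain ⟨z, hz, hz'⟩ := HT.mem_conj_smul.mp hy
    have h3 : (z : G) * x = x * z := congrArg Subtype.val (hx z hz)
    calc _ = w * (w⁻¹ * y * w * x) * w⁻¹ := by group
      _ = _ := by rw [← hz', coe_subtype, h3, ← coe_subtype H, hz']; group
  obtain ⟨z, hz, hz'⟩ := HT.mem_conj_smul.mp h3
  rwa [show x = z from Subtype.ext (by rw [← coe_subtype H, hz']; simp [mul_assoc])]

end Cfsg.Agent.S4083
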