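import Mathlib
import Cfsg.Statements.S4113
import Cfsg.Agent.GT.Conj
import Cfsg.Agent.GT.FrobeniusBasic
import Cfsg.Agent.FG.ClassIdx
-- import your own Cfsg.Agent.* helpers here

set_option autoImplicit false
open Cfsg

namespace Cfsg.Agent.S4113

open Subgroup Cfsg.Agent.FG.CI


/-- Let G be a finite group, M ≤ N non-trivial proper normal subgroups, and H a subgroup with HM = G and H ∩ M = 1. Then every element of G outside N acts fixed-point-freely on M (C_G(x) ≤ N for every x ∈ M, x ≠ 1) if and only if H ∩ gHg⁻¹ ≤ H ∩ N for every g outside H, with H proper and non-trivial and H ∩ N proper in H. -/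
theorem result {G : Type*} [Group G] [Finite G] (N M : Subgroup G) [N.Normal] [M.Normal] (hMN : M ≤ N) (hM1 : M ≠ ⊥) (hN2 : N ≠ ⊤)
    (H : Subgroup G) (hHM : H ⊔ M = ⊤) (hHM' : H ⊓ M = ⊥) :
    (∀ x ∈ M, x ≠ 1 → Subgroup.centralizer ({x} : Set G) ≤ N) ↔
      (H ≠ ⊥ ∧ H ≠ ⊤ ∧ H ⊓ N < H ∧ ∀ g : G, g ∉ H → H ⊓ H.map (MulAut.conj g).toMonoidHom ≤ N) := by
  have hdec : ∀ g : G, ∃ m ∈ M, ∃ h ∈ H, m * h = g := by
    intro g
    have : g ∈ ((M ⊔ H : Subgroup G) : Set G) := by rw [sup_comm, hHM]; trivial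
    rw [normal_mul] at this
    exact this
  have hone : ∀ x, x ∈ H → x ∈ M → x = 1 := fun x h1 h2 => by
    rw [← mem_bot, ← hHM']; exact ⟨h1, h2⟩
  constructor
  · intro h
    have h1 : ¬ H ≤ N := fun h2 => hN2 (by rw [eq_top_iff, ← hHM]; exact sup_le h2 hMN)
    refine ⟨fun h2 => h1 (h2 ▸ bot_le), fun h2 => hM1 ?_, ?_, ?_⟩
    · rwa [h2, top_inf_eq] at hHM'
    · exact lt_of_le_of_ne inf_le_left fun h2 => h1 (inf_eq_left.1 h2)
    · rintro g hg x ⟨hx1, hx2⟩
      obtain ⟨m, hm, k, hk, rfl⟩ := hdec g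
      have hx3 : m⁻¹ * x * m ∈ H := by
        have h3 : (m * k)⁻¹ * x * (m * k) ∈ H := GT.mem_map_conj.1 hx2
        have := H.mul_mem (H.mul_mem hk h3) (H.inv_mem hk)
        simpa [mul_assoc] using this
      have h4 := hone (x⁻¹ * (m⁻¹ * x * m)) (H.mul_mem (H.inv_mem hx1) hx3) (by
        have := M.mul_mem (Normal.conj_mem' inferInstance _ (M.inv_mem hm) x) hm
        simpa [mul_assoc] using this)
      refine h m hm (fun h5 => hg (by simpa [h5] using hk)) (mem_cent.2 ?_)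
      calc x * m = m * x * (x⁻¹ * (m⁻¹ * x * m)) := by group
        _ = m * x := by rw [h4, mul_one]
  · rintro ⟨-, -, -, h⟩ x hx hx1 g hg
    by_contra hgN
    have hfpf : ∀ k ∈ H, k ∉ N → M ⊓ centralizer {k} = ⊥ := by
      intro k hk hkN
      rw [eq_bot_iff]
      rintro m ⟨hm, hmc⟩
      by_contra hm1
      refine hkN (h m (fun h2 => hm1 (hone m h2 hm)) ⟨hk, GT.mem_map_conj.2 ?_⟩)
      have : m * k = k * m := mem_cent.1 hmc
      rw [mul_assoc, ← this]; simpa using hk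
    obtain ⟨m, hm, k, hk, rfl⟩ := hdec g
    have hkN : k ∉ N := fun h2 => hgN (N.mul_mem (hMN hm) h2)
    obtain ⟨c, hc, hc2⟩ := GT.Frob.exists_conj_eq_mul_of_fpf (K := M) (a := k)
      (by rw [normalizer_eq_top]; trivial) (hfpf k hk hkN) hm
    have h3 : c⁻¹ * x * c ∈ M ⊓ centralizer {k} := by
      refine ⟨Normal.conj_mem' inferInstance _ hx c, mem_cent.2 ?_⟩
      have h4 := mem_cent.1 hg
      rw [← hc2] at h4
      calc c⁻¹ * x * c * k = c⁻¹ * (x * (c * k * c⁻¹)) * c := by group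
        _ = k * (c⁻¹ * x * c) := by rw [← h4]; group
    rw [hfpf k hk hkN, mem_bot] at h3
    apply hx1
    calc x = c * (c⁻¹ * x * c) * c⁻¹ := by group
      _ = 1 := by rw [h3]; group

end Cfsg.Agent.S4113
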