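import Mathlib
import Cfsg.Statements.S4125
import Cfsg.Agent.FG.H94Baer
import Cfsg.Agent.FG.H93Solv
import Cfsg.Agent.FG.H93Basic
import Cfsg.Agent.FG.WithFT
import Cfsg.Agent.S0143
-- import your own Cfsg.Agent.* helpers here

set_option autoImplicit false
open Cfsg

namespace Cfsg.Agent.S4125

section aux
open Subgroup Cfsg.Agent.GT Cfsg.Agent.GT.CopAct Cfsg.Agent.FG Cfsg.Agent.FG.CI
open scoped commutatorElement

universe u

theorem qsolv {q p : ℕ} [hq : Fact q.Prime] (hp : p.Prime) (G : Type u) [Group G] [Finite G]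
    (h : ∀ x : G, (∃ k : ℕ, orderOf x = q ^ k) → ∃ a, cidx x = p ^ a) : IsPSolvable q G := by
  refine H93.isPSolvable_of_simple_sections
    (P := fun G _ _ => ∀ x : G, (∃ k : ℕ, orderOf x = q ^ k) → ∃ a, cidx x = p ^ a)
    ?_ ?_ ?_ G h
  · intro G _ _ N _ h x hx
    obtain ⟨a, ha⟩ := h x (by rwa [orderOf_coe])
    obtain ⟨b, -, hb⟩ := (Nat.dvd_prime_pow hp).1 (ha ▸ cidx_coe_dvd N x)
    exact ⟨b, hb⟩
  · intro G _ _ N _ h x hx
    obtain ⟨y, rfl, hy⟩ := H93.exists_pi_lift (QuotientGroup.mk'_surjective N) {q}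
      ((isPiNum_singleton_iff hq.out (orderOf_pos x).ne').2 hx)
    obtain ⟨a, ha⟩ := h y ((isPiNum_singleton_iff hq.out (orderOf_pos y).ne').1 hy)
    obtain ⟨b, -, hb⟩ := (Nat.dvd_prime_pow hp).1 (ha ▸ cidx_mk_dvd N y)
    exact ⟨b, hb⟩
  · intro G _ _ _ h
    by_cases h1 : q ∣ Nat.card G
    · obtain ⟨x, hx⟩ := exists_prime_orderOf_dvd_card' q h1
      obtain ⟨a, ha⟩ := h x ⟨1, by rw [hx, pow_one]⟩
      exact isPSolvable_of_isSolvable (H93.isSolvable_of_prime_card (S0143.result p a hp x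
        (fun e => hq.out.one_lt.ne' (by rw [← hx, e, orderOf_one])) ha))
    · exact isPSolvable_of_not_dvd h1

theorem solv {G : Type u} [Group G] [Finite G] {q p : ℕ} [hq : Fact q.Prime] (hp : p.Prime)
    (V : Subgroup G) [V.Normal] [hV : IsMulCommutative V] (hVq : IsPGroup q V)
    (hi : ¬ q ∣ V.index) (hC : centralizer (V : Set G) ≤ V)
    (h : ∀ v ∈ V, ∃ a, cidx v = p ^ a) : Group.IsSolvable G := by
  by_cases h2 : 2 ∣ V.index
  swap
  · exact H93.isSolvable_of_normal V (isSolvable_of_isMulCommutative hV)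
      (ft_solvable_of_not_two_dvd h2)
  have hq2 : q ≠ 2 := fun e => hi (e ▸ h2)
  obtain ⟨n, hn⟩ := hVq.exists_card_eq
  have hodd : (2 : ℕ).Coprime (Nat.card V) :=
    hn ▸ ((Nat.coprime_primes Nat.prime_two hq.out).2 hq2.symm).pow_right n
  have h1 : ∀ v ∈ V, v ^ 2 = 1 → v = 1 := fun v hv h => orderOf_eq_one_iff.1
    (Nat.eq_one_of_dvd_coprimes hodd (orderOf_dvd_of_pow_eq_one h) (V.orderOf_dvd_natCard hv))
  by_cases hp2 : p = 2
  swap
  · exfalso
    obtain ⟨t, ht⟩ := exists_prime_orderOf_dvd_card' 2 (h2.trans V.index_dvd_card)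
    have ht2 : t ^ 2 = 1 := ht ▸ pow_orderOf_eq_one t
    have ht1 : t ≠ 1 := fun e => by rw [e, orderOf_one] at ht; omega
    refine ht1 (h1 t (hC fun w hw => ?_) ht2)
    have hw' : t * w * t⁻¹ ∈ V := (inferInstance : V.Normal).conj_mem w hw t
    set v := w⁻¹ * (t * w * t⁻¹) with hv
    have hvV : v ∈ V := mul_mem (inv_mem hw) hw'
    have h3 : t * v * t⁻¹ = v⁻¹ := by
      calc t * v * t⁻¹ = (t * w * t⁻¹)⁻¹ * (t ^ 2 * w * (t ^ 2)⁻¹) := by rw [hv, sq]; group
        _ = v⁻¹ := by rw [ht2, hv]; group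
    obtain ⟨a, ha⟩ := h v hvV
    have h4 := inv_eq_of_real_of_odd_cidx (x := v) (by
      rw [ha]
      exact fun e => hp2 ((Nat.prime_dvd_prime_iff_eq Nat.prime_two hp).1
        (Nat.prime_two.dvd_of_dvd_pow e)).symm) (isConj_iff.2 ⟨t, h3⟩)
    have h5 := h1 v hvV (by rw [sq]; nth_rewrite 1 [← h4]; exact inv_mul_cancel v)
    rw [hv, inv_mul_eq_one] at h5
    nth_rewrite 1 [h5]; group
  subst hp2
  by_contra hns
  obtain ⟨R, hRn, hR1, hR⟩ := Baer.exists_normal_perfect hns
  have hRp : Group.IsPerfect R := isPerfect_iff.2 hR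
  have hRV : R ≤ normalizer (V : Set G) := le_normalizer_of_normal
  let := IsMulCommutative.instCommGroup (G := V)
  set φ := conjHom hRV with hφ
  have : Group.IsPerfect φ.range := Group.IsPerfect.range φ
  have h3 := Orb2.trivial_of_perfect (A := φ.range) hq2 (by
      rw [← index_ker, hφ, conjHom_ker]
      refine ((hq.out.coprime_iff_not_dvd.2 hi).symm).coprime_dvd_left ?_
      exact (relIndex_dvd_of_le_left R (le_centralizer_iff_isMulCommutative.2 hV)).trans
        (relIndex_dvd_index_of_normal V R)) _ V φ.range.subtype rfl hVq (fun v => by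
      obtain ⟨a, ha⟩ := h v v.2
      obtain ⟨b, -, hb⟩ := (Nat.dvd_prime_pow Nat.prime_two).1 (ha ▸ relIndex_cent_dvd R (v : G))
      refine ⟨b, ?_⟩
      rw [← hb, ← index_comap_of_surjective _ φ.rangeRestrict_surjective, relIndex]
      congr 1
      ext g
      rw [mem_subgroupOf, mem_cent']
      exact Subtype.ext_iff)
  have h4 : R ≤ centralizer (V : Set G) := fun g hg w hw => by
    have := congrArg Subtype.val (h3 ⟨φ ⟨g, hg⟩, _, rfl⟩ ⟨w, hw⟩)
    exact (mul_inv_eq_iff_eq_mul.1 this).symm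
  apply hR1
  rw [← hR, CopAct.commutator_eq_bot_iff]
  exact h4.trans (GT.centralizer_anti (h4.trans hC))

theorem caseEq {G : Type u} [Group G] [Finite G] {q : ℕ} [hq : Fact q.Prime]
    (h : ∀ x : G, (∃ k : ℕ, orderOf x = q ^ k) → ∃ a, cidx x = q ^ a) (Q : Sylow q G) :
    (Q : Subgroup G).Normal ∧ ∃ N : Subgroup G, N.Normal ∧ N.IsComplement' (Q : Subgroup G) := by
  obtain ⟨h1, K, hK, -, h2, h3⟩ := H93.sylow_direct_factor Q (by
    rintro y ⟨r, b, hr, hrq, hy⟩
    have := Fact.mk hr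
    obtain ⟨R, hR⟩ := (isPGroup_zpowers ⟨b, hy⟩).exists_le_sylow
    have h1 : (centralizer ((R : Subgroup G) : Set G)).subgroupOf Q = ⊤ :=
      eq_top_of_forall_conj_mem fun w => by
        obtain ⟨u, hu, h2⟩ := Baer.exists_conj_mem_centralizer Q
          (h w (orderOf_of_mem Q.isPGroup' w.2)) hrq R
        exact ⟨⟨u, hu⟩, mem_subgroupOf.2 h2⟩
    exact le_centralizer_iff.1 (subgroupOf_eq_top.1 h1) (hR (mem_zpowers y)))
  exact ⟨h1, K, hK, isComplement'_iff_of_normal.2 ⟨by rwa [inf_comm], by rwa [sup_comm]⟩⟩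

theorem caseNe {G : Type u} [Group G] [Finite G] {q p : ℕ} [hq : Fact q.Prime] (hp : p.Prime)
    (hpq : p ≠ q) (h : ∀ x : G, (∃ k : ℕ, orderOf x = q ^ k) → ∃ a, cidx x = p ^ a)
    (Q : Sylow q G) : (pPrimeCore q G ⊔ Q).Normal ∧ IsMulCommutative (Q : Subgroup G) ∧
      (pCore p G ⊔ Q).Normal ∧ Group.IsSolvable (G ⧸ pPrimeCore q G) := by
  set O := pPrimeCore q G with hO
  have hC := ((qsolv hp G h).quotient O).centralizer_pCore_le pPrimeCore_quotient_pPrimeCore
  set V := pCore q (G ⧸ O) with hV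
  have h0 : ∀ x ∈ (Q : Subgroup G), ∃ a, cidx (x : G ⧸ O) = p ^ a := fun x hx => by
    obtain ⟨a, ha⟩ := h x (orderOf_of_mem Q.isPGroup' hx)
    obtain ⟨b, -, hb⟩ := (Nat.dvd_prime_pow hp).1 (ha ▸ cidx_mk_dvd O x)
    exact ⟨b, hb⟩
  have h1 : (Q : Subgroup G).map (QuotientGroup.mk' O) ≤ centralizer (V : Set (G ⧸ O)) := by
    rintro _ ⟨x, hx, rfl⟩
    obtain ⟨a, ha⟩ := h0 x hx
    obtain ⟨S, hS⟩ := (not_dvd_index_iff (p := q) (centralizer {(x : G ⧸ O)})).1 (by
      rw [← cidx, ha]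
      exact fun e => hpq ((Nat.prime_dvd_prime_iff_eq hq.out hp).1 (hq.out.dvd_of_dvd_pow e)).symm)
    exact le_cent_iff.1 ((pCore_le_sylow S).trans hS)
  have h2 : (Q : Subgroup G).map (QuotientGroup.mk' O) = V :=
    le_antisymm (h1.trans hC) (pCore_le_sylow (Q.mapSurjective (QuotientGroup.mk'_surjective O)))
  have hVc : IsMulCommutative V := le_centralizer_iff_isMulCommutative.1 (h2.ge.trans h1)
  have h3 : (O ⊔ Q).Normal := by
    rw [sup_comm, ← comap_map_mk', h2]; infer_instance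
  have hOQ : O ⊓ Q = ⊥ := pPrimeCore_inf_eq_bot Q.isPGroup'
  refine ⟨h3, ?_, ?_, solv hp V (isPGroup_pCore q) ?_ hC ?_⟩
  · refine le_centralizer_iff_isMulCommutative.1 (CopAct.commutator_eq_bot_iff.1 (eq_bot_iff.2 ?_))
    rw [← hOQ]
    exact le_inf ((commutator_le_iff_map_mk').2 (by
      rw [h2]; exact CopAct.commutator_eq_bot_iff.2 (h2.ge.trans h1))) (commutator_le_self _)
  · have := Fact.mk hp
    have h4 := Sylow.normalizer_sup_eq_top' Q (N := O ⊔ Q) le_sup_right
    have h5 : O ⊔ normalizer ((Q : Subgroup G) : Set G) = ⊤ := by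
      rw [eq_top_iff, ← h4]
      exact sup_le le_sup_right (sup_le le_sup_left (le_sup_of_le_right le_normalizer))
    refine normal_of_sup_eq_top h5 (fun o ho => mem_normalizer_of_map_conj_le ?_)
      (CopAct.le_normalizer_sup le_normalizer_of_normal le_rfl)
    rw [Subgroup.map_sup]
    refine sup_le (le_sup_of_le_left (map_conj_le_of_normal le_rfl o))
      (map_conj_le_iff_forall.2 fun x hx => ?_)
    obtain ⟨a, ha⟩ := h x (orderOf_of_mem Q.isPGroup' hx)
    obtain ⟨b, -, hb⟩ := (Nat.dvd_prime_pow hp).1 (ha ▸ relIndex_cent_dvd O x)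
    have h6 := isPGroup_commutator_of_relIndex (A := zpowers x) (K := O) le_normalizer_of_normal
      (coprime_card_of_isPGroup hq.out (Q.isPGroup'.to_le (zpowers_le.2 hx))
        (coprime_card_pPrimeCore q)) (Or.inl (isSolvable_zpowers x)) (p := p) (n := b)
      (by rw [inf_relIndex_left, GT.centralizer_zpowers, hb])
    have h7 : ⁅O, zpowers x⁆ ≤ pCore p G :=
      (le_pCoreOf (commutator_le_left _ _) (normalizer_commutator_ge_left _ _) h6).trans
        (pCoreOf_le_pCore O)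
    rw [show o * x * o⁻¹ = ⁅o, x⁆ * x by rw [commutatorElement_def]; group]
    exact mul_mem (mem_sup_left (h7 (commutator_mem_commutator ho (mem_zpowers x))))
      (mem_sup_right hx)
  · rw [← h2]
    exact fun e => Q.not_dvd_index (e.trans (index_map_dvd _ (QuotientGroup.mk'_surjective O)))
  · rw [← h2]
    rintro _ ⟨x, hx, rfl⟩
    exact h0 x hx

end aux

/-- Let G be a finite group and q a prime dividing its order such that every element of q-power order has a conjugacy class of prime-power size. Then G is q-solvable of q-length 1: there are normal subgroups K ≤ L of G with K of order prime to q, L/K a q-group and L of index prime to q. Moreover there is a prime p such that every element of q-power order has a class of p-power size (one prime serving for all of them), and for a Sylow q-subgroup Q: if p = q then Q is normal with a normal complement (a direct factor), while if p ≠ q then Q is abelian, the product of Q with the largest normal p-subgroup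 O_p(G) is normal in G, and G/O_{q'}(G) is solvable, where O_{q'}(G) is the largest normal subgroup of order prime to q. -/
theorem result {G : Type*} [Group G] [Finite G] (q : ℕ) [Fact q.Prime] (hq : q ∣ Nat.card G)
    (hBaer : ∀ x : G, (∃ k : ℕ, orderOf x = q ^ k) → ∃ (r : ℕ) (a : ℕ), r.Prime ∧ (Subgroup.centralizer ({x} : Set G)).index = r ^ a) (Q : Sylow q G) :
    (∃ K L : Subgroup G, K.Normal ∧ L.Normal ∧ K ≤ L ∧ (Nat.card K).Coprime q ∧ (∃ m : ℕ, K.relIndex L = q ^ m) ∧ L.index.Coprime q) ∧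
    ∃ p : ℕ, p.Prime ∧ (∀ x : G, (∃ k : ℕ, orderOf x = q ^ k) → ∃ a : ℕ, (Subgroup.centralizer ({x} : Set G)).index = p ^ a) ∧
      (p = q → (Q : Subgroup G).Normal ∧ ∃ N : Subgroup G, N.Normal ∧ N.IsComplement' (Q : Subgroup G)) ∧
      (p ≠ q → IsMulCommutative (Q : Subgroup G) ∧ (Cfsg.pCore p G ⊔ (Q : Subgroup G)).Normal ∧
        ∀ _h : (Cfsg.pPrimeCore q G).Normal, Group.IsSolvable (G ⧸ Cfsg.pPrimeCore q G)) := by
  obtain ⟨p, hp, h⟩ := FG.Baer.exists_prime hBaer
  refine ⟨?_, p, hp, h, fun e => caseEq (e ▸ h) Q, fun e => ?_⟩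
  · obtain ⟨m, hm⟩ := Q.isPGroup'.exists_card_eq
    by_cases e : p = q
    · obtain ⟨-, N, hN, hc⟩ := caseEq (e ▸ h) Q
      refine ⟨N, ⊤, hN, inferInstance, le_top, ?_, ⟨m, ?_⟩, by simp⟩
      · rw [← hc.index_eq_card]
        exact ((Fact.out : q.Prime).coprime_iff_not_dvd.2 Q.not_dvd_index).symm
      · rw [Subgroup.relIndex_top_right, hc.symm.index_eq_card, hm]
    · refine ⟨_, _, inferInstance, (caseNe hp e h Q).1, le_sup_left,
        GT.coprime_card_pPrimeCore q, ?_, ?_⟩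
      · rw [Subgroup.relIndex_sup_left]
        obtain ⟨k, -, hk⟩ := (Nat.dvd_prime_pow (Fact.out : q.Prime)).1
          (hm ▸ Subgroup.relIndex_dvd_card (pPrimeCore q G) (Q : Subgroup G))
        exact ⟨k, hk⟩
      · exact (((Fact.out : q.Prime).coprime_iff_not_dvd.2 Q.not_dvd_index).symm).coprime_dvd_left
          (Subgroup.index_dvd_of_le le_sup_right)
  · obtain ⟨-, h1, h2, h3⟩ := caseNe hp e h Q
    exact ⟨h1, h2, fun _ => h3⟩

end Cfsg.Agent.S4125
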