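import Mathlib
import Cfsg.Statements.S4365
import Cfsg.Agent.GT.PGroupCyclicMax
import Cfsg.Agent.GT.PGroupIso
import Cfsg.Agent.GT.PGroupChain
import Cfsg.Agent.GT.Conj

set_option autoImplicit false
open Cfsg

namespace Cfsg.Agent.S4365

section pre
open Subgroup _root_.Cfsg.Agent.GT GT.PG
open scoped commutatorElement

theorem comm_pow {P : Type*} [Group P] {y g : P} (h : ⁅y, g⁆ ∈ center P) (n : ℕ) :
    ⁅y ^ n, g⁆ = ⁅y, g ^ n⁆ := by
  rw [commutator_pow_left_of_commute (commute_of_mem_center h y),
    commutator_pow_right_of_commute (commute_of_mem_center h g)]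

theorem main {P : Type*} [Group P] [Finite P] {p : ℕ} [Fact p.Prime] (hP : IsPGroup p P) {q : ℕ}
    (hq : ∀ x : P, x ∉ center P → (centralizer ({x} : Set P)).index = q) (x : P) :
    x ^ p ∈ center P := by
  by_contra hx
  have := hP.isNilpotent
  have hx1 : x ∉ center P := fun h => hx (pow_mem h p)
  have heq : ∀ a b : P, a ∉ center P → b ∉ center P → centralizer ({a} : Set P) ≤ centralizer {b} →
      centralizer ({a} : Set P) = centralizer {b} := fun a b ha hb h =>
    eq_of_le_of_card_eq h (by
      have h1 := (centralizer ({a} : Set P)).index_mul_card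
      have h2 := (centralizer ({b} : Set P)).index_mul_card
      rw [hq a ha] at h1
      rw [hq b hb, ← h1] at h2
      refine (Nat.eq_of_mul_eq_mul_left ?_ h2).symm
      rw [← hq a ha]; exact Nat.pos_of_ne_zero index_ne_zero_of_finite)
  obtain ⟨y, -, hy, hyp, hyc⟩ := exists_normal_step hP (center P) ⊤
    (lt_top_iff_ne_top.2 fun e => hx1 (e ▸ mem_top x))
  set H := centralizer ({y} : Set P) with hH
  have mH : ∀ g, g ∈ H ↔ Commute y g := fun g => by
    rw [hH, mem_centralizer_singleton_iff]; exact eq_comm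
  have h1 : ∀ g, g ∉ H → g ^ p ∈ center P := by
    intro g hg
    by_contra hc
    have k1 := heq g (g ^ p) (fun h => hc (pow_mem h p)) hc fun w hw =>
      mem_centralizer_singleton_iff.2
        (Commute.pow_right (mem_centralizer_singleton_iff.1 hw) p)
    have k2 : y ∈ centralizer ({g ^ p} : Set P) := by
      rw [mem_centralizer_singleton_iff, ← commutatorElement_eq_one_iff_mul_comm,
        ← comm_pow (hyc g), commutatorElement_eq_one_iff_mul_comm]
      exact (mem_center_iff.1 hyp g).symm
    rw [← k1] at k2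
    exact hg ((mH g).2 (mem_centralizer_singleton_iff.1 k2))
  have hxH : x ∈ H := by by_contra h; exact hx (h1 x h)
  have h2 : centralizer ({x} : Set P) = H := by
    refine heq x y hx1 hy fun g hg => ?_
    by_contra hc
    have k1 := h1 (g * x) fun h => hc ((mul_mem_cancel_right hxH).1 h)
    rw [Commute.mul_pow (mem_centralizer_singleton_iff.1 hg)] at k1
    exact hx ((mul_mem_cancel_left (h1 g hc)).1 k1)
  have hconj : ∀ s : P, s * y * s⁻¹ = ⁅y, s⁆⁻¹ * y := fun s => by
    rw [commutatorElement_inv, commutatorElement_def]; group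
  have hPH : commutator P ≤ H := by
    rw [commutator_def, commutator_le]
    intro s _ t _
    have k : ∀ s t : P, s * t * y * (s * t)⁻¹ = ⁅y, t⁆⁻¹ * ⁅y, s⁆⁻¹ * y := fun s t => by
      rw [show s * t * y * (s * t)⁻¹ = s * (t * y * t⁻¹) * s⁻¹ by group, hconj t, ← mul_assoc,
        mem_center_iff.1 (inv_mem (hyc t)) s, mul_assoc, mul_assoc, ← mul_assoc s, hconj s,
        mul_assoc]
    have k2 := k s⁻¹ t⁻¹
    rw [mem_center_iff.1 (inv_mem (hyc s⁻¹)), ← k] at k2
    rw [mH, commute_iff_conj_eq, commutatorElement_def]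
    calc s * t * s⁻¹ * t⁻¹ * y * (s * t * s⁻¹ * t⁻¹)⁻¹
        = s * t * (s⁻¹ * t⁻¹ * y * (s⁻¹ * t⁻¹)⁻¹) * (s * t)⁻¹ := by group
      _ = y := by rw [k2]; group
  have hHn : H.Normal := ⟨fun a ha g => by
    have := mul_mem (hPH (commutator_mem_commutator (mem_top g) (mem_top a))) ha
    rwa [commutatorElement_def, inv_mul_cancel_right] at this⟩
  set A := H ⊓ centralizer (H : Set P) with hA
  have hZA : center P ≤ A := le_inf (center_le_centralizer _) (center_le_centralizer _)
  have h3 : ∀ a ∈ A, ∀ g, g ∉ H → Commute a g → a ∈ center P := by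
    intro a ha g hg hc
    by_contra hz
    have := heq y a hy hz fun w hw => mem_centralizer_singleton_iff.2 (ha.2 w hw)
    exact hg (by rw [hH, this]; exact mem_centralizer_singleton_iff.2 hc.symm)
  have hxA : x ∈ A := ⟨hxH, fun w hw => mem_centralizer_singleton_iff.1 (h2 ▸ hw)⟩
  obtain ⟨g, hg⟩ : ∃ g, g ∉ H := by
    by_contra hc
    push Not at hc
    exact hy (mem_center_iff.2 fun g => ((mH g).1 (hc g)).symm)
  have hgZ : g ∉ center P := fun h => hg (center_le_centralizer _ h)
  have h4 : (center P).relIndex A ≤ q := by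
    have k1 : centralizer ({g} : Set P) ⊓ A = center P := le_antisymm
      (fun a ha => h3 a ha.2 g hg (mem_centralizer_singleton_iff.1 ha.1))
      (le_inf (center_le_centralizer _) hZA)
    rw [← k1, inf_relIndex_right, ← hq g hgZ, ← relIndex_top_right]
    exact relIndex_le_of_le_right le_top index_ne_zero_of_finite
  set B := A ⊓ (center (P ⧸ center P)).comap (QuotientGroup.mk' _) with hB
  have mB : ∀ a, a ∈ B ↔ a ∈ A ∧ ∀ g, ⁅a, g⁆ ∈ center P := fun a => by
    rw [hB, mem_inf, mem_comap, mem_center_iff]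
    refine and_congr_right fun _ => ?_
    constructor
    · intro h g
      rw [← QuotientGroup.eq_one_iff, ← QuotientGroup.mk'_apply, map_commutatorElement,
        commutatorElement_eq_one_iff_mul_comm]
      exact (h _).symm
    · rintro h ⟨g⟩
      have := (QuotientGroup.eq_one_iff _).2 (h g)
      rw [← QuotientGroup.mk'_apply, map_commutatorElement,
        commutatorElement_eq_one_iff_mul_comm] at this
      exact this.symm
  have hAB : A ≤ B := by
    by_contra hc
    obtain ⟨u, huA, huB, hu⟩ := exists_notMem_commutator_mem A B hc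
    obtain ⟨t, ht⟩ : ∃ t, ⁅u, t⁆ ∉ center P := by
      by_contra h
      push Not at h
      exact huB ((mB u).2 ⟨huA, h⟩)
    have k1 : ∀ k, ⁅u, k⁆ ∈ center P → k ∈ H := by
      intro k hk
      by_contra hkH
      refine ht (h3 _ (hu t).1 k hkH ?_)
      have e1 : k * u * k⁻¹ = ⁅u, k⁆⁻¹ * u := by
        rw [commutatorElement_inv, commutatorElement_def]; group
      have e2 : ⁅t⁻¹, k⁆ * (k * u⁻¹ * k⁻¹) = (k * u⁻¹ * k⁻¹) * ⁅t⁻¹, k⁆ :=
        (((inferInstance : A.Normal).conj_mem _ (inv_mem huA) k).2 _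
          (hPH (commutator_mem_commutator (mem_top _) (mem_top _))))
      have e3 : k * u⁻¹ * k⁻¹ = u⁻¹ * ⁅u, k⁆ := by rw [commutatorElement_def]; group
      rw [commute_iff_conj_eq]
      calc k * ⁅u, t⁆ * k⁻¹
          = (k * u * k⁻¹) * (t * (⁅t⁻¹, k⁆ * (k * u⁻¹ * k⁻¹) * ⁅t⁻¹, k⁆⁻¹) * t⁻¹) := by
            simp only [commutatorElement_def]; group
        _ = ⁅u, k⁆⁻¹ * (u * t * u⁻¹ * (⁅u, k⁆ * t⁻¹)) := by
            rw [e2, mul_inv_cancel_right, e1, e3]; group
        _ = ⁅u, t⁆ := by
            rw [← mem_center_iff.1 hk, ← mul_assoc _ t⁻¹, mem_center_iff.1 hk,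
              inv_mul_cancel_left, commutatorElement_def]
    let F : P ⧸ H → B ⧸ (center P).subgroupOf B := fun c => (⟨⁅u, c.out⁆, hu _⟩ : B)
    have hF : Function.Injective F := by
      intro c d h
      have k2 := QuotientGroup.eq.1 h
      change ⁅u, c.out⁆⁻¹ * ⁅u, d.out⁆ ∈ center P at k2
      rw [← c.out_eq, ← d.out_eq]
      refine QuotientGroup.eq.2 (k1 _ ?_)
      have := (inferInstance : (center P).Normal).conj_mem _ k2 c.out⁻¹
      convert this using 1
      simp only [commutatorElement_def]; group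
    have k3 := Nat.card_le_card_of_injective F hF
    change H.index ≤ (center P).relIndex B at k3
    have k4 := relIndex_mul_relIndex (center P) B A
      (fun z hz => (mB z).2 ⟨hZA hz, fun g => by
        rw [commutatorElement_eq_one_iff_mul_comm.2 (mem_center_iff.1 hz g).symm]
        exact one_mem _⟩) inf_le_left
    have k5 : B.relIndex A ≠ 1 := fun e => hc (relIndex_eq_one.1 e)
    have k6 : B.relIndex A ≠ 0 := index_ne_zero_of_finite
    have k7 : (center P).relIndex B ≠ 0 := index_ne_zero_of_finite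
    rw [hq y hy] at k3
    have : 2 ≤ B.relIndex A := by omega
    have := Nat.mul_le_mul_left ((center P).relIndex B) this
    omega
  refine hx (h3 _ (pow_mem hxA p) g hg ?_)
  rw [← commutatorElement_eq_one_iff_commute, comm_pow (((mB x).1 (hAB hxA)).2 g),
    commutatorElement_eq_one_iff_mul_comm]
  exact mem_center_iff.1 (h1 g hg) x

end pre

/-- Let P be a finite p-group whose conjugacy class sizes are exactly 1 and pᵃ for some a ≥ 1. Then every element of P has its p-th power in the center of P (P/Z(P) has exponent p). -/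
theorem result {P : Type*} [Group P] [Finite P] (p : ℕ) [Fact p.Prime]
    (hP : IsPGroup p P) (a : ℕ) (ha : 1 ≤ a)
    (hcs : {k : ℕ | ∃ x : P, (Subgroup.centralizer ({x} : Set P)).index = k} = {1, p ^ a}) (x : P) :
    x ^ p ∈ Subgroup.center P := by
  refine main hP (q := p ^ a) (fun y hy => ?_) x
  have : (Subgroup.centralizer ({y} : Set P)).index ∈ ({1, p ^ a} : Set ℕ) := hcs ▸ ⟨y, rfl⟩
  refine this.resolve_left fun h => hy ?_
  rw [Subgroup.index_eq_one] at h
  exact Subgroup.mem_center_iff.2 fun g =>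
    Subgroup.mem_centralizer_singleton_iff.1 (h ▸ Subgroup.mem_top g)

end Cfsg.Agent.S4365
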