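import Mathlib
import Cfsg.Statements.S4134
import Cfsg.Agent.FG.ConjTypeA
import Cfsg.Agent.S4365
import Cfsg.Agent.GT.Factorized
-- import your own Cfsg.Agent.* helpers here

set_option autoImplicit false
open Cfsg

namespace Cfsg.Agent.S4134

open Cfsg.Agent.FG.CI

/-- Let G be a finite group whose conjugacy classes have exactly two sizes, 1 and n > 1. Then n is a power of a prime p and G is the direct product of a p-group and an abelian group of order prime to p: its Sylow p-subgroup P is normal with an abelian normal complement centralizing it; moreover P has an abelian normal subgroup A with P/A of exponent dividing p. -/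
theorem result {G : Type*} [Group G] [Finite G] (n : ℕ) (hn : 1 < n)
    (h : ∀ x : G, (Subgroup.centralizer ({x} : Set G)).index = 1 ∨ (Subgroup.centralizer ({x} : Set G)).index = n) (hex : ∃ x : G, (Subgroup.centralizer ({x} : Set G)).index = n) :
    ∃ (p : ℕ) (_ : Fact p.Prime) (a : ℕ), n = p ^ a ∧ ∀ P : Sylow p G, (P : Subgroup G).Normal ∧
      (∃ N : Subgroup G, N.Normal ∧ N.IsComplement' (P : Subgroup G) ∧ IsMulCommutative N ∧
        ∀ x ∈ N, ∀ y ∈ (P : Subgroup G), x * y = y * x) ∧
      ∃ A : Subgroup (P : Subgroup G), A.Normal ∧ IsMulCommutative A ∧ ∀ y : (P : Subgroup G), y ^ p ∈ A := by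
  have h' : ∀ x : G, x ∉ Subgroup.center G → cidx x = n := fun x hx =>
    (h x).resolve_left fun e => hx (cidx_eq_one_iff.1 e)
  obtain ⟨x0, hx0⟩ := hex
  have hx0' : x0 ∉ Subgroup.center G := fun e => hn.ne' (hx0.symm.trans (cidx_eq_one_iff.2 e))
  have hp := Nat.minFac_prime hn.ne'
  set p := n.minFac with hpdef
  have := Fact.mk hp
  have h1 : ∀ q : ℕ, q.Prime → q ∣ n → q = p := fun q hq hqn =>
    FG.CT.eq_of_two_sizes h' ⟨x0, hx0'⟩ hq hp hqn (Nat.minFac_dvd n)
  have hna := Nat.eq_prime_pow_of_unique_prime_dvd (by omega) fun {q} hq hqn => h1 q hq hqn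
  have h2 : ∀ q : ℕ, q.Prime → q ≠ p → ∀ Q : Subgroup G, IsPGroup q Q → Q ≤ Subgroup.center G :=
    fun q hq hqp Q hQ => by
      have := Fact.mk hq
      obtain ⟨R, hR⟩ := hQ.exists_le_sylow
      refine hR.trans (sylow_le_center_of_forall_not_dvd R fun x hx => ?_)
      rcases h x with e | e
      · exact hq.one_lt.ne' (Nat.dvd_one.1 (e ▸ hx))
      · exact hqp (h1 q hq (e ▸ hx))
  refine ⟨p, this, _, hna, fun P => ?_⟩
  have hP : (P : Subgroup G).Normal := by
    refine Subgroup.normalizer_eq_top_iff.1 (GT.eq_top_of_forall_sylow_le fun q hq _ => ?_)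
    by_cases e : q = p
    · subst e
      exact ⟨P, Subgroup.le_normalizer⟩
    · have := Fact.mk hq
      exact ⟨default, (h2 q hq e _ (Sylow.isPGroup' _)).trans (Subgroup.center_le_normalizer _)⟩
  obtain ⟨N, hN⟩ := Subgroup.exists_left_complement'_of_coprime (N := (P : Subgroup G))
    P.card_coprime_index
  have hNc : N ≤ Subgroup.center G := GT.le_of_forall_isPGroup_le fun q hq hqN Q _ hQ =>
    h2 q hq (fun e => P.not_dvd_index (e ▸ hN.index_eq_card ▸ hqN)) Q hQ
  have h3 : ∀ y : (P : Subgroup G), cidx y = cidx (y : G) := fun y => by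
    rw [cidx_coe, cidx, ← Subgroup.relIndex_top_right]
    refine (GT.Fac.IsProd.relIndex_eq (GT.Fac.isProd_top_iff.2 fun g => ?_)).symm
    obtain ⟨⟨a, b⟩, rfl⟩ := hN.2 g
    exact ⟨a, center_le_cent _ (hNc a.2), b, b.2, rfl⟩
  refine ⟨hP, ⟨N, ⟨fun a ha g => by
    rwa [Subgroup.mem_center_iff.1 (hNc ha) g, mul_inv_cancel_right]⟩, hN,
    ⟨⟨fun a b => Subtype.ext (Subgroup.mem_center_iff.1 (hNc b.2) a)⟩⟩,
    fun x hx y _ => (Subgroup.mem_center_iff.1 (hNc hx) y).symm⟩, Subgroup.center _,
    inferInstance, inferInstance, fun y => S4365.result p P.isPGroup' n.primeFactorsList.length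
      ?_ ?_ y⟩
  · by_contra e
    rw [show n.primeFactorsList.length = 0 by omega, pow_zero] at hna
    omega
  · rw [← hna]
    ext k
    constructor
    · rintro ⟨x, rfl⟩
      exact (h x).imp (h3 x).trans (h3 x).trans
    · rintro (rfl | rfl)
      · exact ⟨1, cidx_one⟩
      · obtain ⟨⟨a, b⟩, rfl⟩ := hN.2 x0
        refine ⟨b, (h3 b).trans ?_⟩
        rw [← hx0, ← cidx_mul_center (hNc a.2), Subgroup.mem_center_iff.1 (hNc a.2) b]

end Cfsg.Agent.S4134
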