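import Mathlib
import Cfsg.Statements.S4138
import Cfsg.Agent.FG.ConjTypeH
import Cfsg.Agent.FG.H94Baer
-- import your own Cfsg.Agent.* helpers here

set_option autoImplicit false
open Cfsg

namespace Cfsg.Agent.S4138

open Subgroup Cfsg.Agent.FG.CI Cfsg.Agent.FG.CT Cfsg.Agent.GT Cfsg.Agent.FG
open scoped commutatorElement

/-- The two largest class sizes `m > n` are coprime; `x` is a `π(m)`-element of class size `n`. -/
structure Hyp {G : Type*} [Group G] (m n : ℕ) (x : G) : Prop where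
  lt : n < m
  one_lt : 1 < n
  cop : m.Coprime n
  top : ∀ z : G, cidx z ≤ m
  snd : ∀ z : G, cidx z < m → cidx z ≤ n
  ex : ∃ y : G, cidx y = m
  idx : cidx x = n
  pi : IsPiNum {p | p ∣ m} (orderOf x)

section

variable {G : Type*} [Group G] [Finite G] {m n : ℕ} {x : G}

theorem card_dvd (top : ∀ z : G, cidx z ≤ m) (ex : ∃ y : G, cidx y = m) {s : G}
    (hs : (cidx s).Coprime m) : Nat.card (⁅(⊤ : Subgroup G), zpowers s⁆ : Subgroup G) ∣ m := by
  obtain ⟨y, rfl⟩ := ex
  exact Baer.card_commutator_dvd hs.symm (top _)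

theorem central (top : ∀ z : G, cidx z ≤ m) (ex : ∃ y : G, cidx y = m) {s : G}
    (hs : (cidx s).Coprime m) (ho : (orderOf s).Coprime m) : s ∈ center G :=
  cidx_eq_one_iff.1 (hs.eq_one_of_dvd ((Baer.cidx_dvd_card_commutator
    (ho.coprime_dvd_right (card_dvd top ex hs))).trans (card_dvd top ex hs)))

theorem Hyp.eq_n (h : Hyp m n x) {z : G} (hz : n ∣ cidx z) : cidx z = n :=
  le_antisymm (h.snd z (lt_of_le_of_ne (h.top z) fun e =>
    h.one_lt.ne' (h.cop.symm.eq_one_of_dvd (e ▸ hz)))) (Nat.le_of_dvd (cidx_pos z) hz)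

theorem Hyp.eq_m (h : Hyp m n x) {z : G} (hz : m ∣ cidx z) : cidx z = m :=
  le_antisymm (h.top z) (Nat.le_of_dvd (cidx_pos z) hz)

omit [Finite G] in
theorem picop {a b : ℕ} (ha : IsPiNum {p | p ∣ m} a) (hb : b.Coprime m) : a.Coprime b :=
  ha.coprime (isPiNum_compl_setOf_dvd_iff.2 hb)

theorem Hyp.central (h : Hyp m n x) {b : G} (hb : Commute x b) (ho : (orderOf b).Coprime m) :
    b ∈ center G := by
  have h1 := picop h.pi ho
  exact S4138.central h.top h.ex (h.cop.symm.coprime_dvd_left (h.eq_n (h.idx ▸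
    cidx_dvd_cidx_mul_left hb h1) ▸ cidx_dvd_cidx_mul_right hb h1)) ho

theorem Hyp.le_cent (h : Hyp m n x) {K : Subgroup G} [K.Normal]
    (hK : IsPiNum {p | p ∣ m} (Nat.card K)) : K ≤ centralizer {x} :=
  relIndex_eq_one.1 (Nat.eq_one_of_dvd_coprimes (picop hK h.cop.symm) (relIndex_dvd_card _ _)
    (h.idx ▸ relIndex_cent_dvd K x))

omit [Finite G] in
theorem normal_comm (s : G) : (⁅(⊤ : Subgroup G), zpowers s⁆ : Subgroup G).Normal :=
  normalizer_eq_top_iff.1 (top_le_iff.1 (normalizer_commutator_ge_left _ _))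

theorem Hyp.pi_closure (h : Hyp m n x) : IsPiNum {p | p ∣ m} (Nat.card (normalClosure {x})) := by
  have := normal_comm x
  refine (h.pi.mul ((isPiNum_setOf_dvd m).of_dvd (card_dvd h.top h.ex
    (h.idx ▸ h.cop.symm)))).of_dvd (Nat.card_zpowers x ▸ (card_dvd_of_le ?_).trans (card_sup_dvd _ _))
  refine (closure_le _).2 fun a ha => ?_
  obtain ⟨b, rfl, hb⟩ := Group.mem_conjugatesOfSet_iff.1 ha
  obtain ⟨g, rfl⟩ := isConj_iff.1 hb
  have := mul_mem (mem_sup_right (S := zpowers b) (commutator_mem_commutator (mem_top g)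
    (mem_zpowers b))) (mem_sup_left (mem_zpowers b))
  simpa [commutatorElement_def] using this

theorem Hyp.eq_m_of_coprime (h : Hyp m n x) {g : G} (hg : g ∉ center G)
    (hc : (cidx g).Coprime n) : cidx g = m := by
  by_contra hne
  have h1 : ∀ g : G, (cidx g).Coprime n → ¬ m ∣ cidx g →
      Nat.card (⁅(⊤ : Subgroup G), zpowers g⁆ : Subgroup G) ∣ n := fun g hc hne => by
    rw [← h.idx] at hc ⊢
    refine Baer.card_commutator_dvd hc.symm (h.idx ▸ h.snd _ (lt_of_le_of_ne (h.top _) fun e => ?_))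
    have h2 : cidx (x * g) ∣ cidx x * cidx g :=
      index_inf_of_coprime hc.symm ▸ index_dvd_of_le (inf_cent_le_cent_mul x g)
    rw [e, h.idx] at h2
    exact hne (h.cop.dvd_of_dvd_mul_left h2)
  have h2 : ¬ m ∣ cidx g := fun e => hne (h.eq_m e)
  obtain ⟨a, b, ha, hb, hap, hbp, -, e⟩ := exists_piPart_elem {p | p ∣ m} g
  have h3 := cidx_dvd_of_mem_zpowers ha
  have h4 := h1 a (hc.coprime_dvd_left h3) fun e => h2 (e.trans h3)
  have h5 : ⁅g, x⁆ = 1 := orderOf_eq_one_iff.1 (Nat.eq_one_of_dvd_coprimes h.cop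
    ((Subgroup.orderOf_dvd_natCard _ (commutator_mem_commutator (mem_top g) (mem_zpowers x))).trans
      (card_dvd h.top h.ex (h.idx ▸ h.cop.symm))) (by
      rw [← orderOf_inv, commutatorElement_inv]
      exact (Subgroup.orderOf_dvd_natCard _ (commutator_mem_commutator (mem_top x)
        (mem_zpowers g))).trans (h1 g hc h2)))
  refine hg (e ▸ mul_mem (cidx_eq_one_iff.1 ((hc.coprime_dvd_left h3).eq_one_of_dvd
    ((Baer.cidx_dvd_card_commutator ((picop hap h.cop.symm).coprime_dvd_right h4)).trans h4)))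
    (h.central (mem_cent_commute.1 (cent_le_of_mem_zpowers hb (mem_cent_commute.2
      (commutatorElement_eq_one_iff_commute.1 h5).symm))) (isPiNum_compl_setOf_dvd_iff.1 hbp)))

theorem Hyp.eq_m_of_orderOf (h : Hyp m n x) {g : G} (hg : g ∉ center G)
    (ho : (orderOf g).Coprime m) : cidx g = m := by
  set M := normalClosure ({x} : Set G)
  have hxM : x ∈ M := subset_normalClosure rfl
  have hM : M ≤ centralizer (M : Set G) :=
    normalClosure_le_normal (by simpa using le_cent_iff.1 (h.le_cent h.pi_closure))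
  have hMc : IsMulCommutative M := ⟨⟨fun a b => Subtype.ext (mem_centralizer_iff.1 (hM b.2) a a.2)⟩⟩
  have hn : zpowers g ≤ normalizer (M : Set G) := by rw [normalizer_eq_top]; exact le_top
  have hc : (Nat.card (zpowers g)).Coprime (Nat.card M) := by
    rw [Nat.card_zpowers]; exact (picop h.pi_closure ho).symm
  set V : Subgroup G := ⁅M, zpowers g⁆
  have hVM : V ≤ M := commutator_le_left _ _
  have h1 := CopAct.sup_inf_centralizer_eq_of_commutator_le hVM
    (hc.coprime_dvd_right (card_dvd_of_le hVM)) (Or.inl inferInstance) le_rfl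
  obtain ⟨v, hv, c, hcM, e⟩ := (CopAct.mem_sup_iff_of_le_normalizer
    (inf_le_left.trans (normalizer_commutator_ge_left _ _))).1 (h1.symm ▸ hxM)
  rw [H93.centralizer_zpowers] at hcM
  have h2 := (mem_cent_commute.1 hcM.2).symm
  have h3 : (orderOf g).Coprime (orderOf c) :=
    (picop h.pi_closure ho).symm.coprime_dvd_right (M.orderOf_dvd_natCard hcM.1)
  have h4 := cent_mul_of_coprime h2 h3
  have h5 : Nat.card V ∣ cidx (g * c) := by
    refine Dvd.dvd.trans (dvd_of_eq (Nat.eq_of_mul_eq_mul_right (m := Nat.card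
      (M ⊓ centralizer (zpowers g : Set G) : Subgroup G)) Nat.card_pos ?_)) (relIndex_cent_dvd M _)
    rw [← CopAct.card_eq_card_commutator_mul_card_centralizer hMc hn hc, H93.centralizer_zpowers,
      ← card_inf_mul_relIndex (centralizer {g * c}) M, mul_comm, h4, inf_right_comm,
      inf_eq_left.2 (inf_le_right.trans (le_cent_iff.2 (hM hcM.1))), inf_comm M]
  have h6 : (centralizer ({x} : Set G)).relIndex (centralizer {g * c}) < Nat.card V := by
    rw [← ncard_conj_orbit_subgroup, ← SetLike.coe_sort_coe, Nat.card_coe_set_eq,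
      ← Set.ncard_image_of_injective (V : Set G) (mul_left_injective c)]
    refine Set.ncard_lt_ncard ⟨?_, fun hle => ?_⟩
    · rintro _ ⟨d, hd, rfl⟩
      rw [h4] at hd
      refine ⟨d * v * d⁻¹, (show V ≤ V.comap (MulAut.conj d).toMonoidHom from
        commutator_le.2 fun a ha b hb => ?_) hv, ?_⟩
      · rw [mem_comap, map_commutatorElement]
        refine commutator_mem_commutator (Normal.conj_mem inferInstance a ha d) ?_
        change d * b * d⁻¹ ∈ _
        rwa [mem_cent'.1 (cent_le_of_mem_zpowers hb hd.1)]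
      · rw [← e]
        nth_rewrite 1 [← mem_cent'.1 hd.2]
        group
    · obtain ⟨d, hd, e'⟩ := hle ⟨1, one_mem _, rfl⟩
      rw [h4] at hd
      dsimp only at e'
      rw [one_mul, ← mem_cent'.1 hd.2, mul_left_inj, mul_right_inj] at e'
      exact hg (h.central (e' ▸ h2.symm) ho)
  have h7 : n < cidx (g * c) := by
    obtain ⟨k, hk⟩ := h5
    have h8 : n ∣ Nat.card V * (k * (centralizer ({x} : Set G)).relIndex (centralizer {g * c})) := by
      rw [← mul_assoc, ← hk, mul_comm, ← inf_relIndex_right, relIndex_mul_index inf_le_right,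
        ← h.idx]
      exact index_dvd_of_le inf_le_left
    have hk0 : 0 < k := Nat.pos_of_ne_zero fun a => cidx_ne_zero (g * c) (by rw [hk, a, mul_zero])
    have h9 := Nat.le_of_dvd (mul_pos hk0 (Nat.pos_of_ne_zero index_ne_zero_of_finite))
      ((picop (h.pi_closure.of_dvd (card_dvd_of_le hVM)) h.cop.symm).symm.dvd_of_dvd_mul_left h8)
    rw [hk, mul_comm]
    exact h9.trans_lt (Nat.mul_lt_mul_of_pos_left h6 hk0)
  have h8 : cidx (g * c) = m := by_contra fun a =>
    h7.not_ge (h.snd _ (lt_of_le_of_ne (h.top _) a))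
  exact h.eq_m_of_coprime hg (h.cop.coprime_dvd_left (h8 ▸ cidx_dvd_cidx_mul_left h2 h3))

theorem Hyp.central' (h : Hyp m n x) {g u : G} (hg : g ∉ center G) (ho : (orderOf g).Coprime m)
    (hc : Commute g u) (hu : IsPiNum {p | p ∣ m} (orderOf u)) : u ∈ center G := by
  by_contra huc
  obtain ⟨v, hv, hvc, p, hp, k, hk⟩ := exists_primary_notMem huc
  have := Fact.mk hp
  have h1 := h.eq_m_of_orderOf hg ho
  have hv' := hu.of_dvd (orderOf_dvd_of_mem_zpowers hv)
  have h2 := (mem_cent_commute.1 (zpowers_le.2 (mem_cent_commute.2 hc.symm) hv)).symm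
  have h3 := (picop hv' ho).symm
  have h4 := cent_le_of_cidx_mul h2 h3 ((h.eq_m (h1 ▸ cidx_dvd_cidx_mul_left h2 h3)).trans h1.symm)
  have h5 := h.eq_m_of_coprime hvc (h.cop.coprime_dvd_left (h1 ▸ index_dvd_of_le h4))
  have hpm : p ∣ m := hv' p hp (hk ▸ dvd_pow_self p fun e => hvc (by
    rw [orderOf_eq_one_iff.1 (hk.trans (by rw [e, pow_zero]))]; exact one_mem _))
  obtain ⟨a, ha⟩ := (not_dvd_index_iff (p := p) (centralizer {x})).1 fun e =>
    hp.one_lt.ne' (Nat.eq_one_of_dvd_coprimes h.cop hpm (h.idx ▸ e))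
  obtain ⟨d, hd⟩ := exists_conj_mem_sylow a ⟨k, hk⟩
  obtain ⟨b, hb, c, hc', rfl⟩ := exists_mul_of_coprime_index (H := centralizer {x})
    (K := centralizer {v}) (by
      change (cidx x).Coprime (cidx v)
      rw [h.idx, h5]; exact h.cop.symm) d
  have h6 := ha hd
  rw [show b * c * v * (b * c)⁻¹ = b * (c * v * c⁻¹) * b⁻¹ by group, mem_cent'.1 hc',
    mul_mem_cancel_right (inv_mem hb), mul_mem_cancel_left hb, mem_cent_symm,
    ← eq_of_le_of_index h4 (h1.trans h5.symm)] at h6
  exact hg (h.central (mem_cent_commute.1 h6) ho)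

theorem pi_relIndex {H : Subgroup G} {π : Set ℕ} (h : ∀ a ∈ H, ∀ p : ℕ, p.Prime → p ∉ π →
    (∃ k, orderOf a = p ^ k) → a ∈ center G) : IsPiNum π ((center G).relIndex H) := fun p hp e => by
  obtain ⟨a, ha, hac, hk⟩ := exists_pElem_of_dvd_relIndex hp e
  exact by_contra fun b => hac (h a ha p hp b hk)

theorem Hyp.pi_cent (h : Hyp m n x) {u : G} (hu : u ∉ center G)
    (hp : IsPiNum {p | p ∣ m} (orderOf u)) :
    IsPiNum {p | p ∣ m} ((center G).relIndex (centralizer {u})) :=
  pi_relIndex fun a ha p hp' e hk => by_contra fun b => hu (h.central' b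
    (Ch.coprime_of_pow_of_not_dvd hp' hk e) (mem_cent_commute.1 ha) hp)

theorem Hyp.index_center (h : Hyp m n x) : (center G).index = m * n := by
  have hx : x ∉ center G := one_lt_cidx_iff.1 (h.idx ▸ h.one_lt)
  have hq := Nat.minFac_prime h.one_lt.ne'
  obtain ⟨g, hg, hk⟩ := exists_noncentral hq (n.minFac_dvd.trans (h.idx ▸ cidx_dvd_index_center x))
  have ho := Ch.coprime_of_pow_of_not_dvd hq hk fun e =>
    hq.one_lt.ne' (Nat.eq_one_of_dvd_coprimes h.cop e n.minFac_dvd)
  have h1 := relIndex_mul_index (center_le_cent x)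
  have h2 := relIndex_mul_index (center_le_cent g)
  change _ * cidx x = _ at h1
  change _ * cidx g = _ at h2
  rw [h.idx] at h1
  rw [h.eq_m_of_orderOf hg ho, mul_comm] at h2
  rw [← h1, piPart_unique (h.pi_cent hx h.pi) (isPiNum_compl_setOf_dvd_iff.2 h.cop.symm)
    (isPiNum_setOf_dvd m) (pi_relIndex fun a ha p hp e ⟨k, hk⟩ => h.central' hg ho
      (mem_cent_commute.1 ha).symm (hk ▸ isPiNum_prime_pow hp (not_not.1 e) k)) (h1.trans h2.symm)]

theorem Hyp.mem_cent (h : Hyp m n x) {u : G} (hp : IsPiNum {p | p ∣ m} (orderOf u)) :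
    u ∈ centralizer ({x} : Set G) := by
  by_cases hu : u ∈ center G
  · exact center_le_cent x hu
  have h1 := relIndex_mul_index (center_le_cent u)
  rw [h.index_center] at h1
  exact h.le_cent (Hyp.pi_closure ⟨h.lt, h.one_lt, h.cop, h.top, h.snd, h.ex, h.eq_n
    ((picop (h.pi_cent hu hp) h.cop.symm).symm.dvd_of_dvd_mul_left (h1 ▸ dvd_mul_left n m)), hp⟩)
    (subset_normalClosure rfl)

end


/-- Let G be a finite group whose two largest conjugacy class sizes m > n > 1 are coprime, and let x, y ∈ G have classes of sizes n and m respectively. Then C_G(x) and C_G(y) are abelian, and G/Z(G) is a Frobenius group with kernel C_G(x)/Z(G) and complement C_G(y)/Z(G). -/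
theorem result {G : Type*} [Group G] [Finite G] (m n : ℕ) (hmn : n < m) (hn : 1 < n)
    (hcop : m.Coprime n) (htop : ∀ z : G, (Subgroup.centralizer ({z} : Set G)).index ≤ m) (hsecond : ∀ z : G, (Subgroup.centralizer ({z} : Set G)).index < m → (Subgroup.centralizer ({z} : Set G)).index ≤ n)
    (x y : G) (hx : (Subgroup.centralizer ({x} : Set G)).index = n) (hy : (Subgroup.centralizer ({y} : Set G)).index = m) :
    IsMulCommutative (Subgroup.centralizer ({x} : Set G)) ∧ IsMulCommutative (Subgroup.centralizer ({y} : Set G)) ∧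
    Cfsg.IsFrobeniusComplement ((Subgroup.centralizer ({y} : Set G)).map (QuotientGroup.mk' (Subgroup.center G))) ∧
    Cfsg.frobeniusKernel ((Subgroup.centralizer ({y} : Set G)).map (QuotientGroup.mk' (Subgroup.center G))) =
      ((Subgroup.centralizer ({x} : Set G)).map (QuotientGroup.mk' (Subgroup.center G)) : Set (G ⧸ Subgroup.center G)) := by
  obtain ⟨x', b, hx', hb, hxp, hbp, -, e⟩ := exists_piPart_elem {p | p ∣ m} x
  have e1 : centralizer ({x} : Set G) = centralizer {x'} := by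
    rw [← cent_mul_center (x := x') (central htop ⟨y, hy⟩ (hcop.symm.coprime_dvd_left
      (hx ▸ cidx_dvd_of_mem_zpowers hb)) (isPiNum_compl_setOf_dvd_iff.1 hbp)), ← e]
  rw [e1] at hx ⊢
  clear e e1 hx' hb hbp x b
  have h : Hyp m n x' := ⟨hmn, hn, hcop, htop, hsecond, ⟨y, hy⟩, hx, hxp⟩
  let f := QuotientGroup.mk' (center G)
  have hf : ∀ a : G, f a = 1 ↔ a ∈ center G := fun a => QuotientGroup.eq_one_iff a
  have h1 : ∀ a ∈ centralizer ({x'} : Set G), ∃ u : G, IsPiNum {p | p ∣ m} (orderOf u) ∧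
      ∃ z ∈ center G, a = u * z := fun a ha => by
    obtain ⟨u, z, -, hz, hu, hz', -, e⟩ := exists_piPart_elem {p | p ∣ m} a
    exact ⟨u, hu, z, h.central (mem_cent_commute.1 (zpowers_le.2 ha hz)).symm
      (isPiNum_compl_setOf_dvd_iff.1 hz'), e⟩
  have h2 : ∀ a ∈ centralizer ({x'} : Set G), centralizer ({x'} : Set G) ≤ centralizer {a} :=
    fun a ha c hc => by
      obtain ⟨u, hu, z, hz, rfl⟩ := h1 a ha
      obtain ⟨v, hv, w, hw, rfl⟩ := h1 c hc
      rw [cent_mul_center hz]
      refine mul_mem ?_ (center_le_cent u hw)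
      by_cases huc : u ∈ center G
      · exact cent_eq_top_iff.2 huc ▸ mem_top v
      have h3 := relIndex_mul_index (center_le_cent u)
      rw [h.index_center] at h3
      exact Hyp.mem_cent ⟨hmn, hn, hcop, htop, hsecond, h.ex, h.eq_n ((picop (h.pi_cent huc hu)
        hcop.symm).symm.dvd_of_dvd_mul_left (h3 ▸ dvd_mul_left n m)), hu⟩ hv
  have hA : (centralizer ({x'} : Set G)).Normal := ⟨fun a ha g => by
    obtain ⟨u, hu, z, hz, rfl⟩ := h1 a ha
    rw [show g * (u * z) * g⁻¹ = g * u * g⁻¹ * (g * z * g⁻¹) by group]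
    exact mul_mem (h.mem_cent (by rwa [Inv.SE.orderOf_conj]))
      (center_le_cent _ (Normal.conj_mem inferInstance z hz g))⟩
  have h3 : ∀ (w : G) (a b : ℕ), 0 < b → a * b = m * n → cidx w = b →
      Nat.card ((centralizer ({w} : Set G)).map f) = a := fun w a b hb e hw => by
    rw [card_map_mk'_eq_relIndex]
    refine Nat.eq_of_mul_eq_mul_right hb ?_
    rw [e, ← h.index_center, ← hw, relIndex_mul_index (center_le_cent w)]
  have h4 := h3 x' m n (by omega) rfl hx
  have h5 := h3 y n m (by omega) (mul_comm _ _) hy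
  have : ((centralizer ({x'} : Set G)).map f).Normal := hA.map f (QuotientGroup.mk'_surjective _)
  have h6 : ((centralizer ({x'} : Set G)).map f).IsComplement' ((centralizer ({y} : Set G)).map f) :=
    isComplement'_of_coprime (by rw [h4, h5, ← h.index_center]; rfl) (by rw [h4, h5]; exact hcop)
  have h7 : ∀ g ∈ centralizer ({y} : Set G), (orderOf (f g)).Coprime m := fun g hg =>
    hcop.symm.coprime_dvd_left (h5 ▸ Subgroup.orderOf_dvd_natCard _ (mem_map_of_mem f hg))
  have h8 : ∀ g ∈ centralizer ({y} : Set G), ∃ u : G, (orderOf u).Coprime m ∧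
      ∃ z ∈ center G, g = u * z := fun g hg => by
    obtain ⟨u, hu, hu'⟩ := exists_reg_lift (h7 g hg)
    exact ⟨u, hu', u⁻¹ * g, QuotientGroup.eq.1 hu, by group⟩
  have hF : IsFrobeniusComplement ((centralizer ({y} : Set G)).map f) :=
    Frob.isFrobeniusComplement_of_fpf h6 (fun e => by rw [e, card_bot] at h4; omega)
      (fun e => by rw [e, card_bot] at h5; omega) (by
      rintro _ ⟨g, hg, rfl⟩ hg1
      rw [eq_bot_iff]
      rintro _ ⟨⟨a, ha, rfl⟩, hc⟩
      obtain ⟨u, hu, z, hz, rfl⟩ := h8 g hg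
      obtain ⟨v, hv, w, hw, rfl⟩ := h1 a ha
      rw [map_mul, (hf z).2 hz, mul_one] at hg1 hc
      rw [map_mul, (hf w).2 hw, mul_one] at hc ⊢
      exact (hf v).2 (h.central' (fun e => hg1 ((hf u).2 e)) hu (commute_of_commute_mk
        (mem_cent_commute.1 hc).symm (((picop hv hu).symm.coprime_dvd_left
          (orderOf_map_dvd f u)).coprime_dvd_right (orderOf_map_dvd f v))) hv))
  refine ⟨⟨⟨fun a b => Subtype.ext (mem_cent.1 (h2 b b.2 a.2))⟩⟩, ⟨⟨fun a b => Subtype.ext ?_⟩⟩, hF,
    hF.kernel_eq_of_isComplement' h6⟩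
  by_cases hb : (b : G) ∈ center G
  · exact mem_center_iff.1 hb a
  have h9 : centralizer ({(b : G)} : Set G) ≤ centralizer {y} := fun c hc => by
    have h10 := mem_comap.2 (hF.centralizer_le (mem_map_of_mem f b.2) (fun e => hb ((hf _).1 e))
      (map_cent_le f _ (mem_map_of_mem f hc)))
    rwa [comap_map_eq, QuotientGroup.ker_mk', sup_eq_left.2 (center_le_cent y)] at h10
  exact mem_cent.1 ((eq_of_le_of_index h9 ((h.eq_m (hy ▸ index_dvd_of_le h9)).trans hy.symm)).ge a.2)

end Cfsg.Agent.S4138
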