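import Cfsg.Statements.S4144
import Cfsg.Agent.FG.MaxClassPow
import Cfsg.Agent.FG.EngelP

set_option autoImplicit false
open Cfsg

namespace Cfsg.Agent.S4144

open Subgroup Cfsg.Agent.GT Cfsg.Agent.FG Cfsg.Agent.FG.MxC Cfsg.Agent.Loc.H78.Lie

/-- Let X be a finite p-group of order p^n, n ≥ 2, of nilpotency class n − 1 (maximal class), and H any subgroup of X. Then the index in H of the subgroup generated by the p-th powers of elements of H is at most p^p. -/
theorem result {X : Type*} [Group X] [Finite X] {p : ℕ} [Fact p.Prime] (n : ℕ) (hn : 2 ≤ n) (hX : Nat.card X = p ^ n)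
    (hmax : Group.nilpotencyClass X = n - 1) (H : Subgroup X) :
    (Subgroup.closure {y : X | ∃ h ∈ H, y = h ^ p}).relIndex H ≤ p ^ p := by
  have hp : p.Prime := Fact.out
  have hp2 := hp.two_le
  have e : Subgroup.closure {y : X | ∃ h ∈ H, y = h ^ p} = powerClosure p 1 H := by
    refine le_antisymm ((closure_le _).2 ?_) (PG.powerClosure_one_le_iff.2 fun x hx =>
      subset_closure ⟨x, hx, rfl⟩)
    rintro _ ⟨h, hh, rfl⟩
    exact PG.pow_mem_powerClosure_one hh
  rw [e]
  have hle := PG.powerClosure_le (p := p) 1 H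
  have h1 := PG.relIndex_mul_card_inf (powerClosure p 1 H) H
  rw [inf_eq_left.2 hle] at h1
  have hpos : 0 < Nat.card (powerClosure p 1 H) := Nat.card_pos
  suffices h : Nat.card H ≤ p ^ p * Nat.card (powerClosure p 1 H) from
    Nat.le_of_mul_le_mul_right (h1.le.trans h) hpos
  have hH : Nat.card H ≤ p ^ n := hX ▸ card_le_card_group H
  rcases le_or_gt n p with hnp | hnp
  · exact (hH.trans (Nat.pow_le_pow_right hp.pos hnp)).trans (Nat.le_mul_of_pos_right _ hpos)
  obtain ⟨m, rfl⟩ : ∃ m, n = m + 3 := ⟨n - 3, by omega⟩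
  have hc : Group.nilpotencyClass X = m + 2 := hmax
  rcases le_or_gt p (m + 1) with hm | hm
  · exact card_le_pow_mul hX hc hm H
  have hpm : m + 3 = p + 1 := by omega
  have hXp : IsPGroup p X := IsPGroup.of_card hX
  rcases eq_or_ne H ⊤ with rfl | hH'
  · have h2 : powerClosure p 1 (⊤ : Subgroup X) ≠ ⊥ := fun h0 => by
      have h3 : ∀ g : X, g ^ p = 1 := fun g => by
        simpa using PG.powerClosure_eq_bot_iff.1 h0 g (mem_top g)
      rcases Nat.eq_zero_or_pos m with rfl | hm0
      · obtain rfl : p = 2 := by omega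
        exact PG.not_isMulCommutative_of_maxClass hX hc ⟨⟨fun a b =>
          (Commute.of_orderOf_dvd_two (fun g => orderOf_dvd_of_pow_eq_one (h3 g)) a b).eq⟩⟩
      · obtain ⟨s, -, -, hs⟩ := exists_uniform hX hc (C_ne_top hX hc (Nat.zero_le m))
        obtain ⟨w, hw, hw'⟩ := exists_mem_P hX hc hm0 (Nat.zero_le _)
        refine (iterate_comm hX hc hm0 hs hw hw' (p - 1) (by omega)).2 ?_
        rw [zero_add, Nat.sub_add_cancel hp.pos]
        exact Engel.engel_mem h3 s w
    obtain ⟨k, hk⟩ := (hXp.to_subgroup (powerClosure p 1 ⊤)).exists_card_eq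
    have hk0 : k ≠ 0 := fun h => h2 (card_eq_one.1 (by rw [hk, h, pow_zero]))
    rw [card_top, hX, hk, hpm, ← pow_add]
    exact Nat.pow_le_pow_right hp.pos (by omega)
  · obtain ⟨k, hk⟩ := (hXp.to_subgroup H).exists_card_eq
    have h2 : Nat.card H < p ^ (m + 3) := hX ▸ lt_of_le_of_ne (card_le_card_group H)
      fun h => hH' (eq_top_of_card_eq H h)
    rw [hk, Nat.pow_lt_pow_iff_right hp.one_lt] at h2
    rw [hk]
    exact (Nat.pow_le_pow_right hp.pos (by omega)).trans (Nat.le_mul_of_pos_right _ hpos)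


end Cfsg.Agent.S4144
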