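import Mathlib
import Cfsg.Statements.S4146
import Cfsg.Agent.FG.ConjTypeH
import Cfsg.Agent.S4035
-- import your own Cfsg.Agent.* helpers here

set_option autoImplicit false
open Cfsg

namespace Cfsg.Agent.S4146

open Subgroup Cfsg.Agent.FG.CI Cfsg.Agent.FG.CT Cfsg.Agent.FG

/-- The class sizes are exactly `1`, `m`, `n`, `m * n` with `m`, `n` coprime. -/
structure Quad (G : Type*) [Group G] (m n : ℕ) : Prop where
  idx : ∀ x : G, x ∉ center G → cidx x = m ∨ cidx x = n ∨ cidx x = m * n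
  one_lt_m : 1 < m
  one_lt_n : 1 < n
  cop : m.Coprime n
  exm : ∃ x : G, cidx x = m
  exn : ∃ x : G, cidx x = n
  exk : ∃ x : G, cidx x = m * n

namespace Quad

variable {G : Type*} [Group G] [Finite G] {m n : ℕ}

omit [Finite G] in
theorem symm (h : Quad G m n) : Quad G n m :=
  ⟨fun x hx => by have := h.idx x hx; rw [mul_comm n]; omega, h.one_lt_n, h.one_lt_m, h.cop.symm,
    h.exn, h.exm, mul_comm m n ▸ h.exk⟩

omit [Finite G] in
theorem ne (h : Quad G m n) {p : ℕ} (hp : p.Prime) (h1 : p ∣ m) (h2 : p ∣ n) : False :=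
  hp.one_lt.ne' (Nat.eq_one_of_dvd_coprimes h.cop h1 h2)

omit [Finite G] in
theorem not_dvd (h : Quad G m n) : ¬ n ∣ m := fun e =>
  h.one_lt_n.ne' (Nat.eq_one_of_dvd_coprimes h.cop e dvd_rfl)

theorem notMem (h : Quad G m n) {x : G} (hx : n ∣ cidx x) : x ∉ center G :=
  one_lt_cidx_iff.1 (h.one_lt_n.trans_le (Nat.le_of_dvd (cidx_pos x) hx))

theorem eq_n (h : Quad G m n) {x y : G} (hx : x ∉ center G) (hy : cidx y = n)
    (e : centralizer ({y} : Set G) ≤ centralizer {x}) :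
    centralizer ({y} : Set G) = centralizer {x} := by
  have h1 : cidx x ∣ n := hy ▸ index_dvd_of_le e
  refine eq_of_le_of_index e (hy.trans (Eq.symm ?_))
  rcases h.idx x hx with a | a | a
  · exact absurd (a ▸ h1) h.symm.not_dvd
  · exact a
  · exact absurd ((dvd_mul_right m n).trans (a ▸ h1)) h.symm.not_dvd

theorem min (h : Quad G m n) {u v : G} (hu : cidx u = m * n) (hc : Commute u v)
    (ho : (orderOf u).Coprime (orderOf v)) : centralizer ({u} : Set G) ≤ centralizer {v} := by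
  have h1 := hu ▸ cidx_dvd_cidx_mul_left hc ho
  refine cent_le_of_cidx_mul hc ho (Eq.trans ?_ hu.symm)
  rcases h.idx _ (h.notMem ((dvd_mul_left n m).trans h1)) with a | a | a
  · exact absurd ((dvd_mul_left n m).trans (a ▸ h1)) h.not_dvd
  · exact absurd ((dvd_mul_right m n).trans (a ▸ h1)) h.symm.not_dvd
  · exact a

theorem relIndex_eq (h : Quad G m n) {a x : G} (hx : cidx x = n) (hc : Commute a x)
    (ho : (orderOf a).Coprime (orderOf x)) (hn : ¬ centralizer ({x} : Set G) ≤ centralizer {a}) :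
    (centralizer ({a} : Set G)).relIndex (centralizer {x}) = m := by
  have h1 := hx ▸ cidx_dvd_cidx_mul_left hc.symm ho.symm
  rcases h.idx _ (h.notMem h1) with e | e | e
  · exact absurd (e ▸ h1) h.not_dvd
  · exact absurd (cent_le_of_cidx_mul hc.symm ho.symm (e.trans hx.symm)) hn
  · rw [cidx_mul_of_coprime hc.symm ho.symm, hx] at e
    exact Nat.eq_of_mul_eq_mul_right (by have := h.one_lt_n; omega) e

theorem not_comm (h : Quad G m n) {x : G} (hx : cidx x = n) :
    ∃ v ∈ centralizer ({x} : Set G), ¬ centralizer ({x} : Set G) ≤ centralizer {v} := by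
  by_contra hc
  push Not at hc
  obtain ⟨y, hy⟩ := h.exm
  obtain ⟨w, hw⟩ := h.exk
  have h1 : (centralizer ({x} : Set G) ⊓ centralizer {y}).index = cidx w := by
    rw [index_inf_of_coprime (by
      change (cidx x).Coprime (cidx y); rw [hx, hy]; exact h.cop.symm), hw, mul_comm m, ← hx, ← hy]
  have h2 : ¬ centralizer ({x} : Set G) ⊓ centralizer {y} ≤ center G := fun e =>
    h.notMem (hw ▸ dvd_mul_left n m) (e ((eq_of_le_of_index (e.trans (center_le_cent w)) h1).ge
      (self_mem_cent w)))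
  obtain ⟨v, hv, hvc⟩ := SetLike.not_le_iff_exists.1 h2
  exact h.symm.not_dvd (hx ▸ hy ▸ index_dvd_of_le
    (hc y (h.eq_n hvc hx (hc v hv.1) ▸ mem_cent_symm.1 hv.2)))

theorem exists_primary (h : Quad G m n) : ∃ x : G, cidx x = n ∧ ∃ s : ℕ, s.Prime ∧
    ∃ k, orderOf x = s ^ k := by
  obtain ⟨x, hx⟩ := h.exn
  obtain ⟨y, hy, hyc, hs⟩ := exists_primary_notMem (h.notMem hx.symm.dvd)
  exact ⟨y, by rw [cidx, ← h.eq_n hyc hx (cent_le_of_mem_zpowers hy)]; exact hx, hs⟩

theorem dvd_aux (h : Quad G m n) {p : ℕ} (hp : p.Prime) (hpm : p ∣ m) {w : G}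
    (hw : cidx w = m * n) : p ∣ (center G).relIndex (centralizer {w}) := by
  by_contra hb
  have h1 : ∀ u v : G, cidx u = n → Commute u v → (orderOf u).Coprime (orderOf v) →
      ((∃ k, orderOf u = p ^ k) ∨ v ∉ center G ∧ ∃ k, orderOf v = p ^ k) →
      centralizer ({u} : Set G) ≤ centralizer {v} := fun u v hu hc ho e => by
    have h2 : p ∣ (center G).relIndex (centralizer {u * v}) := by
      rcases e with e | e
      · exact dvd_relIndex_of_pElem hp (mem_cent_commute.2 ((Commute.refl u).mul_right hc))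
          (h.notMem hu.symm.dvd) e
      · exact dvd_relIndex_of_pElem hp (mem_cent_commute.2 (hc.symm.mul_right (Commute.refl v)))
          e.1 e.2
    have h3 := hu ▸ cidx_dvd_cidx_mul_left hc ho
    rcases h.idx _ (h.notMem h3) with a | a | a
    · exact absurd (a ▸ h3) h.not_dvd
    · exact cent_le_of_cidx_mul hc ho (a.trans hu.symm)
    · exact absurd (Rk2.relIndex_congr (a.trans hw.symm) ▸ h2) hb
  have h2 : ∀ x : G, cidx x = n → ∀ t : ℕ, t.Prime → t ∣ (center G).relIndex (centralizer {w}) * m →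
      ∃ u ∈ centralizer ({x} : Set G), u ∉ center G ∧ ∃ k, orderOf u = t ^ k := fun x hx t ht e =>
    exists_pElem_of_dvd_relIndex ht (Rk2.relIndex_mul hx (hw.trans (mul_comm m n)) ▸ e)
  obtain ⟨x, hx, hxp⟩ : ∃ x : G, cidx x = n ∧ ∃ k, orderOf x = p ^ k := by
    obtain ⟨x, hx, s, hs, hxs⟩ := h.exists_primary
    by_cases e : s = p
    · exact ⟨x, hx, e ▸ hxs⟩
    obtain ⟨u, hu, huc, hup⟩ := h2 x hx p hp (hpm.mul_left _)
    exact ⟨u, by rw [cidx, ← h.eq_n huc hx (h1 x u hx (mem_cent_commute.1 hu).symm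
      (coprime_of_primary hs hp e hxs hup) (Or.inr ⟨huc, hup⟩))]; exact hx, hup⟩
  obtain ⟨y, hy, hyc, t, ht, hyt⟩ := exists_primary_notMem (h.notMem (hw ▸ dvd_mul_left n m))
  have h3 := dvd_relIndex_of_pElem ht (zpowers_le.2 (self_mem_cent w) hy) hyc hyt
  have htp : p ≠ t := fun e => hb (e ▸ h3)
  obtain ⟨z, hz, hzc, hzt⟩ := h2 x hx t ht (h3.mul_right _)
  have e1 := h.eq_n hzc hx (h1 x z hx (mem_cent_commute.1 hz).symm
    (coprime_of_primary hp ht htp hxp hzt) (Or.inl hxp))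
  obtain ⟨v, hv, hn⟩ := h.not_comm hx
  refine hn (cent_le_of_primary fun d hd a ha hda => ?_)
  have hd' := zpowers_le.2 hv hd
  by_cases hc : d ∈ center G
  · exact cent_eq_top_iff.2 hc ▸ le_top
  by_cases e : p = a
  · exact e1 ▸ h1 z d (by rw [cidx, ← e1]; exact hx) (mem_cent_commute.1 (e1 ▸ hd')).symm
      (coprime_of_primary ht ha (e ▸ htp.symm) hzt hda) (Or.inr ⟨hc, e ▸ hda⟩)
  · exact h1 x d hx (mem_cent_commute.1 hd').symm (coprime_of_primary hp ha e hxp hda) (Or.inl hxp)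

theorem exists_elt (h : Quad G m n) {p : ℕ} (hp : p.Prime) (hpm : p ∣ m ∨ p ∣ n) {x : G}
    (hx : x ∉ center G) :
    ∃ u ∈ centralizer ({x} : Set G), u ∉ center G ∧ ∃ k, orderOf u = p ^ k := by
  obtain ⟨w, hw⟩ := h.exk
  have h1 := hpm.elim (fun e => h.dvd_aux hp e hw) fun e =>
    h.symm.dvd_aux hp e (hw.trans (mul_comm m n))
  refine exists_pElem_of_dvd_relIndex hp ?_
  rcases h.idx x hx with a | a | a
  · exact Rk2.relIndex_mul a hw ▸ h1.mul_right _
  · exact Rk2.relIndex_mul a (hw.trans (mul_comm m n)) ▸ h1.mul_right _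
  · exact Rk2.relIndex_congr (hw.trans a.symm) ▸ h1

theorem cidx_cent (h : Quad G m n) {x : G} (hx : cidx x = n) {s : ℕ} (hxs : ∃ k, orderOf x = s ^ k)
    (v : centralizer ({x} : Set G)) (hv : v ∉ center (centralizer ({x} : Set G)))
    (hvs : (orderOf v).Coprime s) : cidx v = m := by
  obtain ⟨k, hk⟩ := hxs
  rw [cidx_coe]
  exact h.relIndex_eq hx (mem_cent_commute.1 v.2) (by
    rw [hk, orderOf_coe]; exact hvs.pow_right k) (mt Rk2.mem_center_cent.2 hv)

theorem eq_of_dvd (h : Quad G m n) {p r : ℕ} (hp : p.Prime) (hr : r.Prime) (hpm : p ∣ m)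
    (hrm : r ∣ m) : p = r := by
  by_contra hpr
  have h1 : ∀ x : G, cidx x = n → ∀ s : ℕ, s.Prime → (∃ k, orderOf x = s ^ k) → ∀ a b : ℕ,
      a.Prime → b.Prime → a ≠ b → a ≠ s → b ≠ s → a ∣ (center (centralizer ({x} : Set G))).index →
      b ∣ (center (centralizer ({x} : Set G))).index → False := by
    intro x hx s hs hxs a b ha hb hab has hbs h1 h2
    obtain ⟨v, hv, hva⟩ := exists_noncentral ha h1
    have h3 := coprime_of_primary' ha hs has hva
    obtain ⟨j, hj⟩ := cidx_eq_pow_of_cidx hs ha hb hab has hbs h1 h2 (h.cidx_cent hx hxs) h3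
    rw [h.cidx_cent hx hxs v hv h3] at hj
    exact hpr (((Nat.prime_dvd_prime_iff_eq hp hs).1 (hp.dvd_of_dvd_pow (hj ▸ hpm))).trans
      ((Nat.prime_dvd_prime_iff_eq hr hs).1 (hr.dvd_of_dvd_pow (hj ▸ hrm))).symm)
  obtain ⟨x, hx, s, hs, hxs⟩ := h.exists_primary
  have hxc := h.notMem hx.symm.dvd
  obtain ⟨a, b, ha, hb, has, hab, ham, hbm⟩ : ∃ a b : ℕ, a.Prime ∧ b.Prime ∧ a ≠ s ∧ a ≠ b ∧
      a ∣ m ∧ b ∣ m := by
    by_cases e : p = s
    exacts [⟨r, p, hr, hp, e ▸ Ne.symm hpr, Ne.symm hpr, hrm, hpm⟩, ⟨p, r, hp, hr, e, hpr, hpm, hrm⟩]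
  have h2 : m ∣ (center (centralizer ({x} : Set G))).index := by
    obtain ⟨z, hz, hzc, hza⟩ := h.exists_elt ha (Or.inl ham) hxc
    by_cases e : (⟨z, hz⟩ : centralizer ({x} : Set G)) ∈ center _
    · have e1 := h.eq_n hzc hx (Rk2.mem_center_cent.1 e)
      obtain ⟨v, hv, hn⟩ := h.not_comm hx
      obtain ⟨d, hd, hdc, t, ht, hdt⟩ := exists_primary_notMem
        (mt (Rk2.mem_center_cent (v := ⟨v, hv⟩)).1 hn)
      by_cases e' : t = s
      · have hd2 := d.2
        rw [← h.relIndex_eq (a := d) (x := z) (by rw [cidx, ← e1]; exact hx)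
          (mem_cent_commute.1 (e1 ▸ hd2)) (coprime_of_primary ht ha (e' ▸ has.symm)
            (by rwa [orderOf_coe]) hza) (e1 ▸ mt Rk2.mem_center_cent.2 hdc), ← e1, ← cidx_coe]
        exact cidx_dvd_index_center d
      · exact h.cidx_cent hx hxs d hdc (coprime_of_primary' ht hs e' hdt) ▸ cidx_dvd_index_center d
    · exact h.cidx_cent hx hxs _ e (coprime_of_primary' ha hs has (by
        rwa [Subgroup.orderOf_mk])) ▸ cidx_dvd_index_center _
  have hbs : b = s := by_contra fun e => h1 x hx s hs hxs a b ha hb hab has e (ham.trans h2)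
    (hbm.trans h2)
  have hq := Nat.minFac_prime h.one_lt_n.ne'
  have hqa : a ≠ n.minFac := fun e => h.ne ha ham (e ▸ n.minFac_dvd)
  have hqb : b ≠ n.minFac := fun e => h.ne hb hbm (e ▸ n.minFac_dvd)
  obtain ⟨z, hz, hzc, hzq⟩ := h.exists_elt hq (Or.inr n.minFac_dvd) hxc
  by_cases e : (⟨z, hz⟩ : centralizer ({x} : Set G)) ∈ center _
  · have e1 := h.eq_n hzc hx (Rk2.mem_center_cent.1 e)
    exact h1 z (by rw [cidx, ← e1]; exact hx) _ hq hzq a b ha hb hab hqa hqb
      (e1 ▸ ham.trans h2) (e1 ▸ hbm.trans h2)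
  · exact h1 x hx s hs hxs a _ ha hq hqa has (hbs ▸ hqb.symm) (ham.trans h2) (by
      simpa using dvd_relIndex_of_pElem hq (mem_top _) e (by rwa [Subgroup.orderOf_mk]))

variable {p q i j : ℕ}

omit [Finite G] in
theorem facts (h : Quad G (p ^ i) (q ^ j)) (hp : p.Prime) (hq : q.Prime) :
    p ∣ p ^ i ∧ q ∣ q ^ j ∧ p ≠ q ∧ ¬ p ∣ q ^ j ∧ ¬ q ∣ p ^ i := by
  have h1 : p ∣ p ^ i := dvd_pow_self p fun e => h.one_lt_m.ne' (by rw [e, pow_zero])
  have h2 : q ∣ q ^ j := dvd_pow_self q fun e => h.one_lt_n.ne' (by rw [e, pow_zero])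
  exact ⟨h1, h2, fun e => h.ne hp h1 (e ▸ h2), h.ne hp h1, fun e => h.ne hq e h2⟩

theorem central (h : Quad G (p ^ i) (q ^ j)) (hp : p.Prime) (hq : q.Prime) (t : ℕ) (ht : t.Prime)
    (h1 : t ≠ p) (h2 : t ≠ q) (d : G) (hd : ∃ k, orderOf d = t ^ k) : d ∈ center G := by
  have := Fact.mk ht
  obtain ⟨T, hT⟩ := (isPGroup_zpowers hd).exists_le_sylow
  refine sylow_le_center_of_forall_not_dvd T (fun x e => ?_) (hT (mem_zpowers d))
  have h3 : cidx x ∣ p ^ i * q ^ j := by
    by_cases hx : x ∈ center G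
    · exact cidx_eq_one_iff.2 hx ▸ one_dvd _
    · rcases h.idx x hx with a | a | a <;> simp [a]
  exact (ht.dvd_mul.1 (e.trans h3)).elim
    (fun a => h1 ((Nat.prime_dvd_prime_iff_eq ht hp).1 (ht.dvd_of_dvd_pow a)))
    fun a => h2 ((Nat.prime_dvd_prime_iff_eq ht hq).1 (ht.dvd_of_dvd_pow a))

theorem caseA (h : Quad G (p ^ i) (q ^ j)) [hp : Fact p.Prime] [hq : Fact q.Prime] {w : G}
    (hw : cidx w = q ^ j) (hwq : ∃ k, orderOf w = q ^ k) :
    (∃ P : Sylow p G, (P : Subgroup G).Normal) ∧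
      ∃ y : G, cidx y = p ^ i ∧ ∃ k, orderOf y = p ^ k := by
  obtain ⟨f1, f2, f3, f4, f5⟩ := h.facts hp.out hq.out
  obtain ⟨P, hP⟩ := (not_dvd_index_iff (centralizer {w})).1 fun e => f4 (hw ▸ e)
  have hwU := mem_pCore_of_cidx_pow hwq ⟨j, hw⟩
  have h1 : ∀ g : G, g * w * g⁻¹ ∈ centralizer (P : Set G) → ∀ d ∈ (P : Subgroup G),
      g * d * g⁻¹ ∈ (P : Subgroup G) := fun g hg d hd => by
    have h3 : g * d * g⁻¹ ∈ centralizer ({g * w * g⁻¹} : Set G) :=
      mem_cent_conj.2 (by simpa [mul_assoc] using hP hd)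
    have h4 : ∃ k, orderOf (g * d * g⁻¹) = p ^ k := by
      rw [Inv.SE.orderOf_conj]; exact orderOf_of_mem P.isPGroup' hd
    exact GT.pCore_le_sylow (P.subtype (le_cent_iff.2 hg)) (mem_pCore_of_cidx_pow (x := ⟨_, h3⟩)
      (by rwa [Subgroup.orderOf_mk]) (by
        rw [cidx_mk]
        by_cases e : centralizer ({g * w * g⁻¹} : Set G) ≤ centralizer {g * d * g⁻¹}
        · exact ⟨0, relIndex_eq_one.2 e⟩
        · exact ⟨i, h.relIndex_eq ((cidx_conj w g).trans hw) (mem_cent_commute.1 h3)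
            (coprime_of_primary hp.out hq.out f3 h4 (by rwa [Inv.SE.orderOf_conj])) e⟩))
  have h2 : pCore q G ≤ pCore q G ⊓ centralizer (P : Set G) := by
    by_contra hn'
    obtain ⟨g, hg, hgV, hgn⟩ := Inv.exists_mem_normalizer_of_lt (GT.isPGroup_pCore q)
      inf_le_left hn'
    refine hgV ⟨hg, mem_centralizer_iff.2 fun d hd => ?_⟩
    have h6 := eq_one_of_primary hp.out hq.out f3 (orderOf_of_mem P.isPGroup' (mul_mem
      (h1 g ((mem_normalizer_iff.1 hgn w).1 ⟨hwU, le_cent_iff.1 hP⟩).2 d hd) (inv_mem hd)))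
      (orderOf_of_mem (GT.isPGroup_pCore q) (by
        simpa [mul_assoc] using mul_mem hg (Normal.conj_mem inferInstance _ (inv_mem hg) d)))
    rw [mul_inv_eq_one, mul_inv_eq_iff_eq_mul] at h6
    exact h6.symm
  refine ⟨⟨P, ⟨fun d hd g => h1 g (h2 (Normal.conj_mem inferInstance _ hwU g)).2 d hd⟩⟩, ?_⟩
  obtain ⟨y, hy, s, hs, hys⟩ := h.symm.exists_primary
  by_cases e : s = p
  · exact ⟨y, hy, e ▸ hys⟩
  obtain rfl : s = q := by_contra fun e' =>
    h.symm.notMem hy.symm.dvd (h.central hp.out hq.out s hs e e' y hys)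
  obtain ⟨Q, hQ⟩ := (not_dvd_index_iff (centralizer {y})).1 fun e => f5 (hy ▸ e)
  have hyw : y ∈ centralizer ({w} : Set G) := mem_cent_symm.1 (hQ (GT.pCore_le_sylow Q hwU))
  obtain ⟨R, hR⟩ := (isPGroup_zpowers (p := s) (x := (⟨y, hyw⟩ : centralizer ({w} : Set G)))
    (by rwa [Subgroup.orderOf_mk])).exists_le_sylow
  obtain ⟨hRn, H, hH, h3, h4, h5⟩ := S4035.result (fun x hx e => by
    rw [ncard_carrier_mk] at e
    by_cases hc : x ∈ center (centralizer ({w} : Set G))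
    · exact hs.not_dvd_one (cidx_eq_one_iff.2 hc ▸ e)
    · exact f5 (h.cidx_cent hw hwq x hc hx ▸ e)) R
  refine absurd (hy ▸ f1) (not_dvd_cidx_of_sylow_le P fun d hd => mem_cent.2 (congrArg Subtype.val
    (commute_of_normal_of_disjoint H R hH hRn (disjoint_iff.2 (inf_comm H _ ▸ h4)) ⟨d, hP hd⟩ _
      (GT.mem_of_coprime_orderOf_index ?_) (hR (mem_zpowers _)))))
  rw [← relIndex_top_right, ← h5, relIndex_sup_right, Subgroup.orderOf_mk]
  obtain ⟨c, hc⟩ := IsPGroup.iff_card.1 R.isPGroup'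
  exact ((coprime_of_primary' hp.out hs f3 (orderOf_of_mem P.isPGroup' hd)).pow_right
    c).coprime_dvd_right (hc ▸ relIndex_dvd_card _ _)

theorem pCore_le (h : Quad G (p ^ i) (q ^ j)) [hp : Fact p.Prime] [hq : Fact q.Prime]
    (h1 : ∀ w : G, (∃ k, orderOf w = q ^ k) → cidx w ≠ q ^ j)
    (h2 : ∀ w : G, (∃ k, orderOf w = p ^ k) → cidx w ≠ p ^ i) {u : G}
    (hu : ∃ k, orderOf u = p ^ k) : pCore p G ≤ centralizer {u} := by
  obtain ⟨f1, f2, f3, f4, f5⟩ := h.facts hp.out hq.out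
  by_cases huc : u ∈ center G
  · exact cent_eq_top_iff.2 huc ▸ le_top
  rcases h.idx u huc with e | e | e
  · exact absurd e (h2 u hu)
  · obtain ⟨P, hP⟩ := (not_dvd_index_iff (centralizer {u})).1 fun a => f4 (e ▸ a)
    exact (GT.pCore_le_sylow P).trans hP
  obtain ⟨w, hw, hwc, hwq⟩ := h.exists_elt hq.out (Or.inr f2) huc
  have h3 := h.min e (mem_cent_commute.1 hw).symm (coprime_of_primary hp.out hq.out f3 hu hwq)
  refine le_of_not_dvd_relIndex (GT.isPGroup_pCore p) (pCore_le_cent hp.out hu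
    (coprime_of_primary' hq.out hp.out f3.symm hwq) (mem_cent_commute.1 hw).symm h3) fun a => ?_
  have h4 := relIndex_mul_index h3
  change _ * cidx w = cidx u at h4
  rcases h.idx w hwc with b | b | b
  · rw [b, e, mul_comm (p ^ i)] at h4
    exact f4 (Nat.eq_of_mul_eq_mul_right (pow_pos hp.out.pos i) h4 ▸ a)
  · exact h1 w hwq b
  · rw [b, ← e, mul_eq_right₀ (cidx_ne_zero u)] at h4
    exact hp.out.not_dvd_one (h4 ▸ a)

theorem caseB (h : Quad G (p ^ i) (q ^ j)) [hp : Fact p.Prime] [hq : Fact q.Prime]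
    (h1 : ∀ w : G, (∃ k, orderOf w = q ^ k) → cidx w ≠ q ^ j)
    (h2 : ∀ w : G, (∃ k, orderOf w = p ^ k) → cidx w ≠ p ^ i) {u : G}
    (hu : ∃ k, orderOf u = p ^ k) (huF : u ∉ fittingSubgroup G) :
    p ^ i < q ^ j ∧ ∃ w : G, (∃ k, orderOf w = q ^ k) ∧ w ∉ fittingSubgroup G := by
  obtain ⟨f1, f2, f3, f4, f5⟩ := h.facts hp.out hq.out
  have h3 := h.central hp.out hq.out
  have := isSolvable_of_primary_central h3
  have h4 : ∀ g : G, pCore p G ≤ centralizer {g} → pCore q G ≤ centralizer {g} →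
      g ∈ fittingSubgroup G := fun g a b => GT.centralizer_fitting_le (le_cent_iff.1
    (GT.fitting_le_iff.2 fun t ht => by
      by_cases e : t = p
      · exact e ▸ a
      by_cases e' : t = q
      · exact e' ▸ b
      have := Fact.mk ht
      exact fun d hd => center_le_cent g (h3 t ht e e' d (orderOf_of_mem (GT.isPGroup_pCore t) hd))))
  have h5 := fun w => h.symm.pCore_le h2 h1 (u := w)
  set V := pCore q G
  set F := fittingSubgroup G
  have hV : ∀ v : V, ∃ k, orderOf (v : G) = q ^ k := fun v =>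
    orderOf_of_mem (GT.isPGroup_pCore q) v.2
  have hFV : ∀ v : V, F ≤ centralizer {(v : G)} := fun v => GT.fitting_le_iff.2 fun t ht => by
    by_cases e : t = q
    · exact e ▸ h5 v (hV v)
    have := Fact.mk ht
    have := GT.isNilpotent_fitting (G := G)
    exact fun d hd => mem_cent_commute.2 (GT.commute_of_coprime_of_isNilpotent
      (GT.pCore_le_fitting ht hd) (GT.pCore_le_fitting hq.out v.2)
      (coprime_of_primary ht hq.out e (orderOf_of_mem (GT.isPGroup_pCore t) hd) (hV v)))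
  let f := QuotientGroup.mk' F
  obtain ⟨x, hxp, hxF, hxc⟩ : ∃ x : G, (∃ k, orderOf x = p ^ k) ∧ x ∉ F ∧ f x ∈ center (G ⧸ F) := by
    obtain ⟨z, -, hz, hzi⟩ := exists_central_of_index (G := G ⧸ F) (H := ⊤) hp.out
      (by have := dvd_relIndex_of_pElem hp.out (mem_top u) huF hu; rwa [relIndex_top_right] at this) (by
        rw [index_top]; exact hp.out.not_dvd_one)
    rw [top_inf_eq] at hzi
    obtain ⟨x, rfl, hxp⟩ := H96.exists_pElement_lift (QuotientGroup.mk'_surjective F) (p := p)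
      (y := z) ⟨1, by rw [hz, pow_one]⟩
    refine ⟨x, hxp, fun e => ne_one_of_prime hp.out hz ((QuotientGroup.eq_one_iff x).2 e),
      cidx_eq_one_iff.1 (Nat.eq_one_iff_not_exists_prime_dvd.2 fun t ht e => ?_)⟩
    by_cases e' : t = p
    · exact hzi (e' ▸ e)
    have := Fact.mk ht
    refine not_dvd_cidx_of_sylow_le ((default : Sylow t G).mapSurjective
      (QuotientGroup.mk'_surjective F)) ?_ e
    rintro _ ⟨d, hd, rfl⟩
    have h6 := orderOf_of_mem (default : Sylow t G).isPGroup' hd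
    by_cases e'' : t = q
    · have h7 := h4 (d * x * d⁻¹ * x⁻¹) (le_cent_iff.2 (mul_mem (Normal.conj_mem inferInstance _
        (le_cent_iff.1 (h.pCore_le h1 h2 hxp)) d) (inv_mem (le_cent_iff.1 (h.pCore_le h1 h2 hxp)))))
        (le_cent_iff.2 (by simpa [mul_assoc] using (mul_mem (le_cent_iff.1 (h5 d (e'' ▸ h6)))
          (Normal.conj_mem inferInstance _ (inv_mem (le_cent_iff.1 (h5 d (e'' ▸ h6)))) x))))
      have h8 := (QuotientGroup.eq_one_iff _).2 h7
      exact mem_cent.2 (by simpa [mul_inv_eq_one, mul_inv_eq_iff_eq_mul, f] using h8)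
    · exact map_cent_le _ x (mem_map_of_mem _ (center_le_cent x (h3 t ht e' e'' d h6)))
  let : CommGroup V := { (inferInstance : Group V) with
    mul_comm := fun a b => Subtype.ext (mem_cent.1 (h5 b (hV b) a.2)) }
  let φ : G →* MulAut V := MulAut.conjNormal
  have hφ : ∀ (g : G) (v : V), φ g v = v ↔ Commute g v := fun g v => by
    rw [Subtype.ext_iff, ← mem_cent_commute, mem_cent']
    rfl
  have hxφ : ∀ (g : G) (v : V), φ x (φ g v) = φ g (φ x v) := fun g v => by
    have h8 : (g * x)⁻¹ * (x * g) ∈ F := QuotientGroup.eq.1 (mem_center_iff.1 hxc (g : G ⧸ F))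
    rw [← MulAut.mul_apply, ← MulAut.mul_apply, ← map_mul, ← map_mul,
      ← mul_inv_cancel_left (g * x) (x * g), map_mul, MulAut.mul_apply,
      (hφ _ v).2 (mem_cent_commute.1 (hFV v h8))]
  let θ : V →* V := (φ x).toMonoidHom / MonoidHom.id V
  have hθ : ∀ v, θ v = φ x v * v⁻¹ := fun v => div_eq_mul_inv _ _
  have hθ1 : ∀ v, θ v = 1 ↔ Commute x v := fun v => by rw [hθ, mul_inv_eq_one, hφ]
  have hθφ : ∀ g v, φ g (θ v) = θ (φ g v) := fun g v => by rw [hθ, hθ, map_mul, map_inv, hxφ]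
  have h6 : ∀ v : V, (v : G) ∉ center G → cidx (v : G) = p ^ i := fun v hv => by
    have h7 : ¬ q ∣ cidx (v : G) := not_dvd_cidx_of_sylow_le default fun d hd =>
      mem_cent_symm.1 (h5 d (orderOf_of_mem (default : Sylow q G).isPGroup' hd) v.2)
    rcases h.idx v hv with a | a | a
    exacts [a, absurd (a ▸ f2) h7, absurd (a ▸ f2.mul_left _) h7]
  have h7 : ∀ v : V, ¬ Commute x v → ((θ v : V) : G) ∉ center G := fun v hv e => by
    refine hv (commute_of_commute_mk ?_ ?_)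
    · have e6 := (QuotientGroup.eq_one_iff _).2 e
      rw [hθ] at e6
      change ((x * v * x⁻¹ * (v : G)⁻¹ : G) : G ⧸ center G) = 1 at e6
      change (x : G ⧸ center G) * _ = _ * _
      simpa [mul_inv_eq_one, mul_inv_eq_iff_eq_mul] using e6
    · exact ((coprime_of_primary hp.out hq.out f3 hxp (hV v)).coprime_dvd_left
        (orderOf_map_dvd (QuotientGroup.mk' _) x)).coprime_dvd_right
        (orderOf_map_dvd (QuotientGroup.mk' _) _)
  have h8 : ∀ v : V, ¬ Commute x v →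
      centralizer ({(v : G)} : Set G) = centralizer {((θ v : V) : G)} := fun v hv =>
    eq_of_le_of_index (fun g hg => mem_cent_commute.2 ((hφ g _).1 (by
      rw [hθφ, (hφ g v).2 (mem_cent_commute.1 hg)]))) ((h6 v fun e =>
        hv (mem_center_iff.1 e x)).trans (h6 _ (h7 v hv)).symm)
  obtain ⟨v, hvV, hv⟩ := SetLike.not_le_iff_exists.1 fun e => hxF (h4 x (h.pCore_le h1 h2 hxp) e)
  lift v to V using hvV
  have hv' : ¬ Commute x v := fun e => hv (mem_cent_commute.2 e.symm)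
  have h9 : ∀ a : V, Commute x a → (a : G) ∈ center G := fun a ha => by
    by_contra hac
    have e1 : θ (a * v) = θ v := by rw [map_mul, (hθ1 a).2 ha, one_mul]
    have e2 := h8 (a * v) fun e => hv' ((hθ1 v).1 (e1 ▸ (hθ1 _).2 e))
    rw [e1, ← h8 v hv'] at e2
    refine hv' (mem_cent_commute.1 ((eq_of_le_of_index (fun g hg => mem_cent_commute.2 ?_)
      ((h6 v fun e => hv' (mem_center_iff.1 e x)).trans (h6 a hac).symm)).ge
      (mem_cent_commute.2 ha)))
    simpa using (mem_cent_commute.1 (e2.ge hg)).mul_right (mem_cent_commute.1 hg).inv_right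
  have hxc' : x ∉ center G := fun e => hv' (mem_center_iff.1 e v).symm
  obtain ⟨w, hw, hwc, hwq⟩ := h.exists_elt hq.out (Or.inr f2) hxc'
  have hwF : w ∉ F := fun e => hwc (h9 ⟨w, GT.le_pCore_of_le_fitting (isPGroup_zpowers hwq)
    (zpowers_le.2 e) (mem_zpowers w)⟩ (mem_cent_commute.1 hw).symm)
  refine ⟨?_, w, hwq, hwF⟩
  have h10 : cidx x = q ^ j := ((h.idx x hxc').resolve_left (h2 x hxp)).resolve_right fun e =>
    hwF (h4 w (pCore_le_cent hp.out hxp (coprime_of_primary' hq.out hp.out f3.symm hwq)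
      (mem_cent_commute.1 hw).symm (h.min e (mem_cent_commute.1 hw).symm
        (coprime_of_primary hp.out hq.out f3 hxp hwq))) (h5 w hwq))
  have h11 : Nat.card (θ.range.map V.subtype) ∣ q ^ j := by
    rw [card_map_of_injective V.subtype_injective, ← index_ker, ← h10]
    refine (dvd_of_eq ?_).trans (relIndex_cent_dvd V x)
    congr 1
    ext a
    rw [MonoidHom.mem_ker, hθ1, mem_subgroupOf, mem_cent_commute, Commute.symm_iff]
  refine lt_of_lt_of_le ?_ (Nat.le_of_dvd (pow_pos hq.out.pos j) h11)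
  rw [← h6 _ (h7 v hv'), cidx, ← relIndex_top_right, ← ncard_conj_orbit_subgroup]
  refine Set.ncard_lt_ncard (t := (θ.range.map V.subtype : Set G)) ⟨?_, fun e => ?_⟩
  · rintro _ ⟨g, -, rfl⟩
    exact ⟨_, ⟨φ g v, rfl⟩, congrArg Subtype.val (hθφ g v).symm⟩
  · obtain ⟨g, -, hg⟩ := e (one_mem _)
    exact h7 v hv' (conj_eq_one_iff.1 hg ▸ one_mem _)

theorem isNilpotent (h : Quad G (p ^ i) (q ^ j)) (hp : p.Prime) (hq : q.Prime) :
    Group.IsNilpotent G := by
  have := Fact.mk hp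
  have := Fact.mk hq
  have h1 : ∀ {P : Sylow p G} {Q : Sylow q G}, (P : Subgroup G).Normal → (Q : Subgroup G).Normal →
      Group.IsNilpotent G := fun {P Q} hP hQ => by
    refine (Group.isNilpotent_of_finite_tfae.out 3 0).1 fun (t : ℕ) (ht : Fact t.Prime) (T : Sylow t G) => ?_
    by_cases e : t = p
    · subst e
      have := Sylow.unique_of_normal P hP
      exact Subsingleton.elim P T ▸ hP
    by_cases e' : t = q
    · subst e'
      have := Sylow.unique_of_normal Q hQ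
      exact Subsingleton.elim Q T ▸ hQ
    exact ⟨fun a ha g => by
      rwa [mem_center_iff.1 (h.central hp hq t ht.out e e' a (orderOf_of_mem T.isPGroup' ha)) g,
        mul_inv_cancel_right]⟩
  by_cases h2 : ∃ w : G, (∃ k, orderOf w = q ^ k) ∧ cidx w = q ^ j
  · obtain ⟨w, hw, hw'⟩ := h2
    obtain ⟨⟨P, hP⟩, y, hy, hy'⟩ := h.caseA hw' hw
    obtain ⟨⟨Q, hQ⟩, -⟩ := h.symm.caseA hy hy'
    exact h1 hP hQ
  by_cases h3 : ∃ w : G, (∃ k, orderOf w = p ^ k) ∧ cidx w = p ^ i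
  · obtain ⟨w, hw, hw'⟩ := h3
    obtain ⟨-, y, hy, hy'⟩ := h.symm.caseA hw' hw
    exact absurd ⟨y, hy', hy⟩ h2
  push Not at h2 h3
  have h4 : ∀ u : G, (∃ k, orderOf u = p ^ k) → u ∈ fittingSubgroup G := fun u hu => by
    by_contra e
    obtain ⟨h5, w, hw, hw'⟩ := h.caseB h2 h3 hu e
    exact h5.not_gt (h.symm.caseB h3 h2 hw hw').1
  have h5 : ∀ u : G, (∃ k, orderOf u = q ^ k) → u ∈ fittingSubgroup G := fun u hu => by
    by_contra e
    obtain ⟨-, w, hw, hw'⟩ := h.symm.caseB h3 h2 hu e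
    exact hw' (h4 w hw)
  refine h1 (P := default) (Q := default) ?_ ?_
  · rw [le_antisymm (GT.le_pCore_of_le_fitting (default : Sylow p G).isPGroup' fun a ha =>
      h4 a (orderOf_of_mem (default : Sylow p G).isPGroup' ha)) (GT.pCore_le_sylow _)]
    infer_instance
  · rw [le_antisymm (GT.le_pCore_of_le_fitting (default : Sylow q G).isPGroup' fun a ha =>
      h5 a (orderOf_of_mem (default : Sylow q G).isPGroup' ha)) (GT.pCore_le_sylow _)]
    infer_instance

theorem exists_pow (h : Quad G m n) : ∃ p i : ℕ, p.Prime ∧ 0 < i ∧ m = p ^ i := by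
  have hp := Nat.minFac_prime h.one_lt_m.ne'
  have h1 := Nat.eq_prime_pow_of_unique_prime_dvd (by have := h.one_lt_m; omega)
    fun {t} ht e => h.eq_of_dvd ht hp e m.minFac_dvd
  exact ⟨_, _, hp, Nat.pos_of_ne_zero fun e => h.one_lt_m.ne' (by rw [h1, e, pow_zero]), h1⟩

end Quad


/-- Let G be a finite group whose conjugacy class sizes are exactly 1, n, m and nm for coprime integers n, m > 1. Then G is nilpotent and n and m are prime powers. -/
theorem result {G : Type*} [Group G] [Finite G] (n m : ℕ) (hn : 1 < n) (hm : 1 < m) (hcop : n.Coprime m)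
    (h : Set.range (fun x : G => (Subgroup.centralizer ({x} : Set G)).index) = ({1, n, m, n * m} : Set ℕ)) :
    Group.IsNilpotent G ∧ IsPrimePow n ∧ IsPrimePow m := by
  have hQ : Quad G n m := ⟨fun x hx => by
    have h1 : cidx x ∈ ({1, n, m, n * m} : Set ℕ) := h ▸ ⟨x, rfl⟩
    exact h1.resolve_left fun e => hx (cidx_eq_one_iff.1 e), hn, hm, hcop,
    (h.symm ▸ by simp : n ∈ Set.range fun x : G => cidx x),
    (h.symm ▸ by simp : m ∈ Set.range fun x : G => cidx x),
    (h.symm ▸ by simp : n * m ∈ Set.range fun x : G => cidx x)⟩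
  obtain ⟨p, i, hp, hi, rfl⟩ := hQ.exists_pow
  obtain ⟨q, j, hq, hj, rfl⟩ := hQ.symm.exists_pow
  exact ⟨hQ.isNilpotent hp hq, ⟨p, i, hp.prime, hi, rfl⟩, ⟨q, j, hq.prime, hj, rfl⟩⟩

end Cfsg.Agent.S4146
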