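import Mathlib
import Cfsg.Statements.S4157
import Cfsg.Agent.FG.ConjCount
import Cfsg.Agent.GT.PGroupMaxClass

set_option autoImplicit false
open Cfsg

namespace Cfsg.Agent.S4157

open Cfsg.Agent.GT Cfsg.Agent.FG.Kul Subgroup

universe u

def MC (G : Type*) [Group G] : Prop := ∃ (m : ℕ) (a b : G), PG.MaxTwo m a b

section
variable {G : Type*} [Group G] [Finite G]

theorem exists_center_notMem (h16 : Nat.card G = 16) (hc : Nat.card (commutator G) = 2)
    {M : Subgroup G} (hM : M.index = 2) {x y : G} (hxy : zpowers x ⊔ zpowers y = M)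
    (hna : ¬ IsMulCommutative M) : ∃ w ∈ center G, w ∉ M := by
  have hG : IsPGroup 2 G := IsPGroup.of_card (n := 4) h16
  have hZ := PG.le_center_of_normal_card_prime hG _ hc
  have h1 := Nat.le_of_dvd two_pos (hc ▸ PG.index_centralizer_dvd_card_commutator hZ x)
  have h2 := Nat.le_of_dvd two_pos (hc ▸ PG.index_centralizer_dvd_card_commutator hZ y)
  have hC : centralizer (M : Set G) = centralizer {x} ⊓ centralizer {y} := by
    rw [← hxy, centralizer_sup, centralizer_zpowers, centralizer_zpowers]
  have h3 : (centralizer (M : Set G)).index ≤ 4 := by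
    rw [hC]
    exact index_inf_le.trans (Nat.mul_le_mul h1 h2)
  have h4 : ¬ centralizer (M : Set G) ≤ M := by
    intro h
    have h5 := Nat.le_of_dvd (Nat.pos_of_ne_zero FiniteIndex.index_ne_zero)
      (PG.sq_dvd_index_center (hG.to_subgroup M) hna)
    have h6 := relIndex_mul_index h
    rw [center_eq_subgroupOf] at h5
    rw [hM, relIndex] at h6
    omega
  obtain ⟨w, hw, hwM⟩ := SetLike.not_le_iff_exists.1 h4
  refine ⟨w, ?_, hwM⟩
  rw [← centralizer_top, ← PG.sup_zpowers_eq_top_of_index_prime Nat.prime_two hM hwM,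
    centralizer_sup, centralizer_zpowers]
  exact ⟨hw, mem_centralizer_singleton_iff.2 rfl⟩

theorem comm_iff_center_le (h16 : Nat.card G = 16) (hc : Nat.card (commutator G) = 2)
    (hw : ¬ center G ≤ commutator G) {H : Subgroup G} (hH : H.index = 2) :
    IsMulCommutative H ↔ center G ≤ H := by
  have hG : IsPGroup 2 G := IsPGroup.of_card (n := 4) h16
  have hZ := PG.le_center_of_normal_card_prime hG _ hc
  constructor
  · intro h
    by_contra hn
    obtain ⟨w, hw, hwH⟩ := SetLike.not_le_iff_exists.1 hn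
    have h1 := PG.isMulCommutative_sup_zpowers h (center_le_centralizer _ hw)
    rw [PG.sup_zpowers_eq_top_of_index_prime Nat.prime_two hH hwH,
      PG.isMulCommutative_top_iff] at h1
    rw [commutator_eq_bot, card_bot] at hc
    omega
  · intro h
    by_contra hn
    have h1 := PG.mul_card_le_of_lt (hG.to_subgroup _) (lt_of_le_not_ge hZ hw)
    have h2 := Nat.le_of_dvd (Nat.pos_of_ne_zero FiniteIndex.index_ne_zero)
      (PG.sq_dvd_index_center (hG.to_subgroup H) hn)
    have h3 : Nat.card (center G) ≤ Nat.card (center H) := by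
      rw [← card_map_of_injective H.subtype_injective, map_center_subtype]
      exact card_le_of_le (le_inf h (center_le_centralizer _))
    have h4 := (center H).index_mul_card
    have h5 := H.index_mul_card
    rw [hH, h16] at h5
    rw [hc] at h1
    nlinarith

theorem even_card_MC (hG : IsPGroup 2 G) (hn : ¬ MC G) :
    Even (Nat.card {H : Subgroup G // H.index = 2 ∧ MC H}) := by
  by_cases hex : ∃ M : Subgroup G, M.index = 2 ∧ MC M
  swap
  · have : IsEmpty {H : Subgroup G // H.index = 2 ∧ MC H} := ⟨fun H => hex ⟨H.1, H.2⟩⟩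
    rw [Nat.card_of_isEmpty]
    exact Even.zero
  obtain ⟨M, hM, n, a, b, hab⟩ := hex
  have hGc : Nat.card G = 2 ^ (n + 3) := by
    rw [← M.index_mul_card, hM, hab.card_eq, ← pow_succ']
  have hna : ¬ IsMulCommutative G := fun h => hab.not_isMulCommutative inferInstance
  have hcyc : ¬ IsCyclic G := fun h => hab.not_isCyclic inferInstance
  have hcardc : ∀ H : Subgroup G, H.index = 2 → MC H → Nat.card (⁅H, H⁆ : Subgroup G) = 2 ^ n := by
    rintro H hH ⟨n', a', b', h'⟩
    have h1 := (commutator H).index_mul_card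
    rw [h'.index_commutator, card_of_index_prime hGc hH, pow_add, mul_comm (2 ^ n)] at h1
    rw [← H.map_subtype_commutator, card_map_of_injective H.subtype_injective]
    exact Nat.eq_of_mul_eq_mul_left (by norm_num) h1
  have hc : Nat.card (commutator G) = 2 ^ n := by
    obtain ⟨j, hj⟩ := PG.card_eq_pow_of_isPGroup (hG.to_subgroup (commutator G))
    have h1 := (commutator G).index_mul_card
    obtain ⟨c, hc⟩ := PG.sq_le_index_commutator_of_not_isCyclic hG hcyc
    have h2 : 2 ^ n ∣ Nat.card (commutator G) :=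
      hcardc M hM ⟨n, a, b, hab⟩ ▸ card_dvd_of_le (commutator_mono le_top le_top)
    have h3 : 2 ^ (2 + j) ∣ 2 ^ (n + 3) := ⟨c, by rw [← hGc, ← h1, hc, hj]; ring⟩
    rw [hj] at h2 ⊢
    rw [Nat.pow_dvd_pow_iff_le_right one_lt_two] at h2 h3
    by_contra h4
    have h5 : j = n + 1 := by
      have : j ≠ n := fun h => h4 (by rw [h])
      omega
    apply hn
    refine PG.exists_maxTwo_of_index_commutator hG hna ?_
    rw [hj, hGc, h5, show 2 ^ (n + 3) = 4 * 2 ^ (n + 1) by ring] at h1
    exact Nat.eq_of_mul_eq_mul_right (by positivity) h1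
  have hMG : ∀ H : Subgroup G, H.index = 2 → MC H → ⁅H, H⁆ = commutator G := fun H hH h =>
    PG.eq_of_le_of_card_le (commutator_mono le_top le_top) (by rw [hc, hcardc H hH h])
  have hgen : commutator G = zpowers ((a : G) ^ 2) := by
    rw [← hMG M hM ⟨n, a, b, hab⟩, ← M.map_subtype_commutator, hab.commutator_eq,
      MonoidHom.map_zpowers]
    rfl
  obtain ⟨E, hE⟩ : ∃ E, E = powerClosure 2 1 (commutator G) := ⟨_, rfl⟩
  have hEn : E.Normal := by rw [hE]; infer_instance
  have hEle : E ≤ commutator G := hE ▸ PG.powerClosure_le 1 _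
  have hEi : E.relIndex (commutator G) = 2 := by
    have h1 : IsCyclic (commutator G) := by rw [hgen]; infer_instance
    rw [hE, PG.relIndex_powerClosure_eq_card_omegaOne inferInstance]
    refine PG.card_omegaOne_eq_of_isCyclic (hG.to_subgroup _) fun h => ?_
    rw [h, card_bot] at hc
    have := hab.one_le
    exact absurd hc.symm (Nat.one_lt_pow (by omega) one_lt_two).ne'
  have hEmax : ∀ L : Subgroup G, L ≤ commutator G → ¬ L ≤ E → L = commutator G := by
    intro L hL hLE
    have h1 : L.subgroupOf (commutator G) ⊔ frattini (commutator G) = ⊤ := by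
      apply map_injective (commutator G).subtype_injective
      rw [Subgroup.map_sup, PG.map_frattini_subtype (hG.to_subgroup _), subgroupOf_map_subtype,
        ← MonoidHom.range_eq_map, range_subtype, inf_eq_left.2 hL, ← hE]
      refine (PG.eq_or_eq_of_relIndex_prime Nat.prime_two
        (le_sup_right.trans le_sup_right) (sup_le hL (sup_le ?_ hEle)) hEi).resolve_left
        fun h => hLE (le_sup_left.trans h.le)
      exact commutator_le_left _ _
    exact le_antisymm hL (subgroupOf_eq_top.1 (frattini_nongenerating h1))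
  let π := QuotientGroup.mk' E
  have hπ : Function.Surjective π := QuotientGroup.mk'_surjective E
  have hcomm : ∀ H : Subgroup G, IsMulCommutative (H.map π) ↔ ⁅H, H⁆ ≤ E := fun H => by
    rw [commutator_le_iff_map_mk', commutator_eq_bot_iff_le_centralizer,
      PG.isMulCommutative_iff_le_centralizer]
  have hEH : ∀ H : Subgroup G, H.index = 2 → E ≤ H := fun H hH =>
    hEle.trans (PG.commutator_le_of_index_prime hG hH)
  have hidx : ∀ H : Subgroup G, H.index = 2 → (H.map π).index = 2 := fun H hH => by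
    rw [index_map_eq _ hπ (by rw [QuotientGroup.ker_mk']; exact hEH H hH), hH]
  have h16 : Nat.card (G ⧸ E) = 16 := by
    have h1 := relIndex_mul_index hEle
    have h2 := (commutator G).index_mul_card
    rw [hc, hGc, show 2 ^ (n + 3) = 8 * 2 ^ n by ring] at h2
    rw [hEi, Nat.eq_of_mul_eq_mul_right (by positivity) h2] at h1
    exact h1.symm
  have hc' : commutator (G ⧸ E) = (commutator G).map π := by
    rw [commutator_def, commutator_def, map_commutator, map_top_of_surjective _ hπ]
  have hc2 : Nat.card (commutator (G ⧸ E)) = 2 := by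
    rw [hc']
    exact (Nat.card_congr (quotientSubgroupOfEquivMap _ E).toEquiv).symm.trans hEi
  have hMC : ∀ H : Subgroup G, H.index = 2 → (MC H ↔ ¬ ⁅H, H⁆ ≤ E) := by
    intro H hH
    constructor
    · intro h h1
      rw [hMG H hH h, ← relIndex_eq_one, hEi] at h1
      omega
    · intro h
      have h1 := hEmax _ (commutator_mono le_top le_top) h
      refine PG.exists_maxTwo_of_index_commutator (hG.to_subgroup H) (fun h2 => h ?_) ?_
      · rw [commutator_eq_bot_iff_le_centralizer.2
          (PG.isMulCommutative_iff_le_centralizer.1 h2)]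
        exact bot_le
      · have h2 := (commutator H).index_mul_card
        rw [← card_map_of_injective H.subtype_injective, H.map_subtype_commutator, h1, hc,
          card_of_index_prime hGc hH, show 2 ^ (n + 2) = 4 * 2 ^ n by ring] at h2
        exact Nat.eq_of_mul_eq_mul_right (by positivity) h2
  obtain ⟨w, hw, hwM⟩ := exists_center_notMem h16 hc2 (hidx M hM) (x := π a) (y := π b) (by
    rw [← MonoidHom.map_zpowers, ← MonoidHom.map_zpowers, ← Subgroup.map_sup]
    congr 1
    have h1 := congrArg (map M.subtype) hab.sup_eq_top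
    rwa [Subgroup.map_sup, MonoidHom.map_zpowers, MonoidHom.map_zpowers,
      ← MonoidHom.range_eq_map, range_subtype] at h1)
    (by rw [hcomm]; exact (hMC M hM).1 ⟨n, a, b, hab⟩)
  have hw' : ¬ center (G ⧸ E) ≤ commutator (G ⧸ E) := fun h =>
    hwM (PG.commutator_le_of_index_prime (hG.to_quotient E) (hidx M hM) (h hw))
  have hZ : (center (G ⧸ E)).comap π ≠ ⊤ := by
    intro h
    have h1 : center (G ⧸ E) = ⊤ := by rw [← map_comap_mk' (center (G ⧸ E)), h,
      map_top_of_surjective _ hπ]
    have h2 := (comm_iff_center_le h16 hc2 hw' (hidx M hM)).2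
    have h3 := PG.isMulCommutative_of_le (A := M.map π) (B := center (G ⧸ E))
      (h1 ▸ le_top) inferInstance
    exact (hMC M hM).1 ⟨n, a, b, hab⟩ ((hcomm M).1 h3)
  have h1 := modEq_one_of_cast (card_max_of_not_isCyclic hG hcyc)
  have h2 : Nat.card {H : Subgroup G // (center (G ⧸ E)).comap π ≤ H ∧ H.index = 2} ≡ 1 [MOD 2] := by
    have h3 := card_max_ge hG hZ
    have h4 := (ZMod.natCast_eq_natCast_iff _ _ _).1 (h3.trans (by push_cast; rfl :
      _ = ((1 + 2 * Nat.card {L : Subgroup G // (center (G ⧸ E)).comap π ≤ L ∧ frattini G ≤ L ∧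
        L.index = 2 ^ 2} : ℕ) : ZMod (2 ^ 2))))
    unfold Nat.ModEq at h4 ⊢
    omega
  rw [card_split _ (fun H : Subgroup G => MC H), card_congr_pred
    (P := fun H : Subgroup G => H.index = 2 ∧ ¬ MC H)
    (Q := fun H => (center (G ⧸ E)).comap π ≤ H ∧ H.index = 2) ?_] at h1
  · rw [Nat.even_iff]
    unfold Nat.ModEq at h1 h2
    omega
  · intro H
    rw [and_comm]
    refine and_congr_left fun hH => ?_
    rw [hMC H hH, not_not, ← hcomm, comm_iff_center_le h16 hc2 hw' (hidx H hH)]
    constructor
    · intro h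
      refine (comap_mono h).trans ?_
      rw [comap_map_mk', sup_eq_left.2 (hEH H hH)]
    · intro h
      rw [← map_comap_mk' (center (G ⧸ E))]
      exact map_mono h

theorem odd_noncyclic (hG : IsPGroup 2 G) (hc : ¬ IsCyclic G) (hn : ¬ MC G) {m : ℕ}
    (hm : Nat.card G = 2 ^ (m + 3)) :
    Nat.card {M : Subgroup G // M.index = 2 ∧ ¬ IsCyclic M} ≡ 1 [MOD 2] := by
  by_cases hM : ∃ M : Subgroup G, M.index = 2 ∧ IsCyclic M
  · obtain ⟨M, hMi, hMc⟩ := hM
    obtain ⟨a, rfl, ha⟩ := PG.exists_orderOf_eq_of_isCyclic hMc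
    rw [card_of_index_prime hm hMi] at ha
    have h1 : ∃ f : G →* G, (∀ x, f x = x ^ 2 ^ (m + 1)) ∧ Nat.card f.range ≤ 2 := by
      by_cases hab : IsMulCommutative G
      · exact exists_pow_hom_of_comm hab hMi ha (by omega) hc
      obtain ⟨n, b, h | ⟨h1, h2, h3, h4, h5⟩⟩ := PG.maxTwo_or_modular hG hab hMi
      · exact absurd ⟨n, a, b, h⟩ hn
      have h6 : n = m + 1 := by
        rw [ha] at h2
        have := Nat.pow_right_injective le_rfl h2
        omega
      subst h6
      exact exists_pow_hom Nat.prime_two hMi h3 (by omega) (fun _ => h1) ha h4 h5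
    obtain ⟨f, hf1, hf2⟩ := h1
    rw [card_noncyclic_max hm ha f hf1 hf2]
  · push Not at hM
    rw [card_congr_pred (Q := fun M : Subgroup G => M.index = 2)
      (fun M => and_iff_left_of_imp (hM M))]
    exact modEq_one_of_cast (card_max_of_not_isCyclic hG hc)

theorem exists_notMem {m : ℕ} {a b : G} (h : PG.MaxTwo m a b) {M : Subgroup G} (hM : M.index = 2)
    (hne : M ≠ zpowers a) : ∃ g ∈ M, g ∉ zpowers a := by
  refine SetLike.not_le_iff_exists.1 fun hle => hne (PG.eq_of_le_of_card_le hle ?_)
  rw [card_of_index_prime h.card_eq hM, card_of_index_prime h.card_eq h.index_eq]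

theorem MC_of_ne {m : ℕ} {a b : G} (h : PG.MaxTwo m a b) (hm : 2 ≤ m) {M : Subgroup G}
    (hM : M.index = 2) (hne : M ≠ zpowers a) : MC M := by
  obtain ⟨g, hg, hga⟩ := exists_notMem h hM hne
  refine PG.exists_maxTwo_of_card_centralizer_le (h.isPGroup.to_subgroup M) ?_ (x := ⟨g, hg⟩) ?_
  · rw [card_of_index_prime h.card_eq hM]
    exact lt_of_lt_of_le (by norm_num) (Nat.pow_le_pow_right two_pos (show 3 ≤ m + 1 by omega))
  · rw [← h.card_centralizer_of_notMem hga, ← card_map_of_injective M.subtype_injective]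
    refine card_le_of_le ?_
    rintro _ ⟨x, hx, rfl⟩
    rw [SetLike.mem_coe, mem_centralizer_singleton_iff] at hx
    exact mem_centralizer_singleton_iff.2 (congrArg Subtype.val hx)

theorem even_noncyclic {m : ℕ} {a b : G} (h : PG.MaxTwo m a b) :
    Even (Nat.card {M : Subgroup G // M.index = 2 ∧ ¬ IsCyclic M}) := by
  have key : (∀ M : Subgroup G, M.index = 2 → M ≠ zpowers a → ¬ IsCyclic M) ∨
      ∀ M : Subgroup G, M.index = 2 → IsCyclic M := by
    by_cases hm : 2 ≤ m
    · left
      intro M hM hne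
      obtain ⟨n, x, y, h'⟩ := MC_of_ne h hm hM hne
      exact h'.not_isCyclic
    obtain rfl : m = 1 := by have := h.one_le; omega
    have hsq : ∀ g ∉ zpowers a, g ^ 2 = b ^ 2 := by
      intro g hg
      have hinv : b * a * b⁻¹ = a ^ (-1 : ℤ) := by
        rcases h.rel with h1 | h1 | h1
        · simpa using h1.2
        · simpa using h1.2
        · omega
      obtain ⟨i, rfl⟩ := h.exists_eq_of_notMem hg
      obtain ⟨s, hs⟩ : b ^ 2 ∈ zpowers a := sq_mem_of_index_two h.index_eq b
      have hs' : b ^ 2 = a ^ s := hs.symm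
      rw [PG.mul_zpow_sq hinv hs', hs']
      congr 1
      ring
    by_cases hb : b ^ 2 = 1
    · left
      intro M hM hne hc
      obtain ⟨x, rfl, hx⟩ := PG.exists_orderOf_eq_of_isCyclic hc
      rw [card_of_index_prime h.card_eq hM] at hx
      have h1 : x ∉ zpowers a := fun h1 => by
        obtain ⟨g, hg, hga⟩ := exists_notMem h hM hne
        exact hga (zpowers_le.2 h1 hg)
      have h2 := orderOf_le_of_pow_eq_one two_pos ((hsq x h1).trans hb)
      omega
    · right
      intro M hM
      by_cases hne : M = zpowers a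
      · rw [hne]; infer_instance
      obtain ⟨g, hg, hga⟩ := exists_notMem h hM hne
      refine isCyclic_of_orderOf_eq_card (⟨g, hg⟩ : M) ?_
      rw [Subgroup.orderOf_mk, card_of_index_prime h.card_eq hM]
      exact orderOf_eq_prime_pow (by rw [pow_one, hsq g hga]; exact hb) (h.pow_four_eq_one hga)
  rcases key with key | key
  · have h1 := modEq_one_of_cast (card_max_of_not_isCyclic h.isPGroup h.not_isCyclic)
    have : Unique {M : Subgroup G // M.index = 2 ∧ IsCyclic M} :=
      ⟨⟨⟨_, h.index_eq, inferInstance⟩⟩, fun M => Subtype.ext (by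
        by_contra hne
        exact key _ M.2.1 hne M.2.2)⟩
    rw [card_split _ (fun M : Subgroup G => IsCyclic M), Nat.card_unique] at h1
    rw [Nat.even_iff]
    unfold Nat.ModEq at h1
    omega
  · have : IsEmpty {M : Subgroup G // M.index = 2 ∧ ¬ IsCyclic M} :=
      ⟨fun M => M.2.2 (key _ M.2.1)⟩
    rw [Nat.card_of_isEmpty]
    exact Even.zero

end

open Classical in
theorem two_case (m : ℕ) : ∀ (G : Type u) [Group G] [Finite G],
    Nat.card G = 2 ^ m → ∀ k, 1 ≤ k → k < m →
      (Nat.card {Q : Subgroup G // Nat.card Q = 2 ^ k} : ZMod (2 ^ 2)) =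
        if IsCyclic G ∨ (MC G ∧ k + 2 ≤ m) then (1 : ZMod (2 ^ 2)) else 1 + ((2 : ℕ) : ZMod (2 ^ 2)) := by
  induction m with
  | zero => intro G _ _ _ k _ hk; omega
  | succ m ih =>
  intro G _ _ hG k hk1 hk2
  have hGp : IsPGroup 2 G := IsPGroup.of_card hG
  by_cases hc : IsCyclic G
  · rw [if_pos (Or.inl hc), card_eq_one_of_isCyclic (by rw [hG]; exact pow_dvd_pow 2 hk2.le),
      Nat.cast_one]
  by_cases hkm : k = m
  · subst hkm
    rw [if_neg (by rintro (h | ⟨-, h⟩); exacts [hc h, by omega]),
      ← card_index_eq_card_card (n := 2) (by rw [hG, pow_succ'])]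
    exact card_max_of_not_isCyclic hGp hc
  have := Fintype.ofFinite (Subgroup G)
  rw [recur hGp (by rw [hG]; exact pow_dvd_pow 2 (by omega)),
    sum_ite_eq _ (fun M : Subgroup G => ¬ (IsCyclic M ∨ (MC M ∧ k + 2 ≤ m))) _
      ((2 : ℕ) : ZMod (2 ^ 2)) ?_ ?_]
  · by_cases hn : MC G
    · rw [if_pos (Or.inr ⟨hn, by omega⟩), p_mul_eq_of_modEq (b := 0), Nat.cast_zero, mul_zero,
        add_zero]
      obtain ⟨n, a, b, h⟩ := hn
      have hmn := h.eq_of_card hG
      rw [Nat.modEq_zero_iff_dvd, ← even_iff_two_dvd]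
      by_cases hkm2 : k + 2 ≤ m
      · have : IsEmpty {M : Subgroup G // M.index = 2 ∧ ¬ (IsCyclic M ∨ (MC M ∧ k + 2 ≤ m))} :=
          ⟨fun M => M.2.2 (by
            by_cases hne : M.1 = zpowers a
            · left; rw [hne]; infer_instance
            · exact Or.inr ⟨MC_of_ne h (by omega) M.2.1 hne, hkm2⟩)⟩
        rw [Nat.card_of_isEmpty]
        exact Even.zero
      · rw [card_congr_pred (Q := fun M : Subgroup G => M.index = 2 ∧ ¬ IsCyclic M)
          (fun M => by simp [hkm2])]
        exact even_noncyclic h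
    · rw [if_neg (by tauto), p_mul_eq_of_modEq (b := 1), Nat.cast_one, mul_one]
      obtain ⟨n, rfl⟩ : ∃ n, m = n + 2 := ⟨m - 2, by omega⟩
      have h1 := odd_noncyclic hGp hc hn hG
      by_cases hkm2 : k + 2 ≤ n + 2
      · have h2 := even_card_MC hGp hn
        rw [card_split _ (fun M : Subgroup G => MC M), card_congr_pred
          (P := fun M : Subgroup G => (M.index = 2 ∧ ¬ IsCyclic M) ∧ MC M)
          (Q := fun M : Subgroup G => M.index = 2 ∧ MC M) (fun M => ⟨fun h => ⟨h.1.1, h.2⟩,
            fun h => ⟨⟨h.1, by obtain ⟨_, _, _, h'⟩ := h.2; exact h'.not_isCyclic⟩, h.2⟩⟩)] at h1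
        rw [card_congr_pred (Q := fun M : Subgroup G => (M.index = 2 ∧ ¬ IsCyclic M) ∧ ¬ MC M)
          (fun M => by simp only [hkm2, and_true, not_or, and_assoc])]
        rw [Nat.even_iff] at h2
        unfold Nat.ModEq at h1 ⊢
        omega
      · rwa [card_congr_pred (Q := fun M : Subgroup G => M.index = 2 ∧ ¬ IsCyclic M)
          (fun M => by simp only [hkm2, and_false, or_false])]
  · intro M hM hMc
    rw [ih M (card_of_index_prime hG hM) k hk1 (by omega), if_neg hMc, add_sub_cancel_left]
  · intro M hM hMc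
    rw [not_not] at hMc
    rw [ih M (card_of_index_prime hG hM) k hk1 (by omega), if_pos hMc, sub_self]

/-- Let G be a finite p-group of order p^m that is not cyclic and, when p = 2, not of maximal class (nilpotency class m − 1). Then for every 1 ≤ k < m the number of subgroups of G of order p^k is congruent to 1 + p modulo p². -/
theorem result {G : Type*} [Group G] [Finite G] {p : ℕ} [Fact p.Prime] (m : ℕ)
    (hG : Nat.card G = p ^ m) (hnc : ¬ IsCyclic G) (h2 : p = 2 → Group.nilpotencyClass G ≠ m - 1)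
    (k : ℕ) (hk1 : 1 ≤ k) (hk2 : k < m) :
    Nat.card {H : Subgroup G // Nat.card H = p ^ k} ≡ 1 + p [MOD p ^ 2] := by
  rw [← ZMod.natCast_eq_natCast_iff, Nat.cast_add, Nat.cast_one]
  by_cases hp : p = 2
  · subst hp
    rw [two_case m G hG k hk1 hk2, if_neg]
    rintro (h | ⟨⟨n, a, b, h⟩, -⟩)
    · exact hnc h
    · apply h2 rfl
      rw [h.nilpotencyClass_eq, h.eq_of_card hG]
      rfl
  · exact kulakoff_odd hp m G hG hnc k hk1 hk2

end Cfsg.Agent.S4157
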