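import Mathlib
import Cfsg.Statements.S4161
import Cfsg.Agent.CsG.Far
-- import your own Cfsg.Agent.* helpers here

set_option autoImplicit false
open Cfsg

namespace Cfsg.Agent.S4161

/-- Let G be a finite non-solvable group and p ≠ q primes each dividing the size of some conjugacy class of G. Then either some class size is divisible by pq, or there is a prime r, different from p and q, such that some class size is divisible by pr and some class size is divisible by rq. -/
theorem result {G : Type*} [Group G] [Finite G] (hG : ¬ Group.IsSolvable G)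
    (p q : ℕ) (hp : p.Prime) (hq : q.Prime) (hpq : p ≠ q) (hp' : ∃ x : G, p ∣ (Subgroup.centralizer ({x} : Set G)).index) (hq' : ∃ x : G, q ∣ (Subgroup.centralizer ({x} : Set G)).index) :
    (∃ x : G, p * q ∣ (Subgroup.centralizer ({x} : Set G)).index) ∨ ∃ r : ℕ, r.Prime ∧ r ≠ p ∧ r ≠ q ∧ (∃ x : G, p * r ∣ (Subgroup.centralizer ({x} : Set G)).index) ∧ (∃ y : G, r * q ∣ (Subgroup.centralizer ({y} : Set G)).index) := by
  by_contra hn
  have := Fact.mk hp
  have := Fact.mk hq
  obtain ⟨c, hc⟩ := hp'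
  obtain ⟨d, hd⟩ := hq'
  refine hG (CsG.Far.solv (fun x y a b => Nat.Coprime.symm (Nat.coprime_of_dvd fun r hr e f => hn ?_))
    hpq hc hd)
  have m : ∀ {s t n : ℕ}, s.Prime → t.Prime → s ≠ t → s ∣ n → t ∣ n → s * t ∣ n :=
    fun hs ht ne u v => ((Nat.coprime_primes hs ht).2 ne).mul_dvd_of_dvd_of_dvd u v
  by_cases h1 : r = p
  · exact Or.inl ⟨y, m hp hq hpq (h1 ▸ e) b⟩
  by_cases h2 : r = q
  · exact Or.inl ⟨x, m hp hq hpq a (h2 ▸ f)⟩
  exact Or.inr ⟨r, hr, h1, h2, ⟨x, m hp hr (Ne.symm h1) a f⟩, y, m hr hq h2 e b⟩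

end Cfsg.Agent.S4161
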