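import Mathlib
import Cfsg.Statements.S4172
import Cfsg.Agent.GT.FStar
import Cfsg.Agent.GT.TransferTate
import Cfsg.Agent.GT.TransferEval
import Cfsg.Agent.GT.Gaschutz
import Cfsg.Agent.GT.PGroupFrattini
import Cfsg.Agent.GT.Frattini
import Cfsg.Agent.GT.CoprimeFixed
import Cfsg.Agent.GT.Conj
import Cfsg.Agent.GT.CoprimeComm
import Cfsg.Agent.GT.TransferAbelian
import Cfsg.Agent.GT.PGroupBasic
-- import your own Cfsg.Agent.* helpers here

set_option autoImplicit false
open Cfsg

namespace Cfsg.Agent.S4172

open Subgroup GT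

section
variable {G : Type*} [Group G] [Finite G] {p : ℕ} [hp : Fact p.Prime] (P : Sylow p G)

theorem tate' {A : Subgroup G} (hn : (P : Subgroup G) ≤ normalizer (A : Set G))
    (h : A ⊓ P ≤ (frattini P).map (P : Subgroup G).subtype) : HasNormalPComplement p A := by
  let H : Subgroup G := A ⊔ P
  let Q : Sylow p H := P.subtype le_sup_right
  haveI : (A.subgroupOf H).Normal :=
    (normal_subgroupOf_iff_le_normalizer le_sup_left).2 (CopAct.sup_le_normalizer hn)
  have h1 := Tr.hasNormalPComplement_of_normal_inf_le_frattini Q (A.subgroupOf H) (by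
    rintro x ⟨hx, hxQ⟩
    obtain ⟨y, hy, e⟩ := h ⟨hx, hxQ⟩
    let f : (P : Subgroup G) ≃* (Q : Subgroup H) :=
      (subgroupOfEquivOfLe (show (P : Subgroup G) ≤ H from le_sup_right)).symm
    rw [← map_frattini_of_equiv f]
    exact ⟨f y, ⟨y, hy, rfl⟩, Subtype.ext e⟩)
  exact h1.of_mulEquiv (subgroupOfEquivOfLe le_sup_left)

theorem gen (hgen : (frattini P).index = p ^ 2) {A : Subgroup G}
    (h : ¬ A ⊓ P ≤ (frattini P).map (P : Subgroup G).subtype) :
    ∃ x : (P : Subgroup G), A.subgroupOf P ⊔ zpowers x = ⊤ := by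
  have h1 : frattini P < A.subgroupOf P ⊔ frattini P := by
    refine lt_of_le_of_ne le_sup_right fun e => h ?_
    rintro x ⟨hx, hxP⟩
    exact ⟨⟨x, hxP⟩, e ▸ mem_sup_left hx, rfl⟩
  have h2 := index_dvd_of_le h1.le
  have h3 := index_strictAnti h1
  rw [hgen] at h2 h3
  obtain ⟨k, -, hk⟩ := (Nat.dvd_prime_pow hp.out).1 h2
  rw [hk] at h3
  have h4 := (Nat.pow_lt_pow_iff_right hp.out.one_lt).1 h3
  interval_cases k
  · refine ⟨1, ?_⟩
    rw [zpowers_one_eq_bot, sup_bot_eq]
    exact frattini_nongenerating (index_eq_one.1 (by simpa using hk))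
  · have h5 : IsCoatom (A.subgroupOf P ⊔ frattini P) :=
      PG.isCoatom_of_index_prime hp.out (by rw [hk, pow_one])
    obtain ⟨x, hx⟩ : ∃ x, x ∉ A.subgroupOf P ⊔ frattini P := by
      by_contra hc
      push Not at hc
      exact h5.1 (eq_top_iff.2 fun x _ => hc x)
    refine ⟨x, frattini_nongenerating ?_⟩
    rw [sup_right_comm]
    exact sup_eq_top_of_isCoatom h5 fun e => hx (e (mem_zpowers x))

theorem comm_le {P A : Subgroup G} (hn : P ≤ normalizer (A : Set G)) {x : P}
    (h : A.subgroupOf P ⊔ zpowers x = ⊤) : ⁅P, P⁆ ≤ A := by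
  haveI : (A.subgroupOf P).Normal := normal_subgroupOf_of_le_normalizer hn
  haveI : IsCyclic (P ⧸ A.subgroupOf P) := ⟨QuotientGroup.mk x, by
    intro q
    obtain ⟨g, rfl⟩ := QuotientGroup.mk_surjective q
    have : g ∈ zpowers x ⊔ A.subgroupOf P := by rw [sup_comm, h]; exact mem_top g
    obtain ⟨y, ⟨k, rfl⟩, z, hz, rfl⟩ := mem_sup_of_normal_right.1 this
    exact ⟨k, by simp [(QuotientGroup.eq_one_iff z).2 hz]⟩⟩
  have h1 : _root_.commutator P ≤ A.subgroupOf P :=
    Normal.quotient_commutative_iff_commutator_le.1 inferInstance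
  rw [← map_subtype_commutator]
  exact map_le_iff_le_comap.2 h1

end


/-- Let p be a prime and G a finite group with a non-commutative Sylow p-subgroup P whose Frattini subgroup has index p² in P (P is generated by two elements). Suppose G has no nontrivial normal subgroup of order prime to p and the Frattini subgroup of P contains no nontrivial normal subgroup of G. Then the generalized Fitting subgroup F*(G) is the unique minimal normal subgroup of G, the image of P in G/F*(G) is cyclic, and if F*(G) is not commutative then P permutes the components of G transitively by conjugation. -/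
theorem result {G : Type*} [Group G] [Finite G] (p : ℕ) [Fact p.Prime] (P : Sylow p G) (hna : ¬ IsMulCommutative (P : Subgroup G)) (hgen : (frattini ↥(P : Subgroup G)).index = p ^ 2) (hcore : Cfsg.pPrimeCore p G = ⊥) (hfrat : ((frattini ↥(P : Subgroup G)).map (P : Subgroup G).subtype).normalCore = ⊥) [hFn : (Cfsg.generalizedFittingSubgroup G).Normal] :
    (Cfsg.generalizedFittingSubgroup G ≠ ⊥ ∧ ∀ K : Subgroup G, K.Normal → K ≠ ⊥ → Cfsg.generalizedFittingSubgroup G ≤ K) ∧
      IsCyclic ↥((P : Subgroup G).map (QuotientGroup.mk' (Cfsg.generalizedFittingSubgroup G))) ∧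
      (¬ IsMulCommutative (Cfsg.generalizedFittingSubgroup G) → ∀ K L : Subgroup G, Cfsg.IsComponent K → Cfsg.IsComponent L → ∃ x ∈ (P : Subgroup G), L = K.map (MulAut.conj x).toMonoidHom) := by
  have hp : p.Prime := Fact.out
  have hPP : ⁅(P : Subgroup G), (P : Subgroup G)⁆ ≠ ⊥ := fun e => hna
    (le_centralizer_iff_isMulCommutative.1 (commutator_eq_bot_iff_le_centralizer.1 e))
  have hT : ∀ N : Subgroup G, N.Normal → N ≠ ⊥ →
      ¬ N ⊓ P ≤ (frattini P).map (P : Subgroup G).subtype := by
    intro N hN hne h
    have h1 := tate' P (le_normalizer_of_normal) h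
    have h2 : (pResidual p N).map N.subtype ≤ pPrimeCore p G :=
      le_pPrimeCore_of_not_dvd hp (by
        rw [card_map_of_injective N.subtype_injective]; exact h1.not_dvd_card_pResidual)
    rw [hcore, le_bot_iff, map_eq_bot_iff_of_injective _ N.subtype_injective] at h2
    have h3 : IsPGroup p N := by
      obtain ⟨Q⟩ : Nonempty (Sylow p N) := inferInstance
      have h4 := pResidual_sup_sylow Q
      rw [h2, bot_sup_eq] at h4
      exact (h4 ▸ Q.isPGroup').of_equiv topEquiv
    have h5 : N ≤ P := h3.le_sylow_of_normal P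
    rw [inf_eq_left.2 h5] at h
    exact hne (le_bot_iff.1 (hfrat ▸ normal_le_normalCore.2 h))
  have hC : ∀ N : Subgroup G, N.Normal → N ≠ ⊥ → ⁅(P : Subgroup G), (P : Subgroup G)⁆ ≤ N :=
    fun N hN hne => comm_le le_normalizer_of_normal (gen P hgen (hT N hN hne)).choose_spec
  haveI : Nontrivial G := by
    by_contra h
    rw [not_nontrivial_iff_subsingleton] at h
    exact hPP (Subsingleton.elim _ _)
  obtain ⟨N, hN⟩ := exists_isMinNormal G
  haveI := hN.normal
  have hU : ∀ K : Subgroup G, K.Normal → K ≠ ⊥ → N ≤ K := fun K hK hne =>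
    (hN.le_or_inf_eq_bot K).resolve_right fun e => hPP (le_bot_iff.1
      (e ▸ le_inf (hC N hN.normal hN.ne_bot) (hC K hK hne)))
  have hF := fitting_eq_pCore hp hcore
  have hmain : (IsMulCommutative N ∨ fittingSubgroup G = ⊥) ∧
      generalizedFittingSubgroup G ≤ N := by
    by_cases hab : IsMulCommutative N
    · refine ⟨Or.inl hab, ?_⟩
      have hNF : N ≤ pCore p G := hF ▸ le_fitting_of_isMulCommutative N
      have hNp : IsPGroup p N := (isPGroup_pCore p).to_le hNF
      have hNP : N ≤ P := hNp.le_sylow_of_normal P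
      have hQP : pCore p G ≤ P := (isPGroup_pCore p).le_sylow_of_normal P
      have hE : layer G = ⊥ := by
        by_contra hE
        have h1 := hU _ inferInstance hE
        obtain ⟨S⟩ : Nonempty (Sylow p (layer G)) := inferInstance
        have h2 := Tr.sylow_inf_commutator_inf_center_le S
        obtain ⟨S', hS'⟩ := (S.isPGroup'.map (layer G).subtype).exists_le_sylow
        obtain ⟨g, rfl⟩ := MulAction.exists_smul_eq G P S'
        apply hT N hN.normal hN.ne_bot
        rw [inf_eq_left.2 hNP, ← map_conj_eq_of_normal N g⁻¹, map_conj_le_iff, inv_inv]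
        have h3 : N ≤ ⁅(S : Subgroup (layer G)), (S : Subgroup (layer G))⁆.map (layer G).subtype := by
          intro x hx
          refine ⟨⟨x, h1 hx⟩, h2 ⟨⟨?_, ?_⟩, ?_⟩, rfl⟩
          · exact (hNp.comap_subtype (K := layer G)).le_sylow_of_normal S hx
          · rw [Group.IsPerfect.commutator_eq_top]; exact mem_top _
          · rw [center_eq_subgroupOf]
            exact fitting_le_centralizer_layer (hF ▸ hNF hx)
        refine h3.trans ?_
        rw [map_commutator]
        refine (commutator_mono hS' hS').trans ?_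
        rw [coe_smul_sylow_eq_map_conj, ← map_conj_commutator, map_conj_le_map_conj_iff]
        exact ((PG.map_frattini_subtype_le_iff P.isPGroup').1 le_rfl).1
      rw [genFitting_eq, hE, bot_sup_eq, hF]
      have hΦ : (frattini (pCore p G)).map (pCore p G).subtype = ⊥ := by
        by_contra h
        exact hT _ inferInstance h (inf_le_left.trans (PG.map_frattini_subtype_mono P.isPGroup' hQP))
      have hQ := (PG.map_frattini_subtype_le_iff (isPGroup_pCore (G := G) p)).1 hΦ.le
      obtain ⟨x, hx⟩ := gen P hgen (hT N hN.normal hN.ne_bot)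
      have hx' : N ⊔ zpowers (x : G) = P := by
        have := congrArg (Subgroup.map (P : Subgroup G).subtype) hx
        rwa [Subgroup.map_sup, subgroupOf_map_subtype, inf_eq_left.2 hNP, MonoidHom.map_zpowers,
          ← MonoidHom.range_eq_map, range_subtype] at this
      by_contra hcon
      have h1 : ¬ pCore p G ⊓ zpowers (x : G) ≤ N := by
        intro h
        apply hcon
        rw [← inf_eq_left.2 hQP, ← hx', inf_sup_eq_of_normal_left hNF]
        exact sup_le le_rfl h
      have h2 : zpowers (x : G) ⊓ N = ⊥ := by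
        by_contra h2
        obtain ⟨y, ⟨hy1, hy2⟩, hy⟩ := (bot_or_exists_ne_one _).resolve_left h2
        apply h1
        haveI : IsCyclic ↥(pCore p G ⊓ zpowers (x : G)) := isCyclic_of_le inf_le_right
        have h3 : Nat.card ↥(pCore p G ⊓ zpowers (x : G)) ∣ p := by
          rw [← IsCyclic.exponent_eq_card]
          exact Monoid.exponent_dvd_of_forall_pow_eq_one fun g =>
            Subtype.ext (mem_bot.1 (hQ.2 g g.2.1))
        have h4 : zpowers y ≤ pCore p G ⊓ zpowers (x : G) := zpowers_le.2 ⟨hNF hy2, hy1⟩
        have h5 : orderOf y = p := orderOf_eq_prime (mem_bot.1 (hQ.2 y (hNF hy2))) hy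
        rw [← eq_of_le_of_card_ge h4 (by rw [Nat.card_zpowers, h5]; exact Nat.le_of_dvd hp.pos h3)]
        exact zpowers_le.2 hy2
      obtain ⟨H, hH⟩ := gaschutz_exists N P (by
        obtain ⟨k, hk⟩ := hNp.exists_card_eq
        rw [hk]
        exact ((Nat.Prime.coprime_iff_not_dvd hp).2 P.not_dvd_index).pow_left k) _ h2 hx'
      have h3 : (pCore p G ⊓ H).Normal := by
        refine normal_of_sup_eq_top hH.sup_eq_top ?_
          (CopAct.le_normalizer_inf le_normalizer_of_normal le_normalizer)
        refine GT.le_normalizer_of_le_centralizer (hNF.trans ?_)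
        exact (commutator_eq_bot_iff_le_centralizer.1 (le_bot_iff.1 hQ.1)).trans
          (centralizer_anti inf_le_left)
      have h4 : pCore p G ⊓ H = ⊥ := by
        by_contra h4
        apply hN.ne_bot
        rw [← le_bot_iff, ← hH.disjoint.eq_bot]
        exact le_inf le_rfl ((hU _ h3 h4).trans inf_le_right)
      apply hcon
      have h5 := inf_sup_eq_of_normal_left (K := H) hNF
      rw [hH.sup_eq_top, inf_top_eq, h4, sup_bot_eq] at h5
      exact h5.le
    · have hF0 : fittingSubgroup G = ⊥ := by
        by_contra h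
        have h1 := hU _ inferInstance h
        haveI : Group.IsSolvable N := CopAct.isSolvable_of_isPGroup
          ((isPGroup_pCore p).to_le (hF ▸ h1))
        obtain ⟨q, -, hq⟩ := hN.elementary
        exact hab hq.1
      refine ⟨Or.inr hF0, genFitting_le (layer_le fun K hK => ?_) (hF0 ▸ bot_le)⟩
      refine (hK.le_or_le_centralizer (Normal.isSubnormal hN.normal)).resolve_right fun h => ?_
      apply hab
      exact le_centralizer_iff_isMulCommutative.1
        (hU _ inferInstance fun e => hK.ne_bot (le_bot_iff.1 (e ▸ h)))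
  refine ⟨⟨genFitting_ne_bot, fun K hK hne => hmain.2.trans (hU K hK hne)⟩, ?_, ?_⟩
  · obtain ⟨x, hx⟩ := gen P hgen (hT _ hFn genFitting_ne_bot)
    have := congrArg (Subgroup.map ((QuotientGroup.mk' (generalizedFittingSubgroup G)).comp
      (P : Subgroup G).subtype)) hx
    rw [Subgroup.map_sup, ← Subgroup.map_map, subgroupOf_map_subtype,
      map_mk'_eq_bot_iff.2 inf_le_left, bot_sup_eq, MonoidHom.map_zpowers, ← Subgroup.map_map,
      ← MonoidHom.range_eq_map, range_subtype] at this
    rw [← this]
    infer_instance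
  · intro hnab K L hK hL
    have hF0 : fittingSubgroup G = ⊥ := hmain.1.resolve_left fun h =>
      hnab (CopAct.isMulCommutative_of_le' h hmain.2)
    by_contra hcon
    push Not at hcon
    let A : Subgroup G → Subgroup G := fun K => ⨆ x : (P : Subgroup G), K.map (MulAut.conj (x : G)).toMonoidHom
    have hA : ∀ K, IsComponent K → ⁅(P : Subgroup G), (P : Subgroup G)⁆ ≤ A K ∧
        (A K).IsSubnormal := by
      intro K hK
      have h1 : (P : Subgroup G) ≤ normalizer (A K : Set G) := by
        intro g hg
        apply mem_normalizer_of_map_conj_le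
        rw [Subgroup.map_iSup]
        refine iSup_le fun x => le_iSup_of_le (⟨g, hg⟩ * x) ?_
        exact (map_conj_map_conj K g x).le
      refine ⟨comm_le h1 (gen P hgen fun h => ?_).choose_spec, ?_⟩
      · have h2 := (tate' P h1 h).of_le (le_iSup_of_le 1 (map_conj_one K).ge : K ≤ A K)
        have h3 : ¬ p ∣ Nat.card K := by
          intro hd
          obtain ⟨M, hM, hi⟩ := h2.exists_index_eq hd
          have h4 := PG.isCoatom_of_index_prime hp hi
          have h5 := map_mono (f := K.subtype) (commutator_le_of_isCoatom_of_normal h4)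
          rw [map_subtype_commutator, hK.commutator_eq] at h5
          exact h4.1 (eq_top_iff.2 fun x _ => by simpa using h5 x.2)
        apply hK.ne_bot
        rw [← le_bot_iff, ← hcore]
        exact le_pPrimeCore_of_isSubnormal hK.isSubnormal
          ((Nat.Prime.coprime_iff_not_dvd hp).2 h3).symm
      · refine IsSubnormal.step _ (layer G) (iSup_le fun x => (hK.map_conj x).le_layer)
          (Normal.isSubnormal inferInstance) ?_
        exact normal_subgroupOf_of_le_normalizer
          (GT.le_normalizer_iSup fun x => (hK.map_conj x).layer_le_normalizer)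
    have h1 : A K ≤ centralizer (A L : Set G) := by
      rw [centralizer_iSup]
      refine iSup_le fun x => le_iInf fun y => (hK.map_conj x).le_centralizer_of_ne
        (hL.map_conj y) fun e => hcon ((y : G)⁻¹ * x) (mul_mem (inv_mem y.2) x.2) ?_
      rw [map_conj_mul]
      exact map_conj_eq_iff.1 e.symm
    haveI : IsMulCommutative ↥(A K ⊓ A L) := le_centralizer_iff_isMulCommutative.1
      (inf_le_left.trans (h1.trans (centralizer_anti inf_le_right)))
    have h2 : A K ⊓ A L ≤ fittingSubgroup G :=
      le_fitting_of_isSubnormal ((hA K hK).2.inf (hA L hL).2)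
        (h := open scoped IsMulCommutative in inferInstance)
    exact hPP (le_bot_iff.1 (hF0 ▸ (le_inf (hA K hK).1 (hA L hL).1).trans h2))

end Cfsg.Agent.S4172
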