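import Cfsg.Statements.S4190
import Cfsg.Agent.FG.HKLog

set_option autoImplicit false
open Cfsg

namespace Cfsg.Agent.S4190

/-- Let G be a finite solvable group and p a prime dividing the index of the Fitting subgroup of G. Then the number of conjugacy classes of G is at least p/(3·log₂ p). -/
theorem result {G : Type*} [Group G] [Finite G] (hG : Group.IsSolvable G) (p : ℕ) [Fact p.Prime] (hp : p ∣ (Cfsg.fittingSubgroup G).index) : (p : ℝ) / (3 * Real.logb 2 p) ≤ Nat.card (ConjClasses G) := by
  obtain ⟨e, h1, h2⟩ := FG.HK.log_main _ G rfl hp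
  have h3 : (1 : ℝ) < p := by exact_mod_cast (Fact.out : p.Prime).one_lt
  have h4 : (e : ℝ) ≤ 3 * Real.logb 2 p := by
    have := Real.logb_le_logb_of_le one_lt_two (by positivity)
      (show (2 : ℝ) ^ e ≤ (p : ℝ) ^ 3 by exact_mod_cast h1)
    simpa [Real.logb_pow] using this
  rw [div_le_iff₀ (mul_pos three_pos (Real.logb_pos one_lt_two h3)), mul_comm]
  exact le_trans (by exact_mod_cast h2) (mul_le_mul_of_nonneg_right h4 (Nat.cast_nonneg _))

end Cfsg.Agent.S4190
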