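import Cfsg.Statements.S4192
import Cfsg.Agent.RCl.Struct

set_option autoImplicit false
open Cfsg

namespace Cfsg.Agent.S4192

/-- Let G be a finite group; call an element real when it is conjugate to its inverse, and say that the real-class-size graph of a group is disconnected when the primes dividing its real class sizes split into two non-empty disjoint parts with no real class size divisible by a prime from each part. If the real-class-size graph of G is disconnected, then some real class size of G is even, and either the Sylow 2-subgroups of G are normal, or the subgroup K generated by the 2-elements of G (the smallest normal subgroup of odd index) again has a disconnected real-class-size graph and every real class size of K is odd or a power of 2. -/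
theorem result {G : Type*} [Group G] [Finite G] (h : (∃ π₁ π₂ : Set ℕ, π₁.Nonempty ∧ π₂.Nonempty ∧ Disjoint π₁ π₂ ∧ (∀ q ∈ π₁ ∪ π₂, q.Prime ∧ ∃ n ∈ {n : ℕ | ∃ x : G, IsConj x x⁻¹ ∧ (Subgroup.centralizer ({x} : Set G)).index = n}, q ∣ n) ∧ (∀ q : ℕ, q.Prime → (∃ n ∈ {n : ℕ | ∃ x : G, IsConj x x⁻¹ ∧ (Subgroup.centralizer ({x} : Set G)).index = n}, q ∣ n) → q ∈ π₁ ∨ q ∈ π₂) ∧ ∀ a ∈ π₁, ∀ b ∈ π₂, ∀ n ∈ {n : ℕ | ∃ x : G, IsConj x x⁻¹ ∧ (Subgroup.centralizer ({x} : Set G)).index = n}, ¬ (a ∣ n ∧ b ∣ n))) : (∃ n ∈ {n : ℕ | ∃ x : G, IsConj x x⁻¹ ∧ (Subgroup.centralizer ({x} : Set G)).index = n}, 2 ∣ n) ∧ ((∀ P : Sylow 2 G, (P : Subgroup G).Normal) ∨ ((∃ π₁ π₂ : Set ℕ, π₁.Nonempty ∧ π₂.Nonempty ∧ Disjoint π₁ π₂ ∧ (∀ q ∈ π₁ ∪ π₂, q.Prime ∧ ∃ n ∈ {n : ℕ | ∃ x : ↥(Subgroup.closure {g : G | ∃ k : ℕ, orderOf g = 2 ^ k}), IsConj x x⁻¹ ∧ (Subgroup.centralizer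 ({x} : Set ↥(Subgroup.closure {g : G | ∃ k : ℕ, orderOf g = 2 ^ k}))).index = n}, q ∣ n) ∧ (∀ q : ℕ, q.Prime → (∃ n ∈ {n : ℕ | ∃ x : ↥(Subgroup.closure {g : G | ∃ k : ℕ, orderOf g = 2 ^ k}), IsConj x x⁻¹ ∧ (Subgroup.centralizer ({x} : Set ↥(Subgroup.closure {g : G | ∃ k : ℕ, orderOf g = 2 ^ k}))).index = n}, q ∣ n) → q ∈ π₁ ∨ q ∈ π₂) ∧ ∀ a ∈ π₁, ∀ b ∈ π₂, ∀ n ∈ {n : ℕ | ∃ x : ↥(Subgroup.closure {g : G | ∃ k : ℕ, orderOf g = 2 ^ k}), IsConj x x⁻¹ ∧ (Subgroup.centralizer ({x} : Set ↥(Subgroup.closure {g : G | ∃ k : ℕ, orderOf g = 2 ^ k}))).index = n}, ¬ (a ∣ n ∧ b ∣ n)) ∧ ∀ n ∈ {n : ℕ | ∃ x : ↥(Subgroup.closure {g : G | ∃ k : ℕ, orderOf g = 2 ^ k}), IsConj x x⁻¹ ∧ (Subgroup.centralizer ({x} : Set ↥(Subgroup.closure {g : G | ∃ k : ℕ, orderOf g = 2 ^ k}))).index = n}, Odd n ∨ ∃ j : ℕ, n = 2 ^ j)) := by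
  obtain ⟨π₁, π₂, h₁, h₂, -, hsub, hcover, hnoedge⟩ := h
  have D := Cfsg.Agent.RCl.Dis.of h₁ h₂ hcover hsub hnoedge
  refine ⟨?_, ?_⟩
  · obtain ⟨x, hx, h2⟩ := D.exists_even
    exact ⟨_, ⟨x, hx, rfl⟩, h2⟩
  refine or_iff_not_imp_left.2 fun hn => ?_
  obtain ⟨P, hP⟩ := not_forall.1 hn
  obtain ⟨⟨x, hx, h2⟩, ⟨y, hy, q, hq, hq2, h3⟩, h4⟩ :=
    (D.two_mem hP).elim (fun e => D.K2_spec e hP) (fun e => D.symm.K2_spec e hP)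
  refine ⟨⟨{2}, {r | r.Prime ∧ r ≠ 2 ∧ ∃ z : Cfsg.Agent.RCl.K2 G, IsConj z z⁻¹ ∧
    r ∣ Cfsg.Agent.FG.CI.cidx z}, ⟨2, rfl⟩, ⟨q, hq, hq2, y, hy, h3⟩, ?_, ?_, ?_, ?_⟩, ?_⟩
  · exact Set.disjoint_singleton_left.2 fun e => e.2.1 rfl
  · rintro r (rfl | ⟨a, -, z, hz, b⟩)
    · exact ⟨Nat.prime_two, _, ⟨x, hx, rfl⟩, h2⟩
    · exact ⟨a, _, ⟨z, hz, rfl⟩, b⟩
  · rintro r hr ⟨_, ⟨z, hz, rfl⟩, b⟩
    exact or_iff_not_imp_left.2 fun e => ⟨hr, e, z, hz, b⟩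
  · rintro _ rfl b ⟨hb, hb2, -⟩ _ ⟨z, hz, rfl⟩ ⟨c, d⟩
    rcases h4 z hz with e | ⟨j, e⟩
    · exact (Nat.not_even_iff_odd.2 e) (even_iff_two_dvd.2 c)
    · exact hb2 ((Nat.prime_dvd_prime_iff_eq hb Nat.prime_two).1
        (hb.dvd_of_dvd_pow (e ▸ d : b ∣ 2 ^ j)))
  · rintro _ ⟨z, hz, rfl⟩
    exact h4 z hz

end Cfsg.Agent.S4192
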