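import Mathlib
import Cfsg.Statements.S4237
import Cfsg.Agent.FG.ConjCount
import Cfsg.Agent.GT.TransferSylow

set_option autoImplicit false
open Cfsg

namespace Cfsg.Agent.S4237

open Cfsg.Agent.GT Cfsg.Agent.FG.Kul Subgroup

local notation:75 H " ^ᶜ " g:76 => Subgroup.map (MulEquiv.toMonoidHom (MulAut.conj g)) H

variable {G : Type*} [Group G] [Finite G] {p : ℕ} [hp : Fact p.Prime]

omit [Finite G] hp in
theorem le_sylow (P : Sylow p G) {Q : Subgroup G} (hQ : IsPGroup p Q)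
    (h : (P : Subgroup G) ≤ normalizer (Q : Set G)) : Q ≤ P := by
  have h1 := P.is_maximal' (PG.isPGroup_sup_of_le_normalizer P.isPGroup' hQ h) le_sup_left
  exact sup_eq_left.1 h1

def D (p a : ℕ) (M R Q : Subgroup G) : Prop :=
  ((Q ≤ R ∧ Nat.card Q = p ^ a) ∧ R ≤ normalizer (Q : Set G)) ∧ ¬ Q ≤ M

theorem dvd_card_D {a : ℕ} {M R : Subgroup G} (hR : IsPGroup p R) (hMR : M ≤ R)
    (hn : R ≤ normalizer (M : Set G)) (ha : p ^ a ∣ Nat.card M) :
    p ∣ Nat.card {Q : Subgroup G // D p a M R Q} := by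
  have h1 := card_normalized_le_modEq hR le_normalizer (ha.trans (card_dvd_of_le hMR))
  have h2 := card_normalized_le_modEq hR hn ha
  rw [card_split _ (fun Q => Q ≤ M), card_congr_pred (Q := fun Q : Subgroup G =>
    (Q ≤ M ∧ Nat.card Q = p ^ a) ∧ R ≤ normalizer (Q : Set G))
    (fun Q => ⟨fun h => ⟨⟨h.2, h.1.1.2⟩, h.1.2⟩, fun h => ⟨⟨⟨h.1.1.trans hMR, h.1.2⟩, h.2⟩, h.1.1⟩⟩)]
    at h1
  exact (Nat.modEq_zero_iff_dvd.1 (Nat.ModEq.add_left_cancel h2 (by rwa [add_zero])))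

theorem fiber_dvd (P : Sylow p G) {a : ℕ} (ha : p ^ (a + 1) ∣ Nat.card P) {M : Subgroup G}
    (hMP : M ≤ P) (hM : M.relIndex P = p) :
    p ^ 2 ∣ Nat.card {Q : Subgroup G // ((Nat.card Q = p ^ a ∧ ¬ Q ≤ P) ∧
      (normalizer (Q : Set G)).relIndex P = p) ∧ normalizer (Q : Set G) ⊓ P = M} := by
  classical
  have := Fintype.ofFinite (Subgroup G)
  have hMc := PG.relIndex_mul_card hMP
  rw [hM] at hMc
  have hMa : p ^ a ∣ Nat.card M := by
    rw [← hMc, pow_succ'] at ha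
    exact Nat.dvd_of_mul_dvd_mul_left hp.out.pos ha
  have hMp : IsPGroup p M := P.isPGroup'.to_le hMP
  have hPM := PG.le_normalizer_of_relIndex_prime P.isPGroup' hMP hM
  let Y : Subgroup G → Prop := fun R => IsPGroup p R ∧ Nat.card R = Nat.card P ∧ M ≤ R ∧ R ≠ P
  have hrel : ∀ R, Y R → M.relIndex R = p := by
    intro R hR
    have h1 := PG.relIndex_mul_card hR.2.2.1
    rw [hR.2.1, ← hMc] at h1
    exact Nat.eq_of_mul_eq_mul_right Nat.card_pos h1
  rw [card_eq_sum_fiber _ Y (fun Q => Q ⊔ M) ?_, Finset.sum_congr rfl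
    (g := fun _ => Nat.card {Q : Subgroup G // D p a M P Q}) ?_]
  · rw [Finset.sum_const, smul_eq_mul, pow_two]
    refine Nat.mul_dvd_mul ?_ (dvd_card_D P.isPGroup' hMP hPM hMa)
    rw [← card_eq_filter]
    have h1 := card_modEq_card_normalized P.isPGroup' Y (fun g hg R hR => ⟨Tr.isPGroup_map_conj
      hR.1 g, (card_map_conj R g).trans hR.2.1, by
        rw [← map_conj_eq_of_mem_norm (hPM hg)]; exact map_mono hR.2.2.1, fun h => hR.2.2.2 (by
        rw [map_conj_eq_iff.1 h, map_conj_eq_of_mem (inv_mem hg)])⟩)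
    have h2 : IsEmpty {R : Subgroup G // Y R ∧ (P : Subgroup G) ≤ normalizer (R : Set G)} :=
      ⟨fun R => R.2.1.2.2.2 (PG.eq_of_le_of_card_le (le_sylow P R.2.1.1 R.2.2) R.2.1.2.1.ge)⟩
    rw [@Nat.card_of_isEmpty _ h2] at h1
    exact Nat.modEq_zero_iff_dvd.1 h1
  · intro R hR
    have hR : Y R := (Finset.mem_filter.1 hR).2
    have hRM := PG.le_normalizer_of_relIndex_prime hR.1 hR.2.2.1 (hrel R hR)
    obtain ⟨h, hh, hc⟩ := Tr.exists_conj_le_sylowIn P.isPGroup' (H := normalizer (M : Set G))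
      (fun h => P.not_dvd_index (h.trans (relIndex_dvd_index_of_le hPM))) hR.1 hRM
    have hRP : R ^ᶜ h = P := PG.eq_of_le_of_card_le (map_conj_le_iff_forall.2 hc)
      (by rw [card_map_conj, hR.2.1])
    refine (card_congr_pred (Q := D p a M R) fun Q => ⟨?_, ?_⟩).trans
      (card_conj_congr h _ _ fun Q => ?_)
    · rintro ⟨⟨⟨⟨h1, h2⟩, -⟩, h4⟩, h5⟩
      refine ⟨⟨⟨h5 ▸ le_sup_left, h1⟩, ?_⟩, fun h => h2 (h.trans hMP)⟩
      rw [← h5]
      exact sup_le le_normalizer (h4 ▸ inf_le_left)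
    · rintro ⟨⟨⟨h1, h2⟩, h3⟩, h4⟩
      have h5 : Q ⊔ M = R := (PG.eq_or_eq_of_relIndex_prime hp.out le_sup_right
        (sup_le h1 hR.2.2.1) (hrel R hR)).resolve_left fun h => h4 (sup_eq_right.1 h)
      have h6 : ¬ Q ≤ P := fun h => hR.2.2.2 (PG.eq_of_le_of_card_le (h5 ▸ sup_le h hMP)
        hR.2.1.ge)
      have h7 : normalizer (Q : Set G) ⊓ P = M := (PG.eq_or_eq_of_relIndex_prime hp.out
        (le_inf (hR.2.2.1.trans h3) hMP) inf_le_right hM).resolve_right
        fun h => h6 (le_sylow P (IsPGroup.of_card h2) (inf_eq_right.1 h))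
      exact ⟨⟨⟨⟨h2, h6⟩, by rw [← inf_relIndex_right, h7, hM]⟩, h7⟩, h5⟩
    · unfold D
      rw [← hRP, card_map_conj, normalizer_map_conj, map_conj_le_map_conj_iff,
        map_conj_le_map_conj_iff]
      conv_rhs => rw [← map_conj_eq_of_mem_norm hh, map_conj_le_map_conj_iff]
  · rintro Q ⟨⟨⟨h1, h2⟩, -⟩, h4⟩
    have hMQ : M ≤ normalizer (Q : Set G) := h4 ▸ inf_le_left
    have h5 : IsPGroup p (Q ⊔ M : Subgroup G) := by
      rw [sup_comm]
      exact PG.isPGroup_sup_of_le_normalizer hMp (IsPGroup.of_card h1) hMQ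
    refine ⟨h5, le_antisymm ?_ ?_, le_sup_right, fun h => h2 (h ▸ le_sup_left)⟩
    · obtain ⟨S, hS⟩ := h5.exists_le_sylow
      exact (card_le_of_le hS).trans (by rw [Sylow.card_eq_multiplicity, Sylow.card_eq_multiplicity])
    · rw [← hMc]
      obtain ⟨j, hj⟩ := PG.relIndex_eq_pow_of_isPGroup h5 M
      rw [← PG.relIndex_mul_card (le_sup_right : M ≤ Q ⊔ M), hj]
      refine Nat.mul_le_mul_right _ (Nat.le_self_pow ?_ p)
      rintro rfl
      exact h2 ((le_sup_left.trans (relIndex_eq_one.1 hj)).trans hMP)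

theorem sq_dvd (P : Sylow p G) {a : ℕ} (ha : p ^ (a + 1) ∣ Nat.card P) :
    p ^ 2 ∣ Nat.card {Q : Subgroup G // Nat.card Q = p ^ a ∧ ¬ Q ≤ P} := by
  classical
  have := Fintype.ofFinite (Subgroup G)
  rw [card_split _ (fun Q : Subgroup G => (normalizer (Q : Set G)).relIndex P = p)]
  refine dvd_add ?_ ?_
  · rw [card_eq_sum_fiber _ (fun M : Subgroup G => M ≤ P ∧ M.relIndex P = p)
      (fun Q : Subgroup G => normalizer (Q : Set G) ⊓ (P : Subgroup G))
      (fun Q hQ => ⟨inf_le_right, by rw [inf_relIndex_right, hQ.2]⟩)]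
    exact Finset.dvd_sum fun M hM =>
      fiber_dvd P ha (Finset.mem_filter.1 hM).2.1 (Finset.mem_filter.1 hM).2.2
  · refine dvd_card_of_relIndex P _ ?_ ?_
    · rintro g hg Q ⟨⟨h1, h2⟩, h3⟩
      refine ⟨⟨(card_map_conj Q g).trans h1, ?_⟩, ?_⟩
      · rwa [← map_conj_eq_of_mem hg, map_conj_le_map_conj_iff]
      · rwa [← map_conj_eq_of_mem hg, normalizer_map_conj, relIndex_map_conj]
    · rintro Q ⟨⟨h1, h2⟩, h3⟩
      obtain ⟨j, hj⟩ := PG.relIndex_eq_pow_of_isPGroup P.isPGroup' (normalizer (Q : Set G))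
      rw [hj] at h3 ⊢
      refine pow_dvd_pow p ?_
      have h4 : j ≠ 0 := by
        rintro rfl
        exact h2 (le_sylow P (IsPGroup.of_card h1) (relIndex_eq_one.1 hj))
      have h5 : j ≠ 1 := by
        rintro rfl
        exact h3 (pow_one p)
      omega

/-- Let G be a finite group, p a prime and a a natural number such that p^(a+1) divides the order of G. Then the number of subgroups of G of order p^a is congruent to 1 or to 1 + p modulo p². -/
theorem result {G : Type*} [Group G] [Finite G] (p a : ℕ) (hp : p.Prime) (hdvd : p ^ (a + 1) ∣ Nat.card G) :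
    Nat.card {H : Subgroup G // Nat.card H = p ^ a} ≡ 1 [MOD p ^ 2] ∨
      Nat.card {H : Subgroup G // Nat.card H = p ^ a} ≡ 1 + p [MOD p ^ 2] := by
  have : Fact p.Prime := ⟨hp⟩
  obtain ⟨P⟩ : Nonempty (Sylow p G) := inferInstance
  have hP := P.card_eq_multiplicity
  have hlt : a < (Nat.card G).factorization p :=
    (hp.pow_dvd_iff_le_factorization Nat.card_pos.ne').1 hdvd
  have h1 := sq_dvd P (a := a) (by rw [hP]; exact pow_dvd_pow p hlt)
  have h2 := card_pgroup_cases hP hlt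
  rw [card_le_subtype, card_congr_pred (Q := fun Q : Subgroup G => Nat.card Q = p ^ a ∧ Q ≤ P)
    (fun Q => and_comm)] at h2
  rw [card_split _ (fun Q : Subgroup G => Q ≤ P), ← ZMod.natCast_eq_natCast_iff,
    ← ZMod.natCast_eq_natCast_iff, Nat.cast_add, (ZMod.natCast_eq_zero_iff _ _).2 h1, add_zero]
  exact_mod_cast h2

end Cfsg.Agent.S4237
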