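import Mathlib
import Cfsg.Statements.S4245
import Cfsg.Agent.FG.H93Solv
import Cfsg.Agent.FG.H93Cyc
import Cfsg.Agent.FG.ClassIdx
import Cfsg.Agent.Ch.Burnside
import Cfsg.Agent.GW.Sect

set_option autoImplicit false
open Cfsg

namespace Cfsg.Agent.S4245

universe u

/-- The hypothesis in a form closed under normal subgroups and quotients. -/
def Hyp (p : ℕ) (G : Type u) [Group G] [Finite G] : Prop :=
  ∃ A B : Subgroup G, B ≤ A ∧ IsCyclic B ∧ (∀ a ∈ A, ∀ b ∈ B, a * b * a⁻¹ ∈ B) ∧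
    (∃ s, A.index = p ^ s) ∧ (∀ a ∈ A, ∃ r, a ^ (2 ^ r) ∈ B) ∧
    (∀ x ∈ A, ∀ y ∈ A, (∃ k : ℕ, x⁻¹ * y ^ k ∈ B) ∨ (∃ k : ℕ, y⁻¹ * x ^ k ∈ B))

theorem Hyp.sub {p : ℕ} (hp : p.Prime) (G : Type u) [Group G] [Finite G] (N : Subgroup G)
    [N.Normal] (h : Hyp p G) : Hyp p N := by
  obtain ⟨A, B, hBA, hc, hn, ⟨s, hs⟩, h2, hch⟩ := h
  refine ⟨A.subgroupOf N, B.subgroupOf N, fun x hx => hBA hx, ?_, ?_, ?_, ?_, ?_⟩
  · haveI := hc
    let f : B.subgroupOf N →* B :=
      { toFun := fun x => ⟨x.1.1, x.2⟩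
        map_one' := rfl
        map_mul' := fun _ _ => rfl }
    refine isCyclic_of_injective f (fun x y hxy => Subtype.ext (Subtype.ext ?_))
    exact congrArg (fun t : B => (t : G)) hxy
  · intro a ha b hb
    exact hn a.1 ha b.1 hb
  · have hd : A.relIndex N ∣ p ^ s := hs ▸ FG.CI.relIndex_dvd_index_of_normal_right A N
    obtain ⟨k, -, hk⟩ := (Nat.dvd_prime_pow hp).mp hd
    exact ⟨k, hk⟩
  · intro a ha
    obtain ⟨r, hr⟩ := h2 a.1 ha
    exact ⟨r, hr⟩
  · intro x hx y hy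
    rcases hch x.1 hx y.1 hy with ⟨k, hk⟩ | ⟨k, hk⟩
    · exact Or.inl ⟨k, hk⟩
    · exact Or.inr ⟨k, hk⟩

theorem Hyp.quot {p : ℕ} (hp : p.Prime) (G : Type u) [Group G] [Finite G] (N : Subgroup G)
    [N.Normal] (h : Hyp p G) : Hyp p (G ⧸ N) := by
  obtain ⟨A, B, hBA, hc, hn, ⟨s, hs⟩, h2, hch⟩ := h
  let π := QuotientGroup.mk' N
  refine ⟨A.map π, B.map π, Subgroup.map_mono hBA, ?_, ?_, ?_, ?_, ?_⟩
  · haveI := hc
    exact isCyclic_of_surjective (π.subgroupMap B) (π.subgroupMap_surjective B)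
  · rintro _ ⟨a, ha, rfl⟩ _ ⟨b, hb, rfl⟩
    exact ⟨a * b * a⁻¹, hn a ha b hb, by simp⟩
  · have hd : (A.map π).index ∣ p ^ s :=
      hs ▸ A.index_map_dvd (QuotientGroup.mk'_surjective N)
    obtain ⟨k, -, hk⟩ := (Nat.dvd_prime_pow hp).mp hd
    exact ⟨k, hk⟩
  · rintro _ ⟨a, ha, rfl⟩
    obtain ⟨r, hr⟩ := h2 a ha
    exact ⟨r, a ^ 2 ^ r, hr, by simp⟩
  · rintro _ ⟨x, hx, rfl⟩ _ ⟨y, hy, rfl⟩
    rcases hch x hx y hy with ⟨k, hk⟩ | ⟨k, hk⟩
    · exact Or.inl ⟨k, _, hk, by simp⟩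
    · exact Or.inr ⟨k, _, hk, by simp⟩

theorem solv_of_class {G : Type u} [Group G] [Finite G] [IsSimpleGroup G] {p k : ℕ}
    (hp : p.Prime) {g : G} (hg : g ≠ 1) (H : Subgroup G)
    (hH : H ≤ Subgroup.centralizer ({g} : Set G)) (hk : H.index = p ^ k) :
    Group.IsSolvable G := by
  have hd : (Subgroup.centralizer ({g} : Set G)).index ∣ p ^ k :=
    hk ▸ Subgroup.index_dvd_of_le hH
  obtain ⟨j, -, hj⟩ := (Nat.dvd_prime_pow hp).mp hd
  have hpr := Ch.burnside_prime_card_of_class hp hg hj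
  haveI : Fact (Nat.card G).Prime := ⟨hpr⟩
  haveI : IsCyclic G := isCyclic_of_prime_card (p := Nat.card G) rfl
  letI : CommGroup G := IsCyclic.commGroup
  infer_instance

theorem isCyclic_of_chain {H : Type u} [Group H] [Finite H]
    (h : ∀ x y : H, (∃ k : ℕ, x = y ^ k) ∨ (∃ k : ℕ, y = x ^ k)) : IsCyclic H := by
  obtain ⟨y, hy⟩ := Finite.exists_max (fun x : H => orderOf x)
  refine ⟨⟨y, fun x => ?_⟩⟩
  rcases h x y with ⟨k, hk⟩ | ⟨k, hk⟩
  · exact ⟨k, by simp [hk]⟩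
  · have hle : Subgroup.zpowers y ≤ Subgroup.zpowers x := by
      rw [Subgroup.zpowers_le, hk]
      exact Subgroup.pow_mem _ (Subgroup.mem_zpowers x) k
    have he : Subgroup.zpowers y = Subgroup.zpowers x :=
      Subgroup.eq_of_le_of_card_ge hle (by
        rw [Nat.card_zpowers, Nat.card_zpowers]; exact hy x)
    have : x ∈ Subgroup.zpowers y := he ▸ Subgroup.mem_zpowers x
    exact this

theorem Hyp.simple {p : ℕ} (hp : p.Prime) (G : Type u) [Group G] [Finite G] [IsSimpleGroup G]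
    (h : Hyp p G) : Group.IsSolvable G := by
  classical
  obtain ⟨A, B, hBA, hc, hn, ⟨s, hs⟩, h2, hch⟩ := h
  haveI := hc
  haveI : Fact (Nat.Prime 2) := ⟨Nat.prime_two⟩
  by_cases hev : 2 ∣ Nat.card B
  · obtain ⟨z, hz⟩ := exists_prime_orderOf_dvd_card' 2 hev
    have hz' : orderOf (z : G) = 2 := by rw [Subgroup.orderOf_coe]; exact hz
    have hz1 : (z : G) ≠ 1 := by
      intro h1; rw [h1, orderOf_one] at hz'; omega
    refine solv_of_class hp hz1 A ?_ hs
    intro a ha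
    rw [Subgroup.mem_centralizer_singleton_iff]
    have hw : a * z * a⁻¹ ∈ B := hn a ha z z.2
    have hwo : orderOf (a * z * a⁻¹) = 2 := by
      have : a * z * a⁻¹ = MulAut.conj a (z : G) := rfl
      rw [this, MulEquiv.orderOf_eq]; exact hz'
    have he : Subgroup.zpowers (a * z * a⁻¹) = Subgroup.zpowers (z : G) :=
      FG.H93.eq_of_card_eq_of_isCyclic (C := B) ((Subgroup.zpowers_le).mpr hw)
        ((Subgroup.zpowers_le).mpr z.2) (by rw [Nat.card_zpowers, Nat.card_zpowers, hwo, hz'])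
    have hm : a * z * a⁻¹ ∈ Subgroup.zpowers (z : G) := he ▸ Subgroup.mem_zpowers _
    obtain ⟨k, hk⟩ := (mem_zpowers_iff_mem_range_orderOf.mp hm) |> Finset.mem_image.mp
    obtain ⟨hk1, hk2⟩ := hk
    rw [hz', Finset.mem_range] at hk1
    interval_cases k
    · exfalso
      rw [pow_zero] at hk2
      rw [← hk2, orderOf_one] at hwo
      omega
    · rw [pow_one] at hk2
      calc a * z = a * z * a⁻¹ * a := by group
        _ = z * a := by rw [← hk2]
  · by_cases hp2 : p = 2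
    · subst hp2
      haveI : (B.subgroupOf A).Normal := ⟨fun b hb a => hn a.1 a.2 b.1 hb⟩
      have hq : IsPGroup 2 (A ⧸ B.subgroupOf A) := by
        intro x
        obtain ⟨a, rfl⟩ := QuotientGroup.mk_surjective x
        obtain ⟨r, hr⟩ := h2 a.1 a.2
        refine ⟨r, ?_⟩
        rw [← QuotientGroup.mk_pow, QuotientGroup.eq_one_iff]
        exact hr
      obtain ⟨r, hr⟩ := IsPGroup.iff_card.mp hq
      have hBi : B.index = 2 ^ (r + s) := by
        rw [← Subgroup.relIndex_mul_index hBA, hs, pow_add]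
        congr 1
      by_cases hB1 : B = ⊥
      · have hG : IsPGroup 2 G := IsPGroup.of_card (n := r + s) (by
          rw [← hBi, hB1, Subgroup.index_bot])
        haveI := hG.isNilpotent
        infer_instance
      · obtain ⟨⟨b, hb⟩, hb1⟩ := Subgroup.ne_bot_iff_exists_ne_one.mp hB1
        have hb1' : b ≠ 1 := fun h1 => hb1 (Subtype.ext h1)
        refine solv_of_class Nat.prime_two hb1' B ?_ hBi
        intro c hc'
        rw [Subgroup.mem_centralizer_singleton_iff]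
        letI : CommGroup B := IsCyclic.commGroup
        exact congrArg Subtype.val (mul_comm (⟨c, hc'⟩ : B) ⟨b, hb⟩)
    · obtain ⟨S⟩ : Nonempty (Sylow 2 A) := inferInstance
      let S' : Subgroup G := (S : Subgroup A).map A.subtype
      have hS'p : IsPGroup 2 S' := S.isPGroup'.map _
      have hS'A : S' ≤ A := Subgroup.map_subtype_le _
      have hidx : ¬ 2 ∣ S'.index := by
        have h1 : S'.index = (S : Subgroup A).index * A.index := by
          rw [← Subgroup.relIndex_mul_index hS'A]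
          congr 1
          unfold Subgroup.relIndex
          congr 1
          exact Subgroup.comap_map_eq_self_of_injective A.subtype_injective _
        rw [h1, hs]
        intro hd
        rcases (Nat.Prime.dvd_mul Nat.prime_two).mp hd with hd | hd
        · exact S.not_dvd_index hd
        · exact hp2 ((Nat.prime_dvd_prime_iff_eq Nat.prime_two hp).mp
            (Nat.prime_two.dvd_of_dvd_pow hd)).symm
      have htriv : ∀ x ∈ S', x ∈ B → x = 1 := by
        intro x hx hxB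
        obtain ⟨k, hk⟩ := hS'p ⟨x, hx⟩
        have h1 : orderOf x ∣ 2 ^ k :=
          orderOf_dvd_of_pow_eq_one (congrArg Subtype.val hk)
        have h3 : orderOf x ∣ Nat.card B := Subgroup.orderOf_dvd_natCard B hxB
        have hco : Nat.Coprime (2 ^ k) (Nat.card B) :=
          Nat.Coprime.pow_left _ ((Nat.Prime.coprime_iff_not_dvd Nat.prime_two).mpr hev)
        exact orderOf_eq_one_iff.mp (Nat.eq_one_of_dvd_coprimes hco h1 h3)
      refine GW.isSolvable_of_isCyclic_sylow (hS'p.toSylow hidx) ?_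
      change IsCyclic S'
      refine isCyclic_of_chain fun x y => ?_
      rcases hch x.1 (hS'A x.2) y.1 (hS'A y.2) with ⟨k, hk⟩ | ⟨k, hk⟩
      · refine Or.inl ⟨k, Subtype.ext ?_⟩
        have := htriv _ (S'.mul_mem (S'.inv_mem x.2) (S'.pow_mem y.2 k)) hk
        exact inv_mul_eq_one.mp this
      · refine Or.inr ⟨k, Subtype.ext ?_⟩
        have := htriv _ (S'.mul_mem (S'.inv_mem y.2) (S'.pow_mem x.2 k)) hk
        exact inv_mul_eq_one.mp this

theorem chain_of_cyclic {C : Type u} [Group C] [Finite C] [IsCyclic C] {r : ℕ}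
    (hr : Nat.card C = 2 ^ r) (x y : C) : (∃ k : ℕ, x = y ^ k) ∨ (∃ k : ℕ, y = x ^ k) := by
  have key : ∀ x y : C, orderOf x ∣ orderOf y → ∃ k : ℕ, x = y ^ k := by
    intro x y h
    have hle : Subgroup.zpowers x ≤ Subgroup.zpowers y :=
      FG.H93.le_of_card_dvd_of_isCyclic (C := ⊤) le_top le_top
        (by rw [Nat.card_zpowers, Nat.card_zpowers]; exact h)
    have hm := hle (Subgroup.mem_zpowers x)
    rw [← mem_powers_iff_mem_zpowers] at hm
    obtain ⟨k, hk⟩ := hm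
    exact ⟨k, hk.symm⟩
  obtain ⟨a, -, ha⟩ := (Nat.dvd_prime_pow Nat.prime_two).mp (hr ▸ orderOf_dvd_natCard x)
  obtain ⟨b, -, hb⟩ := (Nat.dvd_prime_pow Nat.prime_two).mp (hr ▸ orderOf_dvd_natCard y)
  rcases le_total a b with h | h
  · exact Or.inl (key x y (by rw [ha, hb]; exact pow_dvd_pow 2 h))
  · exact Or.inr (key y x (by rw [ha, hb]; exact pow_dvd_pow 2 h))

/-- Let G be a finite group with a subgroup A of prime-power index. Suppose A has a normal cyclic subgroup B such that A/B is cyclic of order a power of 2. Then G is solvable. -/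
theorem result {G : Type*} [Group G] [Finite G] (A : Subgroup G) (p s : ℕ) (hp : p.Prime) (hA : A.index = p ^ s)
    (B : Subgroup A) [B.Normal] (hB : IsCyclic B) (hAB : IsCyclic (A ⧸ B)) (r : ℕ) (hr : Nat.card (A ⧸ B) = 2 ^ r) :
    Group.IsSolvable G := by
  refine FG.H93.isSolvable_of_simple_sections (P := fun G _ _ => Hyp p G)
    (fun G _ _ N _ h => Hyp.sub hp G N h) (fun G _ _ N _ h => Hyp.quot hp G N h)
    (fun G _ _ _ h => Hyp.simple hp G h) G ?_
  haveI := hB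
  haveI := hAB
  have hmem : ∀ a : A, a ∈ B → (a : G) ∈ B.map A.subtype := fun a ha => ⟨a, ha, rfl⟩
  refine ⟨A, B.map A.subtype, Subgroup.map_subtype_le _, ?_, ?_, ⟨s, hA⟩, ?_, ?_⟩
  · exact isCyclic_of_surjective (A.subtype.subgroupMap B) (A.subtype.subgroupMap_surjective B)
  · rintro a ha _ ⟨b, hb, rfl⟩
    exact hmem (⟨a, ha⟩ * b * ⟨a, ha⟩⁻¹) (Subgroup.Normal.conj_mem inferInstance b hb _)
  · intro a ha
    refine ⟨r, hmem (⟨a, ha⟩ ^ 2 ^ r) ?_⟩
    rw [← QuotientGroup.eq_one_iff, QuotientGroup.mk_pow, ← hr]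
    exact pow_card_eq_one'
  · intro x hx y hy
    rcases chain_of_cyclic hr ((⟨x, hx⟩ : A) : A ⧸ B) ((⟨y, hy⟩ : A) : A ⧸ B) with
      ⟨k, hk⟩ | ⟨k, hk⟩
    · refine Or.inl ⟨k, hmem ((⟨x, hx⟩ : A)⁻¹ * ⟨y, hy⟩ ^ k) ?_⟩
      rw [← QuotientGroup.eq, hk, QuotientGroup.mk_pow]
    · refine Or.inr ⟨k, hmem ((⟨y, hy⟩ : A)⁻¹ * ⟨x, hx⟩ ^ k) ?_⟩
      rw [← QuotientGroup.eq, hk, QuotientGroup.mk_pow]

end Cfsg.Agent.S4245
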