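import Mathlib
import Cfsg.Statements.S4249
import Cfsg.Agent.S3946
import Cfsg.Agent.GT.CoprimeActThms
import Cfsg.Agent.GT.Fitting
import Cfsg.Agent.GT.PGroupBasic

set_option autoImplicit false
open Cfsg

namespace Cfsg.Agent.S4249

open Cfsg.Agent.GT Cfsg.Agent.GT.CopAct

theorem mul_pow_eq_prod {G : Type*} [Group G] (h x : G) (n : ℕ) :
    (h * x) ^ n = ((List.range n).map (fun i => x ^ i * h * (x ^ i)⁻¹)).prod * x ^ n := by
  induction n with
  | zero => simp
  | succ n ih =>
    rw [List.range_succ, List.map_append, List.prod_append, pow_succ, ih]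
    simp only [List.map_cons, List.map_nil, List.prod_cons, List.prod_nil, mul_one]
    group

theorem aux {G : Type*} [Group G] [Finite G] (p : ℕ) (hp : p.Prime) (hG : ¬ IsPGroup p G)
    (H : Subgroup G) [H.Normal] (hH : H ≠ ⊤) (hout : ∀ g : G, g ∉ H → g ^ p = 1) :
    Group.IsNilpotent H ∧ H.index = p := by
  have : Fact p.Prime := ⟨hp⟩
  obtain ⟨x, hx⟩ : ∃ x : G, x ∉ H := by
    by_contra hc
    push Not at hc
    exact hH (eq_top_iff.2 fun x _ => hc x)
  have hmul : ∀ y : G, y ∉ H → ∀ h ∈ H, (h * y) ^ p = 1 := by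
    intro y hy h hh
    apply hout
    intro h1
    exact hy ((H.mul_mem_cancel_left hh).1 h1)
  have hcomm : ∀ y : G, y ∉ H → ∀ h ∈ H, Commute h y → h ^ p = 1 := by
    intro y hy h hh hc
    have h1 := hmul y hy h hh
    rwa [hc.mul_pow, hout y hy, mul_one] at h1
  have hHp : ¬ IsPGroup p H := by
    intro h
    apply hG
    intro g
    by_cases hg : g ∈ H
    · obtain ⟨k, hk⟩ := h ⟨g, hg⟩
      exact ⟨k, congrArg Subtype.val hk⟩
    · exact ⟨1, by rw [pow_one, hout g hg]⟩
  have hnil : Group.IsNilpotent H := by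
    let α : MulAut H := MulAut.conjNormal x
    have hα1 : α ^ p = 1 := by
      rw [← map_pow, hout x hx, map_one]
    have hα2 : α ≠ 1 := by
      intro h
      apply hHp
      intro g
      refine ⟨1, Subtype.ext ?_⟩
      rw [pow_one]
      refine hcomm x hx g g.2 ?_
      have h1 : ((α g : H) : G) = g := by rw [h]; rfl
      rw [MulAut.conjNormal_apply, mul_inv_eq_iff_eq_mul] at h1
      exact h1.symm
    have hα : orderOf α = p := orderOf_eq_prime hα1 hα2
    refine S3946.result α (hα ▸ hp) ?_
    intro g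
    apply Subtype.ext
    have h1 := mul_pow_eq_prod (g : G) x p
    rw [hmul x hx g g.2, hout x hx, mul_one] at h1
    rw [hα]
    change H.subtype _ = 1
    rw [map_list_prod, List.map_map, h1]
    congr 1
    apply List.map_congr_left
    intro i _
    change (((α ^ i) g : H) : G) = _
    rw [← map_pow, MulAut.conjNormal_apply]
  refine ⟨hnil, ?_⟩
  have hQ : ∀ q : G ⧸ H, q ^ p = 1 := by
    intro q
    obtain ⟨g, rfl⟩ := QuotientGroup.mk_surjective q
    by_cases hg : g ∈ H
    · rw [(QuotientGroup.eq_one_iff g).2 hg, one_pow]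
    · rw [← QuotientGroup.mk_pow, hout g hg, QuotientGroup.mk_one]
  have hQp : IsPGroup p (G ⧸ H) := fun q => ⟨1, by rw [pow_one, hQ]⟩
  obtain ⟨k, hk⟩ := IsPGroup.iff_card.1 hQp
  have hk0 : k ≠ 0 := by
    rintro rfl
    exact hH (Subgroup.index_eq_one.1 (by rw [Subgroup.index_eq_card, hk, pow_zero]))
  by_contra hne
  have hk2 : 2 ≤ k := by
    by_contra h
    have : k = 1 := by omega
    apply hne
    rw [Subgroup.index_eq_card, hk, this, pow_one]
  obtain ⟨A, hA⟩ := Sylow.exists_subgroup_card_pow_prime (G := G ⧸ H) p (n := 2)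
    (by rw [hk]; exact pow_dvd_pow p hk2)
  have hAc : IsMulCommutative A := IsPGroup.isMulCommutative_of_card_eq_prime_sq hA
  have hAn : ¬ IsCyclic A := by
    intro h
    obtain ⟨a, ha⟩ := h.exists_ofOrder_eq_natCard
    have h1 : orderOf a ∣ p := orderOf_dvd_of_pow_eq_one (Subtype.ext (hQ a))
    rw [ha, hA] at h1
    have h2 := Nat.le_of_dvd hp.pos h1
    have h3 := hp.two_le
    nlinarith
  -- the central `p'`-part of `H`
  have hW : (pPrimeCore p H ⊓ Subgroup.center H).Characteristic := inferInstance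
  let V : Subgroup G := (pPrimeCore p H ⊓ Subgroup.center H).map H.subtype
  have hVn : V.Normal := inferInstance
  have hVb : V ≠ ⊥ := by
    intro h
    rw [Subgroup.map_eq_bot_iff_of_injective _ H.subtype_injective] at h
    refine PG.inf_center_ne_bot (pPrimeCore p H) ?_ h
    intro h1
    have h2 := pCore_sup_pPrimeCore (G := H) p
    rw [h1, sup_bot_eq] at h2
    apply hHp
    have h3 := isPGroup_pCore (G := H) p
    rw [h2] at h3
    exact h3.of_equiv Subgroup.topEquiv
  have hVc : (Nat.card V).Coprime p := by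
    rw [Subgroup.card_map_of_injective H.subtype_injective]
    exact (coprime_card_pPrimeCore p).coprime_dvd_left (Subgroup.card_dvd_of_le inf_le_left)
  have hVH : V ≤ H := Subgroup.map_subtype_le _
  let ψ : G ⧸ H →* MulAut V := QuotientGroup.lift H (MulAut.conjNormal) (by
    intro h hh
    rw [MonoidHom.mem_ker]
    ext v
    obtain ⟨_, ⟨w, hw, rfl⟩⟩ := v
    rw [MulAut.conjNormal_apply, mul_inv_eq_iff_eq_mul]
    exact congrArg Subtype.val (Subgroup.mem_center_iff.1 hw.2 ⟨h, hh⟩))
  have h1 := act_le_of_fixed_elt (φ := ψ.comp A.subtype) hAc hAn (U := ⊤) (H := ⊥)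
    (actInv_top _) (by
      rw [hA, Subgroup.card_top]
      exact hVc.symm.pow_left 2) (by
      rintro ⟨a, ha⟩ ha1 u - hu
      obtain ⟨g, rfl⟩ := QuotientGroup.mk_surjective a
      have hg : g ∉ H := fun h => ha1 (Subtype.ext ((QuotientGroup.eq_one_iff g).2 h))
      have h2 : ((MulAut.conjNormal g u : V) : G) = u := congrArg Subtype.val hu
      rw [MulAut.conjNormal_apply, mul_inv_eq_iff_eq_mul] at h2
      have h3 := hcomm g hg u (hVH u.2) h2.symm
      have h4 : orderOf u ∣ p := orderOf_dvd_of_pow_eq_one (Subtype.ext h3)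
      rw [Subgroup.mem_bot, ← orderOf_eq_one_iff]
      exact Nat.eq_one_of_dvd_coprimes hVc (orderOf_dvd_natCard u) h4)
  apply hVb
  rw [eq_bot_iff]
  intro v hv
  have h2 := h1 (Subgroup.mem_top (⟨v, hv⟩ : V))
  exact congrArg Subtype.val (Subgroup.mem_bot.1 h2)

/-- Let G be a finite group and p a prime such that G is not a p-group, and suppose the Hughes subgroup H_p(G), generated by all elements g with g^p ≠ 1, is a proper subgroup. Then H_p(G) is nilpotent and has index p in G. -/
theorem result {G : Type*} [Group G] [Finite G] (p : ℕ) (hp : p.Prime) (hG : ¬ IsPGroup p G)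
    (hH : Subgroup.closure {g : G | g ^ p ≠ 1} ≠ ⊤) :
    Group.IsNilpotent (Subgroup.closure {g : G | g ^ p ≠ 1}) ∧ (Subgroup.closure {g : G | g ^ p ≠ 1}).index = p := by
  have hn : (Subgroup.closure {g : G | g ^ p ≠ 1}).Normal := by
    constructor
    intro n hn g
    induction hn using Subgroup.closure_induction with
    | mem x hx =>
      apply Subgroup.subset_closure
      intro h
      apply hx
      rw [conj_pow] at h
      simpa using h
    | one => simp
    | mul x y _ _ hx hy =>
      have : g * (x * y) * g⁻¹ = (g * x * g⁻¹) * (g * y * g⁻¹) := by group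
      rw [this]
      exact Subgroup.mul_mem _ hx hy
    | inv x _ hx =>
      have : g * x⁻¹ * g⁻¹ = (g * x * g⁻¹)⁻¹ := by group
      rw [this]
      exact Subgroup.inv_mem _ hx
  refine aux p hp hG _ hH ?_
  intro g hg
  by_contra h
  exact hg (Subgroup.subset_closure h)

end Cfsg.Agent.S4249
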