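import Mathlib
import Cfsg.Statements.S4262
import Cfsg.Agent.GT.Fitting
import Cfsg.Agent.GT.PiGroups
import Cfsg.Agent.GT.PGroupBasic
import Cfsg.Agent.GT.Supersolvable2
import Cfsg.Agent.S4039
import Cfsg.Agent.S4040

set_option autoImplicit false
open Cfsg

namespace Cfsg.Agent.S4262

open Cfsg.Agent.GT

variable {G : Type*} [Group G] [Finite G]

omit [Finite G] in
theorem cent_eq (h : ∀ g : G, g ∉ Subgroup.center G → IsCoatom (Subgroup.centralizer ({g} : Set G)))
    {x y : G} (hx : x ∉ Subgroup.center G) (hy : y ∉ Subgroup.center G)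
    (hle : Subgroup.centralizer ({x} : Set G) ≤ Subgroup.centralizer ({y} : Set G)) :
    Subgroup.centralizer ({x} : Set G) = Subgroup.centralizer ({y} : Set G) := by
  rcases hle.lt_or_eq with hlt | heq
  · exact absurd ((h x hx).2 _ hlt) (h y hy).1
  · exact heq

omit [Finite G] in
theorem cent_le_of_mem_zpowers {x y : G} (h : y ∈ Subgroup.zpowers x) :
    Subgroup.centralizer ({x} : Set G) ≤ Subgroup.centralizer ({y} : Set G) := by
  obtain ⟨k, rfl⟩ := h
  intro g hg
  rw [Subgroup.mem_centralizer_singleton_iff] at hg ⊢
  exact ((show Commute g x from hg).zpow_right k).eq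

omit [Finite G] in
/-- commuting elements of coprime orders lie in the cyclic group generated by their product -/
theorem mem_zpowers_mul {x y : G} (hc : Commute x y) (hcop : (orderOf x).Coprime (orderOf y)) :
    x ∈ Subgroup.zpowers (x * y) := by
  obtain ⟨m, hm⟩ := exists_pow_eq_self_of_coprime (x := x) hcop.symm
  refine ⟨((orderOf y * m : ℕ) : ℤ), ?_⟩
  simp only [zpow_natCast]
  rw [pow_mul, hc.mul_pow, pow_orderOf_eq_one, mul_one, hm]

/-- if `x` is non-central then every element of `C(x)` of order coprime to that of `x`
is central in `C(x)`. -/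
theorem central_of_coprime
    (h : ∀ g : G, g ∉ Subgroup.center G → IsCoatom (Subgroup.centralizer ({g} : Set G)))
    {x y : G} (hx : x ∉ Subgroup.center G) (hy : y ∈ Subgroup.centralizer ({x} : Set G))
    (hcop : (orderOf x).Coprime (orderOf y)) :
    Subgroup.centralizer ({x} : Set G) ≤ Subgroup.centralizer ({y} : Set G) := by
  have hc : Commute x y := (Subgroup.mem_centralizer_singleton_iff.1 hy).symm
  have h1 := mem_zpowers_mul hc hcop
  have h2 := mem_zpowers_mul hc.symm hcop.symm
  rw [← hc.eq] at h2
  have hxy : x * y ∉ Subgroup.center G := fun hz => hx ((Subgroup.zpowers_le.2 hz) h1)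
  rw [← cent_eq h hxy hx (cent_le_of_mem_zpowers h1)]
  exact cent_le_of_mem_zpowers h2

theorem nilpotent_of_central {M : Type*} [Group M] [Finite M] {p : ℕ} (hp : p.Prime)
    (h : ∀ y : M, (orderOf y).Coprime p → y ∈ Subgroup.center M) : Group.IsNilpotent M := by
  have : Fact p.Prime := ⟨hp⟩
  have hP : IsPGroup p (M ⧸ Subgroup.center M) := by
    rw [← pResidual_le_iff_isPGroup, pResidual_le_iff]
    exact h
  have := hP.isNilpotent
  exact Group.of_quotient_center_nilpotent this

/-- Let G be a finite group in which the centralizer of every non-central element is a maximal subgroup of G. Then G is solvable. -/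
theorem result {G : Type*} [Group G] [Finite G]
    (h : ∀ g : G, g ∉ Subgroup.center G → IsCoatom (Subgroup.centralizer ({g} : Set G))) :
    Group.IsSolvable G := by
  by_cases hex : ∃ p : ℕ, p.Prime ∧ p ≠ 2 ∧ ∃ x : G, x ∉ Subgroup.center G ∧ ∃ k, orderOf x = p ^ k
  · obtain ⟨p, hp, hp2, x, hx, k, hk⟩ := hex
    set M := Subgroup.centralizer ({x} : Set G) with hM
    have hcen : ∀ y : M, (orderOf y).Coprime p → y ∈ Subgroup.center M := by
      intro y hy
      rw [Subgroup.mem_center_iff]
      intro g
      have := central_of_coprime h hx y.2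
        (by rw [hk, Subgroup.orderOf_coe]; exact (hy.symm.pow_left k)) g.2
      exact Subtype.ext (Subgroup.mem_centralizer_singleton_iff.1 this)
    have hnil := nilpotent_of_central hp hcen
    by_cases h2 : ∃ t ∈ M, t ∉ Subgroup.center G ∧ ∃ j, orderOf t = 2 ^ j
    · obtain ⟨t, htM, ht, j, hj⟩ := h2
      have hcop : (orderOf x).Coprime (orderOf t) := by
        rw [hk, hj]
        exact Nat.Coprime.pow _ _ ((Nat.coprime_primes hp Nat.prime_two).2 hp2)
      have hMt : M = Subgroup.centralizer ({t} : Set G) :=
        cent_eq h hx ht (central_of_coprime h hx htM hcop)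
      have hcen2 : ∀ y : M, (orderOf y).Coprime 2 → y ∈ Subgroup.center M := by
        intro y hy
        rw [Subgroup.mem_center_iff]
        intro g
        have := central_of_coprime h ht (hMt.le y.2)
          (by rw [hj, Subgroup.orderOf_coe]; exact (hy.symm.pow_left j)) (hMt.le g.2)
        exact Subtype.ext (Subgroup.mem_centralizer_singleton_iff.1 this)
      have hall : Subgroup.center M = ⊤ := by
        rw [eq_top_iff]
        intro y _
        obtain ⟨a, b, -, -, ha, hb, -, rfl⟩ := exists_piPart_elem {p} y
        refine Subgroup.mul_mem _ (hcen2 a ?_) (hcen b ?_)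
        · exact ha.coprime ((isPiNum_compl_singleton_iff hp).2
            ((Nat.coprime_primes Nat.prime_two hp).2 hp2.symm))
        · exact (isPiNum_compl_singleton_iff hp).1 hb
      refine Cfsg.Agent.S4039.result M (h x hx) hnil ?_
      have : Subgroup.upperCentralSeries M 1 = ⊤ := by
        rw [Subgroup.upperCentralSeries_one, hall]
      exact (Subgroup.upperCentralSeries_eq_top_iff_nilpotencyClass_le.1 this).trans (by norm_num)
    · push Not at h2
      have hZM : Subgroup.center G ≤ M := Subgroup.center_le_centralizer _
      let f := QuotientGroup.mk' (Subgroup.center G)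
      have hco : IsCoatom (M.map f) := by
        exact SS.isCoatom_map_mk' (h x hx) hZM
      have hodd : Odd (Nat.card (M.map f)) := by
        rw [← Nat.not_even_iff_odd, even_iff_two_dvd]
        intro hd
        obtain ⟨g, ⟨y, hyM, rfl⟩, hg⟩ := exists_mem_orderOf_eq_prime Nat.prime_two hd
        obtain ⟨a, b, ha', hb', ha, hb, hab, rfl⟩ := exists_piPart_elem {2} y
        obtain ⟨j, hj⟩ := (isPiNum_singleton_iff Nat.prime_two (orderOf_pos a).ne').1 ha
        have haZ : a ∈ Subgroup.center G := by
          by_contra hne
          exact h2 a ((Subgroup.zpowers_le.2 hyM) ha') hne j hj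
        rw [map_mul, (QuotientGroup.eq_one_iff a).2 haZ |> (show f a = 1 from ·), one_mul] at hg
        have := (isPiNum_compl_singleton_iff_not_dvd Nat.prime_two).1 hb
        exact this (hg ▸ orderOf_map_dvd f b)
      have := Cfsg.Agent.S4040.result (M.map f) hco (isNilpotent_map M f) hodd
      have : Group.IsSolvable (Subgroup.center G) := isSolvable_of_isMulCommutative
      exact Group.isSolvable_of_ker_le_range (Subgroup.center G).subtype f (by simp [f])
  · push Not at hex
    have hn : Group.IsNilpotent G := by
      apply nilpotent_of_central Nat.prime_two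
      intro y hy
      have : Subgroup.zpowers y ≤ Subgroup.center G := by
        apply le_of_forall_isPGroup_le
        intro p hp hd P hP hPp g hg
        by_contra hne
        have : Fact p.Prime := ⟨hp⟩
        obtain ⟨k, hk⟩ := IsPGroup.iff_orderOf.1 hPp ⟨g, hg⟩
        refine hex p hp ?_ g hne k (by rw [← hk, Subgroup.orderOf_mk])
        rintro rfl
        rw [Nat.card_zpowers] at hd
        exact absurd (Nat.Coprime.eq_one_of_dvd hy.symm hd) (by norm_num)
      exact this (Subgroup.mem_zpowers y)
    infer_instance

end Cfsg.Agent.S4262
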