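import Mathlib
import Cfsg.Statements.S4284
import Cfsg.Agent.FG.ConjTypeH
import Cfsg.Agent.S4249
import Cfsg.Agent.S3807
-- import your own Cfsg.Agent.* helpers here

set_option autoImplicit false
open Cfsg

namespace Cfsg.Agent.S4284

open Subgroup Cfsg.Agent.FG.CI Cfsg.Agent.FG.CT
open scoped commutatorElement

/-- Let G be a finite group with no nontrivial abelian direct factor whose conjugacy class sizes are exactly 1, m and m·n with m, n > 1 coprime. Then m is a prime p dividing n − 1; the elements whose class has size 1 or p form an abelian normal subgroup of index p; G has a normal p-complement; and the commutator subgroup of a Sylow p-subgroup of G has order p. -/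
theorem result {G : Type*} [Group G] [Finite G] (hnodf : ∀ A B : Subgroup G, A.Normal → B.Normal → A ⊓ B = ⊥ → A ⊔ B = ⊤ → IsMulCommutative A → A = ⊥) (m n : ℕ) (hm : 1 < m) (hn : 1 < n) (hcop : m.Coprime n) (h : Set.range (fun x : G => (Subgroup.centralizer ({x} : Set G)).index) = ({1, m, m * n} : Set ℕ)) : m.Prime ∧ m ∣ n - 1 ∧ (∃ M : Subgroup G, M.Normal ∧ (M : Set G) = {x : G | (Subgroup.centralizer ({x} : Set G)).index = 1 ∨ (Subgroup.centralizer ({x} : Set G)).index = m} ∧ M.index = m ∧ IsMulCommutative M) ∧ (∃ N : Subgroup G, N.Normal ∧ (Nat.card N).Coprime m ∧ ∃ a : ℕ, N.index = m ^ a) ∧ ∀ P : Sylow m G, Nat.card (commutator (P : Subgroup G)) = m := by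
  have hR : Rk2 G m n := ⟨fun x hx => by
    have h1 : cidx x ∈ ({1, m, m * n} : Set ℕ) := h ▸ ⟨x, rfl⟩
    exact h1.resolve_left fun e => hx (cidx_eq_one_iff.1 e), hm, hn⟩
  obtain ⟨y0, hy0⟩ : m ∈ Set.range fun x : G => cidx x := h.symm ▸ by simp
  obtain ⟨x0, hx0⟩ : m * n ∈ Set.range fun x : G => cidx x := h.symm ▸ by simp
  dsimp only at hy0 hx0
  have hp := Nat.minFac_prime hm.ne'
  have hpm := m.minFac_dvd
  set p := m.minFac
  have hq := Nat.minFac_prime hn.ne'
  have hqn := n.minFac_dvd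
  set q := n.minFac
  have := Fact.mk hp
  have hpn : ¬ p ∣ n := fun e => hp.one_lt.ne' (Nat.eq_one_of_dvd_coprimes hcop hpm e)
  have hqp : q ≠ p := fun e => hpn (e ▸ hqn)
  have h1 : ∀ x w : G, x ∉ center G → w ∉ center G → Commute w x → ∀ t : ℕ, t.Prime → t ≠ p →
      (∃ k, orderOf w = t ^ k) → cidx x = m := fun x w hx hw hc t ht htp hwt =>
    (hR.idx x hx).resolve_right fun e => htp (hR.eq_of_dvd hcop ⟨y0, hy0⟩ e hp ht hpm
      (dvd_relIndex_of_pElem ht (mem_cent_commute.2 hc) hw hwt))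
  have hmp : m = p ^ _ := Nat.eq_prime_pow_of_unique_prime_dvd (by omega) fun {t} ht e =>
    hR.eq_of_dvd hcop ⟨y0, hy0⟩ hx0 hp ht hpm (((Nat.Prime.coprime_iff_not_dvd ht).2 fun a =>
      ht.one_lt.ne' (Nat.eq_one_of_dvd_coprimes hcop e a)).dvd_of_dvd_mul_right
      (Rk2.relIndex_mul hy0 hx0 ▸ hR.dvd_relIndex hy0 ht
        ((hy0 ▸ e).trans (cidx_dvd_index_center y0))))
  have hqG : q ∣ (center G).index := (hx0 ▸ hqn.mul_left m).trans (cidx_dvd_index_center x0)
  obtain ⟨w, hw, hwq⟩ := exists_noncentral hq hqG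
  have hwm := h1 w w hw hw (Commute.refl w) q hq hqp hwq
  have h2 : ∀ u v : G, cidx u = m → v ∉ center G → Commute u v → ∀ t : ℕ, t.Prime → t ≠ p →
      (orderOf u).Coprime (orderOf v) → ((∃ k, orderOf u = t ^ k) ∨ ∃ k, orderOf v = t ^ k) →
      centralizer ({u} : Set G) ≤ centralizer {v} := fun u v hu hv hc t ht htp ho e => by
    have h3 : u * v ∉ center G := fun a => hv (zpowers_le.2 a (Ch.mem_zpowers_mul_of_coprime hc ho).2)
    refine cent_le_of_cidx_mul hc ho (Eq.trans ?_ hu.symm)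
    rcases e with e | e
    · exact h1 _ u h3 (one_lt_cidx_iff.1 (hu ▸ hm)) ((Commute.refl u).mul_right hc) t ht htp e
    · exact h1 _ v h3 hv (hc.symm.mul_right (Commute.refl v)) t ht htp e
  set M := centralizer ({w} : Set G) with hM
  obtain ⟨u, huM, hu, hup⟩ := exists_pElem_of_dvd_relIndex hp
    (hR.dvd_relIndex hwm hp ((hy0 ▸ hpm).trans (cidx_dvd_index_center y0)))
  have e1 : M = centralizer {u} := hR.eq_m hu hwm (h2 w u hwm hu (mem_cent_commute.1 huM).symm q hq
    hqp (coprime_of_primary hq hp hqp hwq hup) (Or.inl hwq))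
  have hum : cidx u = m := by rw [cidx, ← e1]; exact hwm
  have h3 : ∀ v ∈ M, M ≤ centralizer {v} := fun v hv => cent_le_of_primary fun d hd t ht hdt => by
    have hd' := zpowers_le.2 hv hd
    by_cases hc : d ∈ center G
    · exact cent_eq_top_iff.2 hc ▸ le_top
    by_cases e : t = p
    · exact h2 w d hwm hc (mem_cent_commute.1 hd').symm q hq hqp
        (coprime_of_primary hq ht (e ▸ hqp) hwq hdt) (Or.inl hwq)
    · exact e1 ▸ h2 u d hum hc (mem_cent_commute.1 (e1 ▸ hd')).symm t ht e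
        (coprime_of_primary hp ht (Ne.symm e) hup hdt) (Or.inr hdt)
  have h4 : ∀ v ∈ M, v ∉ center G → M = centralizer {v} := fun v hv hc => hR.eq_m hc hwm (h3 v hv)
  have huU := mem_pCore_of_cidx_pow hup ⟨_, hum.trans hmp⟩
  have h5 : ∀ g : G, g * u * g⁻¹ ∈ M → ∀ a ∈ M, g * a * g⁻¹ ∈ M := fun g hg a ha => by
    rw [h4 _ hg fun e => hu (by simpa [mul_assoc] using Normal.conj_mem inferInstance _ e g⁻¹),
      mem_cent_conj, ← e1]
    simpa [mul_assoc] using ha
  have h6 : pCore p G ≤ pCore p G ⊓ M := by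
    by_contra hn'
    obtain ⟨g, hg, hgV, hgn⟩ := Inv.exists_mem_normalizer_of_lt (GT.isPGroup_pCore p)
      inf_le_left hn'
    have h7 := h5 g ((mem_normalizer_iff.1 hgn u).1 ⟨huU, huM⟩).2 w (self_mem_cent w)
    obtain ⟨k, hk⟩ := hwq
    obtain ⟨i, -, hi⟩ := (Nat.dvd_prime_pow hq).1 (show orderOf (g * w * g⁻¹ * w⁻¹) ∣ q ^ k by
      rw [orderOf_dvd_iff_pow_eq_one, (mem_cent_commute.1 h7).inv_right.mul_pow, conj_pow, inv_pow,
        ← hk, pow_orderOf_eq_one]
      simp)
    have h8 := eq_one_of_primary hq hp hqp ⟨i, hi⟩ (orderOf_of_mem (GT.isPGroup_pCore p) (by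
      simpa [mul_assoc] using mul_mem hg (Normal.conj_mem inferInstance _ (inv_mem hg) w)))
    rw [mul_inv_eq_one, mul_inv_eq_iff_eq_mul] at h8
    exact hgV ⟨hg, mem_cent.2 h8⟩
  have hMn : M.Normal := ⟨fun a ha g => h5 g (h6 (Normal.conj_mem inferInstance _ huU g)).2 a ha⟩
  have hMi : M.index = m := hwm
  have h7 : ∀ b : G, (orderOf b).Coprime p → b ∈ M := fun b hb => mem_of_pow_mem_of_coprime
    (pow_index_mem M b) (pow_orderOf_eq_one b ▸ one_mem M) (by
      rw [hMi, hmp]; exact hb.symm.pow_left _)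
  have h8 : ∀ y ∉ M, ∀ v ∈ M, Commute y v → v ∈ center G := fun y hy v hv hc =>
    by_contra fun e => hy (h4 v hv e ▸ mem_cent_commute.2 hc)
  let f := QuotientGroup.mk' (center G)
  have hf : ∀ a : G, f a = 1 ↔ a ∈ center G := fun a => QuotientGroup.eq_one_iff a
  have h9 : ∀ y ∉ M, y ^ p ∈ center G := fun y hy => by
    obtain ⟨a, b, ha, hb, rfl, hab, hap, hbp⟩ := Ch.exists_p_parts hp y
    have hbM := h7 b ((Nat.Prime.coprime_iff_not_dvd hp).2 hbp).symm
    obtain ⟨k, hk⟩ := hap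
    obtain ⟨l, -, hl⟩ := (Nat.dvd_prime_pow hp).1 (hk ▸ orderOf_map_dvd f a)
    have : ((pCore p G).map f).Normal := Normal.map inferInstance f (QuotientGroup.mk'_surjective _)
    obtain ⟨⟨_, ⟨x, hx, rfl⟩, hxc⟩, hx1⟩ := ne_bot_iff_exists_ne_one.1
      (GT.PG.inf_centralizer_ne_bot_of_isPGroup ((GT.isPGroup_pCore p).map f)
        (isPGroup_zpowers ⟨l, hl⟩) (by rw [normalizer_eq_top]; exact le_top)
        fun e => hu ((hf u).1 (mem_bot.1 (e ▸ mem_map_of_mem f huU))))
    obtain ⟨z, ⟨i, rfl⟩, t, ht, hzt⟩ := exists_prime_pow (u := f x) fun e => hx1 (Subtype.ext e)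
    dsimp only at hzt
    rw [← map_zpow] at hzt
    have hx' := zpow_mem hx i
    obtain rfl : t = p := by
      obtain ⟨c, hc⟩ := orderOf_of_mem (GT.isPGroup_pCore p) hx'
      exact (Nat.prime_dvd_prime_iff_eq ht hp).1 (ht.dvd_of_dvd_pow
        (hc ▸ hzt ▸ orderOf_map_dvd f _))
    have h10 : ⁅a, x ^ i⁆ ∈ center G := by
      rw [← hf, map_commutatorElement, commutatorElement_eq_one_iff_commute, map_zpow]
      exact Commute.zpow_right (mem_centralizer_iff.1 hxc _ (mem_zpowers _)) i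
    have h11 : a ^ p ∈ M := by
      rw [h4 _ (h6 hx').2 fun e => ne_one_of_prime hp hzt ((hf _).2 e), mem_cent_commute,
        ← commutatorElement_eq_one_iff_commute, GT.PG.commutator_pow_left_of_commute
        (mem_center_iff.1 h10 a), ← GT.PG.commutator_pow_right_of_commute (mem_center_iff.1 h10 _),
        commutatorElement_eq_one_iff_mul_comm]
      refine mem_center_iff.1 ((hf _).1 ?_) a
      rw [map_pow, ← hzt, pow_orderOf_eq_one]
    refine h8 _ hy _ ?_ ((Commute.refl _).pow_right p)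
    rw [hab.mul_pow]
    exact mul_mem h11 (pow_mem hbM p)
  have hMc : (M.map f).comap f = M := by
    rw [comap_map_eq, QuotientGroup.ker_mk', sup_eq_left.2 (center_le_cent w)]
  have h10 : closure {g : G ⧸ center G | g ^ p ≠ 1} ≤ M.map f := (closure_le _).2 fun g hg => by
    obtain ⟨g, rfl⟩ := QuotientGroup.mk'_surjective _ g
    by_contra e
    exact hg ((map_pow f g p).symm.trans ((hf _).2 (h9 g fun a => e (mem_map_of_mem f a))))
  have h11 : (M.map f).index = m := by
    rw [← index_comap_of_surjective _ (QuotientGroup.mk'_surjective _), hMc, hMi]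
  have hmp' : m = p := ((Nat.dvd_prime hp).1 (h11 ▸ (S4249.result p hp (fun e => by
      obtain ⟨k, hk⟩ := IsPGroup.iff_card.1 e
      exact hqp ((Nat.prime_dvd_prime_iff_eq hq hp).1 (hq.dvd_of_dvd_pow (hqG.trans hk.dvd))))
      fun e => hm.ne' (h11.symm.trans (index_eq_one.2 (top_le_iff.1 (e ▸ h10))))).2 ▸
      index_dvd_of_le h10)).resolve_left hm.ne'
  have hx0M : x0 ∉ M := fun e => hR.lt.ne (hwm.symm.trans (by
    rw [← hx0, cidx, cidx, ← h4 x0 e (one_lt_cidx_iff.1 (by have := hR.lt; omega))]))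
  have h12 : (center G).relIndex (centralizer {x0}) = p := by
    have e2 : (center G).relIndex (centralizer {x0}) = M.relIndex (centralizer {x0}) := by
      rw [← inf_relIndex_right M, ← inf_relIndex_right (center G)]
      congr 1
      exact le_antisymm (inf_le_inf_right _ (center_le_cent w))
        fun a ha => ⟨h8 x0 hx0M a ha.1 (mem_cent_commute.1 ha.2).symm, ha.2⟩
    refine ((Nat.dvd_prime hp).1 ?_).resolve_left fun e => ?_
    · rw [e2, ← hmp', ← hMi]
      exact relIndex_dvd_index_of_normal _ _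
    · exact hx0M (relIndex_eq_one.1 (e2 ▸ e) (self_mem_cent x0))
  have h13 : (center G).index = p ^ 2 * n := by
    rw [← relIndex_mul_index (center_le_cent x0), h12]
    change p * cidx x0 = _
    rw [hx0, hmp']
    ring
  let N := rc p w
  have hN : ∀ b : G, b ∈ N ↔ (orderOf b).Coprime p := fun b => ⟨fun e => e.2, fun e => ⟨h3 b (h7 b e), e⟩⟩
  have hNn : N.Normal := ⟨fun a ha g => (hN _).2 (by rw [Inv.SE.orderOf_conj]; exact ha.2)⟩
  have hNp : (Nat.card N).Coprime p := ((Nat.Prime.coprime_iff_not_dvd hp).2 fun e => by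
    obtain ⟨a, ha, hap⟩ := exists_mem_orderOf hp e
    exact hp.one_lt.ne' ((Nat.coprime_self p).1 (hap ▸ ha.2))).symm
  obtain ⟨c, hc⟩ := relIndex_eq_pow (A := N) (B := ⊤) hp fun g _ => (hN g).2
  rw [relIndex_top_right] at hc
  have h14 : Nat.card (N.map f) = n := by
    obtain ⟨j, -, hj⟩ := (Nat.dvd_prime_pow hp).1
      (hc ▸ index_map_dvd N (QuotientGroup.mk'_surjective (center G)))
    have e2 := (N.map f).card_mul_index
    rw [hj, ← index_eq_card, h13] at e2
    exact Nat.dvd_antisymm (((hNp.coprime_dvd_left (card_map_dvd N f)).pow_right 2).dvd_of_dvd_mul_left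
      (e2 ▸ dvd_mul_right _ _)) ((((Nat.Prime.coprime_iff_not_dvd hp).2 hpn).symm.pow_right
        j).dvd_of_dvd_mul_right (e2 ▸ dvd_mul_left _ _))
  obtain ⟨y, -, hy, k, hk⟩ := exists_pElem_of_dvd_relIndex (N := M) (H := ⊤) hp (by
    rw [relIndex_top_right, hMi, hmp'])
  refine ⟨hmp' ▸ hp, ?_, ⟨M, hMn, Set.ext fun x => ⟨fun hx => ?_, fun hx => ?_⟩, hMi,
    ⟨⟨fun a b => Subtype.ext (mem_cent.1 (h3 b b.2 a.2))⟩⟩⟩, ⟨N, hNn, hmp' ▸ hNp, c, hmp' ▸ hc⟩, ?_⟩
  · obtain ⟨l, -, hl⟩ := (Nat.dvd_prime_pow hp).1 (hk ▸ orderOf_map_dvd f y)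
    have : (N.map f).Normal := Normal.map hNn f (QuotientGroup.mk'_surjective _)
    have e2 := GT.card_modEq_card_inf_centralizer (L := N.map f) (isPGroup_zpowers ⟨l, hl⟩)
      (by rw [normalizer_eq_top]; exact le_top)
    have e3 : N.map f ⊓ centralizer (zpowers (f y) : Set (G ⧸ center G)) = ⊥ := eq_bot_iff.2 (by
      rintro _ ⟨⟨a, ha, rfl⟩, hac⟩
      exact (hf a).2 (h8 y hy a (rc_le_cent p w ha) (commute_of_commute_mk
        (mem_centralizer_iff.1 hac _ (mem_zpowers _)) (by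
          change (orderOf (f y)).Coprime _
          rw [hl]
          exact (ha.2.symm.coprime_dvd_right (orderOf_map_dvd f a)).pow_left l))))
    rw [h14, e3, card_bot] at e2
    exact hmp' ▸ (Nat.modEq_iff_dvd' hn.le).1 e2.symm
  · by_cases e : x ∈ center G
    · exact Or.inl (cidx_eq_one_iff.2 e)
    · exact Or.inr (h4 x hx e ▸ hMi)
  · rcases hx with e | e
    · exact center_le_cent w (cidx_eq_one_iff.1 e)
    obtain ⟨v, hv, hvc, hvq⟩ := exists_pElem_of_dvd_relIndex hq (hR.dvd_relIndex e hq hqG)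
    exact h4 v (h7 v (coprime_of_primary' hq hp hqp hvq)) hvc ▸ mem_cent_symm.1 hv
  clear_value p
  subst hmp'
  intro P
  have e2 : center P = (center G).subgroupOf P := le_antisymm (fun a ha => by
    by_contra e
    exact not_dvd_cidx_of_sylow_le P (fun g hg => mem_cent.2
      (congrArg Subtype.val (mem_center_iff.1 ha ⟨g, hg⟩))) (hR.dvd_cidx e))
    fun a ha => mem_center_iff.2 fun g => Subtype.ext (mem_center_iff.1 ha g)
  have e3 : (center P).index = m ^ 2 := by
    rw [e2, ← relIndex, ← QuotientGroup.ker_mk' (center G), relIndex_ker]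
    refine (P.mapSurjective (QuotientGroup.mk'_surjective _)).card_eq_multiplicity.trans ?_
    rw [← index_eq_card, h13, Nat.factorization_mul (pow_pos hp.pos 2).ne' (by omega),
      Finsupp.add_apply, Nat.factorization_eq_zero_of_not_dvd hpn, hp.factorization_pow]
    simp
  have e4 := (S3807.result m P.isPGroup' (fun e => by
      rw [center_eq_top_iff.2 e, index_top] at e3
      nlinarith) (M.subgroupOf P)
    ⟨⟨fun a b => Subtype.ext (Subtype.ext (mem_cent.1 (h3 _ b.2 a.2)))⟩⟩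
    (((Nat.dvd_prime hp).1 (hMi ▸ relIndex_dvd_index_of_normal M P)).resolve_left fun e =>
      (not_dvd_index_iff M).2 ⟨P, relIndex_eq_one.1 e⟩ hMi.symm.dvd)).1
  rw [e3, pow_two] at e4
  exact (Nat.eq_of_mul_eq_mul_left hp.pos e4).symm

end Cfsg.Agent.S4284
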