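import Mathlib
-- Template for statement S4304 (row 4304; see /opt/grader/pristine/manifest.json for weights).
-- Copy to Cfsg/Agent/S4304.lean and replace the sorry. The statement below is byte-identical to the frozen
-- statement Cfsg.CfsgFrozen.S4304 (Cfsg/Statements/S4304.lean; the theorem Cfsg.fg16_card_sylow_seven_ne_fifteen);
-- the grader kernel-checks Cfsg.Agent.S4304.result against that frozen type. Keep the theorem IN THIS FILE
-- (a `result` declared elsewhere and merely imported here is not credited); helpers may live anywhere
-- under Cfsg/Agent/.
import Cfsg.Statements.S4304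
import Cfsg.Agent.Blk.OneBR4

set_option autoImplicit false
set_option linter.style.haveILetI false
set_option linter.unusedVariables false
open Cfsg

namespace Cfsg.Agent.S4304


/-- No finite group has exactly 15 Sylow 7-subgroups. -/
theorem result {G : Type*} [Group G] [Finite G] : Nat.card (Sylow 7 G) ≠ 15 := by
  haveI : Fact (Nat.Prime 7) := ⟨by norm_num⟩
  refine Cfsg.Agent.Blk.One.card_sylow_ne (p := 7) (n := 2) (by norm_num) (by norm_num)
    (fun h => absurd ((isPrimePow_iff_unique_prime_dvd.1 h).unique (y₁ := 3) (y₂ := 5)
      (by norm_num) (by norm_num)) (by norm_num)) (fun _ m h => ?_) (by norm_num)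
  have h1 : m < 3 := (Nat.pow_lt_pow_iff_right one_lt_two).1 (by omega)
  interval_cases m <;> simp at h

end Cfsg.Agent.S4304
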