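import Mathlib
import Cfsg.Statements.S4347
import Cfsg.Agent.FG.SylowNormal

set_option autoImplicit false
open Cfsg

namespace Cfsg.Agent.S4347

open Cfsg.Agent.FG.H96 Pointwise


/-- Let G be a finite group and p a prime. Say a Sylow p-subgroup Q is redundant when every element of p-power order lies in some Sylow p-subgroup other than Q. Then G has no redundant Sylow p-subgroup if and only if some element of p-power order lies in exactly one Sylow p-subgroup. -/
theorem result {G : Type*} [Group G] [Finite G]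
    (p : ℕ) [Fact p.Prime] :
    (¬ ∃ Q : Sylow p G, ∀ x : G, (∃ k : ℕ, orderOf x = p ^ k) → ∃ P : Sylow p G, P ≠ Q ∧ x ∈ P) ↔
      ∃ x : G, (∃ k : ℕ, orderOf x = p ^ k) ∧ ∃! P : Sylow p G, x ∈ P := by
  constructor
  · intro h
    obtain ⟨Q⟩ : Nonempty (Sylow p G) := inferInstance
    by_contra hc
    apply h
    refine ⟨Q, fun x hx => ?_⟩
    by_contra hP
    push Not at hP
    obtain ⟨R, hR⟩ := (isPGroup_zpowers_of_orderOf hx).exists_le_sylow
    have hxR : x ∈ R := hR (Subgroup.mem_zpowers x)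
    have hRQ : R = Q := by
      by_contra e
      exact hP R e hxR
    refine hc ⟨x, hx, R, hxR, fun P hP' => ?_⟩
    rw [hRQ]
    by_contra e
    exact hP P e hP'
  · rintro ⟨x, hx, P, hxP, hP⟩ ⟨Q, hQ⟩
    obtain ⟨g, rfl⟩ := MulAction.exists_smul_eq G P Q
    obtain ⟨R, hne, hR⟩ := hQ (g * x * g⁻¹) (by
      obtain ⟨k, hk⟩ := hx
      exact ⟨k, by rw [← hk]; exact (SemiconjBy.orderOf_eq g (by simp [SemiconjBy])).symm⟩)
    apply hne
    have : x ∈ (g⁻¹ • R : Sylow p G) := by
      change x ∈ ((g⁻¹ • R : Sylow p G) : Subgroup G)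
      rw [Sylow.coe_subgroup_smul, Subgroup.mem_pointwise_smul_iff_inv_smul_mem, ← map_inv, inv_inv]
      exact hR
    rw [← hP _ this, smul_inv_smul]

end Cfsg.Agent.S4347
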