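import Cfsg.Statements.S4349
import Cfsg.Agent.Sym.SylowTwo

set_option autoImplicit false
open Cfsg

namespace Cfsg.Agent.S4349

/-- Let n ≥ 2 and let x be an element of 2-power order of the symmetric group of degree n. Then x lies in exactly one Sylow 2-subgroup if and only if x has at most two fixed points and the nontrivial cycles of x have pairwise different lengths. -/
theorem result (n : ℕ) (hn : 2 ≤ n)
    (x : Equiv.Perm (Fin n)) (hx : ∃ k : ℕ, orderOf x = 2 ^ k) :
    (∃! P : Sylow 2 (Equiv.Perm (Fin n)), x ∈ P) ↔ (n ≤ x.support.card + 2 ∧ x.cycleType.Nodup) := by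
  have hper : ∀ a, x a ≠ a → ∀ k : ℕ, (x ^ k) a = a ↔ (x.cycleOf a).support.card ∣ k :=
    fun a ha k => (Equiv.Perm.isCycleOn_support_cycleOf x a).pow_apply_eq
      ((Equiv.Perm.mem_support_cycleOf_iff' ha).2 (Equiv.Perm.SameCycle.refl _ _))
  have hcard : x.supportᶜ.card = n - x.support.card := by simp [Finset.card_compl]
  constructor
  · rintro ⟨P, -, hP⟩
    have key : ∀ a b c, Sym.IsPartner x a b → Sym.IsPartner x a c → b = c := by
      intro a b c hb hc
      obtain ⟨Q, h1, h2⟩ := hb.exists_sylow hx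
      obtain ⟨R, h3, h4⟩ := hc.exists_sylow hx
      rw [hP Q h1] at h2
      rw [hP R h3] at h4
      exact Sym.eq_of_swap_mem_isPGroup_two P.isPGroup' hb.1 hc.1 h2 h4
    constructor
    · by_contra! h
      obtain ⟨a, b, c, ha, hb, hc, hab, hac, hbc⟩ :=
        Finset.two_lt_card_iff.1 (show 2 < x.supportᶜ.card by omega)
      simp only [Finset.mem_compl, Equiv.Perm.notMem_support] at ha hb hc
      refine hbc (key a b c ⟨hab, fun k => ?_⟩ ⟨hac, fun k => ?_⟩) <;>
        simp [Equiv.Perm.pow_apply_eq_self_of_apply_eq_self, eq_comm, *]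
    · rw [Equiv.Perm.cycleType_def, Multiset.nodup_map_iff_inj_on x.cycleFactorsFinset.nodup]
      intro c hc d hd e
      rw [Finset.mem_val] at hc hd
      obtain ⟨a, ha⟩ := (Equiv.Perm.mem_cycleFactorsFinset_iff.1 hc).1.nonempty_support
      obtain ⟨b, hb⟩ := (Equiv.Perm.mem_cycleFactorsFinset_iff.1 hd).1.nonempty_support
      have ha' := Equiv.Perm.mem_support.1 (Equiv.Perm.mem_cycleFactorsFinset_support_le hc ha)
      have hb' := Equiv.Perm.mem_support.1 (Equiv.Perm.mem_cycleFactorsFinset_support_le hd hb)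
      obtain rfl := Equiv.Perm.cycle_is_cycleOf ha hc
      obtain rfl := Equiv.Perm.cycle_is_cycleOf hb hd
      by_contra hne
      have hns : ¬ x.SameCycle a b := fun h => hne h.cycleOf_eq
      simp only [Function.comp_apply] at e
      obtain ⟨k, hk⟩ := hx
      have h1 : (x.cycleOf a).support.card ∣ 2 ^ k := (hper a ha' _).1 (by
        rw [← hk, pow_orderOf_eq_one]; rfl)
      have h2 := Equiv.Perm.two_le_card_support_cycleOf_iff.2 ha'
      obtain ⟨j, -, hj⟩ := (Nat.dvd_prime_pow Nat.prime_two).1 h1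
      obtain ⟨j, rfl⟩ : ∃ i, j = i + 1 := ⟨j - 1, by
        rcases j with _ | j
        · omega
        · rfl⟩
      have h3 : (x ^ 2 ^ j) ((x ^ 2 ^ j) a) = a := by
        rw [← Equiv.Perm.mul_apply, ← pow_add, hper a ha', hj, pow_succ, mul_two]
      have h4 : ∀ (l : ℕ) y, (x ^ l) ((x ^ 2 ^ j) y) = (x ^ 2 ^ j) ((x ^ l) y) := fun l y => by
        rw [← Equiv.Perm.mul_apply, ← Equiv.Perm.mul_apply, pow_mul_comm]
      refine hns ⟨(2 ^ j : ℕ), ?_⟩
      rw [zpow_natCast]
      refine key a _ _ ⟨fun h => ?_, fun l => ⟨?_, ?_⟩⟩ ⟨fun h => hns (h ▸ .refl _ _), fun l =>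
        ⟨by rw [hper a ha', hper b hb', e], iff_of_false (fun h => hns ⟨l, by simpa using h⟩)
          fun h => hns (Equiv.Perm.SameCycle.symm ⟨l, by simpa using h⟩)⟩⟩
      · have := Nat.le_of_dvd (by positivity) ((hper a ha' _).1 h.symm)
        rw [hj, pow_succ] at this
        have := Nat.two_pow_pos j
        omega
      · rw [h4, Equiv.apply_eq_iff_eq]
      · rw [h4]
        conv_rhs => rhs; rw [← h3]
        rw [Equiv.apply_eq_iff_eq]
  · rintro ⟨h1, h2⟩
    have hd : Sym.DistinctCycles x := by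
      constructor
      · intro a b h ha
        have hb : x b ≠ b := fun e => ha (by simpa using (h 1).2 (by simpa using e))
        simp only [hper a ha, hper b hb] at h
        rw [Equiv.Perm.cycleType_def,
          Multiset.nodup_map_iff_inj_on x.cycleFactorsFinset.nodup] at h2
        simp only [Finset.mem_val] at h2
        rw [Equiv.Perm.sameCycle_iff_cycleOf_eq_of_mem_support (Equiv.Perm.mem_support.2 ha)
          (Equiv.Perm.mem_support.2 hb)]
        exact h2 _ (Equiv.Perm.cycleOf_mem_cycleFactorsFinset_iff.2 (Equiv.Perm.mem_support.2 ha))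
          _ (Equiv.Perm.cycleOf_mem_cycleFactorsFinset_iff.2 (Equiv.Perm.mem_support.2 hb))
          (Nat.dvd_antisymm ((h _).2 dvd_rfl) ((h _).1 dvd_rfl))
      · intro a b c ha hb hc
        by_contra! h
        have := Finset.two_lt_card_iff.2 ⟨a, b, c, (by simpa using ha : a ∈ x.supportᶜ),
          by simpa using hb, by simpa using hc, h⟩
        omega
    obtain ⟨k, hk⟩ := hx
    obtain ⟨P, hP⟩ := (IsPGroup.of_card (p := 2) (G := Subgroup.zpowers x)
      (by rw [Nat.card_zpowers, hk])).exists_le_sylow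
    exact ⟨P, hP (Subgroup.mem_zpowers x), fun Q hQ =>
      Sym.sylow_two_eq_of_distinctCycles hd Q P hQ (hP (Subgroup.mem_zpowers x))⟩

end Cfsg.Agent.S4349
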