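import Cfsg.Statements.S4358
import Mathlib.LinearAlgebra.Matrix.GeneralLinearGroup.Card
import Mathlib.NumberTheory.Multiplicity
import Mathlib.LinearAlgebra.Vandermonde
import Mathlib.RingTheory.RootsOfUnity.PrimitiveRoots
import Mathlib.LinearAlgebra.Matrix.Transvection
import Mathlib.GroupTheory.Sylow
import Mathlib.Tactic

set_option autoImplicit false
open Cfsg

namespace Cfsg.Agent.S4358

open Matrix

section gen
variable {F : Type*} [Field F] {ι : Type} [AddCommGroup ι] [Fintype ι] [DecidableEq ι]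

/-- monomial matrix with shift `s` -/
def mon (a : ι → F) (s : ι) : Matrix ι ι F := Matrix.of fun i j => if j = i + s then a i else 0

theorem mon_apply (a : ι → F) (s i j : ι) : mon a s i j = if j = i + s then a i else 0 := rfl

theorem mon_mul_apply (a : ι → F) (s : ι) (B : Matrix ι ι F) (i j : ι) :
    (mon a s * B) i j = a i * B (i + s) j := by
  simp [Matrix.mul_apply, mon_apply]

theorem mul_mon0_apply (a : ι → F) (B : Matrix ι ι F) (i j : ι) :
    (B * mon a 0) i j = B i j * a j := by
  simp [Matrix.mul_apply, mon_apply]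

theorem mon_mul (a b : ι → F) (s t : ι) :
    mon a s * mon b t = mon (fun i => a i * b (i + s)) (s + t) := by
  ext i j
  rw [mon_mul_apply, mon_apply, mon_apply, add_assoc]
  split_ifs <;> simp

theorem mon_one (a : ι → F) (ha : ∀ i, a i = 1) : mon a 0 = 1 := by
  ext i j
  rw [mon_apply, add_zero, Matrix.one_apply, ha]
  simp [eq_comm]

/-- the unit given by a monomial matrix -/
def umon (a : ι → F) (s : ι) (ha : ∀ i, a i ≠ 0) : GL ι F :=
  ⟨mon a s, mon (fun i => (a (i - s))⁻¹) (-s),
    by rw [mon_mul, add_neg_cancel]; exact mon_one _ fun i => by simp [ha],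
    by rw [mon_mul, neg_add_cancel]; exact mon_one _ fun i => by simp [ha, sub_eq_add_neg]⟩

/-- the group `C_p ≀ C_p` -/
def PP (F : Type*) [Field F] (ι : Type) [AddCommGroup ι] [Fintype ι] [DecidableEq ι] (p : ℕ)
    [hp : Fact p.Prime] : Subgroup (GL ι F) where
  carrier := {g | ∃ (a : ι → F) (s : ι), (∀ i, a i ^ p = 1) ∧ (g : Matrix ι ι F) = mon a s}
  one_mem' := ⟨fun _ => 1, 0, fun _ => one_pow _, (mon_one _ fun _ => rfl).symm⟩
  mul_mem' := by
    rintro g h ⟨a, s, ha, hg⟩ ⟨b, t, hb, hh⟩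
    exact ⟨fun i => a i * b (i + s), s + t, fun i => by rw [mul_pow, ha, hb, one_mul],
      by rw [Units.val_mul, hg, hh, mon_mul]⟩
  inv_mem' := by
    rintro g ⟨a, s, ha, hg⟩
    have h0 : ∀ i, a i ≠ 0 := fun i h => by
      have := ha i
      rw [h, zero_pow hp.out.ne_zero] at this
      exact zero_ne_one this
    have : g = umon a s h0 := Units.ext hg
    exact ⟨fun i => (a (i - s))⁻¹, -s, fun i => by rw [inv_pow, ha, inv_one], by rw [this]; rfl⟩

variable {p : ℕ} [hp : Fact p.Prime]

theorem ne0 {x : F} (h : x ^ p = 1) : x ≠ 0 := fun h0 => by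
  rw [h0, zero_pow hp.out.ne_zero] at h
  exact zero_ne_one h

theorem card_PP {ζ : F} (hζ : IsPrimitiveRoot ζ p) :
    Nat.card (PP F ι p) = p ^ Fintype.card ι * Fintype.card ι := by
  haveI : NeZero p := ⟨hp.out.ne_zero⟩
  have hr : ∀ u : rootsOfUnity p F, ((u : Fˣ) : F) ^ p = 1 := fun u =>
    (mem_rootsOfUnity' _ _).1 u.2
  let f : (ι → rootsOfUnity p F) × ι → PP F ι p := fun x =>
    ⟨umon (fun i => ((x.1 i : Fˣ) : F)) x.2 fun i => ne0 (hr _), _, _, fun i => hr _, rfl⟩
  have hf : Function.Bijective f := by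
    constructor
    · rintro ⟨a, s⟩ ⟨b, t⟩ h
      have h1 : mon (fun i => ((a i : Fˣ) : F)) s = mon (fun i => ((b i : Fˣ) : F)) t :=
        congrArg (fun g : PP F ι p => ((g : GL ι F) : Matrix ι ι F)) h
      have h2 : s = t := by
        by_contra hst
        have := congrFun (congrFun h1 0) s
        simp [mon_apply, hst] at this
      subst h2
      congr 1
      funext i
      have := congrFun (congrFun h1 i) (i + s)
      simp only [mon_apply, if_true] at this
      exact Subtype.ext (Units.ext this)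
    · rintro ⟨g, a, s, ha, hg⟩
      refine ⟨⟨fun i => rootsOfUnity.mkOfPowEq (a i) (ha i), s⟩, Subtype.ext (Units.ext ?_)⟩
      rw [hg]
      rfl
  rw [← Nat.card_congr (Equiv.ofBijective f hf), Nat.card_prod, Nat.card_fun,
    hζ.card_rootsOfUnity, Nat.card_eq_fintype_card]

theorem row {ζ : F} (hζ : IsPrimitiveRoot ζ p) (h2 : ∀ t : ι, t + t = 0 → t = 0) (g : GL ι F)
    (h : ∀ y ∈ PP F ι p, g * y * g⁻¹ ∈ PP F ι p) (i j k : ι) (hjk : j ≠ k)
    (hj : (g : Matrix ι ι F) i j ≠ 0) (hk : (g : Matrix ι ι F) i k ≠ 0) : False := by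
  have hz0 : ζ ≠ 0 := ne0 hζ.pow_eq_one
  let c : ι → F := fun l => if l = j then ζ else 1
  have hc : ∀ l, c l ^ p = 1 := fun l => by
    simp only [c]; split_ifs
    · exact hζ.pow_eq_one
    · exact one_pow _
  obtain ⟨b, t, hb, ht⟩ := h (umon c 0 fun l => ne0 (hc l)) ⟨c, 0, hc, rfl⟩
  have ht' : (g : Matrix ι ι F) * mon c 0 * (g⁻¹ : GL ι F) = mon b t := ht
  have hE : mon c 0 * mon c 0 = (1 + ζ) • mon c 0 - ζ • (1 : Matrix ι ι F) := by
    ext l m
    rw [mon_mul_apply, Matrix.sub_apply, Matrix.smul_apply, Matrix.smul_apply, add_zero,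
      mon_apply, add_zero, Matrix.one_apply]
    by_cases hlm : m = l
    · subst hlm
      simp only [c, if_true, smul_eq_mul]
      split_ifs <;> ring
    · simp [hlm, Ne.symm hlm]
  have hY : mon b t * mon b t = (1 + ζ) • mon b t - ζ • (1 : Matrix ι ι F) := by
    rw [← ht']
    calc _ = (g : Matrix ι ι F) * mon c 0 * (((g⁻¹ : GL ι F) : Matrix ι ι F) * g) * mon c 0
          * (g⁻¹ : GL ι F) := by simp only [Matrix.mul_assoc]
      _ = (g : Matrix ι ι F) * (mon c 0 * mon c 0) * (g⁻¹ : GL ι F) := by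
          rw [Units.inv_mul, Matrix.mul_one, Matrix.mul_assoc (g : Matrix ι ι F)]
      _ = _ := by
          rw [hE, Matrix.mul_sub, Matrix.sub_mul, Matrix.mul_smul, Matrix.smul_mul,
            Matrix.mul_smul, Matrix.smul_mul, Matrix.mul_one, Units.mul_inv]
  have ht0 : t = 0 := by
    by_contra ht0
    have := congrFun (congrFun hY 0) 0
    have h3 : ¬ (0 : ι) = t + t := fun h => ht0 (h2 t h.symm)
    have h4 : ¬ (0 : ι) = t := fun h => ht0 h.symm
    rw [mon_mul] at this
    simp [mon_apply, h3, h4, hz0] at this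
  subst ht0
  have hgy : (g : Matrix ι ι F) * mon c 0 = mon b 0 * g := by
    rw [← ht', Matrix.mul_assoc, Units.inv_mul, Matrix.mul_one]
  have e1 := congrFun (congrFun hgy i) j
  have e2 := congrFun (congrFun hgy i) k
  rw [mul_mon0_apply, mon_mul_apply, add_zero, mul_comm] at e1 e2
  have e3 := mul_right_cancel₀ hj e1
  have e4 := mul_right_cancel₀ hk e2
  simp only [c, if_true, if_neg hjk.symm] at e3 e4
  exact hζ.ne_one hp.out.one_lt (e3.trans e4.symm)

theorem pow_mon (a : ι → F) (s : ι) (ha : ∀ i, a i ≠ 0) (k : ℕ) :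
    ∃ b : ι → F, (∀ i, b i ≠ 0) ∧ mon a s ^ k = mon b (k • s) := by
  induction k with
  | zero => exact ⟨fun _ => 1, fun _ => one_ne_zero, by
      rw [pow_zero, zero_smul, mon_one _ fun _ => rfl]⟩
  | succ k ih =>
    obtain ⟨b, hb, h⟩ := ih
    exact ⟨fun i => b i * a (i + k • s), fun i => mul_ne_zero (hb _) (ha _), by
      rw [pow_succ, h, mon_mul, succ_nsmul]⟩

/-- an invertible non-monomial matrix commuting with a monomial matrix of non-zero shift -/
theorem shift_case {ζ : F} (hζ : IsPrimitiveRoot ζ p) (hp2 : p ≠ 2) (hpF : (p : F) ≠ 0)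
    (hι : Fintype.card ι = p) (a : ι → F) (s : ι) (ha : ∀ i, a i ≠ 0) (hs : s ≠ 0) :
    ∃ g : GL ι F, (g : Matrix ι ι F) * mon a s = mon a s * g ∧
      (g : Matrix ι ι F) 0 s ≠ 0 ∧ (g : Matrix ι ι F) 0 (s + s) ≠ 0 := by
  have hord : addOrderOf s = p := by
    have h1 : addOrderOf s ∣ p := hι ▸ addOrderOf_dvd_card
    rcases (Nat.dvd_prime hp.out).1 h1 with h | h
    · exact absurd (AddMonoid.addOrderOf_eq_one_iff.1 h) hs
    · exact h
  have hp3 : 2 < p := lt_of_le_of_ne hp.out.two_le hp2.symm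
  choose b hb hX using pow_mon a s ha
  set X := mon a s with hXdef
  set S := ∑ k ∈ Finset.range p, X ^ k with hS
  have hSe : ∀ j, j < p → S 0 (j • s) ≠ 0 := by
    intro j hj
    rw [hS, Matrix.sum_apply, Finset.sum_eq_single j]
    · rw [hX, mon_apply, zero_add, if_pos rfl]; exact hb _ _
    · intro k hk hkj
      rw [hX, mon_apply, zero_add, if_neg]
      intro h
      exact hkj (nsmul_injOn_Iio_addOrderOf (by simpa [hord] using hk) (by simpa [hord] using hj)
        h.symm)
    · intro h; exact absurd (Finset.mem_range.2 hj) h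
  have hS1 : S 0 s ≠ 0 := by simpa using hSe 1 (by omega)
  have hS2 : S 0 (s + s) ≠ 0 := by simpa [two_nsmul] using hSe 2 hp3
  have hcomm : S * X = X * S := by
    rw [hS, Finset.sum_mul, Finset.mul_sum]
    exact Finset.sum_congr rfl fun k _ => (pow_succ X k).symm.trans (pow_succ' X k)
  have hps : p • s = 0 := hord ▸ addOrderOf_nsmul_eq_zero s
  have hXp : X ^ p = mon (b p) 0 := by rw [hX, hps]
  have hc1 : ∀ i, b p (i + s) = b p i := by
    intro i
    have h1 : X ^ p * X = X * X ^ p := (pow_succ X p).symm.trans (pow_succ' X p)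
    rw [hXp, hXdef] at h1
    have h2 := congrFun (congrFun h1 i) (i + s)
    rw [mon_mul_apply, mul_mon0_apply, add_zero, mon_apply, if_pos rfl, mul_comm] at h2
    exact (mul_left_cancel₀ (ha i) h2).symm
  have hc2 : ∀ k : ℕ, b p (k • s) = b p 0 := by
    intro k
    induction k with
    | zero => rw [zero_smul]
    | succ k ih => rw [succ_nsmul, hc1, ih]
  have hc3 : ∀ i, b p i = b p 0 := by
    intro i
    have h1 : i ∈ AddSubgroup.zmultiples s :=
      mem_zmultiples_of_prime_card (p := p) (by rw [Nat.card_eq_fintype_card, hι]) hs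
    obtain ⟨k, hk⟩ := (mem_multiples_iff_mem_zmultiples).2 h1
    rw [← hc2 k]; exact congrArg _ hk.symm
  have hXp' : X ^ p = b p 0 • (1 : Matrix ι ι F) := by
    rw [hXp]
    ext i j
    rw [mon_apply, add_zero, hc3, Matrix.smul_apply, Matrix.one_apply]
    by_cases h : j = i
    · simp [h]
    · simp [h, Ne.symm h]
  have hgeom : S * (X - 1) = X ^ p - 1 := geom_sum_mul X p
  by_cases hc : b p 0 = 1
  · rw [hXp', hc, one_smul, sub_self, Matrix.mul_sub, Matrix.mul_one, sub_eq_zero] at hgeom
    have h1 : ∀ k : ℕ, S * X ^ k = S := by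
      intro k
      induction k with
      | zero => rw [pow_zero, Matrix.mul_one]
      | succ k ih => rw [pow_succ, ← Matrix.mul_assoc, ih, hgeom]
    have h2 : S * S = (p : F) • S := by
      conv_lhs => rw [hS, Finset.mul_sum, ← hS]
      simp [h1, Nat.cast_smul_eq_nsmul]
    have hz0 : ζ ≠ 0 := ne0 hζ.pow_eq_one
    have hz1 : ζ - 1 ≠ 0 := sub_ne_zero.2 (hζ.ne_one hp.out.one_lt)
    have h3 : (1 + ((ζ - 1) / p) • S) * (1 + ((ζ⁻¹ - 1) / p) • S) = 1 := by
      rw [Matrix.add_mul, Matrix.mul_add, Matrix.mul_add, Matrix.one_mul, Matrix.one_mul,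
        Matrix.mul_one, Matrix.smul_mul, Matrix.mul_smul, h2, smul_smul, smul_smul, add_assoc,
        ← add_smul, ← add_smul]
      have : (ζ⁻¹ - 1) / p + ((ζ - 1) / p + (ζ - 1) / p * ((ζ⁻¹ - 1) / p) * p) = 0 := by
        field_simp
        ring
      rw [this, zero_smul, add_zero]
    have hss : s + s ≠ 0 := fun h => by
      have h4 : addOrderOf s ∣ 2 := addOrderOf_dvd_of_nsmul_eq_zero (by rw [two_nsmul, h])
      rw [hord] at h4
      exact absurd (Nat.le_of_dvd two_pos h4) (by omega)
    refine ⟨⟨_, _, h3, mul_eq_one_comm.1 h3⟩, ?_, ?_, ?_⟩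
    · show (1 + ((ζ - 1) / p) • S) * X = X * (1 + ((ζ - 1) / p) • S)
      rw [Matrix.add_mul, Matrix.mul_add, Matrix.smul_mul, Matrix.mul_smul, hcomm,
        Matrix.one_mul, Matrix.mul_one]
    · show (1 + ((ζ - 1) / p) • S) 0 s ≠ 0
      rw [Matrix.add_apply, Matrix.one_apply_ne hs.symm, zero_add, Matrix.smul_apply]
      exact mul_ne_zero (div_ne_zero hz1 hpF) hS1
    · show (1 + ((ζ - 1) / p) • S) 0 (s + s) ≠ 0
      rw [Matrix.add_apply, Matrix.one_apply_ne hss.symm, zero_add, Matrix.smul_apply]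
      exact mul_ne_zero (div_ne_zero hz1 hpF) hS2
  · have h3 : S * ((b p 0 - 1)⁻¹ • (X - 1)) = 1 := by
      rw [Matrix.mul_smul, hgeom, hXp']
      have : b p 0 • (1 : Matrix ι ι F) - 1 = (b p 0 - 1) • (1 : Matrix ι ι F) := by
        rw [sub_smul, one_smul]
      rw [this, smul_smul, inv_mul_cancel₀ (sub_ne_zero.2 hc), one_smul]
    exact ⟨⟨_, _, h3, mul_eq_one_comm.1 h3⟩, hcomm, hS1, hS2⟩

end gen

theorem val_card {F : Type*} [Field F] [Fintype F] (p : ℕ) [hp : Fact p.Prime]
    (hp2 : p ≠ 2) (h1 : p ∣ Fintype.card F - 1) (h2 : ¬ p ^ 2 ∣ Fintype.card F - 1) :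
    (Nat.card (GL (Fin p) F)).factorization p = p + 1 := by
  set q := Fintype.card F with hq
  have hq1 : 1 < q := Fintype.one_lt_card
  have hpq : ¬ p ∣ q := fun h => by
    have := Nat.dvd_sub h h1
    rw [show q - (q - 1) = 1 by omega] at this
    exact hp.out.one_lt.ne' (Nat.dvd_one.1 this)
  have hv1 : padicValNat p (q - 1) = 1 := by
    have h3 : q - 1 ≠ 0 := by omega
    have h4 := (padicValNat_dvd_iff_le (p := p) (n := 1) h3).1 (by simpa using h1)
    have h5 := mt (padicValNat_dvd_iff_le (p := p) (n := 2) h3).2 h2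
    omega
  rw [Matrix.card_GL_field, ← hq, Nat.factorization_prod]
  · rw [Finsupp.finset_sum_apply]
    have h6 : ∀ i : Fin p, (q ^ p - q ^ (i : ℕ)).factorization p
        = 1 + if (i : ℕ) = 0 then 1 else 0 := by
      intro i
      have hi := i.2
      have e : q ^ p - q ^ (i : ℕ) = q ^ (i : ℕ) * (q ^ (p - i) - 1 ^ (p - i)) := by
        rw [Nat.mul_sub, ← pow_add, one_pow, mul_one]; congr 2; omega
      have hne : q ^ (p - i) - 1 ^ (p - i) ≠ 0 := by
        rw [one_pow]
        have := Nat.one_lt_pow (n := p - i) (by omega) hq1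
        omega
      rw [e, Nat.factorization_def _ hp.out, padicValNat.mul (pow_ne_zero _ (by omega)) hne,
        padicValNat.eq_zero_of_not_dvd (fun h => hpq (hp.out.dvd_of_dvd_pow h)),
        padicValNat.pow_sub_pow (hp.out.odd_of_ne_two hp2) hq1 h1 hpq (by omega), hv1]
      split_ifs with h
      · simp [h]
      · rw [padicValNat.eq_zero_of_not_dvd (Nat.not_dvd_of_pos_of_lt (by omega) (by omega))]
    rw [Finset.sum_congr rfl fun i _ => h6 i, Finset.sum_add_distrib]
    congr 1
    · simp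
    · rw [Finset.sum_eq_single (⟨0, hp.out.pos⟩ : Fin p)]
      · simp
      · intro b _ hb
        rw [if_neg fun h => hb (Fin.ext h)]
      · simp
  · intro i _
    exact Nat.sub_ne_zero_of_lt (Nat.pow_lt_pow_right hq1 i.2)

/-- Let p be an odd prime and F a finite field with q elements such that p divides q - 1 but p² does not. Then GL(p, F) has a Sylow p-subgroup Q such that every element of p-power order lies in some Sylow p-subgroup other than Q (a redundant Sylow p-subgroup). -/
theorem result {F : Type*} [Field F] [Fintype F] (p : ℕ) [Fact p.Prime]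
    (hp : p ≠ 2) (h1 : p ∣ Fintype.card F - 1) (h2 : ¬ p ^ 2 ∣ Fintype.card F - 1) :
    ∃ Q : Sylow p (Matrix.GeneralLinearGroup (Fin p) F), ∀ x : Matrix.GeneralLinearGroup (Fin p) F,
      (∃ k : ℕ, orderOf x = p ^ k) → ∃ P : Sylow p (Matrix.GeneralLinearGroup (Fin p) F), P ≠ Q ∧ x ∈ P := by
  classical
  have hpp : p.Prime := Fact.out
  haveI : NeZero p := ⟨hpp.ne_zero⟩
  have hp3 : 2 < p := lt_of_le_of_ne hpp.two_le hp.symm
  obtain ⟨u, hu⟩ := exists_prime_orderOf_dvd_card' (G := Fˣ) p
    (by rw [Nat.card_units, Nat.card_eq_fintype_card]; exact h1)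
  have hζ : IsPrimitiveRoot (u : F) p := by
    rw [IsPrimitiveRoot.coe_units_iff, ← hu]; exact IsPrimitiveRoot.orderOf u
  have hpF : (p : F) ≠ 0 := (hζ.neZero').1
  have hι : Fintype.card (Fin p) = p := Fintype.card_fin p
  have h2t : ∀ t : Fin p, t + t = 0 → t = 0 := by
    intro t ht
    by_contra hs
    have h3 : addOrderOf t ∣ p := by simpa using addOrderOf_dvd_card (x := t)
    have h4 : addOrderOf t ∣ 2 := addOrderOf_dvd_of_nsmul_eq_zero (by rw [two_nsmul, ht])
    rcases (Nat.dvd_prime hpp).1 h3 with h | h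
    · exact hs (AddMonoid.addOrderOf_eq_one_iff.1 h)
    · rw [h] at h4
      exact absurd (Nat.le_of_dvd two_pos h4) (by omega)
  let Q : Sylow p (GL (Fin p) F) := Sylow.ofCard (PP F (Fin p) p)
    (by rw [card_PP hζ, val_card p hp h1 h2, hι, pow_succ])
  refine ⟨Q, fun x ⟨k, hk⟩ => ?_⟩
  by_contra hcon
  push Not at hcon
  have huniq : ∀ P : Sylow p (GL (Fin p) F), x ∈ P → P = Q := fun P hP => by
    by_contra h; exact hcon P h hP
  have hz : IsPGroup p (Subgroup.zpowers x) :=
    IsPGroup.of_card (n := k) (by rw [Nat.card_zpowers, hk])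
  obtain ⟨R, hR⟩ := hz.exists_le_sylow
  have hxR : x ∈ R := hR (Subgroup.mem_zpowers x)
  have hxQ : x ∈ PP F (Fin p) p := by rw [huniq R hxR] at hxR; exact hxR
  have hN : ∀ g : GL (Fin p) F, g * x * g⁻¹ ∈ PP F (Fin p) p →
      ∀ i j k : Fin p, j ≠ k → (g : Matrix (Fin p) (Fin p) F) i j ≠ 0 →
        (g : Matrix (Fin p) (Fin p) F) i k ≠ 0 → False := by
    intro g hg
    apply row hζ h2t g
    have h3 : g⁻¹ • Q = Q := by
      apply huniq
      show x ∈ ((g⁻¹ • Q : Sylow p _) : Subgroup _)
      rw [Sylow.coe_subgroup_smul, Subgroup.mem_pointwise_smul_iff_inv_smul_mem]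
      show _ ∈ PP F (Fin p) p
      simpa using hg
    intro y hy
    have h4 : y ∈ ((g⁻¹ • Q : Sylow p _) : Subgroup _) := by rw [h3]; exact hy
    rw [Sylow.coe_subgroup_smul, Subgroup.mem_pointwise_smul_iff_inv_smul_mem] at h4
    have h5 : (MulAut.conj g⁻¹)⁻¹ • y ∈ PP F (Fin p) p := h4
    simpa using h5
  have hC : ∀ g : GL (Fin p) F, (g : Matrix (Fin p) (Fin p) F) * x = x * g →
      g * x * g⁻¹ ∈ PP F (Fin p) p := by
    intro g hg
    have : g * x = x * g := Units.ext hg
    rw [this, mul_inv_cancel_right]; exact hxQ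
  obtain ⟨a, s, ha, hx⟩ := hxQ
  by_cases hs : s = 0
  · subst hs
    by_cases hinj : Function.Injective a
    · have hdet : (Matrix.vandermonde a)ᵀ.det ≠ 0 := by
        rw [Matrix.det_transpose]; exact Matrix.det_vandermonde_ne_zero_iff.2 hinj
      let g : GL (Fin p) F := Matrix.GeneralLinearGroup.mkOfDetNeZero _ hdet
      have hg : (g : Matrix (Fin p) (Fin p) F) = (Matrix.vandermonde a)ᵀ := rfl
      have h01 : (0 : Fin p) ≠ 1 := by
        intro h
        have := congrArg Fin.val h
        rw [Fin.val_zero, Fin.val_one', Nat.mod_eq_of_lt (by omega)] at this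
        omega
      refine hN g ?_ 0 0 1 h01 (by simp [hg]) (by simp [hg])
      have h5 : g * x = umon (fun _ => (1 : F)) 1 (fun _ => one_ne_zero) * g := by
        apply Units.ext
        rw [Units.val_mul, Units.val_mul, hx, hg]
        show _ = mon (fun _ => (1 : F)) (1 : Fin p) * (Matrix.vandermonde a)ᵀ
        ext i j
        rw [mul_mon0_apply, mon_mul_apply, one_mul, Matrix.transpose_apply,
          Matrix.transpose_apply, Matrix.vandermonde_apply, Matrix.vandermonde_apply,
          Fin.val_add, Fin.val_one', Nat.mod_eq_of_lt (show 1 < p by omega),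
          ← pow_eq_pow_mod _ (ha j), pow_succ]
      rw [h5, mul_inv_cancel_right]
      exact ⟨_, _, fun _ => one_pow _, rfl⟩
    · obtain ⟨i, j, hij, hne⟩ := Function.not_injective_iff.1 hinj
      let g : GL (Fin p) F := ⟨Matrix.transvection i j 1, Matrix.transvection i j (-1),
        by rw [Matrix.transvection_mul_transvection_same _ _ hne, add_neg_cancel,
          Matrix.transvection_zero],
        by rw [Matrix.transvection_mul_transvection_same _ _ hne, neg_add_cancel,
          Matrix.transvection_zero]⟩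
      have hg : (g : Matrix (Fin p) (Fin p) F) = Matrix.transvection i j 1 := rfl
      refine hN g (hC g ?_) i i j hne ?_ ?_
      · rw [hx, hg]
        ext l m
        rw [mul_mon0_apply, mon_mul_apply, add_zero, Matrix.transvection, Matrix.add_apply,
          Matrix.one_apply, Matrix.single_apply]
        by_cases h : l = m
        · subst h; ring
        · by_cases h' : i = l ∧ j = m
          · obtain ⟨rfl, rfl⟩ := h'
            rw [hij, mul_comm]
          · simp [h, h']
      · simp [hg, Matrix.transvection, Matrix.single_apply, hne.symm]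
      · simp [hg, Matrix.transvection, Matrix.one_apply, hne]
  · obtain ⟨g, hg, hg1, hg2⟩ := shift_case hζ hp hpF hι a s (fun i => ne0 (ha i)) hs
    refine hN g (hC g (by rw [hx]; exact hg)) 0 s (s + s) ?_ hg1 hg2
    intro h
    exact hs (by simpa using h)

end Cfsg.Agent.S4358
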