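import Mathlib
import Cfsg.Statements.S4363
import Cfsg.Agent.Loc.TurMain

set_option autoImplicit false
open Cfsg

namespace Cfsg.Agent.S4363

open Cfsg.Agent.GT Cfsg.Agent.Loc.H78 Cfsg.Agent.FG.H93

/-- Let G be a finite solvable group and σ an automorphism of G of prime order r not dividing the order of G, with fixed-point subgroup C. Then the Fitting height of G exceeds that of C by at most 2: if C has a chain of normal subgroups 1 = C₀ ≤ ⋯ ≤ Cₙ = C with nilpotent factors, then G has such a chain of length n + 2. -/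
theorem result {G : Type*} [Group G] [Finite G]
    (hG : Group.IsSolvable G) (σ : MulAut G) (r : ℕ) (hr : r.Prime) (hσ : orderOf σ = r) (hcop : ¬ r ∣ Nat.card G)
    (C : Subgroup G) (hC : ∀ g : G, g ∈ C ↔ σ g = g) (n : ℕ) (hn : (∃ F : Fin (n + 1) → Subgroup ↥C, F 0 = ⊥ ∧ F (Fin.last n) = ⊤ ∧ Monotone F ∧ (∀ i, (F i).Normal) ∧ ∀ i : Fin n, ∃ k : ℕ, (F i.succ).lowerCentralSeries k ≤ F i.castSucc)) :
    (∃ F : Fin ((n + 2) + 1) → Subgroup G, F 0 = ⊥ ∧ F (Fin.last (n + 2)) = ⊤ ∧ Monotone F ∧ (∀ i, (F i).Normal) ∧ ∀ i : Fin (n + 2), ∃ k : ℕ, (F i.succ).lowerCentralSeries k ≤ F i.castSucc) := by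
  have := CopAct.instFiniteSemidirect (Subgroup.zpowers σ).subtype
  have h1 : Nat.card (CopAct.sdR (Subgroup.zpowers σ).subtype ⊤) = r := by
    rw [CopAct.card_sdR_top, Nat.card_zpowers, hσ]
  have h2 := iterRes_add_two_eq_bot (H := CopAct.sdL (Subgroup.zpowers σ).subtype ⊤)
    (A := CopAct.sdR (Subgroup.zpowers σ).subtype ⊤) (n := n)
    ((CopAct.isSolvable_sdL_iff _ _).2 inferInstance) (h1 ▸ hr)
    (by rw [h1, CopAct.card_sdL_top]; exact (Nat.Prime.coprime_iff_not_dvd hr).2 hcop)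
    (have := CopAct.sdL_top_normal (Subgroup.zpowers σ).subtype
     Subgroup.le_normalizer_of_normal) (by
      have e : ⊤ ⊓ CopAct.actFixed (Subgroup.zpowers σ).subtype = (⊤ : Subgroup C).map C.subtype := by
        ext g
        simp [CopAct.mem_actFixed_zpowers, hC]
      rw [CopAct.sdL_inf_centralizer_top, e, CopAct.sdL, ← map_iterRes, ← map_iterRes,
        (iterRes_top_eq_bot_iff n).2 hn, Subgroup.map_bot, Subgroup.map_bot])
  rw [CopAct.sdL, ← map_iterRes, Subgroup.map_eq_bot_iff_of_injective _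
    SemidirectProduct.inl_injective] at h2
  exact (iterRes_top_eq_bot_iff (n + 2)).1 h2

end Cfsg.Agent.S4363
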