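import Mathlib
import Cfsg.Statements.S4364
import Cfsg.Agent.S4037
import Cfsg.Agent.FG.ClassIdx
import Cfsg.Agent.FG.ClassCount
import Cfsg.Agent.GT.Fitting

set_option autoImplicit false
open Cfsg

namespace Cfsg.Agent.S4364

section pre
open Subgroup _root_.Cfsg.Agent.GT _root_.Cfsg.Agent.FG

theorem core {G : Type*} [Group G] [Finite G] {p : ℕ} (hp : p.Prime) (h0 : pCore p G = ⊥)
    (x : G) {a : ℕ} (hx : CI.cidx x = p ^ a) {y z : G} (hy : y ∈ normalClosure ({x} : Set G))
    (hz : z ∈ normalClosure ({x} : Set G)) : y * z = z * y := by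
  have hs := S4037.result x hp a (by rw [ncard_carrier_mk]; exact hx)
  have h1 : fittingSubgroup G ≤ centralizer ({x} : Set G) := by
    refine fitting_le_iff.2 fun r hr => ?_
    by_cases hrp : r = p
    · rw [hrp, h0]; exact bot_le
    have : Fact r.Prime := ⟨hr⟩
    obtain ⟨n, hn⟩ := IsPGroup.iff_card.1 (isPGroup_pCore (G := G) r)
    have h2 := CI.relIndex_cent_dvd (pCore r G) x
    have h3 := Subgroup.relIndex_dvd_card (centralizer ({x} : Set G)) (pCore r G)
    rw [hx] at h2
    rw [hn] at h3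
    exact relIndex_eq_one.1 (Nat.eq_one_of_dvd_coprimes
      (Nat.Coprime.pow _ _ ((Nat.coprime_primes hp hr).2 (Ne.symm hrp))) h2 h3)
  have h2 : normalClosure ({x} : Set G) ≤ centralizer (fittingSubgroup G : Set G) :=
    normalClosure_le_normal (Set.singleton_subset_iff.2 (CI.le_cent_iff.1 h1))
  have h3 := le_fitting_of_le_centralizer _ h2
  exact (h2 hz y (h3 hy))

end pre

/-- Let G be a finite group, p a prime and x an element whose conjugacy class has p-power size. Then for any two conjugates y and z of x, the commutator y z y⁻¹ z⁻¹ lies in O_p(G), the largest normal p-subgroup of G. -/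
theorem result {G : Type*} [Group G] [Finite G] (p : ℕ) [Fact p.Prime]
    (x : G) (hx : ∃ a : ℕ, (Subgroup.centralizer ({x} : Set G)).index = p ^ a) (g h : G) :
    (g * x * g⁻¹) * (h * x * h⁻¹) * (g * x * g⁻¹)⁻¹ * (h * x * h⁻¹)⁻¹ ∈ Cfsg.pCore p G := by
  obtain ⟨a, ha⟩ := hx
  have hp : p.Prime := Fact.out
  have hd := FG.CI.cidx_map_dvd _ (QuotientGroup.mk'_surjective (pCore p G)) x
  rw [show FG.CI.cidx x = p ^ a from ha] at hd
  obtain ⟨b, -, hb⟩ := (Nat.dvd_prime_pow hp).1 hd
  have h0 := GT.pCore_quotient_pCore (G := G) (p := p)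
  rw [← QuotientGroup.ker_mk' (pCore p G), MonoidHom.mem_ker]
  simp only [map_mul, map_inv]
  have hc : ∀ g : G ⧸ pCore p G, g * QuotientGroup.mk' (pCore p G) x * g⁻¹ ∈
      Subgroup.normalClosure ({QuotientGroup.mk' (pCore p G) x} : Set (G ⧸ pCore p G)) := fun g =>
    Subgroup.normalClosure_normal.conj_mem _ (Subgroup.subset_normalClosure (Set.mem_singleton _)) g
  rw [core hp h0 _ hb (hc _) (hc _), mul_inv_cancel_right, mul_inv_cancel]

end Cfsg.Agent.S4364
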