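import Mathlib
import Cfsg.Statements.S4394
import Cfsg.Agent.GT.Schmidt
import Cfsg.Agent.GT.PLength2
import Cfsg.Agent.GT.PStable
import Cfsg.Agent.GT.PGroupCritical
import Cfsg.Agent.GT.CoprimeGen
import Cfsg.Agent.GT.PGroupFrattini
-- import your own Cfsg.Agent.* helpers here

set_option autoImplicit false
open Cfsg

namespace Cfsg.Agent.S4394

open Subgroup Cfsg.Agent.GT
open scoped commutatorElement

/-- Camina-type properties of the normal Sylow subgroup of a Schmidt group. -/
structure Cam (p : ℕ) {G : Type*} [Group G] (P Z : Subgroup G) : Prop where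
  le : Z ≤ P
  cent : ∀ z ∈ Z, ∀ x ∈ P, x * z = z * x
  pow : ∀ x ∈ P, x ^ p ∈ Z
  comm : ∀ x ∈ P, ∀ y ∈ P, ⁅x, y⁆ ∈ Z
  cam : ∀ x ∈ P, x ∉ Z → ∀ a ∈ P, ∀ b ∈ P, ∃ g ∈ P, ⁅a, b⁆ = ⁅x, g⁆
  exc : ∀ v ∈ P, ∀ a ∈ P, v ∉ Z → P ≤ Z ⊔ zpowers v ⊔ zpowers a →
    p ≠ 3 ∧ (p = 2 → ∀ y ∈ P, y ∉ Z → ∃ z ∈ Z, y ^ 2 = (v * z) ^ 2)

theorem Cam.map {p : ℕ} {G G' : Type*} [Group G] [Group G'] {P Z : Subgroup G} (h : Cam p P Z)
    (f : G →* G') (hk : ∀ x ∈ P, f x = 1 → x ∈ Z) : Cam p (P.map f) (Z.map f) where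
  le := map_mono h.le
  cent := by
    rintro _ ⟨z, hz, rfl⟩ _ ⟨x, hx, rfl⟩
    rw [← map_mul, ← map_mul, h.cent z hz x hx]
  pow := by
    rintro _ ⟨x, hx, rfl⟩
    exact ⟨_, h.pow x hx, map_pow _ _ _⟩
  comm := by
    rintro _ ⟨x, hx, rfl⟩ _ ⟨y, hy, rfl⟩
    exact ⟨_, h.comm x hx y hy, map_commutatorElement _ _ _⟩
  cam := by
    rintro _ ⟨x, hx, rfl⟩ hxZ _ ⟨a, ha, rfl⟩ _ ⟨b, hb, rfl⟩
    obtain ⟨g, hg, e⟩ := h.cam x hx (fun hh => hxZ ⟨x, hh, rfl⟩) a ha b hb
    exact ⟨f g, ⟨g, hg, rfl⟩, by rw [← map_commutatorElement, e, map_commutatorElement]⟩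
  exc := by
    rintro _ ⟨v, hv, rfl⟩ _ ⟨a, ha, rfl⟩ hvZ hle
    have hle' : P ≤ Z ⊔ zpowers v ⊔ zpowers a := by
      intro x hx
      have h1 := hle ⟨x, hx, rfl⟩
      rw [← MonoidHom.map_zpowers, ← MonoidHom.map_zpowers, ← Subgroup.map_sup, ← Subgroup.map_sup] at h1
      obtain ⟨y, hy, e⟩ := h1
      have hyP : y ∈ P := (sup_le (sup_le h.le (zpowers_le.2 hv)) (zpowers_le.2 ha)) hy
      have h2 : x * y⁻¹ ∈ Z := hk _ (mul_mem hx (inv_mem hyP)) (by
        rw [map_mul, map_inv, e, mul_inv_cancel])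
      have : x = (x * y⁻¹) * y := by group
      rw [this]
      exact mul_mem (mem_sup_left (mem_sup_left h2)) hy
    obtain ⟨h3, h2⟩ := h.exc v hv a ha (fun hh => hvZ ⟨v, hh, rfl⟩) hle'
    refine ⟨h3, fun hp => ?_⟩
    rintro _ ⟨y, hy, rfl⟩ hyZ
    obtain ⟨z, hz, e⟩ := h2 hp y hy (fun hh => hyZ ⟨y, hh, rfl⟩)
    exact ⟨f z, ⟨z, hz, rfl⟩, by rw [← map_pow, e, map_pow, map_mul]⟩

theorem comm_mul_left {P : Type*} [Group P] (hc : ∀ x y : P, ⁅x, y⁆ ∈ center P) (x y g : P) :
    ⁅x * y, g⁆ = ⁅x, g⁆ * ⁅y, g⁆ := by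
  have h := mem_center_iff.1 (hc y g) x
  calc ⁅x * y, g⁆ = x * ⁅y, g⁆ * x⁻¹ * ⁅x, g⁆ := by simp only [commutatorElement_def]; group
    _ = ⁅y, g⁆ * ⁅x, g⁆ := by rw [h]; group
    _ = _ := (mem_center_iff.1 (hc y g) _).symm

theorem comm_mul_right {P : Type*} [Group P] (hc : ∀ x y : P, ⁅x, y⁆ ∈ center P) (x g h : P) :
    ⁅x, g * h⁆ = ⁅x, g⁆ * ⁅x, h⁆ := by
  have e := mem_center_iff.1 (hc x h) g
  calc ⁅x, g * h⁆ = ⁅x, g⁆ * (g * ⁅x, h⁆ * g⁻¹) := by simp only [commutatorElement_def]; group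
    _ = _ := by rw [e]; group

theorem cam_of_aut {p q : ℕ} [hp : Fact p.Prime] (hq : q.Prime) (hqp : q ≠ p) {P : Type*} [Group P]
    [Finite P] (hP : IsPGroup p P) (hna : ¬ IsMulCommutative P) {α : MulAut P} (hα : α ^ q = 1)
    (hα1 : α ≠ 1) (hmin : ∀ K : Subgroup P, K ≠ ⊤ → (∀ x ∈ K, α x ∈ K) → ∀ x ∈ K, α x = x) :
    Cam p (⊤ : Subgroup P) (center P) := by
  have hoα : orderOf α = q := by
    have := Fact.mk hq
    exact orderOf_eq_prime hα hα1
  have hco : (Nat.card (zpowers α)).Coprime p := by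
    rw [Nat.card_zpowers, hoα]
    exact (Nat.coprime_primes hq hp.out).2 hqp
  set φ := (zpowers α).subtype with hφ
  have h1 : CopAct.actComm φ ⊤ = ⊤ := by
    by_contra hne
    have h2 : CopAct.actComm φ ⊤ ≤ CopAct.actFixed φ := fun x hx =>
      CopAct.mem_actFixed_zpowers.2
        (hmin _ hne (CopAct.actInv_zpowers.1 (CopAct.actInv_actComm φ ⊤)) x hx)
    rw [← CopAct.actComm_eq_bot_iff, CopAct.actComm_actComm (CopAct.actInv_top _)
      (PG.coprime_card_of_isPGroup (hP.to_subgroup ⊤) hco), CopAct.actComm_eq_bot_iff] at h2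
    exact hα1 (MulEquiv.ext fun x => CopAct.mem_actFixed_zpowers.1 (h2 (mem_top x)))
  have h2 : ∀ N : Subgroup P, N.Normal → N ≤ CopAct.actFixed φ → N ≤ center P := by
    intro N hN hle n hn
    have : CopAct.actComm φ ⊤ ≤ centralizer ({n} : Set P) := by
      rw [CopAct.actComm_le_iff]
      intro u _ a
      rw [mem_centralizer_singleton_iff]
      have e1 := hle (hN.conj_mem n hn u) a
      have e2 := hle hn a
      rw [map_mul, map_mul, map_inv, e2] at e1
      calc u⁻¹ * φ a u * n = u⁻¹ * (φ a u * n * (φ a u)⁻¹) * φ a u := by group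
        _ = u⁻¹ * (u * n * u⁻¹) * φ a u := by rw [e1]
        _ = n * (u⁻¹ * φ a u) := by group
    rw [h1] at this
    exact mem_center_iff.2 fun g => mem_centralizer_singleton_iff.1 (this (mem_top g))
  have hchar : ∀ N : Subgroup P, N.Characteristic → N ≠ ⊤ → N ≤ CopAct.actFixed φ := by
    intro N hN hne x hx
    exact CopAct.mem_actFixed_zpowers.2
      (hmin _ hne (CopAct.actInv_zpowers.1 (CopAct.actInv_of_characteristic φ N)) x hx)
  have hZtop : center P ≠ ⊤ := fun h =>
    hna ⟨⟨fun a b => mem_center_iff.1 (h ▸ mem_top b) a⟩⟩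
  have hnt : Nontrivial P := by
    by_contra h
    rw [not_nontrivial_iff_subsingleton] at h
    exact hZtop (Subsingleton.elim _ _)
  have hΦ : frattini P ≤ CopAct.actFixed φ := hchar _ inferInstance PG.frattini_ne_top
  have hΦZ : frattini P ≤ center P := h2 _ inferInstance hΦ
  have hZC : center P ≤ CopAct.actFixed φ := hchar _ inferInstance hZtop
  have hCZ : CopAct.actFixed φ ≤ center P :=
    h2 _ (Normal.of_commutator_le P ((PG.commutator_le_frattini hP).trans hΦ)) le_rfl
  have hfix : ∀ {x : P}, x ∈ center P ↔ α x = x := fun {x} =>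
    ⟨fun h => CopAct.mem_actFixed_zpowers.1 (hZC h), fun h => hCZ (CopAct.mem_actFixed_zpowers.2 h)⟩
  have hc : ∀ x y : P, ⁅x, y⁆ ∈ center P := fun x y =>
    hΦZ (PG.commutator_le_frattini hP (commutator_mem_commutator (mem_top x) (mem_top y)))
  have hpw : ∀ x : P, x ^ p ∈ center P := fun x => hΦZ (PG.pow_mem_frattini hP x)
  -- no invariant cyclic subgroup of `P / Z`
  have hcyc : ∀ x : P, α x ∈ center P ⊔ zpowers x → x ∈ center P := by
    intro x hx
    by_cases hK : center P ⊔ zpowers x = ⊤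
    · have : (⊤ : Subgroup P) ≤ centralizer ({x} : Set P) := by
        rw [← hK]
        exact sup_le (center_le_centralizer _) (zpowers_le.2 (mem_centralizer_singleton_iff.2 rfl))
      exact mem_center_iff.2 fun g => mem_centralizer_singleton_iff.1 (this (mem_top g))
    · refine hfix.2 (hmin _ hK ?_ x (mem_sup_right (mem_zpowers x)))
      have : center P ⊔ zpowers x ≤ (center P ⊔ zpowers x).comap α.toMonoidHom := by
        refine sup_le (fun z hz => ?_) (zpowers_le.2 hx)
        change α z ∈ center P ⊔ zpowers x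
        rw [hfix.1 hz]
        exact mem_sup_left hz
      exact fun y hy => this hy
  refine ⟨le_top, fun z hz x _ => mem_center_iff.1 hz x, fun x _ => hpw x, fun x _ y _ => hc x y,
    ?_, ?_⟩
  · intro x _ hx a _ b _
    let R : Subgroup P :=
      { carrier := {u | ∀ g : P, ∃ h : P, ⁅u, g⁆ = ⁅x, h⁆}
        one_mem' := fun g => ⟨1, by simp⟩
        mul_mem' := fun {u v} hu hv g => by
          obtain ⟨h, e⟩ := hu g
          obtain ⟨h', e'⟩ := hv g
          exact ⟨h * h', by rw [comm_mul_left hc, comm_mul_right hc, e, e']⟩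
        inv_mem' := fun {u} hu g => by
          obtain ⟨h, e⟩ := hu g
          refine ⟨h⁻¹, ?_⟩
          have e1 := comm_mul_left hc u u⁻¹ g
          have e2 := comm_mul_right hc x h h⁻¹
          rw [mul_inv_cancel, commutatorElement_one_left, e] at e1
          rw [mul_inv_cancel, commutatorElement_one_right] at e2
          exact mul_left_cancel (e1.symm.trans e2) }
    have hR : R = ⊤ := by
      by_contra hne
      refine hx (hfix.2 (hmin R hne ?_ x fun g => ⟨g, rfl⟩))
      intro u hu g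
      obtain ⟨h, e⟩ := hu (α⁻¹ g)
      refine ⟨h, ?_⟩
      rw [← e, ← hfix.1 (hc u (α⁻¹ g)), map_commutatorElement, MulAut.apply_inv_self]
    obtain ⟨h, e⟩ := (hR ▸ mem_top a : a ∈ R) b
    exact ⟨h, mem_top h, e⟩
  · intro v _ a _ hv hle
    let π := QuotientGroup.mk' (center P)
    have hπ1 : ∀ {x : P}, π x = 1 ↔ x ∈ center P := fun {x} => QuotientGroup.eq_one_iff x
    have hπc : ∀ x y : P, π x * π y = π y * π x := fun x y => by
      rw [← commutatorElement_eq_one_iff_mul_comm, ← map_commutatorElement]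
      exact hπ1.2 (hc x y)
    have hcomm : ∀ x y : P ⧸ center P, x * y = y * x := by
      intro x y
      obtain ⟨x, rfl⟩ := QuotientGroup.mk'_surjective _ x
      obtain ⟨y, rfl⟩ := QuotientGroup.mk'_surjective _ y
      exact hπc x y
    have hcard : Nat.card (P ⧸ center P) ∣ p * p := by
      have e : zpowers (π v) ⊔ zpowers (π a) = ⊤ := by
        have := map_mono (f := π) hle
        rw [Subgroup.map_sup, Subgroup.map_sup, MonoidHom.map_zpowers, MonoidHom.map_zpowers,
          (Subgroup.map_eq_bot_iff (center P)).2 (by rw [QuotientGroup.ker_mk']), bot_sup_eq,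
          map_top_of_surjective _ (QuotientGroup.mk'_surjective _)] at this
        exact top_le_iff.1 this
      have hn : (zpowers (π a)).Normal := ⟨fun n hn g => by rw [hcomm g n]; simpa using hn⟩
      have := card_sup_dvd (zpowers (π v)) (zpowers (π a))
      rw [e, card_top, Nat.card_zpowers, Nat.card_zpowers] at this
      refine this.trans (mul_dvd_mul ?_ ?_) <;> apply orderOf_dvd_of_pow_eq_one <;>
        rw [← map_pow] <;> exact hπ1.2 (hpw _)
    have hπfix : ∀ x : P, π (α x) = π x → x ∈ center P := by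
      intro x hx
      apply hcyc
      have : α x = (α x * x⁻¹) * x := by group
      rw [this]
      refine mul_mem (mem_sup_left (hπ1.1 ?_)) (mem_sup_right (mem_zpowers x))
      rw [map_mul, map_inv, hx, mul_inv_cancel]
    have hαZ : ∀ x : P, α x ∈ center P → x ∈ center P := fun x hx => by
      have := hfix.1 hx
      exact hfix.2 (α.injective this)
    have hsq : π (α (α v)) ≠ π v := by
      intro e
      have h3 : v * α v ∈ center P := by
        apply hπfix
        rw [map_mul α, map_mul, map_mul, e, hπc]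
      apply hv
      apply hcyc
      have : α v = (v * α v) * v⁻¹ := by
        rw [← mem_center_iff.1 h3]; group
      rw [this]
      exact mul_mem (mem_sup_left h3) (mem_sup_right (inv_mem (mem_zpowers v)))
    constructor
    · rintro rfl
      have hinv : CopAct.ActInv φ (center P) := CopAct.actInv_of_characteristic φ _
      let _ : MulAction (zpowers α) (P ⧸ center P) :=
        MulAction.compHom _ (CopAct.quotHom φ _ hinv)
      have := Fact.mk hq
      have hqg : IsPGroup q (zpowers α) :=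
        IsPGroup.of_card (n := 1) (by rw [Nat.card_zpowers, hoα, pow_one])
      have hmod := hqg.card_modEq_card_fixedPoints (P ⧸ center P)
      have hf1 : Nat.card (MulAction.fixedPoints (zpowers α) (P ⧸ center P)) = 1 := by
        rw [Nat.card_eq_one_iff_unique]
        refine ⟨⟨?_⟩, ⟨⟨1, fun a => map_one (CopAct.quotHom φ _ hinv a)⟩⟩⟩
        have key : ∀ x : MulAction.fixedPoints (zpowers α) (P ⧸ center P), x.1 = 1 := by
          rintro ⟨x, hx⟩
          obtain ⟨x, rfl⟩ := QuotientGroup.mk'_surjective _ x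
          exact hπ1.2 (hπfix x (hx ⟨α, mem_zpowers α⟩))
        intro x y
        exact Subtype.ext ((key x).trans (key y).symm)
      rw [hf1] at hmod
      have hne : Nat.card (P ⧸ center P) ≠ 1 := fun h => hZtop (index_eq_one.1 h)
      have hq2 : q = 2 := by
        have h9 : Nat.card (P ⧸ center P) ∣ 3 ^ 2 := hcard
        obtain ⟨k, hk, e⟩ := (Nat.dvd_prime_pow Nat.prime_three).1 h9
        rw [e] at hmod hne
        have h8 : q ∣ 2 ^ 3 := by
          interval_cases k
          · exact absurd rfl hne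
          · exact ((Nat.modEq_iff_dvd' (by norm_num)).1 hmod.symm).trans (by norm_num)
          · exact ((Nat.modEq_iff_dvd' (by norm_num)).1 hmod.symm).trans (by norm_num)
        exact (Nat.prime_dvd_prime_iff_eq hq Nat.prime_two).1 (hq.dvd_of_dvd_pow h8)
      apply hsq
      rw [hq2, pow_two] at hα
      rw [← MulAut.mul_apply, hα, MulAut.one_apply]
    · rintro rfl y _ hy
      classical
      have := Fintype.ofFinite (P ⧸ center P)
      have hs : ({1, π v, π (α v), π (α (α v))} : Finset (P ⧸ center P)) = Finset.univ := by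
        apply Finset.eq_univ_of_card
        refine le_antisymm (Finset.card_le_univ _) ?_
        have n1 : π v ≠ 1 := fun h => hv (hπ1.1 h)
        have n2 : π (α v) ≠ 1 := fun h => hv (hαZ _ (hπ1.1 h))
        have n3 : π (α (α v)) ≠ 1 := fun h => hv (hαZ _ (hαZ _ (hπ1.1 h)))
        have n4 : π (α v) ≠ π v := fun h => hv (hπfix _ h)
        have n5 : π (α (α v)) ≠ π (α v) := fun h => hv (hαZ _ (hπfix _ h))
        rw [Finset.card_eq_four.2 ⟨_, _, _, _, n1.symm, n2.symm, n3.symm, n4.symm, hsq.symm,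
          n5.symm, rfl⟩, ← Nat.card_eq_fintype_card]
        exact Nat.le_of_dvd (by norm_num) hcard
      have key : ∀ w : P, w ^ 2 = v ^ 2 → π y = π w → ∃ z ∈ center P, y ^ 2 = (v * z) ^ 2 := by
        intro w hw e
        have hz : w⁻¹ * y ∈ center P := hπ1.1 (by rw [map_mul, map_inv, e, inv_mul_cancel])
        refine ⟨_, hz, ?_⟩
        have c1 : Commute w (w⁻¹ * y) := mem_center_iff.1 hz w
        have c2 : Commute v (w⁻¹ * y) := mem_center_iff.1 hz v
        rw [c2.mul_pow, ← hw, ← c1.mul_pow, mul_inv_cancel_left]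
      have hv2 : α (v ^ 2) = v ^ 2 := hfix.1 (hpw v)
      have hm : π y ∈ ({1, π v, π (α v), π (α (α v))} : Finset (P ⧸ center P)) :=
        hs ▸ Finset.mem_univ _
      simp only [Finset.mem_insert, Finset.mem_singleton] at hm
      rcases hm with h | h | h | h
      · exact absurd (hπ1.1 h) hy
      · exact key v rfl h
      · exact key _ (by rw [← map_pow, hv2]) h
      · exact key _ (by rw [← map_pow, ← map_pow, hv2, hv2]) h

theorem core {p : ℕ} [hp : Fact p.Prime] {G : Type*} [Group G] [Finite G] (hG : IsPSolvable p G)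
    (hV : IsElementaryAbelian p (pCore p G))
    (hC : centralizer (pCore p G : Set G) ≤ pCore p G) {P Z : Subgroup G} (hP : IsPGroup p P)
    (hVP : pCore p G ≤ P) (h : Cam p P Z) : P ≤ pCore p G := by
  set V := pCore p G with hVd
  have hVc : ∀ x ∈ V, ∀ y ∈ V, x * y = y * x := fun x hx y hy =>
    congrArg Subtype.val (hV.1.is_comm.comm (⟨x, hx⟩ : V) ⟨y, hy⟩)
  have hZV : Z ≤ V := fun z hz => hC fun v hv => h.cent z hz v (hVP hv)
  by_cases h5 : p ≠ 2 ∧ p ≠ 3
  · intro a ha
    have hq : ⁅⁅V, zpowers a⁆, zpowers a⁆ = ⊥ := by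
      have h1 : ⁅V, zpowers a⁆ ≤ Z := commutator_le.2 fun x hx y hy =>
        h.comm x (hVP hx) y (zpowers_le.2 ha hy)
      rw [eq_bot_iff]
      refine (commutator_mono h1 le_rfl).trans ?_
      rw [le_bot_iff, commutator_eq_bot_iff_le_centralizer]
      exact fun z hz y hy => h.cent z hz y (zpowers_le.2 ha hy)
    have h1 := isPStableOn_of_not_involves h5.1 (not_involves_sl2_of_isPSolvable
      (five_le_of_prime_ne h5.1 h5.2) hG) V (isPGroup_pCore p) a hq
    have h2 := comap_pCore_quotient (N := centralizer (V : Set G)) ((isPGroup_pCore p).to_le hC)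
    rw [hVd, ← h2]
    exact h1
  by_contra hPV
  let π := QuotientGroup.mk' V
  have hπ1 : ∀ {x : G}, π x = 1 ↔ x ∈ V := fun {x} => QuotientGroup.eq_one_iff x
  let φ : G ⧸ V →* MulAut V := QuotientGroup.lift V MulAut.conjNormal (by
    intro x hx
    ext v
    simp only [MulAut.conjNormal_apply, MulAut.one_apply]
    rw [hVc x hx v v.2, mul_inv_cancel_right])
  have hφ : ∀ (g : G) (v : V), ((φ (π g) v : V) : G) = g * v * g⁻¹ := fun g v => rfl
  have hφi : ∀ g : G ⧸ V, (∀ v, φ g v = v) → g = 1 := by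
    intro g hg
    obtain ⟨g, rfl⟩ := QuotientGroup.mk'_surjective V g
    refine hπ1.2 (hC fun v hv => ?_)
    have := congrArg Subtype.val (hg ⟨v, hv⟩)
    rw [hφ, mul_inv_eq_iff_eq_mul] at this
    exact this.symm
  have hVcomm : ∀ x y : V, x * y = y * x := hV.1.is_comm.comm
  let A := P.map π
  have hAc : IsMulCommutative A := ⟨⟨by
    rintro ⟨_, x, hx, rfl⟩ ⟨_, y, hy, rfl⟩
    refine Subtype.ext ?_
    change π x * π y = π y * π x
    rw [← commutatorElement_eq_one_iff_mul_comm, ← map_commutatorElement]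
    exact hπ1.2 (hZV (h.comm x hx y hy))⟩⟩
  have hAp : IsPGroup p A := hP.map π
  let F := pPrimeCore p (G ⧸ V)
  have hFc : centralizer (F : Set (G ⧸ V)) ≤ F :=
    (hG.quotient V).centralizer_pPrimeCore_le pCore_quotient_pCore
  have hAF : (Nat.card A).Coprime (Nat.card F) :=
    coprime_card_of_isPGroup hp.out hAp (coprime_card_pPrimeCore p)
  have hAnF : A ≤ normalizer (F : Set (G ⧸ V)) := by rw [normalizer_eq_top]; exact le_top
  obtain ⟨B, hBA, ⟨a, haA, hBa⟩, hne⟩ : ∃ B ≤ A, (∃ a ∈ A, B ⊔ zpowers a = A) ∧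
      ⁅F ⊓ centralizer (B : Set (G ⧸ V)), A⁆ ≠ ⊥ := by
    by_contra hcon
    push Not at hcon
    have h1 := CopAct.commutator_le_of_cocyclic (H := ⊥) hAc hAnF hAF
      fun B hB hB' => (hcon B hB hB').le
    rw [le_bot_iff, commutator_comm, commutator_eq_bot_iff_le_centralizer] at h1
    have h2 : A ≤ F ⊓ A := le_inf (h1.trans hFc) le_rfl
    rw [pPrimeCore_inf_eq_bot hAp] at h2
    exact hPV fun x hx => hπ1.1 (h2 ⟨x, hx, rfl⟩)
  set K := F ⊓ centralizer (B : Set (G ⧸ V)) with hK
  have hAK : A ≤ normalizer (K : Set (G ⧸ V)) :=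
    CopAct.le_normalizer_inf_centralizer_of_isMulCommutative hAc hBA hAnF
  set R := ⁅K, A⁆ with hR
  have hRK : R ≤ K := (le_normalizer_iff_commutator_le_left).1 hAK
  have hRA : ⁅R, A⁆ = R := CopAct.commutator_commutator_eq hAK
    (Nat.Coprime.coprime_dvd_right (card_dvd_of_le inf_le_left) hAF)
  have hAR : A ≤ normalizer (R : Set (G ⧸ V)) := normalizer_commutator_ge_right _ _
  have hRV : (Nat.card R).Coprime (Nat.card (⊤ : Subgroup V)) := by
    rw [card_top]
    exact (coprime_card_of_isPGroup hp.out (isPGroup_pCore p) (Nat.Coprime.coprime_dvd_left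
      (card_dvd_of_le (hRK.trans inf_le_left)) (coprime_card_pPrimeCore p))).symm
  let ψ := φ.comp R.subtype
  let W := CopAct.actComm ψ ⊤
  have hWC : W ⊓ CopAct.actFixed ψ = ⊥ :=
    CopAct.actComm_inf_actFixed_eq_bot ⟨⟨fun x y => Subtype.ext (hVcomm x y)⟩⟩
      (CopAct.actInv_top _) hRV
  have hWC' : ∀ w ∈ W, w ∈ CopAct.actFixed ψ → w = 1 := fun w h1 h2 => by
    have : w ∈ W ⊓ CopAct.actFixed ψ := mem_inf.2 ⟨h1, h2⟩
    rwa [hWC] at this
  have hWA : ∀ g ∈ A, ∀ w ∈ W, φ g w ∈ W := by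
    intro g hg
    have : W ≤ W.comap (φ g).toMonoidHom := by
      refine CopAct.actComm_le_iff.2 fun u _ r => ?_
      have hr : g * r * g⁻¹ ∈ R := (mem_normalizer_iff.1 (hAR hg) r).1 r.2
      have := CopAct.mem_actComm ψ (mem_top (φ g u)) ⟨_, hr⟩
      change φ g (u⁻¹ * φ r u) ∈ W
      convert this using 1
      change _ = (φ g u)⁻¹ * φ (g * r * g⁻¹) (φ g u)
      simp
    exact fun w hw => this hw
  have claim1 : ∀ U : Set V, (∀ r ∈ R, ∀ u ∈ U, φ r u ∈ U) → (∀ g ∈ A, ∀ u ∈ U, φ g u = u) →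
      ∀ u ∈ U, u ∈ CopAct.actFixed ψ := by
    intro U h1 h2 u hu r
    let S : Subgroup (G ⧸ V) :=
      { carrier := {g | ∀ u ∈ U, φ g u = u}
        one_mem' := fun u _ => by simp
        mul_mem' := fun {x y} hx hy u hu => by rw [map_mul, MulAut.mul_apply, hy u hu, hx u hu]
        inv_mem' := fun {x} hx u hu => by
          rw [map_inv, MulAut.inv_def, MulEquiv.symm_apply_eq, hx u hu] }
    have : ⁅R, A⁆ ≤ S := by
      rw [commutator_le]
      intro r hr g hg
      rw [commutatorElement_def]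
      refine S.mul_mem (fun u hu => ?_) (S.inv_mem (h2 g hg))
      rw [map_mul, map_mul, MulAut.mul_apply, MulAut.mul_apply, h2 g hg _ (h1 _ (inv_mem hr) u hu),
        ← MulAut.mul_apply, ← map_mul, mul_inv_cancel, map_one, MulAut.one_apply]
    rw [hRA] at this
    exact this r.2 u hu
  have hcZ : ∀ g ∈ A, ∀ v : V, ((v⁻¹ * φ g v : V) : G) ∈ Z := by
    rintro _ ⟨g, hg, rfl⟩ v
    have := h.comm _ (inv_mem (hVP v.2)) g hg
    rw [commutatorElement_def, inv_inv] at this
    rw [coe_mul, hφ, coe_inv]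
    simpa [mul_assoc] using this
  have hZA : ∀ g ∈ A, ∀ v : V, (v : G) ∈ Z → φ g v = v := by
    rintro _ ⟨g, hg, rfl⟩ v hv
    refine Subtype.ext ?_
    rw [hφ, h.cent _ hv g hg, mul_inv_cancel_right]
  have claim2 : ∀ b ∈ B, ∀ v : V, v⁻¹ * φ b v ∈ CopAct.actFixed ψ := by
    intro b hb v
    refine claim1 {u | ∃ v : V, u = v⁻¹ * φ b v} ?_ ?_ _ ⟨v, rfl⟩
    · rintro r hr _ ⟨v, rfl⟩
      refine ⟨φ r v, ?_⟩
      rw [map_mul, map_inv, ← MulAut.mul_apply, ← MulAut.mul_apply, ← map_mul, ← map_mul,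
        (hRK hr).2 b hb]
    · rintro g hg _ ⟨v, rfl⟩
      exact hZA g hg _ (hcZ b (hBA hb) v)
  have hBW : ∀ b ∈ B, ∀ w ∈ W, φ b w = w := by
    intro b hb w hw
    have := hWC' _ (mul_mem (inv_mem hw) (hWA b (hBA hb) w hw)) (claim2 b hb w)
    exact (inv_mul_eq_one.1 this).symm
  obtain ⟨w, hw, hwa⟩ : ∃ w ∈ W, φ a w ≠ w := by
    by_contra hcon
    push Not at hcon
    have h1 : ∀ g ∈ A, ∀ w ∈ W, φ g w = w := by
      intro g hg w hw
      have : A ≤ (MulAction.stabilizer (MulAut V) w).comap φ := by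
        rw [← hBa]
        exact sup_le (fun b hb => hBW b hb w hw) (zpowers_le.2 (hcon w hw))
      exact this hg
    have h2 := claim1 W (fun r hr u hu => CopAct.actInv_actComm ψ ⊤ ⟨r, hr⟩ u hu) h1
    have h3 : W = ⊥ := eq_bot_iff.2 fun w hw => hWC' w hw (h2 w hw)
    apply hne
    rw [eq_bot_iff]
    intro r hr
    exact hφi r fun v => CopAct.actComm_eq_bot_iff.1 h3 (mem_top v) ⟨r, hr⟩
  set c := w⁻¹ * φ a w with hc
  have hcW : c ∈ W := mul_mem (inv_mem hw) (hWA a haA w hw)
  have hwZ : (w : G) ∉ Z := fun hh => hwa (hZA a haA w hh)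
  have hwA : ∀ g ∈ A, w⁻¹ * φ g w ∈ zpowers c := by
    let S : Subgroup (G ⧸ V) :=
      { carrier := {g | g ∈ A ∧ w⁻¹ * φ g w ∈ zpowers c}
        one_mem' := ⟨one_mem _, by simp⟩
        mul_mem' := fun {x y} hx hy => by
          refine ⟨mul_mem hx.1 hy.1, ?_⟩
          have e := hZA x hx.1 _ (hcZ y hy.1 w)
          have : w⁻¹ * φ (x * y) w = (w⁻¹ * φ x w) * (w⁻¹ * φ y w) := by
            rw [← e]; simp
          rw [this]
          exact mul_mem hx.2 hy.2
        inv_mem' := fun {x} hx => by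
          refine ⟨inv_mem hx.1, ?_⟩
          have e := hZA x⁻¹ (inv_mem hx.1) _ (hcZ x hx.1 w)
          have : w⁻¹ * φ x⁻¹ w = (w⁻¹ * φ x w)⁻¹ := by
            rw [← e]; simp [hVcomm w⁻¹]
          rw [this]
          exact inv_mem hx.2 }
    have : A ≤ S := by
      rw [← hBa]
      refine sup_le (fun b hb => ⟨hBA hb, ?_⟩) (zpowers_le.2 ⟨haA, mem_zpowers c⟩)
      rw [hBW b hb w hw, inv_mul_cancel]
      exact one_mem _
    exact fun g hg => (this hg).2
  have hall : ∀ g ∈ A, ∀ v : V, v⁻¹ * φ g v ∈ zpowers c := by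
    rintro _ ⟨g, hg, rfl⟩ v
    obtain ⟨k, hk, e⟩ := h.cam _ (inv_mem (hVP w.2)) (fun hh => hwZ (by simpa using inv_mem hh))
      _ (inv_mem (hVP v.2)) g hg
    have : v⁻¹ * φ (π g) v = w⁻¹ * φ (π k) w := by
      refine Subtype.ext ?_
      rw [coe_mul, coe_mul, hφ, hφ, coe_inv, coe_inv]
      simpa [commutatorElement_def, mul_assoc] using e
    rw [this]
    exact hwA _ ⟨k, hk, rfl⟩
  have hB1 : B = ⊥ := by
    rw [eq_bot_iff]
    intro b hb
    refine hφi b fun v => ?_
    have := hWC' _ (zpowers_le.2 hcW (hall b (hBA hb) v)) (claim2 b hb v)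
    exact (inv_mul_eq_one.1 this).symm
  rw [hB1, bot_sup_eq] at hBa
  obtain ⟨a, ha, rfl⟩ := haA
  have hPa : P ≤ V ⊔ zpowers a := by
    intro x hx
    have : π x ∈ (zpowers a).map π := by
      rw [MonoidHom.map_zpowers, hBa]
      exact ⟨x, hx, rfl⟩
    have h2 : x ∈ ((zpowers a).map π).comap π := this
    rwa [comap_map_eq, QuotientGroup.ker_mk', sup_comm] at h2
  have hcent : ∀ v : V, φ (π a) v = v → (v : G) ∈ Z := by
    intro v hv
    by_contra hvZ
    have h1 : V ⊔ zpowers a ≤ centralizer ({(v : G)} : Set G) := by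
      refine sup_le (fun x hx => mem_centralizer_singleton_iff.2 (hVc x hx v v.2))
        (zpowers_le.2 (mem_centralizer_singleton_iff.2 ?_))
      have := congrArg Subtype.val hv
      rwa [hφ, mul_inv_eq_iff_eq_mul] at this
    refine hPV fun x hx => hC fun y hy => ?_
    obtain ⟨g, hg, e⟩ := h.cam v (hVP v.2) hvZ y (hVP hy) x hx
    rw [← commutatorElement_eq_one_iff_mul_comm, e, commutatorElement_eq_one_iff_mul_comm]
    exact (mem_centralizer_singleton_iff.1 (h1 (hPa hg))).symm
  have hVw : V ≤ Z ⊔ zpowers (w : G) := by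
    intro v hv
    obtain ⟨n, hn⟩ := hall _ ⟨a, ha, rfl⟩ ⟨v, hv⟩
    have h1 : φ (π a) (⟨v, hv⟩ * (w ^ n)⁻¹) = ⟨v, hv⟩ * (w ^ n)⁻¹ := by
      have e1 : φ (π a) ⟨v, hv⟩ = ⟨v, hv⟩ * c ^ n := by
        simp only at hn
        rw [hn, mul_inv_cancel_left]
      have e2 : φ (π a) w = w * c := by rw [hc, mul_inv_cancel_left]
      have e3 : Commute w c := hVcomm w c
      rw [map_mul, map_inv, map_zpow, e1, e2, e3.mul_zpow]
      group
    have h2 := hcent _ h1
    have : v = (v * ((w : G) ^ n)⁻¹) * (w : G) ^ n := by group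
    rw [this]
    exact mul_mem (mem_sup_left h2) (mem_sup_right (zpow_mem (mem_zpowers _) n))
  obtain ⟨h3, h2⟩ := h.exc w (hVP w.2) a ha hwZ (hPa.trans (sup_le_sup_right hVw _))
  have hp2 : p = 2 := by
    by_contra hne
    exact h5 ⟨hne, h3⟩
  subst hp2
  have hsq : ∀ y ∈ P, y ^ 2 = 1 := by
    intro y hy
    by_cases hyZ : y ∈ Z
    · exact hV.2 y (hZV hyZ)
    · obtain ⟨z, hz, e⟩ := h2 rfl y hy hyZ
      rw [e]
      exact hV.2 _ (mul_mem w.2 (hZV hz))
  refine hPV fun x hx => hC fun y hy => ?_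
  have ha' := hsq _ hx
  have hb := hsq _ (hVP hy)
  have hab := hsq _ (mul_mem (hVP hy) hx)
  rw [pow_two] at ha' hb hab
  calc y * x = y * (y * x * (y * x)) * x := by rw [hab]; group
    _ = (y * y) * x * y * (x * x) := by group
    _ = x * y := by rw [ha', hb]; group

theorem core2 {p : ℕ} [hp : Fact p.Prime] {G : Type*} [Group G] [Finite G] (hG : IsPSolvable p G)
    (hO : pPrimeCore p G = ⊥) (P : Sylow p G) {Z : Subgroup G} (h : Cam p (P : Subgroup G) Z) :
    (P : Subgroup G) ≤ pCore p G := by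
  have hC := hG.centralizer_pCore_le hO
  set V := pCore p G with hV
  let N := (frattini V).map V.subtype
  have hNp : IsPGroup p N := (isPGroup_pCore p).to_le (map_subtype_le _)
  have hVP : V ≤ P := pCore_le_sylow P
  have hNZ : N ≤ Z := by
    have : frattini V ≤ Z.subgroupOf V := by
      exact PG.frattini_le hp.out (commutator_le.2 fun x _ y _ => h.comm x (hVP x.2) y (hVP y.2))
        (fun x => h.pow x (hVP x.2))
    exact map_le_iff_le_comap.2 this
  have h1 := h.map (QuotientGroup.mk' N) fun x _ hx => hNZ ((QuotientGroup.eq_one_iff x).1 hx)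
  have e := map_pCore_quotient hNp
  have h2 := core (hG.quotient N) (e ▸ isElementaryAbelian_map_mk'_frattini V (isPGroup_pCore p))
    (charP_quotient_of_le_frattini hC N le_rfl) (P.isPGroup'.map _) (e ▸ map_mono hVP) h1
  rw [map_le_iff_le_comap, comap_pCore_quotient hNp] at h2
  exact h2


/-- Let X be a finite minimal non-nilpotent group (not nilpotent, every proper subgroup nilpotent) with a nontrivial normal Sylow p-subgroup P. If G is a finite p-solvable group whose Sylow p-subgroups are isomorphic to P, then G has p-length at most 1. -/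
theorem result {G X : Type*} [Group G] [Finite G] [Group X] [Finite X] (p : ℕ) [Fact p.Prime]
    (hX : Cfsg.IsMinimalNonNilpotent X) (P : Sylow p X) (hPn : (P : Subgroup X).Normal) (hP1 : (P : Subgroup X) ≠ ⊥)
    (hG : Cfsg.IsPSolvable p G) (Q : Sylow p G) (hQ : Nonempty (↥(Q : Subgroup G) ≃* ↥(P : Subgroup X))) : Cfsg.PLengthLE p 1 G := by
  obtain ⟨e⟩ := hQ
  by_cases hab : IsMulCommutative (P : Subgroup X)
  · refine pLengthLE_one_of_comm hG Q ⟨⟨fun a b => e.injective ?_⟩⟩
    rw [map_mul, map_mul, hab.is_comm.comm]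
  obtain ⟨q, r, hq, hr, hqr, Y, R, h1, h2, h3, h4⟩ := Schmidt.exists_sylow hX
  have hp : p.Prime := Fact.out
  have := Fact.mk hq
  have := Fact.mk hr
  have hpq : p ≠ q := by
    rintro rfl
    have := Sylow.unique_of_normal P hPn
    exact h4 (Subsingleton.elim P Y ▸ hPn)
  obtain rfl : p = r := by
    by_contra hpr
    have h5 := card_sup_dvd (Y : Subgroup X) R
    rw [h3, card_top] at h5
    obtain ⟨a, ha⟩ := IsPGroup.iff_card.1 Y.2
    obtain ⟨b, hb⟩ := IsPGroup.iff_card.1 R.2
    rw [ha, hb] at h5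
    have hd : p ∣ Nat.card X :=
      ((P.isPGroup'.nontrivial_iff_card.1 ((nontrivial_iff_ne_bot _).2 hP1)).elim fun n hn =>
        hn.2 ▸ dvd_pow_self p hn.1.ne').trans (card_subgroup_dvd_card _)
    rcases (Nat.Prime.dvd_mul hp).1 (hd.trans h5) with h | h
    · exact hpq ((Nat.prime_dvd_prime_iff_eq hp hq).1 (hp.dvd_of_dvd_pow h))
    · exact hpr ((Nat.prime_dvd_prime_iff_eq hp hr).1 (hp.dvd_of_dvd_pow h))
  obtain rfl : P = R := by
    have := Sylow.unique_of_normal P hPn
    exact Subsingleton.elim _ _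
  have hcop : (Nat.card (Y : Subgroup X)).Coprime (Nat.card (P : Subgroup X)) :=
    IsPGroup.coprime_card_of_ne q p hqr _ _ Y.2 P.2
  obtain ⟨y, hy⟩ := (isCyclic_iff_exists_zpowers_eq_top).1 h1
  have hY : zpowers (y : X) = Y := by
    have := congrArg (map (Y : Subgroup X).subtype) hy
    rwa [MonoidHom.map_zpowers, ← MonoidHom.range_eq_map, range_subtype] at this
  -- proper subgroups are nilpotent
  have key : ∀ K Y' : Subgroup X, K ≤ P → Y' ≤ Y → Y' ≤ normalizer (K : Set X) →
      (K ≠ P ∨ Y' ≠ Y) → Y' ≤ centralizer (K : Set X) := by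
    intro K Y' hK hY' hn hne
    have hc' : (Nat.card Y').Coprime (Nat.card K) := Nat.Coprime.coprime_dvd_left
      (card_dvd_of_le hY') (Nat.Coprime.coprime_dvd_right (card_dvd_of_le hK) hcop)
    have ht : Y' ⊔ K ≠ ⊤ := by
      intro ht
      have e1 := card_sup_dvd_of_le_normalizer hn
      have e2 := card_sup_of_inf_eq_bot (H := (Y : Subgroup X)) (N := (P : Subgroup X))
        (by rw [normalizer_eq_top]; exact le_top) (disjoint_of_coprime_natCard hcop).eq_bot
      rw [ht, ← h3, e2] at e1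
      have e3 := Nat.le_of_dvd (mul_pos Nat.card_pos Nat.card_pos) e1
      have l1 := card_le_of_le hK
      have l2 := card_le_of_le hY'
      rcases hne with h | h
      · have := card_lt_of_lt (lt_of_le_of_ne hK h)
        exact absurd e3 (not_le.2 (mul_lt_mul' l2 this (Nat.zero_le _) Nat.card_pos))
      · have := card_lt_of_lt (lt_of_le_of_ne hY' h)
        exact absurd e3 (not_le.2 (mul_lt_mul this l1 Nat.card_pos (Nat.zero_le _)))
    have := hX.2 _ ht
    exact le_centralizer_of_coprime_of_isNilpotent (H := Y' ⊔ K) le_sup_left le_sup_right hc'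
  let α : MulAut (P : Subgroup X) := MulAut.conjNormal (y : X)
  have hα1 : α ≠ 1 := by
    intro h
    apply h4
    rw [← normalizer_eq_top_iff, eq_top_iff, ← h3]
    refine sup_le le_normalizer (le_trans ?_ (centralizer_le_normalizer _))
    rw [← le_centralizer_iff, ← hY, zpowers_le]
    intro x hx
    have := congrArg Subtype.val (congrArg (fun f : MulAut (P : Subgroup X) => f ⟨x, hx⟩) h)
    change (y : X) * x * (y : X)⁻¹ = x at this
    rw [mul_inv_eq_iff_eq_mul] at this
    exact this.symm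
  have hy1 : (y : X) ≠ 1 := by
    intro h
    apply hα1
    change MulAut.conjNormal (y : X) = 1
    rw [h, map_one]
  have hαq : α ^ q = 1 := by
    have hne : zpowers ((y : X) ^ q) ≠ Y := by
      intro h
      have e1 : Nat.card (zpowers ((y : X) ^ q)) = Nat.card (zpowers (y : X)) := by rw [h, hY]
      rw [Nat.card_zpowers, Nat.card_zpowers] at e1
      obtain ⟨k, hk⟩ := IsPGroup.iff_orderOf.1 Y.2 y
      rw [← orderOf_coe] at hk
      have hd : q ∣ orderOf (y : X) := by
        rw [hk]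
        refine dvd_pow_self q ?_
        rintro rfl
        exact hy1 (orderOf_eq_one_iff.1 hk)
      rw [orderOf_pow_of_dvd hq.ne_zero hd] at e1
      exact absurd e1 (Nat.div_lt_self (orderOf_pos _) hq.one_lt).ne
    have := key P (zpowers ((y : X) ^ q)) le_rfl (zpowers_le.2 (pow_mem y.2 q))
      (by rw [normalizer_eq_top]; exact le_top) (Or.inr hne) (mem_zpowers _)
    ext x
    rw [← map_pow, MulAut.conjNormal_apply, ← this x x.2, mul_inv_cancel_right, MulAut.one_apply]
  have hcam := cam_of_aut hq hqr P.isPGroup' hab hαq hα1 (by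
    intro K hK hinv x hx
    have h5 := key (K.map (P : Subgroup X).subtype) Y (map_subtype_le _) le_rfl ?_ (Or.inl ?_) y.2
      x ⟨x, hx, rfl⟩
    · refine Subtype.ext ?_
      rw [MulAut.conjNormal_apply, ← h5, mul_inv_cancel_right]
    · rw [← hY, zpowers_le]
      refine mem_normalizer_fintype ?_
      rintro _ ⟨k, hk, rfl⟩
      exact ⟨_, hinv k hk, rfl⟩
    · intro h
      apply hK
      apply map_injective (P : Subgroup X).subtype_injective
      rw [h, ← MonoidHom.range_eq_map, range_subtype])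
  let O := pPrimeCore p G
  let f : (P : Subgroup X) →* G ⧸ O :=
    (QuotientGroup.mk' O).comp ((Q : Subgroup G).subtype.comp e.symm.toMonoidHom)
  have hsurj := QuotientGroup.mk'_surjective O
  have hf := hcam.map f (by
    intro x _ hx
    have h5 : ((e.symm x : Q) : G) ∈ O ⊓ Q :=
      mem_inf.2 ⟨(QuotientGroup.eq_one_iff _).1 hx, (e.symm x).2⟩
    rw [pPrimeCore_inf_eq_bot Q.isPGroup'] at h5
    have h6 : e.symm x = 1 := Subtype.ext h5
    rw [(MulEquiv.map_eq_one_iff _).1 h6]
    exact one_mem _)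
  have hmap : (⊤ : Subgroup (P : Subgroup X)).map f = (Q.mapSurjective hsurj : Subgroup (G ⧸ O)) := by
    rw [Sylow.coe_mapSurjective, ← map_map, ← map_map, map_top_of_surjective _ e.symm.surjective,
      ← MonoidHom.range_eq_map, range_subtype]
  rw [hmap] at hf
  have := core2 (hG.quotient O) pPrimeCore_quotient_pPrimeCore _ hf
  rw [pLengthLE_one_iff_sylow_le Q]
  rw [Sylow.coe_mapSurjective, map_le_iff_le_comap] at this
  exact this

end Cfsg.Agent.S4394
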