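import Cfsg.Statements.S4395
import Cfsg.Agent.FG.SchUD

set_option autoImplicit false
open Cfsg

namespace Cfsg.Agent.S4395

open Subgroup Cfsg.Agent.FG.SchU Cfsg.Agent.Loc.Mss

universe u

variable {p q r : ℕ} [hp : Fact p.Prime] [hq : Fact q.Prime]

theorem exists_mn {D : Type*} [Group D] [Finite D] (h : ¬ HasNormalPComplement p D) :
    ∃ W : Subgroup D, MN p W := by
  obtain ⟨W, h1, h2⟩ := WellFounded.has_min (wellFounded_lt (α := Subgroup D))
    {W | ¬ HasNormalPComplement p W} ⟨⊤, fun l => h (l.of_mulEquiv topEquiv)⟩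
  refine ⟨W, h1, fun H hH => by_contra fun l => h2 (H.map W.subtype)
    (fun l' => l (l'.of_mulEquiv (H.equivMapOfInjective _ W.subtype_injective).symm))
    (lt_of_le_of_ne (map_subtype_le H) fun e => hH (eq_top_iff.2 fun x _ => ?_))⟩
  obtain ⟨z, hz, e'⟩ := e.ge x.2
  exact (Subtype.ext e' : z = x) ▸ hz

theorem surj_of_mn {W X : Type*} [Group W] [Finite W] [Group X] [Finite X] (hW : MN p W)
    (hX : MN p X) (f : W →* X) (hf : f.ker ≤ center W) : Function.Surjective f :=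
  MonoidHom.range_eq_top.1 (by_contra fun l => hW.1 (GT.Tr.hasNormalPComplement_of_isNilpotent (by
    have := (S0132.result hX.1 hX.2).1 _ l
    exact Subgroup.isNilpotent_of_ker_le_center f.rangeRestrict
      (by rwa [MonoidHom.ker_rangeRestrict]))))

theorem fibre {K X Y : Type*} [Field K] [Finite K] [Group X] [Finite X] [Group Y] [Finite Y]
    {ζ : K} (F : Fld K p q ζ) (hpq : p ≠ q) {P : Subgroup X} {y : X} {ψ : X → K}
    (h : SD p q r ζ P y ψ) {P' : Subgroup Y} {y' : Y} {ψ' : Y → K} (h' : SD p q r ζ P' y' ψ') :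
    ∃ D : Subgroup (X × Y), ¬ HasNormalPComplement p D ∧
      (∀ g ∈ D, g.1 = 1 → g.2 ∈ P' ∧ g.2 ∈ center Y) ∧ ∀ g ∈ D, g.2 = 1 → g.1 ∈ center X := by
  let D₀ : Subgroup (X × Y) :=
    { carrier := {g | g.1 ∈ P ∧ g.2 ∈ P' ∧ ψ g.1 = ψ' g.2}
      one_mem' := ⟨one_mem _, one_mem _, h.one.trans h'.one.symm⟩
      mul_mem' := fun a b => ⟨mul_mem a.1 b.1, mul_mem a.2.1 b.2.1, by
        rw [Prod.fst_mul, Prod.snd_mul, h.add _ a.1 _ b.1, h'.add _ a.2.1 _ b.2.1, a.2.2, b.2.2]⟩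
      inv_mem' := fun a => ⟨inv_mem a.1, inv_mem a.2.1, by
        rw [Prod.fst_inv, Prod.snd_inv, h.inv a.1, h'.inv a.2.1, a.2.2]⟩ }
  have n : zpowers (y, y') ≤ 𝐍[D₀] := zpowers_le.2 (mem_norm_of_cj_le (cj_le_iff.2 fun a ha =>
    ⟨h.cj y ha.1, h'.cj y' ha.2.1, (h.equi _ ha.1).trans (ha.2.2 ▸ (h'.equi _ ha.2.1).symm)⟩))
  have c := (Nat.coprime_primes hq.out hp.out).2 hpq.symm
  have k : ∀ {Z : Type _} [Group Z] {R : Subgroup Z} {z : Z} {i : ℕ}, IsPGroup p R →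
      orderOf z = q ^ r → z ^ i ∈ R → q ^ r ∣ i := fun {Z} _ R z i h1 h2 h3 => by
    obtain ⟨k, hk⟩ := h1 ⟨_, h3⟩
    have : (z ^ i) ^ p ^ k = 1 := congrArg Subtype.val hk
    rw [← pow_mul, ← orderOf_dvd_iff_pow_eq_one, h2] at this
    exact (Nat.Coprime.pow r k c).dvd_of_dvd_mul_right this
  have dec : ∀ g ∈ D₀ ⊔ zpowers (y, y'), g.1 ∈ P ∨ g.2 ∈ P' → g ∈ D₀ := fun g hg l => by
    obtain ⟨a, ha, z, hz, rfl⟩ := (mem_sup_norm n).1 hg
    obtain ⟨i, rfl⟩ := mem_powers_iff_mem_zpowers.2 hz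
    have : q ^ r ∣ i := l.elim (fun l => k h.pg h.ord ((mul_mem_cancel_left ha.1).1 l))
      fun l => by
        obtain ⟨k, hk⟩ := h'.pg ⟨_, (mul_mem_cancel_left ha.2.1).1 l⟩
        have : (y' ^ i) ^ p ^ k = 1 := congrArg Subtype.val hk
        rw [← pow_mul, ← orderOf_dvd_iff_pow_eq_one, h'.ord] at this
        exact (Nat.Coprime.pow r k c).dvd_of_dvd_mul_right this
    have e : (y, y') ^ i = 1 := Prod.ext (orderOf_dvd_iff_pow_eq_one.1 (h.ord ▸ this))
      (orderOf_dvd_iff_pow_eq_one.1 (h'.ord ▸ this))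
    simpa only [e, mul_one] using ha
  refine ⟨D₀ ⊔ zpowers (y, y'), fun l => ?_, fun g hg e => ?_, fun g hg e => ?_⟩
  · obtain ⟨x, hx, e⟩ := h.surj 1
    obtain ⟨x', hx', e'⟩ := h'.surj 1
    have m : (x, x') ∈ D₀ := ⟨hx, hx', e.trans e'.symm⟩
    have := comm_of_npc l (P := D₀.subgroupOf _)
      (normal_subgroupOf_of_le_normalizer (sup_le le_normalizer n)) (fun g => by
        obtain ⟨a, ha⟩ := h.pg ⟨_, g.2.1⟩
        obtain ⟨b, hb⟩ := h'.pg ⟨_, g.2.2.1⟩
        refine ⟨a + b, Subtype.ext (Subtype.ext (Prod.ext ?_ ?_))⟩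
        · change g.1.1.1 ^ p ^ (a + b) = 1
          rw [pow_add, pow_mul, show g.1.1.1 ^ p ^ a = 1 from congrArg Subtype.val ha, one_pow]
        · change g.1.1.2 ^ p ^ (a + b) = 1
          rw [pow_add, pow_mul', show g.1.1.2 ^ p ^ b = 1 from congrArg Subtype.val hb, one_pow])
      (y := ⟨(y, y'), mem_sup_right (mem_zpowers _)⟩) (u := ⟨(x, x'), mem_sup_left m⟩)
      (by rw [orderOf_mk, Prod.orderOf, h.ord, h'.ord, Nat.lcm_self]; exact c.pow_left r) m
    have e2 := h.equi x hx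
    rw [show y * x * y⁻¹ = x from congrArg (fun g => g.1.1) this, e, mul_one] at e2
    exact F.ne_one e2.symm
  · have := dec g hg (.inl (e ▸ one_mem _))
    exact ⟨this.2.1, h'.cent _ this.2.1 (by rw [← this.2.2, e, h.one])⟩
  · have := dec g hg (.inr (e ▸ one_mem _))
    exact h.cent _ this.1 (by rw [this.2.2, e, h'.one])

/-- Let p ≠ q be primes, r ≥ 1, a the multiplicative order of p modulo q, and a₀ = a when a is odd, a₀ = 3a/2 when a is even. Call a finite group minimal non-p-nilpotent when it has no normal p-complement but every proper subgroup has one. Then there is a minimal non-p-nilpotent group G₀ of order p^a₀ · q^r such that every minimal non-p-nilpotent group of order p^t · q^r (any t) is a quotient of G₀ by a central subgroup. -/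
theorem result (p q r : ℕ) [Fact p.Prime] [Fact q.Prime] (hpq : p ≠ q) (hr : 1 ≤ r) (a a₀ : ℕ)
    (ha : a = orderOf (p : ZMod q)) (ha₀ : a₀ = if a % 2 = 1 then a else 3 * a / 2) :
    ∃ (G₀ : Type u) (_ : Group G₀) (_ : Finite G₀),
      (¬ Cfsg.HasNormalPComplement p G₀ ∧ ∀ K : Subgroup G₀, K ≠ ⊤ → Cfsg.HasNormalPComplement p ↥K) ∧ Nat.card G₀ = p ^ a₀ * q ^ r ∧
      ∀ (X : Type u) [Group X] [Finite X], (¬ Cfsg.HasNormalPComplement p X ∧ ∀ K : Subgroup X, K ≠ ⊤ → Cfsg.HasNormalPComplement p ↥K) →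
        (∃ t : ℕ, Nat.card X = p ^ t * q ^ r) → ∃ φ : G₀ →* X, Function.Surjective φ ∧ φ.ker ≤ Subgroup.center G₀ := by
  subst ha ha₀
  obtain ⟨ζ, F⟩ := exists_fld (K := ULift.{u} (GaloisField p (orderOf (p : ZMod q)))) hpq
    (by rw [Nat.card_ulift, GaloisField.card _ _ (ord_pos hpq).ne'])
  obtain ⟨A, h1, h2, h3⟩ := exists_par F hpq hr
  have : NeZero (q ^ r) := ⟨pow_ne_zero _ (Fact.out : q.Prime).ne_zero⟩
  have : Finite (Gr A) := .of_equiv _ (Gr.equiv A).symm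
  have s := Gr.sd F A h1 h2
  have c := le_antisymm (s.card_le F) (by
    rw [Nat.card_congr (Gr.equiv A), Nat.card_prod, Nat.card_prod, Nat.card_zmod, ← mul_assoc]
    exact Nat.mul_le_mul_right _ h3)
  refine ⟨Gr A, inferInstance, inferInstance, s.mn F hpq, c, fun X _ _ hX ⟨t, ht⟩ => ?_⟩
  obtain ⟨P, y, ψ, s'⟩ := MN.exists_sd hX F hpq hr ht
  obtain ⟨D, d1, d2, d3⟩ := fibre F hpq s' s
  obtain ⟨W, hW⟩ := exists_mn d1
  let f := (MonoidHom.fst _ _).comp (D.subtype.comp W.subtype)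
  let g := (MonoidHom.snd _ _).comp (D.subtype.comp W.subtype)
  have hf : f.ker ≤ center W := fun w hw => mem_center_iff.2 fun v =>
    Subtype.ext (Subtype.ext (Prod.ext (by
      change f v * f w = f w * f v
      rw [MonoidHom.mem_ker.1 hw, mul_one, one_mul]) (mem_center_iff.1 (d2 _ w.1.2 hw).2 _)))
  have hg : g.ker ≤ center W := fun w hw => mem_center_iff.2 fun v =>
    Subtype.ext (Subtype.ext (Prod.ext (mem_center_iff.1 (d3 _ w.1.2 hw) _) (by
      change g v * g w = g w * g v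
      rw [MonoidHom.mem_ker.1 hw, mul_one, one_mul])))
  have sf := surj_of_mn hW hX f hf
  have sg := surj_of_mn hW (s.mn F hpq) g hg
  obtain ⟨k, hk⟩ := IsPGroup.iff_card.1 (show IsPGroup p f.ker from fun w => by
    obtain ⟨k, hk⟩ := s.pg ⟨_, (d2 _ w.1.1.2 w.2).1⟩
    refine ⟨k, Subtype.ext (Subtype.ext (Subtype.ext (Prod.ext ?_ (congrArg Subtype.val hk))))⟩
    change f w ^ p ^ k = 1
    rw [MonoidHom.mem_ker.1 w.2, one_pow])
  have cW := f.ker.index_mul_card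
  rw [index_ker, MonoidHom.range_eq_top.2 sf, card_top, ht, hk, mul_right_comm, ← pow_add] at cW
  obtain ⟨P', y', ψ', s''⟩ := hW.exists_sd F hpq hr cW.symm
  let e := MulEquiv.ofBijective g ((Nat.bijective_iff_surjective_and_card g).2 ⟨sg,
    le_antisymm ((s''.card_le F).trans c.ge) (Nat.card_le_card_of_surjective g sg)⟩)
  refine ⟨f.comp e.symm.toMonoidHom, sf.comp e.symm.surjective, fun x hx =>
    mem_center_iff.2 fun z => e.symm.injective ?_⟩
  rw [map_mul, map_mul]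
  exact mem_center_iff.1 (hf hx) _

end Cfsg.Agent.S4395
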