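import Mathlib
import Cfsg.Statements.S4398
import Cfsg.Agent.FG.TwoMax

set_option autoImplicit false
open Cfsg

namespace Cfsg.Agent.S4398

section pre
open Subgroup GT.PG
open scoped commutatorElement

theorem key {S : Type*} [Group S] [Finite S] (h2 : IsPGroup 2 S) (hm : IsMetacyclic S)
    {H : Subgroup S} {u v : H} (h : MaxTwo 1 u v) : ∃ (m : ℕ) (a b : S), MaxTwo m a b := by
  obtain ⟨a, b, hn, hab⟩ := FG.TM.isMetacyclic_iff.1 hm
  have hc : commutator S ≤ zpowers a := FG.TM.commutator_le_of_two_generators hab _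
    (mul_mem (hn.conj_mem a (mem_zpowers a) b) (inv_mem (mem_zpowers a)))
  -- squares of elements of `H` lie in `⟨a⟩`
  have hsq : ∀ x : H, (x : S) ^ 2 ∈ zpowers a := by
    intro x
    have h1 : x ^ 2 ∈ commutator H := by
      rw [h.commutator_eq, ← h.frattini_eq]; exact pow_mem_frattini h.isPGroup x
    have h3 : (commutator H).map H.subtype ≤ commutator S := by
      rw [commutator_def, map_commutator]; exact commutator_mono le_top le_top
    exact hc (h3 ⟨_, h1, rfl⟩)
  have hmem : ∀ g : S, ∃ w ∈ zpowers a, ∃ j : ℤ, w * b ^ j = g := fun g =>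
    (mem_sup_zpowers_of_mem_normalizer (le_normalizer_of_normal (mem_top b))).1 (hab ▸ mem_top g)
  have hna : ¬ IsMulCommutative S := fun hS => h.not_isMulCommutative inferInstance
  -- there are `x ∈ H ∩ ⟨a⟩` of order dividing four and `y ∈ H` not commuting
  obtain ⟨x, y, hx, hxy⟩ : ∃ x y : H, (x : S) ∈ zpowers a ∧ ¬ Commute x y := by
    by_contra hcon
    push Not at hcon
    have hcyc : IsCyclic (H ⧸ (zpowers a).subgroupOf H) := by
      have : IsCyclic (S ⧸ zpowers a) := by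
        refine ⟨(b : S ⧸ zpowers a), ?_⟩
        rintro ⟨g⟩
        rw [← FG.TM.comap_zpowers_mk] at hab
        exact (hab ▸ mem_top g : g ∈ (zpowers (b : S ⧸ zpowers a)).comap (QuotientGroup.mk' _))
      exact isCyclic_of_injective (QuotientGroup.map _ (zpowers a) H.subtype le_rfl)
        ((QuotientGroup.injective_lift_iff _ _ _).2 (by ext g; simp [mem_subgroupOf]))
    refine h.not_isMulCommutative ⟨⟨commutative_of_cyclic_center_quotient
      (QuotientGroup.mk' ((zpowers a).subgroupOf H)) ?_⟩⟩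
    rw [QuotientGroup.ker_mk']
    exact fun g hg => mem_center_iff.2 fun y => (hcon g y hg).symm
  have hx4 : (x : S) ^ 4 = 1 := by
    have : x ^ 4 = 1 := by
      rw [show 4 = 2 * 2 from rfl, pow_mul]
      have h1 := pow_mem_frattini h.isPGroup x
      rw [h.frattini_eq] at h1
      exact (IsElementaryAbelian.zpowers (by simpa using h.z_sq)).2 _ h1
    exact congrArg Subtype.val this
  have hxy' : ¬ Commute (x : S) y := fun e => hxy (Subtype.ext e)
  -- squares centralise `x`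
  have hsqc : ∀ g : S, Commute (x : S) (g ^ 2) := by
    intro g
    obtain ⟨r, hr⟩ := hn.conj_mem a (mem_zpowers a) g
    obtain ⟨i, hi⟩ := hx
    change a ^ i = _ at hi
    have h1 : g * x * g⁻¹ = (x : S) ^ r := by
      rw [← hi, conj_zpow_eq hr.symm, ← zpow_mul, mul_comm]
    rw [commute_iff_conj_eq, pow_conj_eq h1]
    obtain ⟨s, rfl | rfl⟩ := Int.even_or_odd' r
    · exfalso
      have h3 : (g * x * g⁻¹) ^ 2 = 1 := by
        rw [h1, ← zpow_natCast, ← zpow_mul, show 2 * s * ((2 : ℕ) : ℤ) = (4 : ℕ) * s by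
          push_cast; ring, zpow_mul, zpow_natCast, hx4, one_zpow]
      rw [conj_pow, mul_inv_eq_one, mul_eq_left] at h3
      rw [zpow_mul, zpow_ofNat, h3, one_zpow, mul_inv_eq_one, mul_eq_left] at h1
      exact hxy' (h1 ▸ Commute.one_left _)
    · rw [show (2 * s + 1) ^ 2 = (4 : ℕ) * (s * s + s) + 1 by push_cast; ring, zpow_add_one,
        zpow_mul, zpow_natCast, hx4, one_zpow, one_mul]
  have hxa : ∀ w ∈ zpowers a, Commute (x : S) w := fun w hw =>
    isMulCommutative_iff_forall.1 inferInstance _ hx _ hw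
  have hya : (y : S) ∉ zpowers a := fun hy => hxy' (hxa _ hy)
  obtain ⟨w, hw, j, hj⟩ := hmem y
  obtain ⟨s, rfl | rfl⟩ := Int.even_or_odd' j
  · refine absurd ?_ hxy'
    rw [← hj, mul_comm 2 s, zpow_mul, zpow_ofNat]
    exact (hxa w hw).mul_right (hsqc _)
  have htop : zpowers a ⊔ zpowers (y : S) = ⊤ := by
    obtain ⟨k, hk⟩ := IsPGroup.iff_orderOf.1 h2 b
    rw [eq_top_iff, ← hab, ← zpowers_zpow_eq_of_odd hk (k := 2 * s + 1) ⟨s, rfl⟩]
    refine sup_le le_sup_left (zpowers_le.2 ?_)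
    rw [show b ^ (2 * s + 1) = w⁻¹ * y by rw [← hj]; group]
    exact mul_mem (mem_sup_left (inv_mem hw)) (mem_sup_right (mem_zpowers _))
  have hi := relIndex_sup_zpowers Nat.prime_two (le_normalizer_of_normal (mem_top _)) hya (hsq y)
  rw [htop, relIndex_top_right] at hi
  obtain ⟨m, c, hm | ⟨hm, ho, hc, -, hr⟩⟩ := maxTwo_or_modular h2 hna hi
  · exact ⟨m, a, c, hm⟩
  exfalso
  have h1 : a ^ 2 ∈ center S := by
    rw [← centralizer_univ, ← coe_top, ← sup_zpowers_eq_top_of_index_prime Nat.prime_two hi hc]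
    refine le_centralizer_iff.1 (sup_le ?_ ?_) (mem_zpowers _)
    · exact le_centralizer_iff.1 ((zpowers_le.2 (pow_mem (mem_zpowers a) 2)).trans (le_centralizer _))
    · rw [zpowers_le]
      rintro _ ⟨i, rfl⟩
      exact (commute_pow_of_modular ho hr).zpow_left i
  obtain ⟨i, hi⟩ := hx
  change a ^ i = _ at hi
  rw [← hi, ← zpow_natCast, ← zpow_mul, zpow_eq_one_iff_dvd ho] at hx4
  obtain ⟨k, rfl⟩ := Nat.exists_eq_add_of_le hm
  obtain ⟨t, ht⟩ := hx4
  have h3 : i = 2 * (2 ^ k * t) := by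
    push_cast at ht
    have : i * 4 = 2 * (2 ^ k * t) * 4 := by rw [ht]; ring
    omega
  refine hxy' (commute_of_mem_center ?_ _).symm
  rw [← hi, h3, zpow_mul, zpow_ofNat]
  exact zpow_mem h1 _

end pre

/-- Let S be a finite 2-group of sectional 2-rank at most 2 that contains a subgroup isomorphic to the dihedral group of order 8 or to the quaternion group of order 8. Then S is dihedral of order at least 8, semidihedral of order at least 16 (order 2^(k+4) with an element a of order 2^(k+3) and an involution b with b a b⁻¹ = a^(2^(k+2)−1)), or generalized quaternion of order at least 8. -/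
theorem result {S : Type*} [Group S] [Finite S] (h2 : IsPGroup 2 S) (hr : Cfsg.SectionalPRankLE 2 2 S)
    (hsub : ∃ H : Subgroup S, Nonempty (↥H ≃* DihedralGroup 4) ∨ Nonempty (↥H ≃* QuaternionGroup 2)) :
    ((∃ k : ℕ, Nonempty (S ≃* DihedralGroup (2 ^ (k + 2)))) ∨
      (∃ k : ℕ, Nat.card S = 2 ^ (k + 4) ∧ ∃ a b : S, orderOf a = 2 ^ (k + 3) ∧ orderOf b = 2 ∧ b * a * b⁻¹ = a ^ (2 ^ (k + 2) - 1)) ∨
      (∃ k : ℕ, Nonempty (S ≃* QuaternionGroup (2 ^ (k + 1))))) := by
  obtain ⟨H, hH⟩ := hsub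
  obtain ⟨u, v, h⟩ : ∃ u v : H, GT.PG.MaxTwo 1 u v := by
    rcases hH with ⟨⟨e⟩⟩ | ⟨⟨e⟩⟩
    · obtain ⟨u, v, h, -⟩ := GT.PG.exists_maxTwo_of_dihedral (m := 1) le_rfl e
      exact ⟨u, v, h⟩
    · obtain ⟨u, v, h, -⟩ := GT.PG.exists_maxTwo_of_quaternion (m := 1) le_rfl e
      exact ⟨u, v, h⟩
  obtain ⟨m, a, b, h⟩ := key h2 (FG.TM.isMetacyclic_of_sectional h2 hr) h
  exact FG.TM.trichotomy h

end Cfsg.Agent.S4398
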