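import Mathlib
import Cfsg.Statements.S4400
import Cfsg.Agent.FG.TwoMax
import Cfsg.Agent.GT.PGroupElemAb

set_option autoImplicit false
open Cfsg

namespace Cfsg.Agent.S4400

section pre
open Subgroup GT.PG
open scoped commutatorElement


/-- `z` is the unique non-identity central element of `P`. -/
def ZC {S : Type*} [Group S] (P : Subgroup S) (z : S) : Prop :=
  z ≠ 1 ∧ ∀ x, (x ∈ P ∧ x ∈ centralizer (P : Set S)) ↔ x = 1 ∨ x = z

theorem mem_map_center {S : Type*} [Group S] {P : Subgroup S} {x : S} :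
    x ∈ (center P).map P.subtype ↔ x ∈ P ∧ x ∈ centralizer (P : Set S) := by
  constructor
  · rintro ⟨y, hy, rfl⟩
    exact ⟨y.2, fun g hg => congrArg Subtype.val (mem_center_iff.1 hy ⟨g, hg⟩)⟩
  · rintro ⟨h1, h2⟩
    exact ⟨⟨x, h1⟩, mem_center_iff.2 fun g => Subtype.ext (h2 g g.2), rfl⟩

theorem exists_zc {S : Type*} [Group S] {P : Subgroup S} (h : Nat.card (center P) = 2) :
    ∃ z, ZC P z := by
  rw [← card_map_of_injective P.subtype_injective, Nat.card_eq_two_iff' 1] at h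
  obtain ⟨z, hz, hu⟩ := h
  refine ⟨z, fun e => hz (Subtype.ext e), fun x => ?_⟩
  rw [← mem_map_center]
  constructor
  · intro hx
    by_cases e : x = 1
    · exact Or.inl e
    · exact Or.inr (congrArg Subtype.val (hu ⟨x, hx⟩ fun e' => e (congrArg Subtype.val e')))
  · rintro (rfl | rfl)
    exacts [one_mem _, z.2]

theorem ZC.mem {S : Type*} [Group S] {P : Subgroup S} {z : S} (h : ZC P z) : z ∈ P :=
  ((h.2 z).2 (Or.inr rfl)).1

theorem ZC.cent {S : Type*} [Group S] {P : Subgroup S} {z : S} (h : ZC P z) :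
    z ∈ centralizer (P : Set S) := ((h.2 z).2 (Or.inr rfl)).2

theorem ZC.sq {S : Type*} [Group S] {P : Subgroup S} {z : S} (h : ZC P z) : z * z = 1 :=
  ((h.2 _).1 ⟨mul_mem h.mem h.mem, mul_mem h.cent h.cent⟩).resolve_right fun e =>
    h.1 (mul_eq_left.1 e)

theorem ZC.mem_commutator {S : Type*} [Group S] [Finite S] (h2 : IsPGroup 2 S) {P : Subgroup S}
    {z : S} (h : ZC P z) (hP : ¬ IsMulCommutative P) : z ∈ ⁅P, P⁆ := by
  have hle : ⁅P, P⁆ ≤ P := commutator_le.2 fun a ha b hb =>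
    mul_mem (mul_mem (mul_mem ha hb) (inv_mem ha)) (inv_mem hb)
  have := inf_centralizer_ne_bot_of_isPGroup (M := ⁅P, P⁆) (H := P) (h2.to_subgroup _)
    (h2.to_subgroup _) (le_normalizer.trans (normalizer_le_normalizer_commutator_self P)) fun e =>
      hP (isMulCommutative_iff_le_centralizer.2 (commutator_eq_bot_iff_le_centralizer.1 e))
  obtain ⟨⟨x, hx1, hx2⟩, hx⟩ := (ne_bot_iff_exists_ne_one).1 this
  rcases (h.2 x).1 ⟨hle hx1, hx2⟩ with e | e
  · exact absurd (Subtype.ext e) hx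
  · exact e ▸ hx1

theorem ZC.eq_of_mem_sup {S : Type*} [Group S] {P Q : Subgroup S} {z w : S} (hz : ZC P z)
    (hw : ZC Q w) (hPQ : P ≤ centralizer (Q : Set S)) {x : S} (hx : x ∈ P ⊔ Q)
    (hc : x ∈ centralizer ((P ⊔ Q : Subgroup S) : Set S)) :
    ∃ a b, (a = 1 ∨ a = z) ∧ (b = 1 ∨ b = w) ∧ x = a * b := by
  obtain ⟨a, ha, b, hb, rfl⟩ :=
    (mem_sup_of_le_normalizer' (hPQ.trans (centralizer_le_normalizer' Q))).1 hx
  refine ⟨a, b, (hz.2 a).1 ⟨ha, ?_⟩, (hw.2 b).1 ⟨hb, ?_⟩, rfl⟩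
  · have := mul_mem (centralizer_le (le_sup_left : P ≤ P ⊔ Q) hc)
      (inv_mem (le_centralizer_iff.1 hPQ hb))
    rwa [mul_inv_cancel_right] at this
  · have := mul_mem (inv_mem (hPQ ha)) (centralizer_le (le_sup_right : Q ≤ P ⊔ Q) hc)
    rwa [inv_mul_cancel_left] at this

theorem exists_frat {S : Type*} [Group S] [Finite S] (h2 : IsPGroup 2 S) {P : Subgroup S}
    {z : S} (h : ZC P z) (hP : ¬ IsMulCommutative P) :
    ∃ P₀ ≤ P, z ∈ P₀ ∧ (∀ x ∈ P, x ^ 2 ∈ P₀) ∧ 4 ≤ P₀.relIndex P := by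
  refine ⟨(frattini P).map P.subtype, map_subtype_le _, ?_, fun x hx => ?_, ?_⟩
  · rw [map_frattini_subtype (h2.to_subgroup P)]
    exact mem_sup_left (h.mem_commutator h2 hP)
  · exact ⟨_, pow_mem_frattini (h2.to_subgroup P) ⟨x, hx⟩, rfl⟩
  · rw [← index_frattini_eq_relIndex]
    exact Nat.le_of_dvd (Nat.pos_of_ne_zero index_ne_zero_of_finite)
      (sq_dvd_index_frattini_of_not_isCyclic (h2.to_subgroup P)
        fun _ => hP IsCyclic.isMulCommutative)

theorem main {S : Type*} [Group S] [Finite S] (h2 : IsPGroup 2 S) (hr : SectionalPRankLE 2 4 S)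
    {T P Q : Subgroup S} (hPT : P ≤ T) (hQT : Q ≤ T) (hTP : T ≤ normalizer (P : Set S))
    (hTQ : T ≤ normalizer (Q : Set S)) (hP : ¬ IsMulCommutative P) (hQ : ¬ IsMulCommutative Q)
    {z w : S} (hz : ZC P z) (hw : ZC Q w) (hne : z ≠ w) :
    ⁅P, Q⁆ = ⊥ ∧ P ⊓ Q = ⊥ ∧ T ⊓ centralizer ((P ⊔ Q : Subgroup S) : Set S) ≤ P ⊔ Q := by
  have h1 : P ⊓ Q = ⊥ := by
    by_contra hb
    have := inf_centralizer_ne_bot_of_isPGroup (H := T) (h2.to_subgroup _) (h2.to_subgroup _)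
      (le_normalizer_inf hTP hTQ) hb
    obtain ⟨⟨x, ⟨hx1, hx2⟩, hx3⟩, hx⟩ := (ne_bot_iff_exists_ne_one).1 this
    have hx : x ≠ 1 := fun e => hx (Subtype.ext e)
    exact hne ((((hz.2 x).1 ⟨hx1, centralizer_le hPT hx3⟩).resolve_left hx).symm.trans
      (((hw.2 x).1 ⟨hx2, centralizer_le hQT hx3⟩).resolve_left hx))
  have h3 : ⁅P, Q⁆ = ⊥ := by
    rw [eq_bot_iff, ← h1, commutator_le]
    intro a ha b hb
    refine ⟨?_, ?_⟩
    · rw [commutatorElement_def, mul_assoc, mul_assoc, ← mul_assoc b]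
      exact mul_mem ha ((mem_normalizer_iff.1 (hTP (hQT hb)) _).1 (P.inv_mem ha))
    · exact Q.mul_mem ((mem_normalizer_iff.1 (hTQ (hPT ha)) _).1 hb) (Q.inv_mem hb)
  refine ⟨h3, h1, ?_⟩
  have hPQ := commutator_eq_bot_iff_le_centralizer.1 h3
  by_contra hc
  set C := T ⊓ centralizer ((P ⊔ Q : Subgroup S) : Set S) with hC
  obtain ⟨K, hK1, hK2, hK3, -⟩ := exists_invariant_relIndex_eq (N := C ⊓ (P ⊔ Q)) (M := C) (H := ⊥)
    (h2.to_subgroup _) (h2.to_subgroup _) bot_le bot_le (inf_lt_left.2 hc)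
  obtain ⟨P₀, hP1, hP2, hP3, hP4⟩ := exists_frat h2 hz hP
  obtain ⟨Q₀, hQ1, hQ2, hQ3, hQ4⟩ := exists_frat h2 hw hQ
  have hcC : P ⊔ Q ≤ centralizer (C : Set S) := le_centralizer_iff.1 inf_le_right
  have e1 := FG.SR.relIndex_sup_sup hP1 hQ1 hPQ (h1 ▸ bot_le)
  have e2 := FG.SR.relIndex_sup_sup (sup_le_sup hP1 hQ1) hK2 hcC (by
    refine le_inf (fun x hx => ?_) ((inf_comm _ _).le.trans hK1)
    obtain ⟨a, b, ha, hb, rfl⟩ := hz.eq_of_mem_sup hw hPQ hx.1 hx.2.2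
    refine mul_mem (mem_sup_left ?_) (mem_sup_right ?_)
    · rcases ha with rfl | rfl
      exacts [one_mem _, hP2]
    · rcases hb with rfl | rfl
      exacts [one_mem _, hQ2])
  have e3 := FG.SR.relIndex_le_two hr (FG.SR.sq_mem_sup_sup hcC (FG.SR.sq_mem_sup_sup hPQ hP3 hQ3)
    fun x hx => pow_mem_of_relIndex_prime (h2.to_subgroup _) hK2 hK3 hx)
  rw [e2, e1, hK3] at e3
  nlinarith

end pre

/-- Let S be a finite 2-group of sectional 2-rank at most 4, and let P and Q be normal non-abelian subgroups of S whose centres have order 2 and are different. Then P and Q commute elementwise and intersect trivially, and PQ contains its own centralizer in S. -/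
theorem result {S : Type*} [Group S] [Finite S] (h2 : IsPGroup 2 S) (hr : Cfsg.SectionalPRankLE 2 4 S)
    (P Q : Subgroup S) [P.Normal] [Q.Normal] (hP : ¬ IsMulCommutative ↥P) (hQ : ¬ IsMulCommutative ↥Q)
    (hZP : Nat.card ↥(Subgroup.center ↥P) = 2) (hZQ : Nat.card ↥(Subgroup.center ↥Q) = 2)
    (hne : (Subgroup.center ↥P).map P.subtype ≠ (Subgroup.center ↥Q).map Q.subtype) :
    ⁅P, Q⁆ = ⊥ ∧ P ⊓ Q = ⊥ ∧ Subgroup.centralizer ((P ⊔ Q : Subgroup S) : Set S) ≤ P ⊔ Q := by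
  obtain ⟨z, hz⟩ := exists_zc hZP
  obtain ⟨w, hw⟩ := exists_zc hZQ
  have := main h2 hr (T := ⊤) le_top le_top Subgroup.le_normalizer_of_normal
    Subgroup.le_normalizer_of_normal hP hQ hz hw (by
      rintro rfl
      exact hne (Subgroup.ext fun x => by rw [mem_map_center, mem_map_center, hz.2, hw.2]))
  rwa [top_inf_eq] at this

end Cfsg.Agent.S4400
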