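import Mathlib
import Cfsg.Statements.S4401
import Cfsg.Agent.S4400
import Cfsg.Agent.GT.Conj

set_option autoImplicit false
open Cfsg

namespace Cfsg.Agent.S4401

section pre
open Subgroup _root_.Cfsg.Agent.GT GT.PG S4400
open scoped commutatorElement

local notation:max H " ^ᶜ " g:max => Subgroup.map (MulEquiv.toMonoidHom (MulAut.conj g)) H

theorem zc_conj {S : Type*} [Group S] {P : Subgroup S} {z : S} (h : ZC P z) (s : S) :
    ZC (P ^ᶜ s) (s * z * s⁻¹) := by
  refine ⟨fun e => h.1 (by simpa using e), fun x => ?_⟩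
  rw [centralizer_map_conj, mem_map_conj, mem_map_conj, h.2]
  refine or_congr ⟨fun e => ?_, fun e => ?_⟩ ⟨fun e => ?_, fun e => ?_⟩
  · rw [show x = s * (s⁻¹ * x * s) * s⁻¹ by group, e]; group
  · rw [e]; group
  · rw [← e]; group
  · rw [e]; group

theorem main {S : Type*} [Group S] [Finite S] (h2 : IsPGroup 2 S) (hr : SectionalPRankLE 2 4 S)
    {P : Subgroup S} (hP : ¬ IsMulCommutative P) {z : S} (hz : ZC P z) {T : Subgroup S}
    (hT : ∀ x, x ∈ T ↔ x * z * x⁻¹ = z) (hTP : T ≤ normalizer (P : Set S)) (hne : T ≠ ⊤) :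
    SectionalPRankLE 2 2 P ∧ T.index = 2 := by
  have := h2.isNilpotent
  have hPT : P ≤ T := fun x hx => (hT x).2 (by rw [hz.cent x hx, mul_inv_cancel_right])
  obtain ⟨g, -, hgT, hg⟩ := exists_mem_normalizer_notMem (lt_top_iff_ne_top.2 hne)
  set U := normalizer (T : Set S) with hU
  have hTU : T ≤ U := le_normalizer
  have c1 : ∀ s ∈ U, P ^ᶜ s ≤ T := fun s hs => map_conj_le_of_mem_normalizer hPT hs
  have c2 : ∀ s ∈ U, T ≤ normalizer ((P ^ᶜ s : Subgroup S) : Set S) := fun s hs => by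
    rw [normalizer_map_conj, ← map_conj_eq_of_mem_norm hs]
    exact map_mono hTP
  have c3 : ∀ s : S, ¬ IsMulCommutative (P ^ᶜ s) := fun s h =>
    hP (isMulCommutative_iff_forall.2 fun a ha b hb => by
      have := isMulCommutative_iff_forall.1 h _ ((conj_mem_map_conj (g := s)).2 ha) _
        (conj_mem_map_conj.2 hb)
      simpa using this)
  set w := g * z * g⁻¹ with hw
  have hwz : z ≠ w := fun e => hgT ((hT g).2 e.symm)
  have hQ := zc_conj hz g
  rw [← hw] at hQ
  set Q := P ^ᶜ g with hQd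
  obtain ⟨m1, m2, m3⟩ := S4400.main h2 hr hPT (c1 g hg) hTP (c2 g hg) hP (c3 g) hz hQ hwz
  have hPQ := commutator_eq_bot_iff_le_centralizer.1 m1
  have hzw : z * w = w * z := (hPQ hz.mem w hQ.mem).symm
  have hV : ∀ x ∈ T, x ∈ centralizer (P : Set S) → x ∈ centralizer (Q : Set S) →
      x = 1 ∨ x = z ∨ x = w ∨ x = z * w := by
    intro x hx h1 h3
    have h4 : x ∈ centralizer ((P ⊔ Q : Subgroup S) : Set S) := by
      rw [centralizer_sup]; exact ⟨h1, h3⟩
    obtain ⟨a, b, ha, hb, rfl⟩ := hz.eq_of_mem_sup hQ hPQ (m3 ⟨hx, h4⟩) h4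
    rcases ha with rfl | rfl <;> rcases hb with rfl | rfl <;> simp
  have hA : ∀ s ∈ U, s * z * s⁻¹ = z ∨ s * z * s⁻¹ = w := by
    intro s hs
    by_contra hc
    push Not at hc
    have k1 := (S4400.main h2 hr (c1 s hs) hPT (c2 s hs) hTP (c3 s) hP (zc_conj hz s) hz hc.1).1
    have k2 := (S4400.main h2 hr (c1 s hs) (c1 g hg) (c2 s hs) (c2 g hg) (c3 s) (c3 g)
      (zc_conj hz s) hQ hc.2).1
    rw [commutator_eq_bot_iff_le_centralizer] at k1 k2
    have k3 : P ^ᶜ s ≤ centralizer ((P ⊔ Q : Subgroup S) : Set S) := by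
      rw [centralizer_sup]; exact le_inf k1 k2
    exact c3 s (isMulCommutative_iff_le_centralizer.2
      (k3.trans (centralizer_anti ((le_inf (c1 s hs) k3).trans m3))))
  have hA' : ∀ s ∈ U, s * w * s⁻¹ = z ∨ s * w * s⁻¹ = w := fun s hs => by
    have := hA (s * g) (mul_mem hs hg)
    rwa [show s * g * z * (s * g)⁻¹ = s * w * s⁻¹ by rw [hw]; group] at this
  have hu : ∀ s ∈ U, s * (z * w) * s⁻¹ = z * w := by
    intro s hs
    have hinj : s * z * s⁻¹ ≠ s * w * s⁻¹ := fun e => hwz (by simpa using e)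
    rw [← conj_mul]
    rcases hA s hs with e | e <;> rcases hA' s hs with e' | e'
    · exact absurd (e.trans e'.symm) hinj
    · rw [e, e']
    · rw [e, e', hzw]
    · exact absurd (e.trans e'.symm) hinj
  have hidx : T.relIndex U = 2 := by
    refine relIndex_eq_two_iff_exists_notMem_and'.2 ⟨g⁻¹, inv_mem hg, fun h => hgT (inv_mem_iff.1 h),
      fun b hb => ?_⟩
    rcases hA b hb with e | e
    · exact Or.inr ((hT b).2 e)
    · left
      rw [hT, show g⁻¹ * b * z * (g⁻¹ * b)⁻¹ = g⁻¹ * (b * z * b⁻¹) * g by group, e, hw]; group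
  refine ⟨FG.SR.subgroup_iff.2 fun N H hNH hH hc hp => ?_, ?_⟩
  · have hHH : H ≤ centralizer ((H ^ᶜ g : Subgroup S) : Set S) :=
      hH.trans (hPQ.trans (centralizer_anti (map_mono hH)))
    have e1 := FG.SR.relIndex_sup_sup hNH (map_mono hNH : N ^ᶜ g ≤ H ^ᶜ g) hHH
      ((inf_le_inf hH (map_mono hH)).trans (m2 ▸ bot_le))
    have e2 := FG.SR.relIndex_le_two hr (FG.SR.sq_mem_sup_sup (B₀ := N ^ᶜ g) hHH hp (by
      rintro _ ⟨x, hx, rfl⟩
      exact ⟨x ^ 2, hp x hx, map_pow _ _ _⟩))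
    rw [e1, relIndex_map_conj] at e2
    nlinarith
  suffices U = ⊤ by rwa [this, relIndex_top_right] at hidx
  by_contra hUne
  obtain ⟨t, -, htU, ht⟩ := exists_mem_normalizer_notMem (lt_top_iff_ne_top.2 hUne)
  have hzT : z ∈ T := hPT hz.mem
  have hwT : w ∈ T := c1 g hg hQ.mem
  have hconj : ∀ s ∈ U, ∀ x, s * (t * x * t⁻¹) * s⁻¹ =
      t * ((t⁻¹ * s * t) * x * (t⁻¹ * s * t)⁻¹) * t⁻¹ := fun s _ x => by group
  have hu' : t * (z * w) * t⁻¹ = z * w := by
    have k1 : ∀ s ∈ U, s * (t * (z * w) * t⁻¹) * s⁻¹ = t * (z * w) * t⁻¹ := fun s hs => by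
      rw [hconj s hs, hu _ (conj_mem_of_mem_normalizer' ht hs)]
    have k2 : t * (z * w) * t⁻¹ ∈ centralizer (U : Set S) := fun s hs =>
      mul_inv_eq_iff_eq_mul.1 (k1 s hs)
    have k3 : t * (z * w) * t⁻¹ ∈ T := (hT _).2 (by rw [← k2 z (hTU hzT), mul_inv_cancel_right])
    rcases hV _ k3 (centralizer_anti (hPT.trans hTU) k2) (centralizer_anti ((c1 g hg).trans hTU) k2)
      with e | e | e | e
    · exfalso
      have : z * w = 1 := by simpa using e
      exact hwz (mul_left_cancel (hz.sq.trans this.symm))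
    · have := k1 g hg
      rw [e] at this
      exact absurd this.symm hwz
    · have := k1 g⁻¹ (inv_mem hg)
      rw [e, hw] at this
      exact absurd (by rw [hw, ← this]; group) hwz
    · exact e
  have hz' : t * z * t⁻¹ ∈ T := by
    refine commutator_self_le_of_relIndex_prime (h2.to_subgroup U) hTU hidx ?_
    exact conj_mem_of_mem_normalizer (PG.normalizer_le_normalizer_commutator_self U ht)
      (commutator_mono (hPT.trans hTU) (hPT.trans hTU) (hz.mem_commutator h2 hP))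
  have hcent : ∀ R : Subgroup S, R ≤ U → T ≤ normalizer (R : Set S) → z * w ∉ R →
      t * z * t⁻¹ ∈ centralizer (R : Set S) := by
    intro R hRU hTR hR s hs
    have k1 := hconj s (hRU hs) z
    rcases hA _ (conj_mem_of_mem_normalizer' ht (hRU hs)) with e | e
    · rw [e] at k1
      exact mul_inv_eq_iff_eq_mul.1 k1
    · exfalso
      have k2 : w = z * w * z := by rw [hzw, mul_assoc, hz.sq, mul_one]
      have k4 : t * w * t⁻¹ = z * w * (t * z * t⁻¹) := by
        rw [← hu', conj_mul, ← k2]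
      rw [e, k4] at k1
      have k3 := mul_mem hs (conj_mem_of_mem_normalizer (hTR hz') (inv_mem hs))
      rw [← mul_assoc, ← mul_assoc, k1, mul_inv_cancel_right] at k3
      exact hR k3
  have k1 := hcent P (hPT.trans hTU) hTP fun h => hQ.1 (by
    have : w ∈ P ⊓ Q := ⟨(mul_mem_cancel_left hz.mem).1 h, hQ.mem⟩
    rwa [m2] at this)
  have k2 := hcent Q ((c1 g hg).trans hTU) (c2 g hg) fun h => hz.1 (by
    have : z ∈ P ⊓ Q := ⟨hz.mem, (mul_mem_cancel_right hQ.mem).1 h⟩
    rwa [m2] at this)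
  rcases hV _ hz' k1 k2 with e | e | e | e
  · exact hz.1 (by simpa using e)
  · exact htU (hTU ((hT t).2 e))
  · refine htU ((mul_mem_cancel_left (inv_mem hg)).1 (hTU ((hT _).2 ?_)))
    rw [show g⁻¹ * t * z * (g⁻¹ * t)⁻¹ = g⁻¹ * (t * z * t⁻¹) * g by group, e, hw]; group
  · rw [← hu'] at e
    exact hQ.1 (by simpa using e)

end pre

/-- Let S be a finite 2-group of sectional 2-rank at most 4 and P a proper non-abelian subgroup whose centre has order 2. Let S₀ be the centralizer in S of Z(P) and suppose P is normal in S₀. Then either S₀ = S, or P has sectional 2-rank at most 2 and S₀ has index 2 in S. -/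
theorem result {S : Type*} [Group S] [Finite S] (h2 : IsPGroup 2 S) (hr : Cfsg.SectionalPRankLE 2 4 S)
    (P : Subgroup S) (hPlt : P ≠ ⊤) (hP : ¬ IsMulCommutative ↥P) (hZP : Nat.card ↥(Subgroup.center ↥P) = 2)
    (S₀ : Subgroup S) (hS₀ : S₀ = Subgroup.centralizer (((Subgroup.center ↥P).map P.subtype : Subgroup S) : Set S))
    (hPn : ∀ s ∈ S₀, ∀ x ∈ P, s * x * s⁻¹ ∈ P) :
    S₀ = ⊤ ∨ (Cfsg.SectionalPRankLE 2 2 ↥P ∧ S₀.index = 2) := by
  obtain ⟨z, hz⟩ := S4400.exists_zc hZP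
  by_cases h : S₀ = ⊤
  · exact Or.inl h
  refine Or.inr (main h2 hr hP hz (fun x => ?_) (fun s hs => GT.mem_normalizer_iff_of_finite.2 (hPn s hs)) h)
  rw [hS₀, mul_inv_eq_iff_eq_mul]
  constructor
  · exact fun hx => (hx z (S4400.mem_map_center.2 ⟨hz.mem, hz.cent⟩)).symm
  · intro hx y hy
    rcases (hz.2 y).1 (S4400.mem_map_center.1 hy) with rfl | rfl
    · simp
    · exact hx.symm

end Cfsg.Agent.S4401
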