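import Mathlib
import Cfsg.Statements.S4409
import Cfsg.Agent.GT.NoEight
import Cfsg.Agent.GT.Hall
import Cfsg.Agent.GT.Fitting
import Cfsg.Agent.FT.Pi
import Cfsg.Agent.Fus.MxCmp
-- import your own Cfsg.Agent.* helpers here

set_option autoImplicit false
open Cfsg

namespace Cfsg.Agent.S4409

section
open Subgroup Cfsg.Agent.GT Cfsg.Agent.GT.PG Cfsg.Agent.GT.N8
open scoped commutatorElement

variable {S : Type*} [Group S] [Finite S]

/-- The four possible structures. -/
def Concl (X : Subgroup S) : Prop :=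
  IsMulCommutative X ∨ (IsExtraspecial 2 X ∧ 32 ≤ Nat.card X) ∨
    (∃ (X₀ : Subgroup S) (k : ℕ), X₀ ≤ X ∧ X₀.relIndex X = 2 ∧
      Nonempty (X₀ ≃* QuaternionGroup (2 ^ (k + 1))) ∧
        X₀ ⊔ (X ⊓ centralizer (X₀ : Set S)) = X) ∨
    (IsSpecial 2 X ∧ Nat.card (center X) = 4)

/-- The minimal configuration. -/
structure Cf (X H : Subgroup S) : Prop where
  hX : IsPGroup 2 X
  hH : Odd (Nat.card H)
  hHX : H ≤ normalizer (X : Set S)
  h8 : N8 X
  hmin : ∀ Y ≤ X, H ≤ normalizer (Y : Set S) → N8 Y → Y = X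

variable {X H : Subgroup S}

theorem Cf.cop (h : Cf X H) : (Nat.card H).Coprime (Nat.card X) :=
  CopAct.coprime_of_isPGroup_right (Nat.coprime_two_right.2 h.hH) h.hX

theorem Cf.cases (h : Cf X H) {Y : Subgroup S} (hY : Y < X) (hHY : H ≤ normalizer (Y : Set S))
    (hn : ¬ H ≤ centralizer (Y : Set S)) : V4 Y ∨ ∃ z, QQ Y z :=
  v4_or_qq (h.hX.to_le hY.le) (fun h8 => hY.ne (h.hmin Y hY.le hHY h8)) (not_aut h.hH hHY hn)

theorem Cf.v4_cent (h : Cf X H) {Y : Subgroup S} (hXY : X ≤ normalizer (Y : Set S))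
    (hHY : H ≤ normalizer (Y : Set S)) (h4 : V4 Y) (hn : ¬ H ≤ centralizer (Y : Set S)) :
    X ≤ centralizer (Y : Set S) := by
  have h0 : Y ≠ ⊥ := fun e => by have := h4.2.2; rw [e, card_bot] at this; omega
  have := h4.irr h.hH hHY hn inf_le_left
    (PG.le_normalizer_inf hHY (PG.le_normalizer_centralizer h.hHX))
    (FT.pgroup_meet_cent h4.isPGroup h.hX hXY h0)
  exact le_centralizer_iff.1 (this.ge.trans inf_le_right)

theorem Cf.of_qq (h : Cf X H) {Y : Subgroup S} {z : S} (hY : Y < X)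
    (hXY : X ≤ normalizer (Y : Set S)) (hHY : H ≤ normalizer (Y : Set S)) (hq : QQ Y z)
    (hn : ¬ H ≤ centralizer (Y : Set S)) : Concl X := by
  have hHz : H ≤ normalizer ((zpowers z : Subgroup S) : Set S) :=
    hq.esz.center_eq ▸ PG.le_normalizer_inf hHY (PG.le_normalizer_centralizer hHY)
  have hz2 := hq.esz.card_zpowers
  have hCz : H ≤ centralizer ((zpowers z : Subgroup S) : Set S) := cent_two h.hH hz2.dvd hHz
  have hY0 : Y ≠ ⊥ := fun e => by have := hq.card; rw [e, card_bot] at this; omega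
  have hlt := commutator_lt_of_isPGroup hq.esz.isPGroup h.hX hXY hY0
  have hzW : zpowers z ≤ ⁅Y, X⁆ := hq.esz.commutator_eq hq.ne ▸ commutator_mono le_rfl hY.le
  have hW : ⁅X, Y⁆ ≤ zpowers z := by
    rw [commutator_comm]
    by_contra hW
    have h4 := card_of_lt (n := 2) hq.card hlt
    have h5 := PG.card_lt_of_lt (lt_of_le_not_ge hzW hW)
    have h6 : Nat.card ↥⁅Y, X⁆ = 4 := by
      obtain ⟨i, hi, e⟩ := (Nat.dvd_prime_pow Nat.prime_two).1 h4
      rw [hz2, e] at h5
      interval_cases i <;> simp_all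
    exact hn (cent_step h.hH (hq.esz.isPGroup.to_le hlt.le) hlt.le (by rw [h6, hq.card]) hHY
      (cent_step h.hH (hq.esz.isPGroup.to_le hq.esz.zpowers_le) hzW (by rw [h6, hz2])
        (PG.le_normalizer_commutator hHY h.hHX) hCz))
  have hsup : Y ⊔ (X ⊓ centralizer (Y : Set S)) = X := by
    refine le_antisymm (sup_le hY.le inf_le_left) fun x hx => ?_
    obtain ⟨y, hy, c, hc, rfl⟩ := (mem_sup_of_le_normalizer
      (centralizer_le_normalizer' Y)).1 (hq.esz.le_sup_centralizer hq.ne hW hx)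
    exact mul_mem (mem_sup_left hy)
      (mem_sup_right ⟨(mul_mem_cancel_left (hY.le hy)).1 hx, hc⟩)
  have hzC : zpowers z ≤ X ⊓ centralizer (Y : Set S) :=
    le_inf (hq.esz.zpowers_le.trans hY.le) hq.esz.zpowers_le_centralizer
  have hYC : Y ⊓ (X ⊓ centralizer (Y : Set S)) = zpowers z := by
    rw [← inf_assoc, inf_eq_left.2 hY.le, hq.esz.center_eq]
  have hHC : H ≤ normalizer ((X ⊓ centralizer (Y : Set S) : Subgroup S) : Set S) :=
    PG.le_normalizer_inf h.hHX (PG.le_normalizer_centralizer hHY)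
  by_cases hc : H ≤ centralizer ((X ⊓ centralizer (Y : Set S) : Subgroup S) : Set S)
  · obtain ⟨d, hd, h1, h2⟩ := exists_sq_mem (h.hX.to_le inf_le_left)
      (V := zpowers z) (C := X ⊓ centralizer (Y : Set S)) fun hle =>
        hY.not_ge (hsup ▸ sup_le le_rfl (hle.trans hq.esz.zpowers_le))
    have hdY : d ∉ Y := fun hy => h1 (hYC ▸ ⟨hy, hd⟩)
    obtain ⟨i, hi, hiz⟩ := SetLike.exists_of_lt (lt_of_le_of_ne hq.esz.zpowers_le hq.ne.symm)
    have hiC : i ∈ centralizer ((zpowers z : Subgroup S) : Set S) :=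
      le_centralizer_iff.1 hq.esz.zpowers_le_centralizer hi
    have hBY : zpowers z ⊔ zpowers i ≤ Y := sup_le hq.esz.zpowers_le (zpowers_le_of_mem hi)
    have hD : Y ⊔ zpowers d = X := by
      refine h.hmin _ (sup_le hY.le (zpowers_le_of_mem hd.1)) (PG.le_normalizer_sup hHY
        (CopAct.le_normalizer_of_le_centralizer (hc.trans (centralizer_le
          (zpowers_le_of_mem hd))))) ⟨_, sup_le_sup_right hBY _, spec_of
            (isMulCommutative_sup_zpowers inferInstance hiC) ?_ (centralizer_le hBY hd.2)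
            (fun hm => hdY (hBY hm)) (mem_sup_left h2) ?_⟩
      · rw [card_sup_zpowers Nat.prime_two (centralizer_le_normalizer' _ hiC) hiz
          (hq.esz.pow_mem i hi), hz2]
      · rw [show 4 = 2 * 2 from rfl, pow_mul]
        exact hq.esz.pow_eq_one_of_mem_zpowers h2
    refine Or.inr (Or.inr (Or.inl ⟨Y, 0, hY.le, ?_, hq.iso, hsup⟩))
    rw [← hD]
    exact relIndex_sup_zpowers Nat.prime_two (centralizer_le_normalizer' Y hd.2) hdY
      (hq.esz.zpowers_le h2)
  have hClt : X ⊓ centralizer (Y : Set S) < X := inf_lt_left.2 fun hle =>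
    hq.not_comm (isMulCommutative_iff_le_centralizer.2 (hY.le.trans hle))
  rcases h.cases hClt hHC hc with h4 | ⟨z', hq'⟩
  · have := h4.irr h.hH hHC hc hzC hHz (by simpa using hq.esz.z_ne_one)
    exact absurd (this ▸ hCz) hc
  have hzz : zpowers z = zpowers z' :=
    hq'.esz.zpowers_eq_of_mem (hq'.inv z (hzC (mem_zpowers z)) hq.esz.z_pow) hq.esz.z_ne_one
  have hq'' : ESZ 2 (X ⊓ centralizer (Y : Set S)) z :=
    ⟨hq.esz.orderOf_z, hzz ▸ hq'.esz.comm_mem, hzz ▸ hq'.esz.pow_mem, hzz ▸ hq'.esz.center_eq⟩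
  have hE := hq.esz.sup hq'' inf_le_right
  have hcard := PG.card_sup_mul_card_inf (H := Y) (N := X ⊓ centralizer (Y : Set S))
    (CopAct.le_normalizer_of_le_centralizer (le_centralizer_iff.1 inf_le_right))
  rw [hsup] at hE hcard
  rw [hYC, hz2, hq.card, hq'.card] at hcard
  refine Or.inr (Or.inl ⟨hE.isExtraspecial fun e => ?_, by omega⟩)
  rw [← e] at hz2
  omega

theorem Cf.concl (h : Cf X H) : Concl X := by
  by_cases hab : IsMulCommutative X
  · exact Or.inl hab
  by_cases hq : ∃ Y z, Y < X ∧ X ≤ normalizer (Y : Set S) ∧ H ≤ normalizer (Y : Set S) ∧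
      QQ Y z ∧ ¬ H ≤ centralizer (Y : Set S)
  · obtain ⟨Y, z, a, b, c, d, e⟩ := hq
    exact h.of_qq a b c d e
  have hv : ∀ Y < X, X ≤ normalizer (Y : Set S) → H ≤ normalizer (Y : Set S) →
      ¬ H ≤ centralizer (Y : Set S) → V4 Y := fun Y a b c e =>
    (h.cases a c e).resolve_right fun ⟨z, d⟩ => hq ⟨Y, z, a, b, c, d, e⟩
  have hsol : Group.IsSolvable H ∨ Group.IsSolvable X := Or.inr (CopAct.isSolvable_of_isPGroup h.hX)
  have hXH : ⁅X, H⁆ = X := by
    by_contra hne
    have hlt := lt_of_le_of_ne (CopAct.commutator_le_of_le_normalizer h.hHX) hne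
    by_cases hc : H ≤ centralizer ((⁅X, H⁆ : Subgroup S) : Set S)
    · have hc' := CopAct.le_centralizer_of_commutator_commutator_eq_bot h.hHX h.cop
        (CopAct.commutator_eq_bot_iff.2 hc)
      obtain ⟨A, hA, h8⟩ := h.h8
      exact hab (h.hmin A hA (CopAct.le_normalizer_of_le_centralizer
        (hc'.trans (centralizer_le hA))) ⟨A, le_rfl, h8⟩ ▸ h8.1)
    have h4 := hv _ hlt (normalizer_commutator_ge_left _ _) (normalizer_commutator_ge_right _ _) hc
    have hXC := h.v4_cent (normalizer_commutator_ge_left _ _)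
      (normalizer_commutator_ge_right _ _) h4 hc
    obtain ⟨d, hd, h1, h2⟩ := exists_sq_mem (h.hX.to_le inf_le_left) (V := ⁅X, H⁆)
      (C := X ⊓ centralizer (H : Set S)) fun hle =>
        hlt.not_ge ((CopAct.commutator_sup_centralizer h.hHX h.cop hsol).ge.trans
          (sup_le le_rfl hle))
    have hs := spec_of h4.1 h4.2.2 (hXC hd.1) h1 h2 (by
      rw [show 4 = 2 * 2 from rfl, pow_mul]; exact h4.2.1 _ h2)
    exact hab (h.hmin _ (sup_le hlt.le (zpowers_le_of_mem hd.1)) (PG.le_normalizer_sup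
      (normalizer_commutator_ge_right _ _) (CopAct.le_normalizer_of_le_centralizer
        (le_centralizer_iff.1 (zpowers_le_of_mem hd.2)))) ⟨_, le_rfl, hs⟩ ▸ hs.1)
  have hcen : ∀ Y < X, X ≤ normalizer (Y : Set S) → H ≤ normalizer (Y : Set S) →
      X ≤ centralizer (Y : Set S) := by
    intro Y a b c
    by_cases e : H ≤ centralizer (Y : Set S)
    · rw [← hXH, commutator_le]
      intro x hx g hg
      exact mul_mem ((mem_normalizer_iff.1 (PG.le_normalizer_centralizer b hx) g).1 (e hg))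
        (inv_mem (e hg))
    · exact h.v4_cent b c (hv Y a b c e) e
  have hX0 : X ≠ ⊥ := fun e => hab (e ▸ inferInstance)
  haveI : Nontrivial X := (nontrivial_iff_ne_bot X).2 hX0
  have hΦ : (frattini X).map X.subtype ≤ centralizer (X : Set S) := by
    refine le_centralizer_iff.1 (hcen _ (lt_of_le_of_ne (map_subtype_le _) fun e => ?_)
      (CopAct.le_normalizer_map_subtype_of_characteristic le_normalizer _)
      (CopAct.le_normalizer_map_subtype_of_characteristic h.hHX _))
    refine frattini_ne_top (G := X) (map_injective X.subtype_injective ?_)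
    rw [e, ← MonoidHom.range_eq_map, range_subtype]
  obtain ⟨hΦ1, hΦ2⟩ := (map_frattini_subtype_le_iff h.hX).1 hΦ
  have hZlt : X ⊓ centralizer (X : Set S) < X := inf_lt_left.2 fun hle =>
    hab (isMulCommutative_iff_le_centralizer.2 hle)
  have hXZ : X ≤ normalizer ((X ⊓ centralizer (X : Set S) : Subgroup S) : Set S) :=
    PG.le_normalizer_inf le_normalizer (PG.le_normalizer_centralizer le_normalizer)
  have hHZ : H ≤ normalizer ((X ⊓ centralizer (X : Set S) : Subgroup S) : Set S) :=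
    PG.le_normalizer_inf h.hHX (PG.le_normalizer_centralizer h.hHX)
  have hXX : ⁅X, X⁆ ≤ X ⊓ centralizer (X : Set S) :=
    le_inf (CopAct.commutator_le_of_le_normalizer le_normalizer) hΦ1
  have hXX0 : ⁅X, X⁆ ≠ ⊥ := fun e =>
    hab (isMulCommutative_iff_le_centralizer.2 (commutator_eq_bot_iff_le_centralizer.1 e))
  have hsp : IsSpecial 2 X := by
    refine (isSpecial_subgroup_iff h.hX).2 ⟨?_, hΦ2⟩
    by_cases e : H ≤ centralizer ((X ⊓ centralizer (X : Set S) : Subgroup S) : Set S)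
    · refine le_antisymm hXX (le_trans ?_ (CopAct.commutator_inf_centralizer_le h.hHX h.cop))
      exact le_inf (inf_le_left.trans hXH.ge) (le_centralizer_iff.1 e)
    · exact (hv _ hZlt hXZ hHZ e).irr h.hH hHZ e hXX
        (PG.le_normalizer_commutator h.hHX h.hHX) hXX0
  rcases cyc_or_v4 (h.hX.to_le inf_le_left) (fun h8 => hZlt.ne (h.hmin _ hZlt.le hHZ h8))
    (isMulCommutative_iff_le_centralizer.2 (inf_le_right.trans (centralizer_le inf_le_left)))
    with hcy | h4
  · have hc2 : Nat.card (center X) = 2 := by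
      rw [card_center_subgroup]
      obtain ⟨g, hg⟩ := hcy.exists_ofOrder_eq_natCard
      have h1 := congrArg Subtype.val
        (hsp.pow_eq_one_of_mem_center (z := ⟨g, g.2.1⟩) (mem_center_iff.2 fun y =>
          Subtype.ext (mem_centralizer_iff.1 g.2.2 y y.2)))
      have h2 : orderOf g ∣ 2 := orderOf_dvd_of_pow_eq_one (Subtype.ext h1)
      rw [hg] at h2
      exact ((Nat.dvd_prime Nat.prime_two).1 h2).resolve_left fun e =>
        hXX0 (eq_bot_iff.2 (hXX.trans (card_eq_one.1 e).le))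
    have hE : IsExtraspecial 2 X := ⟨hsp, hc2⟩
    refine Or.inr (Or.inl ⟨hE, ?_⟩)
    obtain ⟨n, hn, e⟩ := hE.exists_card_eq
    by_cases h1 : n = 1
    · obtain ⟨A, hA, h8⟩ := h.h8
      exact absurd (PG.eq_of_le_of_card_le hA (by rw [e, h8.2.2, h1]; norm_num) ▸ h8.1) hab
    · rw [e]
      exact Nat.pow_le_pow_right two_pos (show 5 ≤ 2 * n + 1 by omega)
  · exact Or.inr (Or.inr (Or.inr ⟨hsp, by rw [card_center_subgroup, h4.2.2]⟩))

theorem index_cent (O : Subgroup S) [O.Normal] :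
    (centralizer (O : Set S)).index ≤ Nat.card (MulAut O) := by
  have : centralizer (O : Set S) = (MulAut.conjNormal (H := O)).ker := by
    ext g
    rw [MonoidHom.mem_ker, mem_centralizer_iff, MulEquiv.ext_iff]
    refine ⟨fun h y => Subtype.ext ?_, fun h y hy => ?_⟩
    · rw [MulAut.conjNormal_apply, ← h y y.2]; simp
    · have := congrArg Subtype.val (h ⟨y, hy⟩)
      rw [MulAut.conjNormal_apply] at this
      exact (mul_inv_eq_iff_eq_mul.1 this).symm
  rw [this, index_ker]
  exact Nat.le_of_dvd Nat.card_pos (card_subgroup_dvd_card _)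

theorem n8_core {O : Subgroup S} [O.Normal] (hO : IsPGroup 2 O)
    (hC : centralizer (O : Set S) ≤ O) (h8 : N8 (⊤ : Subgroup S)) (h2 : IsPGroup 2 S → O = ⊤) :
    N8 O := by
  by_contra hn
  have hS : ¬ IsPGroup 2 S := fun hS => hn (h2 hS ▸ h8)
  obtain ⟨A, -, hA, hcy, hA8⟩ := h8
  have ha : ¬ IsPGroup 2 (MulAut O) := fun ha => hS fun g => by
    obtain ⟨k, hk⟩ := ha (MulAut.conjNormal g)
    have : g ^ 2 ^ k ∈ O := hC (mem_centralizer_iff.2 fun y hy => by
      have := congrArg Subtype.val (DFunLike.congr_fun hk ⟨y, hy⟩)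
      rw [← map_pow, MulAut.conjNormal_apply] at this
      exact (mul_inv_eq_iff_eq_mul.1 this).symm)
    obtain ⟨j, hj⟩ := hO ⟨_, this⟩
    exact ⟨k + j, by rw [pow_add, pow_mul]; exact congrArg Subtype.val hj⟩
  have key : O.index ≤ 6 → O.relIndex A ∣ 2 := by
    intro h6
    have d1 : O.relIndex A ∣ 2 ^ 3 := by
      rw [show 2 ^ 3 = 8 from rfl, ← hA8]; exact relIndex_dvd_card _ _
    have d2 := relIndex_dvd_index_of_normal O A
    obtain ⟨i, hi, e⟩ := (Nat.dvd_prime_pow Nat.prime_two).1 d1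
    have h0 : O.index ≠ 0 := index_ne_zero_of_finite
    by_contra hnd
    have h4 : 4 ∣ O.index := by
      rw [e] at d2 hnd
      interval_cases i
      · simp at hnd
      · simp at hnd
      · exact d2
      · exact dvd_trans (by norm_num) d2
    have h5 : O.index = 2 ^ 2 := by omega
    obtain ⟨k, hk⟩ := hO.exists_card_eq
    exact hS (IsPGroup.of_card (n := k + 2) (by rw [← O.card_mul_index, hk, h5, pow_add]))
  have hmul := relIndex_mul_card_inf O A
  have hic := index_cent O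
  rcases v4_or_qq hO hn ha with h4 | ⟨z, hq⟩
  · have hK : IsKleinFour O := ⟨h4.2.2, by
      haveI : Nontrivial O := Finite.one_lt_card_iff_nontrivial.1 (by rw [h4.2.2]; norm_num)
      exact (Monoid.exponent_eq_prime_iff Nat.prime_two).2 fun g hg =>
        orderOf_eq_prime (Subtype.ext (h4.2.1 g g.2)) hg⟩
    have e : centralizer (O : Set S) = O :=
      le_antisymm hC (isMulCommutative_iff_le_centralizer.1 h4.1)
    rw [e] at hic
    have := Nat.le_of_dvd two_pos (key (hic.trans (Fus.MG.card_mulAut_klein hK)))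
    have h5 : O ⊓ A = O := PG.eq_of_le_of_card_le inf_le_left (by rw [h4.2.2]; nlinarith)
    have h6 : A ≤ O := ((isMulCommutative_iff_le_centralizer.1 hA).trans
      (centralizer_le (h5.ge.trans inf_le_right))).trans hC
    have := card_le_of_le h6
    rw [hA8, h4.2.2] at this
    omega
  obtain ⟨e⟩ := hq.iso
  have e1 : centralizer (O : Set S) = zpowers z := by rw [← hq.esz.center_eq, inf_eq_right.2 hC]
  have e2 := (zpowers z).card_mul_index
  have e3 := O.card_mul_index
  rw [e1] at hic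
  have := Inv.QA.card_mulAut_le_of_quaternion e
  rw [hq.esz.card_zpowers] at e2
  rw [hq.card] at e3
  have hi := key (by omega)
  have hi' := Nat.le_of_dvd two_pos hi
  have hlt : O ⊓ A < O := inf_lt_left.2 fun hle => hq.not_comm (isMulCommutative_of_le hle hA)
  have h4 : Nat.card ↥(O ⊓ A) = 4 := by
    have := Nat.le_of_dvd (by norm_num) (card_of_lt (n := 2) hq.card hlt)
    nlinarith
  obtain ⟨t, ht, htO⟩ : ∃ t ∈ A, t ∉ O := SetLike.not_le_iff_exists.1 fun hle => by
    rw [inf_eq_right.2 hle] at h4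
    omega
  obtain ⟨j, hj, hjB⟩ := SetLike.exists_of_lt hlt
  have hri : (O ⊓ A).relIndex O = 2 := by
    have := relIndex_mul_card hlt.le
    rw [h4, hq.card] at this
    omega
  have hcomm := isMulCommutative_iff_forall.1 hA
  have hc : t * j * t⁻¹ * j⁻¹ ∈ O ⊓ A := conj_mul_inv_mem hri.dvd (by simp [normalizer_eq_top])
    (PG.le_normalizer_inf (by simp [normalizer_eq_top]) le_normalizer ht) hj
  by_cases hcz : t * j * t⁻¹ * j⁻¹ ∈ zpowers z
  · refine htO (sup_le le_rfl hC (hq.esz.le_sup_centralizer hq.ne (H := zpowers t) ?_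
      (mem_zpowers t)))
    have hzn : (zpowers z).Normal := e1 ▸ inferInstance
    have h1 : ∀ q ∈ O, ⁅t, q⁆ ∈ zpowers z := by
      intro q hq'
      by_cases hqB : q ∈ O ⊓ A
      · rw [commutatorElement_eq_one_iff_mul_comm.2 (hcomm t ht q hqB.2)]; exact one_mem _
      · have hb : q * j⁻¹ ∈ O ⊓ A := mem_subgroupOf.1 ((mul_mem_iff_of_index_two
          (H := (O ⊓ A).subgroupOf O) hri (a := ⟨q, hq'⟩) (b := ⟨_, inv_mem hj⟩)).2 (by
            simp only [mem_subgroupOf, inv_mem_iff]; exact iff_of_false hqB hjB))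
        have : ⁅t, q⁆ = (q * j⁻¹) * (t * j * t⁻¹ * j⁻¹) * (q * j⁻¹)⁻¹ := by
          rw [commutatorElement_def, ← mul_assoc, ← mul_assoc, ← mul_assoc,
            ← hcomm t ht _ hb.2]
          group
        rw [this]
        exact hzn.conj_mem _ hcz _
    rw [commutator_le]
    rintro _ ⟨n, rfl⟩ q hq'
    have h3 : ∀ q ∈ O, (t : S ⧸ zpowers z) * q = q * t := fun q hq' => by
      rw [← commutatorElement_eq_one_iff_mul_comm]
      exact (QuotientGroup.eq_one_iff _).2 (h1 q hq')
    rw [← QuotientGroup.eq_one_iff]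
    change ⁅((t ^ n : S) : S ⧸ zpowers z), (q : S ⧸ zpowers z)⁆ = 1
    rw [commutatorElement_eq_one_iff_commute, QuotientGroup.mk_zpow]
    exact Commute.zpow_left (h3 q hq') n
  have ht2 : t * t ∈ O := by
    rcases (Nat.dvd_prime Nat.prime_two).1 hi with h | h
    · exact absurd (relIndex_eq_one.1 h ht) htO
    · exact mem_subgroupOf.1 (mul_self_mem_of_index_two (H := O.subgroupOf A) h ⟨t, ht⟩)
  have h4' : t ^ 4 ≠ 1 := by
    intro h
    have hz := hq.inv _ ht2 (by rw [← sq, ← pow_mul]; exact h)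
    have h5 := (hq.esz.commute_of_mem_zpowers hj hz).eq
    refine hcz (hq.inv _ hc.1 ?_)
    have h6 := hcomm t ht _ hc.2
    calc (t * j * t⁻¹ * j⁻¹) ^ 2 = (t * j * t⁻¹ * j⁻¹) * t * (j * t⁻¹ * j⁻¹) := by
          rw [sq]; group
      _ = (t * t * j) * (t * t)⁻¹ * j⁻¹ := by rw [← h6]; group
      _ = 1 := by rw [← h5]; group
  have hd := A.orderOf_dvd_natCard ht
  rw [hA8] at hd
  obtain ⟨i, hi, e⟩ := (Nat.dvd_prime_pow Nat.prime_two (m := 3)).1 hd
  have h3 : i = 3 := by
    by_contra hne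
    exact h4' (orderOf_dvd_iff_pow_eq_one.1 (e ▸ pow_dvd_pow 2 (show i ≤ 2 by omega)))
  exact hcy (isCyclic_of_orderOf_eq_card (⟨t, ht⟩ : A) (by rw [orderOf_mk, e, hA8, h3]; rfl))

end


/-- Let S be a finite solvable group with O_{2'}(S) = 1 that contains a non-cyclic abelian subgroup of order 8, while no proper subgroup of S of 2-power index contains one. Then a Sylow 2-subgroup X of S is normal in S, and one of the following holds: X is abelian; X is extraspecial of order at least 32; X has a generalized quaternion subgroup X₀ of index 2 with X = X₀·C_X(X₀); or X is special with centre of order 4. -/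
theorem result {S : Type*} [Group S] [Finite S]
    [Group.IsSolvable S] (hO : Cfsg.pPrimeCore 2 S = ⊥)
    (h8 : ∃ A : Subgroup S, IsMulCommutative ↥A ∧ ¬ IsCyclic ↥A ∧ Nat.card ↥A = 8)
    (hmin : ∀ R : Subgroup S, R ≠ ⊤ → (∃ k : ℕ, R.index = 2 ^ k) →
      ¬ ∃ A : Subgroup S, A ≤ R ∧ IsMulCommutative ↥A ∧ ¬ IsCyclic ↥A ∧ Nat.card ↥A = 8)
    (X : Sylow 2 S) :
    (X : Subgroup S).Normal ∧
      (IsMulCommutative ↥X ∨
        (Cfsg.IsExtraspecial 2 ↥X ∧ 32 ≤ Nat.card ↥X) ∨
        (∃ (X₀ : Subgroup S) (k : ℕ), X₀ ≤ (X : Subgroup S) ∧ X₀.relIndex (X : Subgroup S) = 2 ∧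
          Nonempty (↥X₀ ≃* QuaternionGroup (2 ^ (k + 1))) ∧ X₀ ⊔ ((X : Subgroup S) ⊓ Subgroup.centralizer (X₀ : Set S)) = (X : Subgroup S)) ∨
        (Cfsg.IsSpecial 2 ↥X ∧ Nat.card ↥(Subgroup.center ↥X) = 4)) := by
  open Subgroup Cfsg.Agent.GT Cfsg.Agent.GT.N8 in
  obtain ⟨H, hH1, hH2⟩ := exists_isPiHall {p | p ≠ 2} S
  have hH : Odd (Nat.card H) := Nat.odd_iff.2 (by
    by_contra h
    exact hH1 2 Nat.prime_two (by omega) rfl)
  have htop : ∀ Y : Subgroup S, N8 Y → Y ⊔ H = ⊤ := by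
    intro Y ⟨A, hA, h⟩
    by_contra hne
    refine hmin _ hne ⟨_, Nat.eq_prime_pow_of_unique_prime_dvd index_ne_zero_of_finite ?_⟩
      ⟨A, hA.trans le_sup_left, h⟩
    intro q hq hd
    by_contra h2
    exact hH2 q hq h2 (hd.trans (index_dvd_of_le le_sup_right))
  have hkey : ∀ Y : Subgroup S, IsPGroup 2 Y → Y ≤ X → H ≤ normalizer (Y : Set S) → N8 Y →
      Y = X := by
    intro Y hY hYX hHY h
    have h1 := CopAct.card_sup_of_coprime hHY
      (CopAct.coprime_of_isPGroup_right (Nat.coprime_two_right.2 hH) hY)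
    rw [htop Y h, card_top] at h1
    refine PG.eq_of_le_of_card_le hYX (Nat.le_of_dvd Nat.card_pos ?_)
    exact (CopAct.coprime_of_isPGroup_right (Nat.coprime_two_right.2 hH)
      X.isPGroup').symm.dvd_of_dvd_mul_right (h1 ▸ card_subgroup_dvd_card _)
  have hO8 : N8 (pCore 2 S) := n8_core (isPGroup_pCore 2)
    (centralizer_pCore_le Nat.prime_two hO) (let ⟨A, h⟩ := h8; ⟨A, le_top, h⟩)
    fun hS => top_le_iff.1 (le_pCore (hS.to_subgroup ⊤))
  have hOX := hkey _ (isPGroup_pCore 2) ((isPGroup_pCore 2).le_sylow_of_normal X)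
    (by simp [normalizer_eq_top]) hO8
  have hn : (X : Subgroup S).Normal := hOX ▸ inferInstance
  exact ⟨hn, Cf.concl ⟨X.isPGroup', hH, le_normalizer_of_normal, hOX ▸ hO8,
    fun Y hY => hkey Y (X.isPGroup'.to_le hY) hY⟩⟩

end Cfsg.Agent.S4409
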