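import Mathlib
import Cfsg.Statements.S4419
import Cfsg.Agent.FG.Metacyclic
import Cfsg.Agent.GT.TransferFrobenius
import Cfsg.Agent.GT.PPrimeCore

set_option autoImplicit false
open Cfsg

namespace Cfsg.Agent.S4419


/-- Let p be a prime and G a finite group whose Sylow p-subgroups are metacyclic (a cyclic normal subgroup with cyclic quotient). Then G has a normal p-complement if and only if the order of G/O_{p′,p}(G) is coprime to p² − 1. -/
theorem result {G : Type*} [Group G] [Finite G] (p : ℕ) [Fact p.Prime] (S : Sylow p G) (hS : Cfsg.IsMetacyclic ↥(S : Subgroup G)) : Cfsg.HasNormalPComplement p G ↔ Nat.Coprime (Nat.card (G ⧸ Cfsg.pPrimePCore p G)) (p ^ 2 - 1) := by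
  have hp : p.Prime := Fact.out
  constructor
  · intro h
    have h1 : pPrimePCore p G = ⊤ := by
      refine eq_top_iff.2 (GT.le_pPrimePCore ?_)
      rw [← MonoidHom.range_eq_map, QuotientGroup.range_mk']
      exact (GT.Tr.isPGroup_quotient_iff.2 h.pPrimeCore_eq_pResidual.ge).to_subgroup ⊤
    rw [← Subgroup.index, h1, Subgroup.index_top]
    exact Nat.coprime_one_left _
  · intro h
    refine GT.Tr.hasNormalPComplement_of_quotient_of_not_dvd (pPrimeCore p G)
      (GT.not_dvd_card_pPrimeCore hp) ?_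
    refine GT.Tr.frobenius_of_primePow (S.mapSurjective (QuotientGroup.mk'_surjective _))
      fun Q hQ _ q hq hqp g hg ⟨k, hk⟩ => ?_
    by_contra hc
    have hQp : IsPGroup p Q := (S.mapSurjective _).2.to_le hQ
    have h1 := FG.TM.dvd_sq_sub_one hQp (FG.TM.index_frattini_le_of_isMetacyclic hQp
      (FG.TM.isMetacyclic_of_le (FG.TM.isMetacyclic_map hS _) hQ)) hq hqp hg hk hc
    have hk0 : k ≠ 0 := by
      rintro rfl
      exact hc (orderOf_eq_one_iff.1 hk ▸ one_mem _)
    have h2 : q ∣ Nat.card (G ⧸ pPrimeCore p G) := (dvd_pow_self q hk0).trans (hk ▸ orderOf_dvd_natCard g)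
    obtain ⟨n, hn⟩ := IsPGroup.iff_card.1 (GT.isPGroup_pCore (G := G ⧸ pPrimeCore p G) p)
    rw [← (pCore p (G ⧸ pPrimeCore p G)).index_mul_card, hn, ← GT.map_pPrimePCore,
      Subgroup.index_map_eq _ (QuotientGroup.mk'_surjective _)
        (by rw [QuotientGroup.ker_mk']; exact GT.pPrimeCore_le_pPrimePCore)] at h2
    have h3 := ((Nat.Prime.dvd_mul hq).1 h2).resolve_right fun e =>
      hqp ((Nat.prime_dvd_prime_iff_eq hq hp).1 (hq.dvd_of_dvd_pow e))
    exact hq.one_lt.ne' (Nat.eq_one_of_dvd_coprimes h h3 h1)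

end Cfsg.Agent.S4419
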