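import Mathlib
import Cfsg.Statements.S4452
import Cfsg.Agent.Ch.CoprimeChar2
import Cfsg.Agent.GT.Conj

set_option autoImplicit false
open Cfsg

namespace Cfsg.Agent.S4452

open Ch Ch.Glb in
theorem card_coprime_degree {G : Type*} [Group G] [Finite G] (K H : Subgroup G) [K.Normal]
    (hKH : K ⊔ H = ⊤) (hcop : (Nat.card K).Coprime (Nat.card H)) :
    Nat.card {χ : IrrCharacter G // (charDegree (χ : G → ℂ)).Coprime (Nat.card H)} =
      Nat.card {θ : IrrCharacter K // Inv H (θ : K → ℂ)} * Nat.card (H →* ℂˣ) := by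
  have := Fintype.ofFinite G
  have := Fintype.ofFinite K
  have hc := GT.isComplement'_of_coprime_of_sup_eq_top hcop hKH
  have hidx : K.index = Nat.card H := hc.symm.index_eq_card
  have hinv : ∀ {θ : K → ℂ}, IsClassFunction K θ → (Inv H θ ↔ ∀ g : G, conjChar g θ = θ) := by
    intro θ hθ
    refine ⟨fun h g => funext fun n => ?_, fun h s _ a b hab => ?_⟩
    · have h1 := Inv.sup Subgroup.le_normalizer Subgroup.le_normalizer_of_normal (inv_self hθ) h
      rw [hKH] at h1
      exact h1 g trivial _ _ rfl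
    · exact (conjChar_apply_of_eq s θ a b hab).symm.trans (congrFun (h s) a)
  have hex : ∀ θ : {θ : IrrCharacter K // Inv H (θ : K → ℂ)},
      ∃ χ, IsIrrCharacter G χ ∧ ∀ n : K, χ n = (θ.1 : K → ℂ) n := fun θ =>
    extends_of_coprime_card θ.1.2 ((hinv θ.1.isClassFunction).1 θ.2) (hidx ▸ hcop)
  choose ext hext1 hext2 using hex
  have hres : ∀ θ, (fun n : K => ext θ n) = θ.1 := fun θ => funext (hext2 θ)
  have hresI : ∀ θ, IsIrrCharacter K (fun n : K => ext θ n) := fun θ => hres θ ▸ θ.1.2
  rw [← Nat.card_congr hc.symm.QuotientMulEquiv.monoidHomCongrLeftEquiv, ← Nat.card_prod]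
  symm
  refine Nat.card_congr (Equiv.ofBijective (fun x => ⟨⟨fun g =>
    (x.2.comp (QuotientGroup.mk' K) g : ℂ) * ext x.1 g, (hext1 x.1).monoidHom_mul _⟩, ?_⟩) ⟨?_, ?_⟩)
  · have h1 : charDegree (fun g => (x.2.comp (QuotientGroup.mk' K) g : ℂ) * ext x.1 g) =
        charDegree (x.1.1 : K → ℂ) := by
      rw [((hext1 x.1).monoidHom_mul _).isCharacter.charDegree_eq_iff, x.1.1.2.coe_charDegree,
        ← hext2]
      simp
    simp only [h1]
    exact hcop.coprime_dvd_left x.1.1.2.charDegree_dvd_card
  · rintro ⟨θ, lam⟩ ⟨θ', lam'⟩ h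
    have h1 : ∀ g : G, (lam g : ℂ) * ext θ g = lam' g * ext θ' g :=
      congrFun (congrArg (fun x => (x.1 : G → ℂ)) h)
    obtain rfl : θ = θ' := by
      refine Subtype.ext (Subtype.ext (funext fun n => ?_))
      have := h1 n
      rwa [(QuotientGroup.eq_one_iff (n : G)).2 n.2, map_one, map_one, mul_right_inj' (by simp),
        hext2, hext2] at this
    have h2 := gallagher_inj (hext1 θ).isCharacter (hresI θ)
      (isIrrCharacter_monoidHom_units lam).comp_mk (le_charKer_comp_mk K fun q => (lam q : ℂ))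
      (isIrrCharacter_monoidHom_units lam').comp_mk (le_charKer_comp_mk K fun q => (lam' q : ℂ))
      (funext h1)
    refine Prod.ext rfl (MonoidHom.ext fun q => ?_)
    obtain ⟨g, rfl⟩ := QuotientGroup.mk_surjective q
    exact Units.ext (congrFun h2 g)
  · rintro ⟨χ, hχ⟩
    obtain ⟨θ, hθ, h⟩ := exists_irr_under K χ.2
    obtain ⟨e, -, he, -⟩ := clifford_nat χ.2 hθ h
    have h1 := clifford_apply_one χ.2 hθ h
    rw [he, ← χ.2.coe_charDegree, ← hθ.coe_charDegree, mul_right_comm] at h1
    have h2 : (inertia K θ).index = 1 := Nat.eq_one_of_dvd_coprimes hχ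
      (Dvd.intro_left _ (by exact_mod_cast h1.symm))
      (hidx ▸ Subgroup.index_dvd_of_le (le_inertia hθ.isClassFunction))
    let θ' : {θ : IrrCharacter K // Inv H (θ : K → ℂ)} := ⟨⟨θ, hθ⟩,
      (hinv hθ.isClassFunction).2 (inertia_eq_top_iff.1 (Subgroup.index_eq_one.1 h2))⟩
    obtain ⟨β, hβ, h3⟩ := gallagher_surj_quotient (hext1 θ').isCharacter (hresI θ') χ.2
      (by rwa [hres])
    have h4 : charDegree β = 1 := by
      refine Nat.eq_one_of_dvd_coprimes hχ ⟨charDegree (ext θ'), ?_⟩
        (hidx ▸ hβ.charDegree_dvd_card)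
      apply Nat.cast_injective (R := ℂ)
      rw [χ.2.coe_charDegree, Nat.cast_mul, hβ.coe_charDegree, (hext1 θ').coe_charDegree, h3]
      rfl
    obtain ⟨lam, rfl⟩ := hβ.isCharacter.exists_monoidHom_of_apply_one
      (hβ.isCharacter.charDegree_eq_one_iff.1 h4)
    exact ⟨(θ', lam), Subtype.ext (Subtype.ext (funext fun g => (h3 g).symm))⟩

/-- Let the finite group G be the product of a normal subgroup K and a solvable subgroup H of coprime orders, and let N = N_G(H). Then the number of irreducible characters of G of degree coprime to the order of H equals the number of irreducible characters of N of degree coprime to the order of H. (The two sets are in fact in a canonical bijection; only the equality of their sizes is stated here.) -/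
theorem result {G : Type*} [Group G] [Finite G] (K H : Subgroup G) [K.Normal] (hKH : K ⊔ H = ⊤) (hcop : (Nat.card K).Coprime (Nat.card H)) (hsolv : Group.IsSolvable H) : Nat.card {χ : Cfsg.IrrCharacter G // (Cfsg.charDegree (χ : G → ℂ)).Coprime (Nat.card H)} = Nat.card {η : Cfsg.IrrCharacter (Subgroup.normalizer (H : Set G)) // (Cfsg.charDegree (η : Subgroup.normalizer (H : Set G) → ℂ)).Coprime (Nat.card H)} := by
  set N := Subgroup.normalizer (H : Set G) with hN
  have hHN : H ≤ N := Subgroup.le_normalizer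
  have hc := GT.isComplement'_of_coprime_of_sup_eq_top hcop hKH
  have hC : K ⊓ N = K ⊓ Subgroup.centralizer (H : Set G) :=
    GT.CopAct.inf_normalizer_eq_inf_centralizer Subgroup.le_normalizer_of_normal
      hc.symm.disjoint.eq_bot
  have h1 : K.subgroupOf N ⊔ H.subgroupOf N = ⊤ := by
    apply Subgroup.map_injective N.subtype_injective
    rw [Subgroup.map_sup, Subgroup.subgroupOf_map_subtype, Subgroup.subgroupOf_map_subtype,
      inf_eq_left.2 hHN, sup_comm, inf_comm, ← GT.inf_sup_eq_of_normal_right hHN, sup_comm, hKH,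
      inf_top_eq, ← MonoidHom.range_eq_map, Subgroup.range_subtype]
  have h2 := card_coprime_degree (K.subgroupOf N) (H.subgroupOf N) h1 (by
    rw [Ch.card_subgroupOf_eq hHN, ← Subgroup.inf_subgroupOf_right,
      Ch.card_subgroupOf_eq inf_le_right]
    exact hcop.coprime_dvd_left (Subgroup.card_dvd_of_le inf_le_left))
  rw [Ch.card_subgroupOf_eq hHN] at h2
  rw [h2, card_coprime_degree K H hKH hcop,
    Ch.Glb.card_inv_solvable hsolv Subgroup.le_normalizer_of_normal hcop,
    Nat.card_congr (Subgroup.subgroupOfEquivOfLe hHN).monoidHomCongrLeftEquiv, ← hC]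
  congr 1
  rw [Nat.card_congr (Ch.irrCongr (Subgroup.subgroupOfEquivOfLe (inf_le_right : K ⊓ N ≤ N))),
    Subgroup.inf_subgroupOf_right]
  refine (Nat.card_congr (Equiv.subtypeUnivEquiv fun θ =>
    Ch.Glb.inv_of_le_centralizer _ fun h hh k hk => Subtype.ext ?_)).symm
  have : (k : G) ∈ K ⊓ Subgroup.centralizer (H : Set G) := hC ▸ ⟨hk, k.2⟩
  exact (this.2 h hh).symm

end Cfsg.Agent.S4452
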