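import Mathlib
import Cfsg.Statements.S4501
import Cfsg.Agent.FG.C1Base
import Cfsg.Agent.Ch.Burnside
import Cfsg.Agent.S0904
import Cfsg.Agent.S0494
import Cfsg.Agent.S3331

set_option autoImplicit false
open Cfsg

namespace Cfsg.Agent.S4501

theorem arith {m p q a b : ℕ} (hp : p.Prime) (hq : q.Prime) (hp2 : p ≠ 2) (hq2 : q ≠ 2)
    (hm : 2 ≤ m) (h : (2 * m + 1) * m * (m + 1) = 2 * (p ^ a * q ^ b)) : m = 2 := by
  by_contra hm2
  have h4 : ¬ 4 ∣ 2 * (p ^ a * q ^ b) := by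
    have := ((hp.odd_of_ne_two hp2).pow (n := a)).mul ((hq.odd_of_ne_two hq2).pow (n := b))
    rw [Nat.odd_iff] at this
    omega
  have key : ∀ n, 3 ≤ n → n ∣ 2 * (p ^ a * q ^ b) → p ∣ n ∨ q ∣ n := fun n hn hd => by
    obtain ⟨r, hr, hrn, hr2⟩ : ∃ r, r.Prime ∧ r ∣ n ∧ r ≠ 2 := by
      rcases Nat.four_dvd_or_exists_odd_prime_and_dvd_of_two_lt hn with e | ⟨r, hr, hrn, ho⟩
      · exact absurd (e.trans hd) h4
      · exact ⟨r, hr, hrn, by rintro rfl; norm_num at ho⟩
    rcases hr.dvd_mul.mp (hrn.trans hd) with e | e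
    · exact absurd ((Nat.prime_dvd_prime_iff_eq hr Nat.prime_two).mp e) hr2
    rcases hr.dvd_mul.mp e with e | e
    · exact Or.inl ((Nat.prime_dvd_prime_iff_eq hr hp).mp (hr.dvd_of_dvd_pow e) ▸ hrn)
    · exact Or.inr ((Nat.prime_dvd_prime_iff_eq hr hq).mp (hr.dvd_of_dvd_pow e) ▸ hrn)
  have k1 := key (2 * m + 1) (by omega) (h ▸ ⟨m * (m + 1), by ring⟩)
  have k2 := key m (by omega) (h ▸ ⟨(2 * m + 1) * (m + 1), by ring⟩)
  have k3 := key (m + 1) (by omega) (h ▸ ⟨(2 * m + 1) * m, by ring⟩)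
  have c : ∀ r : ℕ, r.Prime → (r ∣ 2 * m + 1 → r ∣ m → False) ∧
      (r ∣ 2 * m + 1 → r ∣ m + 1 → False) ∧ (r ∣ m → r ∣ m + 1 → False) := fun r hr =>
    ⟨fun h1 h2 => hr.not_dvd_one ((Nat.dvd_add_right (h2.mul_left 2)).mp h1),
      fun h1 h2 => hr.not_dvd_one ((Nat.dvd_add_right h1).mp (by
        rw [show 2 * m + 1 + 1 = 2 * (m + 1) by ring]; exact h2.mul_left 2)),
      fun h1 h2 => hr.not_dvd_one ((Nat.dvd_add_right h1).mp h2)⟩
  have c1 := c p hp
  have c2 := c q hq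
  tauto

/-- Let G be a non-abelian finite simple group and p, q distinct primes. If the order of G is 4·p^a·q^b with a ≤ 2, then G is isomorphic to the alternating group of degree 5. If the order of G is 3·p^a·q^b with a ≤ 2, then G is isomorphic to the alternating group of degree 5 or to PSL(2,7). -/
theorem result {G : Type*} [Group G] [Finite G] [IsSimpleGroup G] (hna : ∃ x y : G, x * y ≠ y * x) (p q a b : ℕ) (hp : p.Prime) (hq : q.Prime) (hpq : p ≠ q) (ha : a ≤ 2) : (Nat.card G = 4 * p ^ a * q ^ b → Nonempty (G ≃* alternatingGroup (Fin 5))) ∧ (Nat.card G = 3 * p ^ a * q ^ b → Nonempty (G ≃* alternatingGroup (Fin 5)) ∨ Nonempty (G ≃* Matrix.ProjectiveSpecialLinearGroup (Fin 2) (ZMod 7))) := by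
  have hG : ¬ IsMulCommutative G := fun h => by
    obtain ⟨x, y, e⟩ := hna
    exact e (mul_comm' x y)
  have hs : ¬ Group.IsSolvable G := fun h =>
    hG ⟨⟨IsSimpleGroup.comm_iff_isSolvable.mpr h⟩⟩
  have two : ∀ r c : ℕ, r.Prime → Nat.card G = r ^ c * p ^ a * q ^ b → p ≠ r ∧ q ≠ r := by
    refine fun r c hr h => ⟨?_, ?_⟩ <;> rintro rfl
    · exact hs (Ch.burnside_isSolvable_of_card_eq (a := c + a) hp hq (by rw [h, pow_add]))
    · exact hs (Ch.burnside_isSolvable_of_card_eq (a := a) (b := c + b) hp hq (by rw [h]; ring))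
  refine ⟨fun h => ?_, fun h => ?_⟩
  · obtain ⟨p2, q2⟩ := two 2 2 Nat.prime_two h
    obtain ⟨F, _, _, ⟨m, hm⟩, h3, ⟨e⟩⟩ := FG.C1.simple_of_four hG
      (((hp.odd_of_ne_two p2).pow (n := a)).mul ((hq.odd_of_ne_two q2).pow (n := b)))
      (h.trans (mul_assoc _ _ _))
    have e1 := FG.C1.card_psl_odd ⟨m, hm⟩
    rw [← Nat.card_congr e.toEquiv, hm, Nat.add_sub_cancel] at e1
    obtain rfl := arith (m := m) (a := a) (b := b) hp hq p2 q2 (by omega) (by
      rw [h] at e1; nlinarith)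
    exact S0494.result (by omega)
  · obtain ⟨p3, q3⟩ := two 3 1 Nat.prime_three h
    have : Fact (Nat.Prime 3) := ⟨Nat.prime_three⟩
    obtain ⟨S⟩ : Nonempty (Sylow 3 G) := inferInstance
    have hS : Nat.card S = 3 := by
      have c : ∀ r n : ℕ, r.Prime → r ≠ 3 → (r ^ n).factorization 3 = 0 := fun r n hr h3 => by
        rw [hr.factorization_pow, Finsupp.single_eq_of_ne h3.symm]
      rw [S.card_eq_multiplicity, h, Nat.factorization_mul (by have := hp.pos; positivity)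
        (by have := hq.pos; positivity), Nat.factorization_mul (by norm_num)
        (by have := hp.pos; positivity), Finsupp.add_apply, Finsupp.add_apply, c p a hp p3,
        c q b hq q3, Nat.Prime.factorization_self Nat.prime_three]
      rfl
    have q0 : ∀ (N : Subgroup G) [N.Normal], Group.IsSolvable N → Nonempty (G ≃* G ⧸ N) := by
      intro N hN hsol
      rcases hN.eq_bot_or_eq_top with rfl | rfl
      · exact ⟨QuotientGroup.quotientBot.symm⟩
      · exact absurd (Group.isSolvable_of_surjective (f := (⊤ : Subgroup G).subtype)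
          fun g => ⟨⟨g, trivial⟩, rfl⟩) hs
    rcases S3331.result (S : Subgroup G) hS (S0904.result p q 3 a b hp hq hpq p3 q3
      (by rw [h]; ring) S) with ⟨N, _, h1, -, h2⟩ | ⟨N, _, h1, -, ⟨e⟩⟩ | h1
    · obtain ⟨f⟩ := q0 N inferInstance
      refine absurd (Ch.burnside_isSolvable_of_card_dvd (a := 1) (b := 1) Nat.prime_two
        Nat.prime_three ?_) hs
      rw [Nat.card_congr f.toEquiv]
      rcases h2 with h2 | ⟨⟨e⟩⟩
      · rw [h2]; norm_num
      · rw [Nat.card_congr e.toEquiv, Nat.card_perm, Nat.card_fin]; rfl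
    · obtain ⟨f⟩ := q0 N (Group.isSolvable_of_comm fun a b => mul_comm' a b)
      exact Or.inl ⟨f.trans e⟩
    · exact Or.inr h1

end Cfsg.Agent.S4501
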