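import Cfsg.Statements.S4542
import Cfsg.Agent.KB.Central

set_option autoImplicit false
open Cfsg

namespace Cfsg.Agent.S4542

/-- Let B be a p-block of the finite group G (relative to a maximal ideal M of the algebraic integers containing p) with defect group D, and suppose D has a cyclic subgroup Z, central in D, of index at most 16 in D. Then B contains at most as many irreducible characters as D has elements (Brauer's k(B) bound holds for B); in particular this covers every 2-block of defect at most 5. -/
theorem result {G : Type*} [Group G] [Finite G] (p : ℕ) [Fact p.Prime] (M : Ideal Cfsg.AlgInt) (hM : Cfsg.IsPModular p M) (B : Set (Cfsg.IrrCharacter G)) (hB : Cfsg.IsPBlock M B) (D : Subgroup G) (hD : Cfsg.IsDefectGroup p M B D) (Z : Subgroup G) (hZD : Z ≤ D) (hZc : ∀ z ∈ Z, ∀ d ∈ D, z * d = d * z) (hcyc : IsCyclic Z) (hidx : Z.relIndex D ≤ 16) : Nat.card B ≤ Nat.card D := by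
  haveI := Fintype.ofFinite G
  haveI := hM.2.1
  obtain ⟨e, h⟩ := KB.exists_mp hM hB hD
  obtain ⟨u, hu⟩ := hcyc.exists_generator
  have h1 : Subgroup.zpowers (⟨u, hZD u.2⟩ : D) = Z.subgroupOf D := by
    rw [← KB.zpowers_subgroupOf]
    congr 1
    refine le_antisymm (Subgroup.zpowers_le.2 u.2) fun z hz => ?_
    obtain ⟨k, hk⟩ := hu ⟨z, hz⟩
    exact ⟨k, congrArg Z.subtype hk⟩
  exact h.card_le_of_central (v := ⟨u, hZD u.2⟩) (Subgroup.mem_center_iff.2 fun d =>
    Subtype.ext (hZc u u.2 d d.2).symm) (h1 ▸ hidx)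

end Cfsg.Agent.S4542
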