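import Cfsg.Statements.S4544
import Cfsg.Agent.KB.Final

set_option autoImplicit false
open Cfsg

namespace Cfsg.Agent.S4544

/-- Let B be a 2-block of the finite group G (relative to a maximal ideal M of the algebraic integers containing 2) whose defect group D contains a cyclic subgroup of index at most 4 in D. Then B contains at most as many irreducible characters as D has elements. -/
theorem result {G : Type*} [Group G] [Finite G] (M : Ideal Cfsg.AlgInt) (hM : Cfsg.IsPModular 2 M) (B : Set (Cfsg.IrrCharacter G)) (hB : Cfsg.IsPBlock M B) (D : Subgroup G) (hD : Cfsg.IsDefectGroup 2 M B D) (C : Subgroup G) (hCD : C ≤ D) (hcyc : IsCyclic C) (hidx : C.relIndex D ≤ 4) : Nat.card B ≤ Nat.card D := by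
  haveI := Fintype.ofFinite G
  haveI := hM.2.1
  obtain ⟨e, h⟩ := KB.exists_mp hM hB hD
  obtain ⟨u, hu⟩ := hcyc.exists_generator
  have h1 : Subgroup.zpowers (⟨u, hCD u.2⟩ : D) = C.subgroupOf D := by
    rw [← KB.zpowers_subgroupOf]
    congr 1
    refine le_antisymm (Subgroup.zpowers_le.2 u.2) fun z hz => ?_
    obtain ⟨k, hk⟩ := hu ⟨z, hz⟩
    exact ⟨k, congrArg C.subtype hk⟩
  exact h.card_le_of_cyclic (a := ⟨u, hCD u.2⟩) (h1 ▸ hidx)

end Cfsg.Agent.S4544
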