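import Mathlib
import Cfsg.Statements.S4558
import Cfsg.Agent.Ch.Basic
import Cfsg.Agent.Blk.Local2

set_option autoImplicit false
open Cfsg

namespace Cfsg.Agent.S4558

/-- Let χ be a character of the finite group G and g an element of p-power order for the prime p. If χ g = 0, then p divides the degree of χ. -/
theorem result {G : Type*} [Group G] [Finite G] (p : ℕ) [Fact p.Prime] (χ : G → ℂ) (hχ : Cfsg.IsCharacter G χ) (g : G) (hg : ∃ j : ℕ, orderOf g = p ^ j) (h0 : χ g = 0) : p ∣ Cfsg.charDegree χ := by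
  obtain ⟨M, hM⟩ := Blk.exists_isPModular (p := p) Fact.out
  have := hM.isMaximal
  obtain ⟨j, hj⟩ := hg
  obtain ⟨μ, h1, h2⟩ := hχ.exists_roots_nat g
  have h3 := h2 1
  simp only [pow_one] at h3
  have h4 : Blk.red M (χ g) = (Cfsg.charDegree χ : Blk.Res M) := by
    rw [h3, Blk.red_sum (fun i _ => Blk.memLocalRing_of_pow_eq_one (orderOf_pos g).ne' (h1 i))]
    rw [Finset.sum_congr rfl (fun i _ => hM.red_eq_one_of_pow_prime_pow (k := j) (hj ▸ h1 i))]
    simp
  rw [h0, Blk.red_zero] at h4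
  exact (hM.natCast_res_eq_zero_iff _).mp h4.symm

end Cfsg.Agent.S4558
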