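import Mathlib
import Cfsg.Statements.S4564
import Cfsg.Agent.Ch.Gagola

set_option autoImplicit false
open Cfsg

namespace Cfsg.Agent.S4564

/-- Let χ be an irreducible character of the finite group H that is fully ramified over the normal subgroup Z: the restriction of χ to Z is e times an irreducible character of Z with e ^ 2 equal to the index of Z. Let K be a normal subgroup of H containing Z and P a cyclic Sylow p-subgroup of H/K. Then P has a complement in H/K: a subgroup meeting P trivially whose product with P is the whole group. -/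
theorem result {H : Type*} [Group H] [Finite H] (Z : Subgroup H) [Z.Normal] (χ : Cfsg.IrrCharacter H) (hfr : ∃ (θ : Cfsg.IrrCharacter ↥Z) (e : ℕ), e ^ 2 = Z.index ∧ ∀ z : ↥Z, (χ : H → ℂ) z = (e : ℂ) * (θ : ↥Z → ℂ) z) (K : Subgroup H) [K.Normal] (hZK : Z ≤ K) (p : ℕ) [Fact p.Prime] (P : Sylow p (H ⧸ K)) (hcyc : IsCyclic P) : ∃ M : Subgroup (H ⧸ K), M.IsComplement' (P : Subgroup (H ⧸ K)) := by
  obtain ⟨θ, e, he, hr⟩ := hfr
  have := Fintype.ofFinite Z
  have := Fintype.ofFinite H
  obtain ⟨M, hM⟩ := Ch.gagola_complement χ.2 θ.2 he hr hZK p (Or.inl fun S =>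
    isCyclic_of_surjective _ (P.equiv S).surjective)
  rw [← P.card_eq_multiplicity] at hM
  have h1 : Nat.card M * Nat.card P = Nat.card (H ⧸ K) := by rw [← hM, M.card_mul_index]
  refine ⟨M, Subgroup.isComplement'_of_coprime h1 ?_⟩
  have h2 : Nat.card M = (P : Subgroup (H ⧸ K)).index := by
    refine Nat.eq_of_mul_eq_mul_right (Nat.card_pos (α := P)) ?_
    rw [h1, Subgroup.index_mul_card]
  rw [h2]
  exact P.card_coprime_index.symm

end Cfsg.Agent.S4564
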