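import Cfsg.Statements.S4567
import Cfsg.Agent.Deg.McK2
-- import your own Cfsg.Agent.* helpers here

set_option autoImplicit false
open Cfsg

namespace Cfsg.Agent.S4567

open Cfsg.Agent.Ch Cfsg.Agent.Deg
open scoped ComplexConjugate commutatorElement

/-- Let N be a central subgroup of the finite group G and ψ a faithful irreducible (hence degree-one) character of N. Call a coset g N special when every x ∈ G whose commutator x⁻¹ g⁻¹ x g lies in N actually commutes with g (this depends only on the coset). Then the number of irreducible characters of G whose restriction to N contains ψ equals the number of conjugacy classes of G/N consisting of special cosets. -/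
theorem result {G : Type*} [Group G] [Fintype G] (N : Subgroup G) [N.Normal] [Fintype N] (hN : N ≤ Subgroup.center G) (ψ : Cfsg.IrrCharacter ↥N) (hfaith : ∀ n : ↥N, (ψ : ↥N → ℂ) n = (ψ : ↥N → ℂ) 1 → n = 1) : Nat.card {χ : Cfsg.IrrCharacter G // Cfsg.classInner (fun n : ↥N => (χ : G → ℂ) n) (ψ : ↥N → ℂ) ≠ 0} = Nat.card {C : ConjClasses (G ⧸ N) // ∃ g : G, ConjClasses.mk (g : G ⧸ N) = C ∧ ∀ x : G, x⁻¹ * g⁻¹ * x * g ∈ N → x * g = g * x} := by
  classical
  obtain ⟨μ, hμ⟩ := ψ.2.exists_monoidHom_of_comm fun a b =>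
    Subtype.ext ((Subgroup.mem_center_iff.1 (hN b.2)) a)
  have hinv : ∀ (g : G) (w : N), μ ⟨g * w * g⁻¹, ‹N.Normal›.conj_mem w w.2 g⟩ = μ w := by
    intro g w
    congr 1
    apply Subtype.ext
    change g * w * g⁻¹ = w
    rw [Subgroup.mem_center_iff.1 (hN w.2) g, mul_inv_cancel_right]
  have hf : ∀ w : N, μ w = 1 → w = 1 := fun w h => hfaith w (by rw [hμ]; simp [h])
  have h1 := card_ov_lin μ hinv
  let S : ConjClasses (G ⧸ N) → Prop := fun C => ∃ g : G, ConjClasses.mk (g : G ⧸ N) = C ∧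
    ∀ x : G, x⁻¹ * g⁻¹ * x * g ∈ N → x * g = g * x
  have hgood : ∀ a : G, (∀ c (h : ⁅a, c⁆ ∈ N), μ ⟨_, h⟩ = 1) ↔ S (ConjClasses.mk (a : G ⧸ N)) := by
    intro a
    constructor
    · intro h
      refine ⟨a, rfl, fun x hx => ?_⟩
      have h2 : ⁅a, x⁻¹⁆ ∈ N := by
        have := ‹N.Normal›.conj_mem _ hx a
        convert this using 1
        simp only [commutatorElement_def]; group
      have h3 := congrArg Subtype.val (hf _ (h _ h2))
      have h4 : Commute a x⁻¹ := commutatorElement_eq_one_iff_commute.1 h3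
      exact (Commute.inv_right_iff.1 h4).eq.symm
    · rintro ⟨g, hg, h⟩ c hc
      obtain ⟨y, hy⟩ := isConj_iff.1 (ConjClasses.mk_eq_mk_iff_isConj.1 hg)
      obtain ⟨y, rfl⟩ := QuotientGroup.mk_surjective y
      have h2 : (y * g * y⁻¹)⁻¹ * a ∈ N := QuotientGroup.eq.1 hy
      set n := (y * g * y⁻¹)⁻¹ * a with hn
      have hz := Subgroup.mem_center_iff.1 (hN h2)
      have ha : a = y * g * y⁻¹ * n := by rw [hn]; group
      have h3 : ⁅a, c⁆ = y * ⁅g, y⁻¹ * c * y⁆ * y⁻¹ := by
        rw [ha]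
        simp only [commutatorElement_def]
        have : y * g * y⁻¹ * n * c = y * g * y⁻¹ * c * n := by
          rw [mul_assoc _ n c, ← hz c, mul_assoc _ c n]
        rw [this]; group
      have h4 : ⁅g, y⁻¹ * c * y⁆ ∈ N := by
        have := ‹N.Normal›.conj_mem _ hc y⁻¹
        rw [h3] at this
        convert this using 1
        group
      have h5 := h (y⁻¹ * c * y)⁻¹ (by
        have h8 := ‹N.Normal›.conj_mem _ h4 g⁻¹
        convert h8 using 1
        simp only [commutatorElement_def]; group)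
      have h6 : Commute g (y⁻¹ * c * y) := Commute.inv_right_iff.1 h5.symm
      have h7 : ⁅a, c⁆ = 1 := by rw [h3, h6.commutator_eq]; group
      have : (⟨⁅a, c⁆, hc⟩ : N) = 1 := Subtype.ext h7
      rw [this, map_one]
  have h2 := card_pairs_preimage (QuotientGroup.mk' N) (QuotientGroup.mk'_surjective N)
    fun x y => ⁅x, y⁆ = 1 ∧ S (ConjClasses.mk x)
  rw [card_comm_pairs, QuotientGroup.ker_mk'] at h2
  have h3 : Nat.card {x : G × G // ⁅x.1, x.2⁆ ∈ N ∧ ∀ c (h : ⁅x.1, c⁆ ∈ N), μ ⟨_, h⟩ = 1} =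
      Nat.card {x : G × G // ⁅QuotientGroup.mk' N x.1, QuotientGroup.mk' N x.2⁆ = 1 ∧
        S (ConjClasses.mk (QuotientGroup.mk' N x.1))} := by
    refine Nat.card_congr (Equiv.subtypeEquivRight fun x => and_congr ?_ (hgood _))
    rw [← map_commutatorElement, QuotientGroup.mk'_apply, QuotientGroup.eq_one_iff]
  rw [h3, h2, Subgroup.card_eq_card_quotient_mul_card_subgroup N] at h1
  have h4 : Nat.card {χ : Cfsg.IrrCharacter G // Cfsg.classInner (fun n : ↥N => (χ : G → ℂ) n) (ψ : ↥N → ℂ) ≠ 0} =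
      Nat.card {χ : IrrCharacter G // Ov N.subtype χ.1 fun w => μ w} :=
    Nat.card_congr (Equiv.subtypeEquivRight fun χ => by rw [ov_iff, ← hμ]; rfl)
  rw [h4]
  have hpos : 0 < Nat.card (G ⧸ N) * Nat.card N * Nat.card N :=
    Nat.mul_pos (Nat.mul_pos Nat.card_pos Nat.card_pos) Nat.card_pos
  refine Nat.eq_of_mul_eq_mul_right hpos (h1.trans ?_)
  ring

end Cfsg.Agent.S4567
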