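import Cfsg.Statements.S4591
import Cfsg.Agent.Blk.PowFix
import Cfsg.Agent.Ch.GlaubPGroup
import Cfsg.Agent.Ch.RealChar
import Cfsg.Agent.Deg.Basic
import Cfsg.Agent.Ch.Quotient
import Cfsg.Agent.GT.TransferPNilp
import Cfsg.Agent.FG.SylowNormal
import Cfsg.Agent.GT.PGroupChain
-- import your own Cfsg.Agent.* helpers here

set_option autoImplicit false
open Cfsg

namespace Cfsg.Agent.S4591

theorem apply_eq_of_ker {G : Type*} [Group G] [Finite G] {p : ℕ} [hp : Fact p.Prime]
    {K H : Subgroup G}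
    (hK : ∀ χ : G → ℂ, IsIrrCharacter G χ → ¬ p ∣ charDegree χ → K ≤ Ch.charKer χ)
    (hH : ¬ p ∣ H.index) {η : H → ℂ} (hη : IsIrrCharacter H η) (hd : ¬ p ∣ charDegree η)
    (x : H) (hx : (x : G) ∈ K) : η x = η 1 := by
  classical
  have := Fintype.ofFinite G
  obtain ⟨φ, m, hφ, hm, hpm⟩ := Ch.RC.exists_constituent_not_dvd (p := p)
    (Ch.isCharacter_indFun H hη.isCharacter) (by
      rw [Deg.charDegree_indFun H hη.isCharacter]
      exact fun h => (hp.out.dvd_mul.mp h).elim hH hd)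
  rw [Ch.classInner_indFun_eq_res H hη.isCharacter hφ.isCharacter] at hm
  have h1 := (hφ.isCharacter.restrict H).charKer_le_of_constituent hη (by
    rw [hm]; rintro h
    rw [Nat.cast_eq_zero.mp h, zero_mul] at hpm
    exact hpm (dvd_zero _))
  rw [hφ.isCharacter.charKer_restrict] at h1
  exact hη.mem_charKer.mp (h1 (hK φ hφ (fun h => hpm (h.mul_left _)) hx))

theorem exists_extends_sup {G : Type*} [Group G] [Finite G] {p : ℕ} [hp : Fact p.Prime]
    {L P : Subgroup G} [L.Normal] (hP : IsPGroup p P) (hL : pResidual p L = ⊤) {θ : L → ℂ}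
    (hθ : IsIrrCharacter L θ) (hinv : P ≤ Ch.inertia L θ) (hd : ¬ p ∣ charDegree θ) :
    ∃ η : ↥(L ⊔ P) → ℂ, IsIrrCharacter _ η ∧
      ∀ n : L, η ⟨n, Subgroup.mem_sup_left n.2⟩ = θ n := by
  have hθ' := Ch.isIrrCharacter_subgroupOf (le_sup_left : L ≤ L ⊔ P) hθ
  have hI : L ⊔ P ≤ Ch.inertia L θ :=
    sup_le (Ch.le_inertia hθ.isCharacter.isClassFunction) hinv
  obtain ⟨η, hη, hext⟩ := Ch.extends_of_coprime hθ' (fun g n =>
    Ch.mem_inertia.mp (hI g.2) ⟨n, n.2⟩) (by
      obtain ⟨a, ha⟩ := hP.exists_card_eq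
      have h1 : (L.subgroupOf (L ⊔ P)).index ∣ p ^ a := by
        rw [← Subgroup.relIndex, Subgroup.relIndex_sup_left, ← ha]
        exact Subgroup.relIndex_dvd_card _ _
      refine Nat.Coprime.coprime_dvd_left h1 (Nat.Coprime.pow_left _
        ((Nat.Prime.coprime_iff_not_dvd hp.out).mpr fun h => (hp.out.dvd_mul.mp h).elim ?_ ?_))
      · obtain ⟨f, hf⟩ := hθ'.isCharacter.exists_detHom
        rw [hθ'.isCharacter.detOrder_eq hf]
        refine Ch.degT_not_dvd_orderOf_hom hp.out ?_ f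
        have := GT.map_pResidual_of_surjective (p := p)
          (f := (Subgroup.subgroupOfEquivOfLe (le_sup_left : L ≤ L ⊔ P)).symm.toMonoidHom)
          (MulEquiv.surjective _)
        rw [← this, hL, Subgroup.map_top_of_surjective _ (MulEquiv.surjective _)]
      · exact hd)
  exact ⟨η, hη, fun n => hext ⟨⟨n, Subgroup.mem_sup_left n.2⟩, n.2⟩⟩

theorem sum_modEq {G : Type*} [Group G] [Finite G] {p : ℕ} [Fact p.Prime] {N : Subgroup G}
    [N.Normal] {P : Subgroup G} (hP : IsPGroup p P) (F : IrrCharacter N → ℕ)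
    [DecidablePred fun θ : IrrCharacter N => ∀ x ∈ P, Ch.conjChar x (θ : N → ℂ) = θ]
    (hF : ∀ (x : G) (θ φ : IrrCharacter N), (φ : N → ℂ) = Ch.conjChar x θ → F φ = F θ) :
    ∑ θ, F θ ≡ ∑ θ ∈ Finset.univ.filter
      (fun θ : IrrCharacter N => ∀ x ∈ P, Ch.conjChar x (θ : N → ℂ) = θ), F θ [MOD p] := by
  classical
  rw [← Finset.sum_fiberwise_of_maps_to (t := Finset.univ.image F) (g := F)
      (fun θ _ => Finset.mem_image_of_mem _ (Finset.mem_univ θ)),
    ← Finset.sum_fiberwise_of_maps_to (t := Finset.univ.image F) (g := F)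
      (s := Finset.univ.filter _) (fun θ _ => Finset.mem_image_of_mem _ (Finset.mem_univ θ))]
  refine Nat.ModEq.sum fun d _ => ?_
  rw [Finset.sum_const_nat (m := d) (fun θ h => (Finset.mem_filter.mp h).2),
    Finset.sum_const_nat (m := d) (fun θ h => (Finset.mem_filter.mp h).2)]
  refine Nat.ModEq.mul_right _ ?_
  have := Blk.PF.card_conj_fixed_modEq (N := N) hP (fun θ => F θ = d)
    (fun x _ θ φ h h' => (hF x θ φ h').trans h)
  rw [Nat.card_eq_fintype_card, Nat.card_eq_fintype_card, Fintype.card_subtype,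
    Fintype.card_subtype] at this
  convert this using 2
  ext θ
  simp [and_comm]

theorem inf_centralizer_eq_bot_iff {G : Type*} [Group G] [Finite G] {p : ℕ} [hp : Fact p.Prime]
    {L P : Subgroup G} [L.Normal] (hP : IsPGroup p P) (hL : ¬ p ∣ Nat.card L) :
    L ⊓ Subgroup.centralizer (P : Set G) = ⊥ ↔
      ∀ θ : L → ℂ, IsIrrCharacter L θ → P ≤ Ch.inertia L θ → θ = fun _ => 1 := by
  have hs : Group.IsSolvable P := by
    have := hP.isNilpotent
    infer_instance
  have h1 := Ch.Glb.card_inv_solvable (G := L) hs (by rw [Subgroup.normalizer_eq_top (H := L)]; exact le_top)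
    (by
      obtain ⟨a, ha⟩ := hP.exists_card_eq
      rw [ha]
      exact Nat.Coprime.pow_right _ ((Nat.Prime.coprime_iff_not_dvd hp.out).mpr hL).symm)
  have h2 : ∀ θ : L → ℂ, Ch.Glb.Inv P θ ↔ P ≤ Ch.inertia L θ := fun θ =>
    ⟨fun h x hx => Ch.mem_inertia.mpr fun n => h x hx n _ rfl, fun h x hx n n' hn => by
      rw [← Ch.mem_inertia.mp (h hx) n]
      exact congrArg θ (Subtype.ext hn)⟩
  constructor
  · intro h θ hθ hinv
    have : Subsingleton (ConjClasses (⊥ : Subgroup G)) := ConjClasses.mk_surjective.subsingleton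
    rw [h, Ch.card_irr, Nat.card_unique (α := ConjClasses _), Nat.card_eq_one_iff_unique] at h1
    have := h1.1.elim ⟨⟨θ, hθ⟩, (h2 θ).mpr hinv⟩ ⟨Ch.irrOne L, fun _ _ _ _ _ => rfl⟩
    exact congrArg (fun x => ((Subtype.val x : IrrCharacter L) : L → ℂ)) this
  · intro h
    have h3 : Nat.card {χ : IrrCharacter L // Ch.Glb.Inv P (χ : L → ℂ)} = 1 :=
      Nat.card_eq_one_iff_unique.mpr ⟨⟨fun a b => Subtype.ext (Subtype.ext
        ((h _ a.1.2 ((h2 _).mp a.2)).trans (h _ b.1.2 ((h2 _).mp b.2)).symm))⟩,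
        ⟨⟨Ch.irrOne L, fun _ _ _ _ _ => rfl⟩⟩⟩
    rw [h3, eq_comm, Nat.card_eq_one_iff_unique] at h1
    rw [Subgroup.eq_bot_iff_forall]
    intro x hx
    have := Ch.eq_one_of_forall_irr (g := (⟨x, hx⟩ : ↥(L ⊓ Subgroup.centralizer (P : Set G))))
      fun χ => by rw [h1.1.elim χ (Ch.irrOne _)]; rfl
    exact congrArg Subtype.val this


/-- Let G be a finite group, p a prime and P a Sylow p-subgroup, and let N be the largest normal subgroup of G in which P has trivial centralizer (N is normal with C_N(P) = 1 and contains every normal subgroup with that property). Then the intersection of the kernels of the irreducible characters of G of degree prime to p is the normal core in G of the subgroup N·P' (P' the derived subgroup of P). In particular, when G has no nontrivial normal subgroup of order prime to p, that intersection is the normal core of P'. -/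
theorem result {G : Type*} [Group G] [Finite G] (p : ℕ) [Fact p.Prime] (P : Sylow p G) (N : Subgroup G) [N.Normal]
    (hN : N ⊓ Subgroup.centralizer ((P : Subgroup G) : Set G) = ⊥)
    (hmax : ∀ L : Subgroup G, L.Normal → L ⊓ Subgroup.centralizer ((P : Subgroup G) : Set G) = ⊥ → L ≤ N) :
    {g : G | ∀ χ : Cfsg.IrrCharacter G, ¬ p ∣ Cfsg.charDegree (χ : G → ℂ) → (χ : G → ℂ) g = (χ : G → ℂ) 1} =
      ((N ⊔ ⁅(P : Subgroup G), (P : Subgroup G)⁆).normalCore : Set G) := by
  classical
  have hp : p.Prime := Fact.out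
  have := Fintype.ofFinite G
  ext g
  simp only [Set.mem_ofPred_eq, SetLike.mem_coe]
  constructor
  · intro hg
    set K : Subgroup G := ⨅ χ : {χ : IrrCharacter G // ¬ p ∣ charDegree (χ : G → ℂ)},
      Ch.charKer (χ.1 : G → ℂ) with hKdef
    have hKn : K.Normal := Subgroup.normal_iInf_normal fun χ => χ.1.2.isCharacter.charKer_normal
    have hK : ∀ χ : G → ℂ, IsIrrCharacter G χ → ¬ p ∣ charDegree χ → K ≤ Ch.charKer χ :=
      fun χ h1 h2 => iInf_le_of_le ⟨⟨χ, h1⟩, h2⟩ le_rfl
    have hgK : g ∈ K := Subgroup.mem_iInf.mpr fun χ => χ.1.2.mem_charKer.mpr (hg χ.1 χ.2)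
    refine (Subgroup.normal_le_normalCore.mpr ?_ : K ≤ _) hgK
    set L := pResidualOf p K with hLdef
    have : L.Normal := GT.pResidualOf_normal K
    have hLK : L ≤ K := GT.pResidualOf_le K
    have hLr : pResidual p L = ⊤ := by
      have := GT.pResidualOf_pResidualOf (p := p) K
      rw [← hLdef, pResidualOf] at this
      apply Subgroup.map_injective L.subtype_injective
      rw [this, ← MonoidHom.range_eq_map, Subgroup.range_subtype]
    have htriv : ∀ θ : L → ℂ, IsIrrCharacter L θ → (P : Subgroup G) ≤ Ch.inertia L θ →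
        ¬ p ∣ charDegree θ → θ = fun _ => 1 := by
      intro θ hθ hP hd
      obtain ⟨η, hη, hext⟩ := exists_extends_sup P.isPGroup' hLr hθ hP hd
      have hdeg : charDegree η = charDegree θ := Ch.charDegree_congr (hext 1)
      refine hθ.eq_one_of_charKer_eq_top (hθ.isCharacter.charKer_eq_top_iff.mpr fun n => ?_)
      rw [← hext, ← hext]
      exact apply_eq_of_ker hK (fun h => P.not_dvd_index
        (h.trans (Subgroup.index_dvd_of_le le_sup_right))) hη (hdeg ▸ hd) _ (hLK n.2)
    have hLp : ¬ p ∣ Nat.card L := by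
      intro hdvd
      have h1 := sum_modEq (N := L) P.isPGroup' (fun θ => charDegree (θ : L → ℂ) ^ 2) (by
        intro x θ φ h
        rw [Ch.charDegree_congr (ψ := (θ : L → ℂ)) (by rw [h, Ch.conjChar_apply_one])])
      rw [Ch.sum_sq_charDegree, ← Finset.add_sum_erase (f := _) (a := Ch.irrOne L)
        (s := Finset.univ.filter _) (Finset.mem_filter.mpr ⟨Finset.mem_univ _, fun x _ => rfl⟩)] at h1
      have h2 := (h1.dvd_iff dvd_rfl).mp hdvd
      rw [Nat.dvd_add_left (Finset.dvd_sum fun θ hθ => ?_)] at h2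
      · change p ∣ charDegree (fun _ : L => (1 : ℂ)) ^ 2 at h2
        rw [Ch.charDegree_one, one_pow] at h2
        exact hp.one_lt.ne' (Nat.dvd_one.mp h2)
      · rw [Finset.mem_erase, Finset.mem_filter] at hθ
        refine dvd_pow ?_ two_ne_zero
        by_contra hd
        exact hθ.1 (Subtype.ext (htriv θ θ.2 (fun x hx => Ch.mem_inertia'.mpr (hθ.2.2 x hx)) hd))
    have hLN : L ≤ N := hmax L this ((inf_centralizer_eq_bot_iff P.isPGroup' hLp).mpr
      fun θ hθ hP => htriv θ hθ hP fun h => hLp (h.trans hθ.charDegree_dvd_card))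
    intro x hx
    obtain ⟨Q, hQ⟩ := FG.H96.exists_sylow_eq_subgroupOf P K
    obtain ⟨n, hn, u, hu, hxe⟩ := GT.Tr.exists_pResidual_mul_sylow Q ⟨x, hx⟩
    have hx' : x = n * u := congrArg Subtype.val hxe
    have huP : (u : G) ∈ (P : Subgroup G) := by
      have : u ∈ (Q : Subgroup K) := hu
      rwa [hQ] at this
    rw [hx']
    refine Subgroup.mul_mem_sup (hLN ⟨n, hn, rfl⟩) ?_
    rw [← Subgroup.map_subtype_commutator]
    refine ⟨⟨u, huP⟩, ?_, rfl⟩
    by_contra hu'
    obtain ⟨f, hf⟩ := Ch.exists_monoidHom_units_ne_one hu'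
    have := apply_eq_of_ker hK P.not_dvd_index (Ch.linIrr f).2 (by
      rw [Ch.coe_linIrr, Deg.charDegree_linear]; exact hp.one_lt.ne' ∘ Nat.dvd_one.mp)
      ⟨u, huP⟩ u.2
    simp only [Ch.linIrr_apply, map_one, Units.val_one, Units.val_eq_one] at this
    exact hf this
  · intro hg χ hd
    have hNp : ¬ p ∣ Nat.card N := by
      intro hdvd
      obtain ⟨Q, hQ⟩ := FG.H96.exists_sylow_eq_subgroupOf P N
      have h1 := Q.ne_bot_of_dvd_card hdvd
      rw [hQ, Ne, Subgroup.subgroupOf_eq_bot, disjoint_comm, ← Subgroup.subgroupOf_eq_bot] at h1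
      obtain ⟨z, hz, hzc, hz1, -⟩ := GT.PG.exists_mem_center_of_normal P.isPGroup' _ h1
      have : (z : G) ∈ N ⊓ Subgroup.centralizer ((P : Subgroup G) : Set G) :=
        Subgroup.mem_inf.mpr ⟨hz, Subgroup.mem_centralizer_iff.mpr fun y hy =>
          congrArg Subtype.val (Subgroup.mem_center_iff.mp hzc ⟨y, hy⟩)⟩
      rw [hN, Subgroup.mem_bot] at this
      exact hz1 (Subtype.ext this)
    have hNk : N ≤ Ch.charKer (χ : G → ℂ) := by
      obtain ⟨θ, hθ, hne, hP⟩ := Ch.RC.exists_invariant_under P.isPGroup' N χ.2 hd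
      have h1 := (inf_centralizer_eq_bot_iff P.isPGroup' hNp).mp hN θ hθ hP
      exact Ch.RC.le_charKer_of_constituent χ.2 le_rfl hθ hne fun m hm => by rw [h1]
    obtain ⟨ψ, hψ, hχψ⟩ := χ.2.exists_quotient N (χ.2.isCharacter.le_charKer_iff.mp hNk)
    have : ((N ⊔ ⁅(P : Subgroup G), (P : Subgroup G)⁆).normalCore.map (QuotientGroup.mk' N)).Normal :=
      Subgroup.Normal.map inferInstance _ (QuotientGroup.mk'_surjective N)
    have h2 := Ch.RC.le_charKer_of_le_commutator (p := p)
      (M := (N ⊔ ⁅(P : Subgroup G), (P : Subgroup G)⁆).normalCore.map (QuotientGroup.mk' N))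
      (P.isPGroup'.map (QuotientGroup.mk' N)) (by
        refine (Subgroup.map_mono (Subgroup.normalCore_le _)).trans ?_
        rw [Subgroup.map_sup, Subgroup.map_commutator, QuotientGroup.map_mk'_self, bot_sup_eq])
      hψ (by rwa [← Ch.charDegree_congr (χ := (χ : G → ℂ)) (by rw [hχψ]; rfl)])
    rw [hχψ]
    exact hψ.mem_charKer.mp (h2 ⟨g, hg, rfl⟩)

end Cfsg.Agent.S4591
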