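import Cfsg.Statements.S4581
import Cfsg.Agent.Ch.RealOdd
import Cfsg.Agent.S4591
import Cfsg.Agent.GT.PGroupFrattini
-- import your own Cfsg.Agent.* helpers here

set_option autoImplicit false
open Cfsg

namespace Cfsg.Agent.S4581

universe u
open Ch Ch.ROdd
open scoped commutatorElement

theorem not_two_dvd {n : ℕ} (h : Odd n) : ¬ 2 ∣ n := Nat.two_dvd_ne_zero.mpr (Nat.odd_iff.mp h)

theorem odd_of {n : ℕ} (h : ¬ 2 ∣ n) : Odd n := Nat.odd_iff.mpr (Nat.two_dvd_ne_zero.mp h)

theorem card_lt {G : Type*} [Group G] [Finite G] {T : Subgroup G} (h : T ≠ ⊤) :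
    Nat.card T < Nat.card G := by
  have := Subgroup.one_lt_index_of_ne_top h
  rw [← T.card_mul_index]
  nlinarith [Nat.card_pos (α := T)]

theorem real_of (G : Type u) [Group G] [Finite G] : Group.IsSolvable G → ∀ P : Sylow 2 G,
    Subgroup.normalizer ((P : Subgroup G) : Set G) = P →
    (∀ x ∈ (P : Subgroup G), x ^ 2 ∈ ⁅(P : Subgroup G), (P : Subgroup G)⁆) →
    ∀ χ : G → ℂ, IsIrrCharacter G χ → Odd (charDegree χ) → ∀ g, (χ g).im = 0 := by
  refine GT.card_induction (P := fun G _ _ => Group.IsSolvable G → ∀ P : Sylow 2 G,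
    Subgroup.normalizer ((P : Subgroup G) : Set G) = P →
    (∀ x ∈ (P : Subgroup G), x ^ 2 ∈ ⁅(P : Subgroup G), (P : Subgroup G)⁆) →
    ∀ χ : G → ℂ, IsIrrCharacter G χ → Odd (charDegree χ) → ∀ g, (χ g).im = 0) ?_ G
  intro G _ _ ih hs P hN hsq χ hχ hodd
  classical
  have := Fintype.ofFinite G
  have hd := not_two_dvd hodd
  by_cases hK : charKer χ = ⊥
  swap
  · have := hχ.isCharacter.charKer_normal
    obtain ⟨ψ, hψ, hχψ⟩ := hχ.exists_quotient (charKer χ) fun n hn => hχ.mem_charKer.mp hn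
    have hf := QuotientGroup.mk'_surjective (charKer χ)
    have := ih _ (card_quotient_lt' hK) inferInstance (P.mapSurjective hf) (by
      rw [Sylow.coe_mapSurjective, ← Subgroup.map_comap_eq_self_of_surjective hf
        (Subgroup.normalizer _), FG.H96.comap_normalizer_map_sylow hf, hN, Subgroup.map_sup,
        (Subgroup.map_eq_bot_iff _).mpr le_rfl, sup_bot_eq]) (by
      rintro _ ⟨x, hx, rfl⟩
      rw [Sylow.coe_mapSurjective, ← Subgroup.map_commutator]
      exact ⟨x ^ 2, hsq x hx, map_pow _ _ _⟩) ψ hψ (by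
      rwa [← charDegree_congr (χ := χ) (congrFun hχψ 1)])
    intro g
    rw [congrFun hχψ g]
    exact this _
  have hO : pPrimeCore 2 G = ⊥ := by
    have : (pPrimeCore 2 G).Characteristic := GT.pPrimeCore_characteristic
    obtain ⟨θ, hθ, hne, hP⟩ := RC.exists_invariant_under P.isPGroup' (pPrimeCore 2 G) hχ hd
    rw [(S4591.inf_centralizer_eq_bot_iff P.isPGroup'
      (GT.not_dvd_card_pPrimeCore Nat.prime_two)).mp (le_bot_iff.mp ((inf_le_inf_left _
        ((Subgroup.centralizer_le_normalizer _).trans hN.le)).trans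
        (GT.pPrimeCore_inf_eq_bot P.isPGroup').le)) θ hθ hP] at hne
    exact le_bot_iff.mp (hK ▸ hχ.le_charKer_of_classInner_one _ hne)
  set M := pCore 2 G with hM
  have : M.Characteristic := GT.pCore_characteristic
  have hMP : M ≤ P := GT.pCore_le_sylow P
  obtain ⟨lam, hlam, hne, hPT⟩ := RC.exists_invariant_under P.isPGroup' M hχ hd
  have h1 := apply_one_under (GT.isPGroup_pCore 2) hχ hd hlam hne
  by_cases hT : inertia M lam = ⊤
  · have h2 := res_eq_smul_of_invariant hχ hlam (inertia_eq_top_iff.mp hT) hne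
    have h3 : ∀ m, lam m = 1 → m = 1 := fun m hm => Subtype.ext (Subgroup.mem_bot.mp (hK ▸
      hχ.mem_charKer.mpr ((congrFun h2 m).trans (by
        rw [Pi.smul_apply, hm, ← h1]; exact (congrFun h2 1).symm))))
    have h4 := eq_top_of_faithful (GT.centralizer_pCore_le Nat.prime_two hO) hlam.isCharacter h1
      hT h3
    obtain ⟨l, hl⟩ := hlam.isCharacter.exists_monoidHom_of_apply_one h1
    have h5 : ⁅(P : Subgroup G), (P : Subgroup G)⁆ ≤ ⊥ := Subgroup.commutator_le.mpr
      fun a _ b _ => congrArg Subtype.val (h3 ⁅(⟨a, h4.ge (Subgroup.mem_top a)⟩ : M),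
        (⟨b, h4.ge (Subgroup.mem_top b)⟩ : M)⁆ (by
          rw [congrFun hl, map_commutatorElement, commutatorElement_eq_one_iff_mul_comm.mpr
            (mul_comm _ _), Units.val_one]))
    refine RC.real_iff_conj.mpr (funext fun g => ?_)
    have h6 : g ^ 2 = 1 := h5 (hsq g (hMP (h4.ge (Subgroup.mem_top g))))
    rw [hχ.isCharacter.conj_apply, inv_eq_of_mul_eq_one_right (by rw [← sq, h6])]
  · obtain ⟨ψ, hψ, -, hind, -⟩ := clifford_corr_surj hlam rfl (hMP.trans hPT) hχ hne
    have h2 := ih (inertia M lam) (card_lt hT) inferInstance (P.subtype hPT) (by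
      rw [Sylow.coe_subtype, ← Subgroup.subgroupOf_normalizer_eq hPT, hN]) (by
      intro x hx
      rw [Sylow.coe_subtype, ← Subgroup.mem_map_iff_mem (Subgroup.subtype_injective _),
        Subgroup.map_commutator, Subgroup.map_subgroupOf_eq_of_le hPT]
      exact hsq x hx) ψ hψ (by
      rw [← hind, Deg.charDegree_indFun _ hψ.isCharacter] at hodd
      exact (Nat.odd_mul.mp hodd).2)
    rw [RC.real_iff_conj, ← hind, ← indFun_star, RC.real_iff_conj.mp h2]

open Classical in
theorem exists_nonreal (G : Type u) [Group G] [Finite G] : Group.IsSolvable G →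
    ∀ (P : Sylow 2 G) (μ : (P : Subgroup G) →* ℂˣ), (∃ y, μ (y ^ 2) ≠ 1) →
    ∃ χ : G → ℂ, IsIrrCharacter G χ ∧ Odd (charDegree χ) ∧ (¬ ∀ g, (χ g).im = 0) ∧
      @classInner _ _ (Fintype.ofFinite _) (fun x : (P : Subgroup G) => χ x) (fun x => μ x) ≠ 0 := by
  refine GT.card_induction (P := fun G _ _ => Group.IsSolvable G →
    ∀ (P : Sylow 2 G) (μ : (P : Subgroup G) →* ℂˣ), (∃ y, μ (y ^ 2) ≠ 1) →
    ∃ χ : G → ℂ, IsIrrCharacter G χ ∧ Odd (charDegree χ) ∧ (¬ ∀ g, (χ g).im = 0) ∧
      @classInner _ _ (Fintype.ofFinite _) (fun x : (P : Subgroup G) => χ x) (fun x => μ x) ≠ 0)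
    ?_ G
  intro G _ _ ih hs P μ ⟨y, hy⟩
  have := Fintype.ofFinite G
  let := Fintype.ofFinite (P : Subgroup G)
  by_cases hK : ∃ K : Subgroup G, K.Normal ∧ K ≠ ⊥ ∧ ∀ x : (P : Subgroup G), x.1 ∈ K → μ x = 1
  · obtain ⟨K, _, hK, hKμ⟩ := hK
    have hf := QuotientGroup.mk'_surjective K
    have hf' := (QuotientGroup.mk' K).subgroupMap_surjective (P : Subgroup G)
    let ν : (P.mapSurjective hf : Subgroup (G ⧸ K)) →* ℂˣ := MonoidHom.liftOfSurjective _ hf'
      ⟨μ, fun x hx => hKμ x ((QuotientGroup.eq_one_iff x.1).mp (congrArg Subtype.val hx))⟩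
    have hν : ∀ x, ν ((QuotientGroup.mk' K).subgroupMap P x) = μ x := fun x =>
      MonoidHom.liftOfRightInverse_comp_apply _ _ _ _ x
    obtain ⟨ψ, h1, h2, h3, h4⟩ := ih _ (card_quotient_lt' hK) inferInstance (P.mapSurjective hf) ν
      ⟨(QuotientGroup.mk' K).subgroupMap P y, by
        rwa [← hν, map_pow ((QuotientGroup.mk' K).subgroupMap P)] at hy⟩
    refine ⟨fun g => ψ g, h1.comp_mk, h2, fun h => h3 fun q => ?_, ?_⟩
    · obtain ⟨g, rfl⟩ := hf q
      exact h g
    · let := Fintype.ofFinite (P.mapSurjective hf : Subgroup (G ⧸ K))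
      have h5 := classInner_comp_surjective (G := (P.mapSurjective hf : Subgroup (G ⧸ K)))
        ((QuotientGroup.mk' K).subgroupMap P) hf' (fun x => ψ x) (fun x => ν x)
      refine (Eq.trans (congrArg _ (funext fun x => ?_)) h5).trans_ne h4
      exact congrArg Units.val (hν x).symm
  push Not at hK
  have hO : pPrimeCore 2 G = ⊥ := by
    have : (pPrimeCore 2 G).Characteristic := GT.pPrimeCore_characteristic
    by_contra h
    obtain ⟨x, hx, hx'⟩ := hK _ inferInstance h
    have : x.1 ∈ pPrimeCore 2 G ⊓ P := Subgroup.mem_inf.mpr ⟨hx, x.2⟩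
    rw [GT.pPrimeCore_inf_eq_bot P.isPGroup', Subgroup.mem_bot] at this
    exact hx' (by rw [show x = 1 from Subtype.ext this, map_one])
  set M := pCore 2 G with hM
  have : M.Characteristic := GT.pCore_characteristic
  have hMP : M ≤ P := GT.pCore_le_sylow P
  let lam : M → ℂ := fun m => μ ⟨m, hMP m.2⟩
  have hlam : IsIrrCharacter M lam := (linIrr (μ.comp (Subgroup.inclusion hMP))).2
  have hμ : IsIrrCharacter (P : Subgroup G) fun x => (μ x : ℂ) := (linIrr μ).2
  have hμl : classInner (fun m : M => (μ ⟨m, hMP m.2⟩ : ℂ)) lam ≠ 0 := by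
    rw [hlam.classInner_self]; exact one_ne_zero
  by_cases hr : ∀ m, (lam m).im = 0
  swap
  · obtain ⟨χ, m, hχ, hm, hpm⟩ := RC.exists_constituent_not_dvd (p := 2)
      (isCharacter_indFun _ hμ.isCharacter) (by
        rw [Deg.charDegree_indFun _ hμ.isCharacter, Deg.charDegree_linear, mul_one]
        exact P.not_dvd_index)
    rw [classInner_indFun_eq_res _ hμ.isCharacter hχ.isCharacter] at hm
    have h1 : classInner (fun x : (P : Subgroup G) => χ x) (fun x => μ x) ≠ 0 := by
      rw [hm]; rintro h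
      rw [Nat.cast_eq_zero.mp h, zero_mul] at hpm
      exact hpm (dvd_zero _)
    have h2 := odd_of fun h => hpm (h.mul_left _)
    exact ⟨χ, hχ, h2, fun h => hr (RO.real_under hχ ⟨h, h2⟩ hlam
      (classInner_res_ne_zero_trans hMP hχ.isCharacter hμ hlam.isCharacter h1 hμl)), h1⟩
  have hPT : (P : Subgroup G) ≤ inertia M lam := fun x hx => mem_inertia.mpr fun m => by
    have : (⟨x * m * x⁻¹, hMP (Subgroup.Normal.conj_mem inferInstance _ m.2 x)⟩ : (P : Subgroup G)) =
      ⟨x, hx⟩ * ⟨m, hMP m.2⟩ * ⟨x, hx⟩⁻¹ := rfl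
    simp only [lam]
    rw [this, map_mul, map_mul, map_inv, mul_inv_cancel_comm]
  have h1 : lam 1 = 1 := by simp [lam, show (⟨1, _⟩ : (P : Subgroup G)) = 1 from rfl]
  by_cases hT : inertia M lam = ⊤
  · have hn : ((charKer lam).map M.subtype).Normal := by
      constructor
      intro x hx g
      exact (normal_ker_inertia hlam.isCharacter).conj_mem ⟨x, hT.ge (Subgroup.mem_top x)⟩ hx
        ⟨g, hT.ge (Subgroup.mem_top g)⟩
    have h2 : (charKer lam).map M.subtype = ⊥ := by
      by_contra h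
      obtain ⟨x, ⟨m, hm, hmx⟩, hx'⟩ := hK _ hn h
      refine hx' (Units.ext ?_)
      rw [show x = ⟨m, hMP m.2⟩ from Subtype.ext hmx.symm]
      exact (hlam.mem_charKer.mp hm).trans h1
    have h4 := eq_top_of_faithful (GT.centralizer_pCore_le Nat.prime_two hO) hlam.isCharacter h1
      hT fun m hm => Subtype.ext (Subgroup.mem_bot.mp (h2 ▸
        ⟨m, hlam.mem_charKer.mpr (hm.trans h1.symm), rfl⟩))
    have h5 := monoidHom_units_mul_conj μ y
    have h6 := congrFun (RC.real_iff_conj.mp hr) ⟨y, h4.ge (Subgroup.mem_top _)⟩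
    simp only [lam, Subtype.coe_eta] at h6
    rw [h6] at h5
    exact absurd (Units.ext (by rw [map_pow, sq]; exact h5)) hy
  · set T := inertia M lam with hTdef
    let e := Subgroup.subgroupOfEquivOfLe hPT
    obtain ⟨ψ, hψ, h2, h3, h4⟩ := ih T (card_lt hT) inferInstance
      (P.subtype hPT) (μ.comp e.toMonoidHom) ⟨e.symm y, hy⟩
    have h5 : classInner (fun x : (P : Subgroup G) => ψ ⟨x, hPT x.2⟩) (fun x => μ x) ≠ 0 := by
      let := Fintype.ofFinite ((P : Subgroup G).subgroupOf T)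
      rw [← classInner_res_subgroupOf hPT]
      exact h4
    have hMT : M ≤ T := hMP.trans hPT
    have h6 : classInner (fun m : M => ψ ⟨m, hMT m.2⟩) lam ≠ 0 :=
      classInner_comp_ne_zero_of_constituent (Subgroup.inclusion hMP)
        (isCharacter_res_of_le hPT hψ.isCharacter) hμ h5 hlam.isCharacter hμl
    have h7 := clifford_corr_irr hlam hTdef hMT hψ h6
    refine ⟨_, h7, ?_, fun h => h3 ((real_indFun_iff hlam hr hTdef hMT hψ h6).mp h), ?_⟩
    · rw [Deg.charDegree_indFun _ hψ.isCharacter]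
      exact (odd_of fun h => P.not_dvd_index (h.trans (Subgroup.index_dvd_of_le hPT))).mul h2
    · refine classInner_res_ne_zero_trans hPT h7.isCharacter hψ hμ.isCharacter ?_ h5
      rw [← classInner_indFun_eq_res T hψ.isCharacter h7.isCharacter, h7.classInner_self]
      exact one_ne_zero

theorem normalizer_eq (G : Type u) [Group G] [Finite G] : Group.IsSolvable G → ∀ P : Sylow 2 G,
    (∀ χ : G → ℂ, IsIrrCharacter G χ → Odd (charDegree χ) → ∀ g, (χ g).im = 0) →
    Subgroup.normalizer ((P : Subgroup G) : Set G) = P := by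
  refine GT.card_induction (P := fun G _ _ => Group.IsSolvable G → ∀ P : Sylow 2 G,
    (∀ χ : G → ℂ, IsIrrCharacter G χ → Odd (charDegree χ) → ∀ g, (χ g).im = 0) →
    Subgroup.normalizer ((P : Subgroup G) : Set G) = P) ?_ G
  intro G _ _ ih hs P h
  have hq : ∀ (K : Subgroup G) [K.Normal], K ≠ ⊥ →
      Subgroup.normalizer ((P : Subgroup G) : Set G) ≤ (P : Subgroup G) ⊔ K := by
    intro K _ hK
    have hf := QuotientGroup.mk'_surjective K
    have h1 := ih _ (card_quotient_lt' hK) inferInstance (P.mapSurjective hf) fun ψ hψ hd q => by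
      obtain ⟨g, rfl⟩ := hf q
      exact h _ hψ.comp_mk hd g
    have h2 := FG.H96.comap_normalizer_map_sylow hf P
    rw [Sylow.coe_mapSurjective] at h1
    rw [h1, Subgroup.comap_map_eq, QuotientGroup.ker_mk'] at h2
    exact le_sup_left.trans h2.ge
  refine le_antisymm ?_ Subgroup.le_normalizer
  by_cases hO : pPrimeCore 2 G = ⊥
  · have : (pCore 2 G).Characteristic := GT.pCore_characteristic
    by_cases hM : pCore 2 G = ⊥
    · have h1 := GT.centralizer_pCore_le (G := G) Nat.prime_two hO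
      rw [hM, Subgroup.coe_bot] at h1
      exact fun x _ => (h1 (Subgroup.mem_centralizer_singleton_iff.mpr (by simp)) : x = 1) ▸
        one_mem _
    · exact (hq _ hM).trans (sup_le le_rfl (GT.pCore_le_sylow P))
  set L := pPrimeCore 2 G with hL
  have : L.Characteristic := GT.pPrimeCore_characteristic
  have hodd := GT.not_dvd_card_pPrimeCore (G := G) Nat.prime_two
  have hC : L ⊓ Subgroup.centralizer ((P : Subgroup G) : Set G) = ⊥ := by
    refine (S4591.inf_centralizer_eq_bot_iff P.isPGroup' hodd).mpr fun θ hθ hP => ?_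
    have hd : ¬ 2 ∣ charDegree θ := fun h => hodd (h.trans hθ.charDegree_dvd_card)
    obtain ⟨η, hη, hext⟩ := S4591.exists_extends_sup P.isPGroup' (eq_top_iff.mpr (GT.le_pResidual
      (by rw [Subgroup.card_top]; exact GT.coprime_card_pPrimeCore 2))) hθ hP hd
    have hdeg : charDegree η = charDegree θ := charDegree_congr (hext 1)
    refine hθ.eq_one_of_charKer_eq_top (hθ.isCharacter.charKer_eq_top_iff.mpr fun n => ?_)
    rw [← hext, ← hext]
    exact S4591.apply_eq_of_ker (K := L) (fun χ hχ hd => RO.le_charKer_of_odd hodd hχ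
      ⟨h χ hχ (odd_of hd), odd_of hd⟩) (fun h => P.not_dvd_index
      (h.trans (Subgroup.index_dvd_of_le le_sup_right))) hη (hdeg ▸ hd) _ n.2
  intro n hn
  obtain ⟨x, hx, o, ho, rfl⟩ := Subgroup.mem_sup_of_normal_right.mp (hq L hO hn)
  have ho' := (Subgroup.mul_mem_cancel_left _ (Subgroup.le_normalizer hx)).mp hn
  have : o ∈ L ⊓ Subgroup.centralizer ((P : Subgroup G) : Set G) := by
    refine Subgroup.mem_inf.mpr ⟨ho, Subgroup.mem_centralizer_iff.mpr fun z hz => ?_⟩
    have h1 : o * z * o⁻¹ * z⁻¹ ∈ L ⊓ P := Subgroup.mem_inf.mpr ⟨by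
      have := L.mul_mem ho (Subgroup.Normal.conj_mem inferInstance _ (L.inv_mem ho) z)
      simpa only [mul_assoc] using this,
      Subgroup.mul_mem _ ((Subgroup.mem_normalizer_iff.mp ho' z).mp hz) (Subgroup.inv_mem _ hz)⟩
    rw [GT.pPrimeCore_inf_eq_bot P.isPGroup', Subgroup.mem_bot, mul_inv_eq_one,
      mul_inv_eq_iff_eq_mul] at h1
    exact h1.symm
  rw [hC, Subgroup.mem_bot] at this
  rwa [this, mul_one]


/-- Let G be a finite solvable group, P a Sylow 2-subgroup and N its normalizer. Then G and N have the same number of real-valued irreducible characters of odd degree; and every odd-degree irreducible character of G is real-valued exactly when the derived subgroup of P equals the Frattini subgroup of P and P is its own normalizer in G. -/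
theorem result {G : Type*} [Group G] [Finite G] [Group.IsSolvable G] (P : Sylow 2 G) :
    Nat.card {χ : Cfsg.IrrCharacter G // (∀ g : G, ((χ : G → ℂ) g).im = 0) ∧ Odd (Cfsg.charDegree (χ : G → ℂ))} =
      Nat.card {ψ : Cfsg.IrrCharacter (Subgroup.normalizer ((P : Subgroup G) : Set G)) // (∀ g, ((ψ : Subgroup.normalizer ((P : Subgroup G) : Set G) → ℂ) g).im = 0) ∧ Odd (Cfsg.charDegree (ψ : Subgroup.normalizer ((P : Subgroup G) : Set G) → ℂ))} ∧
    ((∀ χ : Cfsg.IrrCharacter G, Odd (Cfsg.charDegree (χ : G → ℂ)) → ∀ g : G, ((χ : G → ℂ) g).im = 0) ↔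
      (commutator (P : Subgroup G) = frattini (P : Subgroup G) ∧ Subgroup.normalizer ((P : Subgroup G) : Set G) = (P : Subgroup G))) := by
  refine ⟨?_, fun h => ⟨le_antisymm (GT.PG.commutator_le_frattini P.isPGroup') ?_,
    normalizer_eq G inferInstance P fun χ hχ => h ⟨χ, hχ⟩⟩, fun h χ => ?_⟩
  · have := Ch.ROdd.FS_eq_normalizer G inferInstance P
    simpa [Ch.ROdd.FS, Ch.ROdd.RO] using this
  · refine GT.PG.frattini_le Nat.prime_two le_rfl fun y => ?_
    by_contra hy
    obtain ⟨μ, hμ⟩ := Ch.exists_monoidHom_units_ne_one hy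
    obtain ⟨χ, h1, h2, h3, -⟩ := exists_nonreal G inferInstance P μ ⟨y, hμ⟩
    exact h3 (h ⟨χ, h1⟩ h2)
  · refine real_of G inferInstance P h.2 (fun x hx => ?_) χ χ.2
    rw [← Subgroup.map_subtype_commutator, h.1]
    exact ⟨⟨x, hx⟩ ^ 2, ((GT.PG.frattini_le_iff P.isPGroup').mp le_rfl).2 _, rfl⟩

end Cfsg.Agent.S4581
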