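import Mathlib
import Cfsg.Statements.S4587
import Cfsg.Agent.S4172
import Cfsg.Agent.NS.PSqB
import Cfsg.Agent.GT.Quasisimple

set_option autoImplicit false
open Cfsg

namespace Cfsg.Agent.S4587

open Subgroup GT Perm.SL Inv.Fz PSq

/-- Let G be a finite group, p a prime and P a Sylow p-subgroup of order at least p². Assume that G has no nontrivial normal subgroup of order prime to p, that the derived subgroup P' of P contains no nontrivial normal subgroup of G, and that G is not almost simple (there is no non-abelian simple normal subgroup of G with trivial centralizer). Then [P : P'] = p² if and only if some p-element x of G has centralizer whose order has p-part exactly p². -/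
theorem result {G : Type*} [Group G] [Finite G] (p : ℕ) [Fact p.Prime] (P : Sylow p G) (hbig : p ^ 2 ∣ Nat.card G) (hcore : Cfsg.pPrimeCore p G = ⊥)
    (hcore' : (⁅(P : Subgroup G), (P : Subgroup G)⁆).normalCore = ⊥) (hnas : ¬ ∃ S : Subgroup G, S.Normal ∧ IsSimpleGroup S ∧ ¬ IsMulCommutative S ∧ Subgroup.centralizer (S : Set G) = ⊥) :
    (⁅(P : Subgroup G), (P : Subgroup G)⁆).relIndex (P : Subgroup G) = p ^ 2 ↔
      ∃ x : G, (∃ k : ℕ, orderOf x = p ^ k) ∧ (Nat.card (Subgroup.centralizer ({x} : Set G))).factorization p = 2 := by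
  have hp : p.Prime := Fact.out
  have hcardP := P.card_eq_multiplicity
  have hrel : (⁅(P : Subgroup G), (P : Subgroup G)⁆).relIndex (P : Subgroup G) =
      (_root_.commutator (P : Subgroup G)).index := by
    rw [← map_subtype_commutator, relIndex, subgroupOf,
      comap_map_eq_self_of_injective (P : Subgroup G).subtype_injective]
  have h2P : p ^ 2 ≤ Nat.card (P : Subgroup G) := by
    rw [hcardP]
    exact Nat.pow_le_pow_right hp.pos
      ((hp.pow_dvd_iff_le_factorization Nat.card_pos.ne').1 hbig)
  have hlt : p < p ^ 2 := by nlinarith [hp.two_le]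
  constructor
  · intro h2
    by_cases hna : IsMulCommutative (P : Subgroup G)
    · refine ⟨1, ⟨0, by simp⟩, ?_⟩
      have h3 : ⁅(P : Subgroup G), (P : Subgroup G)⁆ = ⊥ :=
        commutator_eq_bot_iff_le_centralizer.2 (le_centralizer_iff_isMulCommutative.2 hna)
      rw [h3, relIndex_bot_left, hcardP] at h2
      have h4 : centralizer ({1} : Set G) = ⊤ := by
        rw [eq_top_iff]; intro g _; rw [mem_centralizer_singleton_iff]; simp
      rw [h4, card_top]
      exact Nat.pow_right_injective hp.two_le h2
    have hcf := PG.commutator_le_frattini P.isPGroup'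
    have hgen : (frattini (P : Subgroup G)).index = p ^ 2 := by
      have h3 := index_dvd_of_le hcf
      rw [← hrel, h2] at h3
      obtain ⟨k, hk, e⟩ := (Nat.dvd_prime_pow hp).1 h3
      by_contra hne
      have h4 : (frattini (P : Subgroup G)).index ≤ p := by
        rw [e] at hne ⊢
        have : k ≤ 1 := by
          by_contra h; exact hne (by rw [show k = 2 by omega])
        simpa using Nat.pow_le_pow_right hp.pos this
      haveI := PG.isCyclic_of_index_frattini_le P.isPGroup' h4
      exact hna inferInstance
    have hfc : frattini (P : Subgroup G) = _root_.commutator (P : Subgroup G) := by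
      refine (eq_of_le_of_card_ge hcf ?_).symm
      have h3 := (frattini (P : Subgroup G)).card_mul_index
      rw [← (_root_.commutator (P : Subgroup G)).card_mul_index, ← hrel, h2, hgen] at h3
      exact (Nat.eq_of_mul_eq_mul_right (pow_pos hp.pos 2) h3).le
    have hfm : (frattini (P : Subgroup G)).map (P : Subgroup G).subtype =
        ⁅(P : Subgroup G), (P : Subgroup G)⁆ := by rw [hfc, map_subtype_commutator]
    obtain ⟨⟨hne, hU⟩, -, htr⟩ := S4172.result p P hna hgen hcore (hfm ▸ hcore')
    set N := generalizedFittingSubgroup G with hNdef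
    have hN : IsMinNormal N := by
      obtain ⟨M, hM, hle⟩ := exists_isMinNormal_le hne
      rwa [← le_antisymm hle (hU M hM.normal hM.ne_bot)]
    have hT : ¬ N ⊓ P ≤ (frattini P).map (P : Subgroup G).subtype := by
      intro h
      have h1 := S4172.tate' P (le_normalizer_of_normal) h
      have h2 : (pResidual p N).map N.subtype ≤ pPrimeCore p G :=
        le_pPrimeCore_of_not_dvd hp (by
          rw [card_map_of_injective N.subtype_injective]; exact h1.not_dvd_card_pResidual)
      rw [hcore, le_bot_iff, map_eq_bot_iff_of_injective _ N.subtype_injective] at h2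
      have h3 : IsPGroup p N := by
        obtain ⟨Q⟩ : Nonempty (Sylow p N) := inferInstance
        have h4 := pResidual_sup_sylow Q
        rw [h2, bot_sup_eq] at h4
        exact (h4 ▸ Q.isPGroup').of_equiv topEquiv
      have h5 : N ≤ P := h3.le_sylow_of_normal P
      rw [inf_eq_left.2 h5, hfm] at h
      exact hne (le_bot_iff.1 (hcore' ▸ normal_le_normalCore.2 h))
    obtain ⟨x, hx⟩ := S4172.gen P hgen hT
    have hPN : ⁅(P : Subgroup G), (P : Subgroup G)⁆ ≤ N :=
      S4172.comm_le le_normalizer_of_normal hx
    set H : Subgroup (P : Subgroup G) := N.subgroupOf P with hH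
    have hcH : _root_.commutator (P : Subgroup G) ≤ H := by
      rw [← map_subtype_commutator] at hPN
      exact map_le_iff_le_comap.1 hPN
    have hmul := relIndex_mul_index hcH
    rw [← hrel, h2] at hmul
    have hidx : H ≠ ⊤ → H.index = p ∧ (_root_.commutator (P : Subgroup G)).relIndex H = p := by
      intro hH1
      obtain ⟨k, hk, e⟩ := (Nat.dvd_prime_pow hp).1 (Dvd.intro_left _ hmul)
      have hk0 : k ≠ 0 := fun e0 => hH1 (index_eq_one.1 (by simpa [e0] using e))
      have hk2 : k ≠ 2 := by
        rintro rfl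
        rw [e] at hmul
        have h3 : (_root_.commutator (P : Subgroup G)).relIndex H = 1 :=
          Nat.eq_of_mul_eq_mul_right (pow_pos hp.pos 2) (by simpa using hmul)
        rw [relIndex_eq_one] at h3
        apply hT
        rintro y ⟨hy, hyP⟩
        exact ⟨⟨y, hyP⟩, hcf (h3 hy), rfl⟩
      obtain rfl : k = 1 := by omega
      rw [pow_one] at e
      rw [e, pow_two] at hmul
      exact ⟨e, Nat.eq_of_mul_eq_mul_right hp.pos hmul⟩
    have hxp : ∃ k : ℕ, orderOf (x : G) = p ^ k := by
      rw [orderOf_coe]; exact IsPGroup.iff_orderOf.1 P.isPGroup' x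
    refine ⟨x, hxp, ?_⟩
    by_cases hc : IsMulCommutative N
    · haveI : Group.IsSolvable N := isSolvable_of_comm fun a b => hc.is_comm.comm a b
      obtain ⟨q, hq, hNq, -⟩ := hN.exists_isPGroup
      have hqp : q = p := by
        by_contra hqp
        haveI := Fact.mk hq
        obtain ⟨k, hk⟩ := IsPGroup.iff_card.1 hNq
        have : N ≤ pPrimeCore p G := le_pPrimeCore_of_not_dvd hp (by
          rw [hk]
          exact fun h => hqp ((Nat.prime_dvd_prime_iff_eq hp hq).1 (hp.dvd_of_dvd_pow h)).symm)
        exact hne (le_bot_iff.1 (hcore ▸ this))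
      subst hqp
      have hNP : N ≤ P := hNq.le_sylow_of_normal P
      have hcm : ∀ a ∈ H, ∀ b ∈ H, a * b = b * a := fun a ha b hb =>
        Subtype.ext (congrArg (fun z : N => (z : G)) (hc.is_comm.comm (⟨a, ha⟩ : N) ⟨b, hb⟩))
      obtain ⟨h3, h4⟩ := hidx fun e => hna ⟨⟨fun a b =>
        hcm a (e ▸ mem_top a) b (e ▸ mem_top b)⟩⟩
      refine factorization_eq_two P x.2 h3 (fun h5 => ?_) h2
      have h6 := card_cent_le_abelian hcm hx
      rw [← GT.card_mul_relIndex hcH, h4, mul_comm] at h6
      have h7 := Nat.le_of_mul_le_mul_left h6 Nat.card_pos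
      have h8 : Nat.card ↥(centralizer ({(x : G)} : Set G) ⊓ N) ≤
          Nat.card ↥(centralizer ({x} : Set (P : Subgroup G)) ⊓ H) := by
        refine Nat.card_le_card_of_injective (fun n => ⟨⟨n, hNP n.2.2⟩, ?_, n.2.2⟩) ?_
        · exact mem_centralizer_singleton_iff.2
            (Subtype.ext (mem_centralizer_singleton_iff.1 n.2.1))
        · intro a b e
          exact Subtype.ext (congrArg (fun z => ((z.1 : (P : Subgroup G)) : G)) e)
      have h9 := Nat.le_of_dvd Nat.card_pos h5
      omega
    · obtain ⟨T, hT1⟩ := exists_cp hne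
      have hcomp : ∀ g : G, IsComponent (cj g T) := fun g => by
        haveI := (hT1.cj g).simple hN
        exact ⟨isSubnormal_cp hN (hT1.cj g),
          IsQuasisimple.of_isSimpleGroup ((hT1.cj g).not_comm hN hc)⟩
      have htr' : ∀ g : G, ∃ y ∈ (P : Subgroup G), cj g T = cj y T := fun g =>
        htr hc T _ (cj_one T ▸ hcomp 1) (hcomp g)
      let M : Subgroup (P : Subgroup G) := (normalizer (T : Set G)).subgroupOf P
      have hHM : H ≤ M := fun y hy => hT1.norm hy
      have hM : M ≠ ⊤ := by
        intro e
        haveI : T.Normal := by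
          rw [← normalizer_eq_top_iff, eq_top_iff]
          intro g _
          obtain ⟨y, hy, e1⟩ := htr' g
          have : (⟨y, hy⟩ : (P : Subgroup G)) ∈ M := e ▸ mem_top _
          rw [← cj_eq_iff, e1, cj_eq_iff]
          exact this
        have h3 := hT1.eq_of_normal hN
        refine hnas ⟨N, inferInstance, h3 ▸ hT1.simple hN, hc, ?_⟩
        by_contra h4
        exact hc (le_centralizer_iff_isMulCommutative.1 (hU _ inferInstance h4))
      obtain ⟨h3, h4⟩ := hidx fun e => hM (eq_top_iff.2 (e ▸ hHM))
      have hHM' : M = H := by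
        by_contra h5
        exact hM ((PG.isCoatom_of_index_prime hp h3).2 _ (lt_of_le_of_ne hHM (Ne.symm h5)))
      refine factorization_eq_two P x.2 h3 (fun h5 => ?_) h2
      have h6 := card_sylow_inf_le P hN hc hT1 (fun t ht ht' => by
        have : (⟨t, ht⟩ : (P : Subgroup G)) ∈ M := ht'
        rwa [hHM'] at this) h4.le
      have h7 := card_cent_dvd hN hc hT1 (x := x) fun g => by
        obtain ⟨y, hy, e1⟩ := htr' g
        have : (⟨y, hy⟩ : (P : Subgroup G)) ∈ zpowers x ⊔ H := by
          rw [sup_comm, hx]; exact mem_top _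
        obtain ⟨_, ⟨k, rfl⟩, z, hz, e2⟩ := mem_sup_of_normal_right.1 this
        refine ⟨k, ?_⟩
        have e3 : y = (x : G) ^ k * z := by simpa using (congrArg Subtype.val e2).symm
        rw [e1, e3, ← cj_cj, cj_eq_iff.2 (hT1.norm (show (z : G) ∈ N from hz))]
      have h8 := h5.trans h7
      rw [← GT.card_mul_relIndex (inf_le_right : (P : Subgroup G) ⊓ T ≤ T)] at h8
      have h9 := Nat.le_of_dvd Nat.card_pos (Nat.Coprime.dvd_of_dvd_mul_right
        (Nat.Coprime.pow_left _ ((Nat.Prime.coprime_iff_not_dvd hp).2
          (not_dvd_relIndex_sylow_inf_of_isSubnormal (isSubnormal_cp hN hT1) P))) h8)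
      omega
  · rintro ⟨x, ⟨k, hk⟩, hx⟩
    have hz : IsPGroup p (zpowers x) := IsPGroup.of_card (by rw [Nat.card_zpowers, hk])
    obtain ⟨g, hg⟩ := exists_cj_le_sylow P hz
    have hy : g * x * g⁻¹ ∈ (P : Subgroup G) := hg (conj_mem_cj.2 (mem_zpowers x))
    rw [← card_cj g, cj_centralizer_singleton] at hx
    have h3 := relIndex_comm_le hy
    obtain ⟨l, hl⟩ := IsPGroup.iff_card.1
      (P.isPGroup'.to_le (inf_le_right : centralizer ({g * x * g⁻¹} : Set G) ⊓ P ≤ P))
    have h4 : l ≤ 2 := by
      rw [← hx, ← hp.pow_dvd_iff_le_factorization Nat.card_pos.ne', ← hl]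
      exact card_dvd_of_le inf_le_left
    obtain ⟨m, hm⟩ := P.isPGroup'.index (_root_.commutator (P : Subgroup G))
    rw [hrel, hm] at h3 ⊢
    rw [hl, Nat.pow_le_pow_iff_right hp.one_lt] at h3
    have h5 : ¬ m ≤ 1 := fun h => by
      have := card_le_of_index_le P.isPGroup'
        (hm ▸ by simpa using Nat.pow_le_pow_right hp.pos h)
      omega
    rw [show m = 2 by omega]

end Cfsg.Agent.S4587
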