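import Mathlib
import Cfsg.Statements.S4609
import Cfsg.Agent.Blk.ThreeC
import Cfsg.Agent.Blk.Quot
import Cfsg.Agent.Blk.Fong
import Cfsg.Agent.Blk.KWQuot
import Cfsg.Agent.Blk.OmInd
import Cfsg.Agent.GT.PGroupFrattini

set_option autoImplicit false
open Cfsg

namespace Cfsg.Agent.S4609

open Cfsg.Agent.Blk Subgroup in
theorem card_le {G : Type*} [Group G] [Finite G] {p : ℕ} [Fact p.Prime] {M : Ideal AlgInt}
    (hM : IsPModular p M) {B : Set (IrrCharacter G)} (hB : IsPBlock M B) {D : Subgroup G}
    [D.Normal] (hD : IsDefectGroup p M B D)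
    (hk : Nat.card {χ : IrrCharacter G // χ ∈ B ∧ blockHeight p B (χ : G → ℂ) = 0} ≤ 3) :
    IsCyclic D ∧ Nat.card D ≤ 3 := by
  have := hM.isMaximal
  have hφ := QuotientGroup.mk'_surjective ⁅D, D⁆
  set φ := QuotientGroup.mk' ⁅D, D⁆
  have hker : φ.ker = ⁅D, D⁆ := QuotientGroup.ker_mk' _
  obtain ⟨b, hb, h11, hbD⟩ := hD.exists_block_map hM hφ
    (hD.isPGroup.to_le (hker.le.trans (commutator_le_left D D))) hB
  haveI := Normal.map ‹D.Normal› φ hφ
  have hab : D.map φ ≤ centralizer (D.map φ : Set (G ⧸ ⁅D, D⁆)) := by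
    rintro _ ⟨a, ha, rfl⟩ _ ⟨b, hb, rfl⟩
    rw [← commutatorElement_eq_one_iff_mul_comm, ← map_commutatorElement, ← MonoidHom.mem_ker, hker]
    exact commutator_mem_commutator hb ha
  have h0 : ∀ ψ ∈ b, blockHeight p B (infl φ hφ ψ) = 0 := fun ψ hψ => by
    have hψ' : infl φ hφ ψ ∈ B := h11 hψ
    refine (Om.blockHeight_eq_zero_iff hψ').2 (le_antisymm ?_ (Om.minVal_le hψ'))
    rw [Om.minVal_eq_factorization_index hM hB hD]
    refine (Nat.factorization_le_iff_dvd (infl φ hφ ψ).2.charDegree_pos.ne'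
      index_ne_zero_of_finite).2 ((infl φ hφ ψ).2.charDegree_dvd_index_of_commutator D
        fun a ha b hb => ?_) p
    rw [infl_apply, infl_apply, map_one, ← commutatorElement_def,
      hker.ge (commutator_mem_commutator ha hb)]
  have h1 : Nat.card b ≤ 3 := by
    refine le_trans ?_ hk
    exact Nat.card_le_card_of_injective (fun ψ => ⟨infl φ hφ ψ.1, h11 ψ.2, h0 _ ψ.2⟩)
      fun ψ ψ' e => Subtype.ext (infl_injective hφ (congrArg (·.1) e :))
  have h2 := Three.card_le_of_normal hM _ _ rfl hb hbD hab h1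
  have h3 : (φ.comp D.subtype).ker = commutator D := by
    rw [← MonoidHom.comap_ker, hker, ← map_subtype_commutator,
      comap_map_eq_self_of_injective D.subtype_injective]
  have h4 : Nat.card (D ⧸ commutator D) ≤ 3 := by
    rwa [← index_eq_card, ← h3, index_ker, MonoidHom.range_comp, range_subtype]
  have h5 : 0 < Nat.card (D ⧸ commutator D) := Nat.card_pos
  have h6 : IsCyclic (D ⧸ commutator D) := by
    obtain h | h | h : Nat.card (D ⧸ commutator D) = 1 ∨ Nat.card (D ⧸ commutator D) = 2 ∨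
      Nat.card (D ⧸ commutator D) = 3 := by omega
    · exact isCyclic_of_card_dvd_prime (p := 2) (h ▸ one_dvd _)
    · exact isCyclic_of_prime_card h
    · exact isCyclic_of_prime_card h
  have h7 := GT.PG.isCyclic_of_isCyclic_quotient_commutator hD.isPGroup
  refine ⟨h7, ?_⟩
  have h8 : commutator D = ⊥ := by
    letI := IsCyclic.commGroup (α := D)
    exact (commutator_eq_bot_iff D).2 ⟨⟨mul_comm⟩⟩
  rwa [← index_eq_card, h8, index_bot] at h4

/-- Let G be a finite group, p a prime, M a maximal ideal of the algebraic integers containing p, and B a p-block of G with defect group D containing exactly three irreducible characters. Suppose the number of height-zero characters of B equals the number of height-zero characters of its Brauer correspondent b, the block of N_G(D) with defect group D inducing B (as the Alperin–McKay conjecture predicts). Then D has order 3. -/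
theorem result {G : Type*} [Group G] [Finite G] (p : ℕ) [Fact p.Prime] (M : Ideal Cfsg.AlgInt) (hM : Cfsg.IsPModular p M) (B : Set (Cfsg.IrrCharacter G)) (hB : Cfsg.IsPBlock M B) (D : Subgroup G) (hD : Cfsg.IsDefectGroup p M B D) (hk : Nat.card B = 3)
    (b : Set (Cfsg.IrrCharacter (Subgroup.normalizer (D : Set G)))) (hbB : Cfsg.IsInducedBlock M (Subgroup.normalizer (D : Set G)) b B)
    (hbD : Cfsg.IsDefectGroup p M b (D.subgroupOf (Subgroup.normalizer (D : Set G))))
    (hAM : Nat.card {χ : Cfsg.IrrCharacter G // χ ∈ B ∧ Cfsg.blockHeight p B (χ : G → ℂ) = 0} =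
           Nat.card {ψ : Cfsg.IrrCharacter (Subgroup.normalizer (D : Set G)) // ψ ∈ b ∧ Cfsg.blockHeight p b (ψ : Subgroup.normalizer (D : Set G) → ℂ) = 0}) :
    Nat.card D = 3 := by
  have := hM.isMaximal
  have := Fintype.ofFinite G
  have hb := ((Blk.Om.isInducedBlock_iff _ _ _).1 hbB).1
  have h1 := card_le hM hb hbD (hAM ▸ hk ▸ Nat.card_le_card_of_injective
    (fun χ => (⟨χ.1, χ.2.1⟩ : B)) fun χ χ' e => Subtype.ext (congrArg (·.1) e :))
  have e := Subgroup.subgroupOfEquivOfLe (Subgroup.le_normalizer (H := D))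
  have h2 := h1.2
  rw [Nat.card_congr e.toEquiv] at h2
  have := h1.1
  obtain ⟨x, hx⟩ := (Subgroup.isCyclic_iff_exists_zpowers_eq_top D).1 (isCyclic_of_surjective e e.surjective)
  have h3 := Blk.card_le_of_two_gen hM hB hD (Commute.refl x) (by rw [hx, sup_idem])
  rw [← hD.card_eq_pow_blockDefect hM hB] at h3
  omega

end Cfsg.Agent.S4609
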