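import Mathlib
-- Template for statement S4701 (row 4701; see /opt/grader/pristine/manifest.json for weights).
-- Copy to Cfsg/Agent/S4701.lean and replace the sorry. The statement below is byte-identical to the frozen
-- statement Cfsg.CfsgFrozen.S4701 (Cfsg/Statements/S4701.lean; the theorem Cfsg.chr7_perfect_group_large_prime_cubed);
-- the grader kernel-checks Cfsg.Agent.S4701.result against that frozen type. Keep the theorem IN THIS FILE
-- (a `result` declared elsewhere and merely imported here is not credited); helpers may live anywhere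
-- under Cfsg/Agent/.
import Cfsg.Statements.S4701
import Cfsg.Agent.Blk.OneBR4

set_option autoImplicit false
set_option linter.style.haveILetI false
set_option linter.unusedVariables false
open Cfsg

namespace Cfsg.Agent.S4701


/-- Let G be a finite perfect group and p a prime dividing the order of G with p^3 larger than the order of G. Suppose a Sylow p-subgroup of G is not normal and G has no normal subgroup of order 2. Then p > 3 and G is isomorphic to PSL(2, p), or to SL(2, 2^m) with p = 2^m + 1. -/
theorem result {G : Type*} [Group G] [Finite G] (hperf : commutator G = ⊤) (p : ℕ) [Fact p.Prime] (hdvd : p ∣ Nat.card G) (hbig : Nat.card G < p ^ 3) (P : Sylow p G) (hP : ¬ (P : Subgroup G).Normal) (h2 : ∀ N : Subgroup G, N.Normal → Nat.card N ≠ 2) : (∃ (F : Type) (_ : Field F) (_ : Fintype F), Fintype.card F = p ∧ 3 < p ∧ Nonempty (G ≃* Matrix.ProjectiveSpecialLinearGroup (Fin 2) F)) ∨ (∃ (m : ℕ) (F : Type) (_ : Field F) (_ : Fintype F), Fintype.card F = 2 ^ m ∧ p = 2 ^ m + 1 ∧ 3 < p ∧ Nonempty (G ≃* Matrix.SpecialLinearGroup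 (Fin 2) F)) := by
  open Cfsg.Agent.Blk.One in
  haveI := Fintype.ofFinite G
  haveI := Fintype.ofFinite (G ⧸ Cfsg.pPrimeCore p G)
  obtain ⟨S, -⟩ := exists_setup P (card_sylow_eq_of_lt hdvd hbig P hP)
  obtain ⟨n, h⟩ := S.exists_index_N
  have hR := S.not_rep_of_card hperf hbig h
  obtain ⟨h3, h4⟩ := S.br hperf h hR
  have h5 := h4.card_eq h3
  have h6 := h4.2.1
  have h7 := Subgroup.card_eq_card_quotient_mul_card_subgroup (Cfsg.pPrimeCore p G)
  have h8 : Cfsg.pPrimeCore p G = ⊥ := by
    by_contra h8
    have h9 : 3 ≤ Nat.card (Cfsg.pPrimeCore p G) := by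
      have := (Subgroup.one_lt_card_iff_ne_bot _).2 h8
      have := h2 (Cfsg.pPrimeCore p G) inferInstance
      omega
    have h10 := Nat.mul_le_mul_left (Nat.card (G ⧸ Cfsg.pPrimeCore p G)) h9
    have h11 : p ≠ 4 := by rintro rfl; exact absurd (Fact.out : Nat.Prime 4) (by decide)
    obtain ⟨q, rfl⟩ : ∃ q, p = q + 5 := ⟨p - 5, by omega⟩
    rw [show q + 5 - 1 = q + 4 from rfl, show q + 5 - 2 = q + 3 from rfl] at h5
    rcases h5 with h5 | h5 <;> nlinarith [Nat.zero_le (q ^ 3), Nat.zero_le (q ^ 2)]
  exact (S.br_core hperf h8 h hR).sl (MulEquiv.refl _)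

end Cfsg.Agent.S4701
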