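import Mathlib
import Cfsg.Agent.Perm.ZassThree
import Cfsg.Agent.Perm.ZassField
import Cfsg.Agent.CIT.Models
import Cfsg.Statements.S4702

set_option autoImplicit false
open Cfsg

namespace Cfsg.Agent.S4702

/-- Let G be a triply transitive permutation group on a finite set of odd size m ≥ 3 in which only the identity fixes three or more points. Then m = 2^a + 1 for some a ≥ 1 and G is isomorphic to SL(2, 2^a). -/
theorem result {α : Type*} [Fintype α] [DecidableEq α] (hm : 3 ≤ Fintype.card α) (hodd : Odd (Fintype.card α)) (G : Subgroup (Equiv.Perm α)) (h3 : MulAction.IsMultiplyPretransitive G α 3) (hfix : ∀ g : G, 3 ≤ Nat.card (MulAction.fixedBy α g) → g = 1) : ∃ a : ℕ, 1 ≤ a ∧ Fintype.card α = 2 ^ a + 1 ∧ ∃ (F : Type) (_ : Field F) (_ : Fintype F), Fintype.card F = 2 ^ a ∧ Nonempty (G ≃* Matrix.SpecialLinearGroup (Fin 2) F) := by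
  rw [← Nat.card_eq_fintype_card] at hm hodd ⊢
  have hT := Perm.Zass.isZT_of_sharp h3 (Perm.sharp_three_iff.2 fun g a b c h1 h2 h4 ha hb hc =>
    hfix g (by
      rw [Nat.card_coe_set_eq, ← Set.ncard_eq_three.2 ⟨a, b, c, h1, h2, h4, rfl⟩]
      exact Set.ncard_le_ncard (by rintro x (rfl | rfl | rfl) <;> assumption))) hm
  obtain ⟨a⟩ := hT.nonempty
  obtain ⟨b, hb⟩ := hT.exists_ne a
  obtain ⟨H, hH⟩ := hT.exists_isKer a
  obtain ⟨t, ht, hta, htb⟩ := hT.exists_swap hb.symm
  have he := hH.card_of_three hT hb.symm h3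
  have hc := hH.card_add_one hT
  have hev : Even (Nat.card H) := by
    rw [← hc, Nat.odd_add_one, Nat.not_odd_iff_even] at hodd
    exact hodd
  obtain ⟨F, _, _, hF, h⟩ := hH.exists_iso hT hb.symm (by omega) ht hta htb fun x hx =>
    hT.inverts_of_odd hodd hb.symm ht hta htb hx
  obtain ⟨-, -, h4⟩ | ⟨-, h4, -⟩ := h
  · haveI : CharP F 2 := ringChar.of_eq (FiniteField.even_card_iff_char_two.2
      (hF ▸ Nat.even_iff.1 hev))
    obtain ⟨n, -, hn⟩ := FiniteField.card F 2
    obtain ⟨e⟩ := h4 hev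
    obtain ⟨e'⟩ := CIT.nonempty_psl2_equiv_sl2 (F := F)
    exact ⟨n, n.2, by omega, F, inferInstance, inferInstance, hn, ⟨e.trans e'⟩⟩
  · exact absurd hev (Nat.not_even_iff_odd.2 h4)

end Cfsg.Agent.S4702
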