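import Cfsg.Statements.S4704
import Cfsg.Agent.Blk.LowChar

set_option autoImplicit false
open Cfsg

namespace Cfsg.Agent.S4704

set_option linter.unusedVariables false
set_option linter.style.haveILetI false
open Cfsg.Agent.Blk

/-- Let G be a finite group with centre Z, p > 7 a prime, and suppose a Sylow p-subgroup of G has order p and is not normal. Let ζ be a faithful irreducible character of G and t the number of conjugacy classes of G consisting of elements of order p. Then one of the following holds: G/Z is isomorphic to PSL(2, p), ζ has degree (p + 1)/2 or (p − 1)/2 and t = 2; or ζ has degree at least p − 1; or ζ has degree at least p + 3/2 − √(p + 5/4) and p ≤ t^2 − 3t + 1. -/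
theorem result {G : Type*} [Group G] [Finite G] (p : ℕ) [Fact p.Prime] (hp : 7 < p) (P : Sylow p G) (hP : Nat.card P = p) (hnn : ¬ (P : Subgroup G).Normal) (ζ : G → ℂ) (hζ : Cfsg.IsIrrCharacter G ζ) (hfaith : ∀ g : G, ζ g = ζ 1 → g = 1) (t : ℕ) (ht : Nat.card {c : ConjClasses G // ∃ g : G, ConjClasses.mk g = c ∧ orderOf g = p} = t) : ((∃ (F : Type) (_ : Field F) (_ : Fintype F), Fintype.card F = p ∧ Nonempty (G ⧸ Subgroup.center G ≃* Matrix.ProjectiveSpecialLinearGroup (Fin 2) F)) ∧ (2 * Cfsg.charDegree ζ = p + 1 ∨ 2 * Cfsg.charDegree ζ = p - 1) ∧ t = 2) ∨ p - 1 ≤ Cfsg.charDegree ζ ∨ ((p : ℝ) + 3 / 2 - Real.sqrt ((p : ℝ) + 5 / 4) ≤ (Cfsg.charDegree ζ : ℝ) ∧ (p : ℤ) ≤ (t : ℤ) ^ 2 - 3 * t + 1) := by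

  haveI := Fintype.ofFinite G
  obtain ⟨S, hS⟩ := One.exists_setup_of_sylow P hP hnn
  by_cases hd : p - 1 ≤ charDegree ζ
  · exact Or.inr (Or.inl hd)
  have h0 : t * S.ee = p - 1 := ht ▸ S.card_classes
  rcases S.faithful_cases hS hp hζ (hζ.isCharacter.charKer_eq_bot_iff.2 hfaith) (by omega) h0
    with ⟨h1, h2⟩ | ⟨h1, h2, -⟩
  · exact Or.inl ⟨⟨ZMod p, _, _, ZMod.card p, h1⟩, h2⟩
  have h3 : (p : ℤ) = t * S.ee + 1 := by exact_mod_cast (show p = t * S.ee + 1 by omega)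
  have h4 : (S.ee : ℤ) + 3 ≤ t := by exact_mod_cast h2
  refine Or.inr (Or.inr ⟨?_, by nlinarith⟩)
  have h5 : (S.ee : ℝ) + 3 / 2 ≤ Real.sqrt (p + 5 / 4) := Real.le_sqrt_of_sq_le (by
    have : (S.ee : ℝ) ^ 2 + 3 * S.ee + 1 ≤ p := by
      exact_mod_cast (show (S.ee : ℤ) ^ 2 + 3 * S.ee + 1 ≤ p by nlinarith)
    linarith)
  have h6 : (charDegree ζ : ℝ) + S.ee = p := by exact_mod_cast h1
  linarith

end Cfsg.Agent.S4704
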