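import Mathlib
-- Template for statement S4706 (row 4706; see /opt/grader/pristine/manifest.json for weights).
-- Copy to Cfsg/Agent/S4706.lean and replace the sorry. The statement below is byte-identical to the frozen
-- statement Cfsg.CfsgFrozen.S4706 (Cfsg/Statements/S4706.lean; the theorem Cfsg.perm7_prime_degree_sylow_normalizer_order_two_p);
-- the grader kernel-checks Cfsg.Agent.S4706.result against that frozen type. Keep the theorem IN THIS FILE
-- (a `result` declared elsewhere and merely imported here is not credited); helpers may live anywhere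
-- under Cfsg/Agent/.
import Cfsg.Statements.S4706
import Cfsg.Agent.Blk.OnePerm

set_option autoImplicit false
set_option linter.style.haveILetI false
set_option linter.unusedVariables false
open Cfsg

namespace Cfsg.Agent.S4706


/-- Let p > 2 be a prime and G a permutation group on p letters whose Sylow p-subgroup P has normalizer of order 2p. Then either P is normal in G, or p − 1 = 2^a for some a and G is isomorphic to SL(2, 2^a). -/
theorem result {α : Type*} [Fintype α] [DecidableEq α] {p : ℕ} [Fact p.Prime] (hp : 2 < p) (hα : Fintype.card α = p) (G : Subgroup (Equiv.Perm α)) (P : Sylow p G) (hN : Nat.card (Subgroup.normalizer ((P : Subgroup G) : Set G)) = 2 * p) : (P : Subgroup G).Normal ∨ ∃ (a : ℕ) (F : Type) (_ : Field F) (_ : Fintype F), p = 2 ^ a + 1 ∧ Fintype.card F = 2 ^ a ∧ Nonempty (G ≃* Matrix.SpecialLinearGroup (Fin 2) F) := by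
  open Cfsg.Agent.Blk.One Cfsg.Agent.Perm Cfsg.Agent.Ch MulAction in
  haveI := Fintype.ofFinite G
  obtain ⟨S, h1, -, h2⟩ := exists_setup P (card_sylow_of_normalizer hp P hN)
  have hΩ : Nat.card α = p := by rw [Nat.card_eq_fintype_card, hα]
  by_cases hn : S.N = ⊤
  · exact Or.inl (Subgroup.normalizer_eq_top_iff.1 (h2 ▸ hn))
  right
  rw [← h2] at hN
  have h3 : 3 < p := by
    by_contra h3
    obtain rfl : p = 3 := by omega
    refine hn (Subgroup.eq_top_of_card_eq _ (le_antisymm (Subgroup.card_le_card_group _) ?_))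
    have := Nat.le_of_dvd (Nat.factorial_pos _) (card_dvd_factorial_of_faithful (G := G) (Ω := α))
    rwa [hΩ, ← show 2 * 3 = Nat.factorial 3 from rfl, ← hN] at this
  obtain ⟨a, ha⟩ : ∃ a : α, S.x • a ≠ a := by
    by_contra h
    push Not at h
    exact S.x_ne_one (FaithfulSMul.eq_of_smul_eq_smul (α := α) fun a => by rw [h, one_smul])
  obtain ⟨e, -, he⟩ := exists_coord_of_pow_eq_one hΩ (orderOf_dvd_iff_pow_eq_one.1 S.hx.dvd) ha
  haveI : IsPretransitive G α := ⟨fun b c => ⟨S.x ^ (e c - e b).val, e.injective (by
    rw [coord_pow he, ZMod.natCast_zmod_val, add_sub_cancel])⟩⟩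
  haveI := IsPreprimitive.of_prime_card (G := G) (X := α) (by rw [hΩ]; exact Fact.out)
  haveI : Nonempty α := ⟨a⟩
  have hO := pPrimeCore_eq_bot_of_primitive (G := G) (Ω := α) hΩ.symm.dvd
  obtain ⟨hS, he⟩ := S.self_of_card_N hO hN
  have hd : charDegree (permChar G α) = p := charDegree_of_apply_one (hΩ ▸ permChar_apply_one)
  obtain ⟨χ, -, h | ⟨⟨M, D, h⟩, -⟩⟩ := Setup.exists_two hS he h3 hO hn (isCharacter_permChar α)
    (S.permChar_singular hΩ.symm.dvd) classInner_permChar_one (hd.le.trans (by omega))
  · have := hd.symm.trans h.2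
    omega
  · exact h.sl2

end Cfsg.Agent.S4706
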