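import Mathlib
-- Template for statement S4707 (row 4707; see /opt/grader/pristine/manifest.json for weights).
-- Copy to Cfsg/Agent/S4707.lean and replace the sorry. The statement below is byte-identical to the frozen
-- statement Cfsg.CfsgFrozen.S4707 (Cfsg/Statements/S4707.lean; the theorem Cfsg.perm7_primitive_degree_two_p_sylow_normalizer_order_two_p);
-- the grader kernel-checks Cfsg.Agent.S4707.result against that frozen type. Keep the theorem IN THIS FILE
-- (a `result` declared elsewhere and merely imported here is not credited); helpers may live anywhere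
-- under Cfsg/Agent/.
import Cfsg.Statements.S4707
import Cfsg.Agent.Blk.OnePerm
import Cfsg.Agent.S0719

set_option autoImplicit false
set_option linter.style.haveILetI false
set_option linter.unusedVariables false
open Cfsg

namespace Cfsg.Agent.S4707


/-- Let p > 3 be a prime and G a primitive permutation group of degree 2p that is not doubly transitive. If a Sylow p-subgroup of G has normalizer of order 2p, then p = 5 and G is isomorphic to the alternating group of degree 5. -/
theorem result {α : Type*} [Fintype α] [DecidableEq α] {p : ℕ} [Fact p.Prime] (hp : 3 < p) (hα : Fintype.card α = 2 * p) (G : Subgroup (Equiv.Perm α)) (hprim : MulAction.IsPreprimitive G α) (hnot2 : ¬ MulAction.IsMultiplyPretransitive G α 2) (P : Sylow p G) (hN : Nat.card (Subgroup.normalizer ((P : Subgroup G) : Set G)) = 2 * p) : p = 5 ∧ Nonempty (G ≃* alternatingGroup (Fin 5)) := by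
  open Cfsg.Agent.Blk.One Cfsg.Agent.Perm Cfsg.Agent.Ch MulAction in
  classical
  haveI := Fintype.ofFinite G
  have hP := card_sylow_of_normalizer (by omega) P hN
  obtain ⟨S, h1, -, h2⟩ := exists_setup P hP
  have hΩ : Nat.card α = 2 * p := by rw [Nat.card_eq_fintype_card, hα]
  have hdvd : p ∣ Nat.card α := hΩ ▸ dvd_mul_left p 2
  obtain ⟨a⟩ : Nonempty α := Fintype.card_pos_iff.1 (by omega)
  haveI : Nonempty α := ⟨a⟩
  have hO := pPrimeCore_eq_bot_of_primitive (G := G) hdvd
  rw [← h2] at hN
  obtain ⟨hS, he⟩ := S.self_of_card_N hO hN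
  have hn : S.N ≠ ⊤ := fun h => by
    haveI : (Subgroup.zpowers S.x).Normal := Subgroup.normalizer_eq_top_iff.1 (S.N_eq ▸ h)
    haveI := IsQuasiPreprimitive.isPretransitive_of_normal (N := Subgroup.zpowers S.x) (X := α)
      fun h => S.x_ne_one (FaithfulSMul.eq_of_smul_eq_smul (α := α) fun a => by
        rw [one_smul]
        exact (h ▸ Set.mem_univ a : a ∈ fixedPoints (Subgroup.zpowers S.x) α)
          ⟨_, Subgroup.mem_zpowers _⟩)
    have := Nat.le_of_dvd Nat.card_pos
      (index_stabilizer_of_transitive (Subgroup.zpowers S.x) a ▸ Subgroup.index_dvd_card _)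
    rw [hΩ, S.card_zpowers] at this
    omega
  have hd : charDegree (permChar G α) = 2 * p := charDegree_of_apply_one (hΩ ▸ permChar_apply_one)
  obtain ⟨χ, hχ, h | ⟨⟨M, D, h⟩, h'⟩⟩ := Setup.exists_two hS he hp hO hn (isCharacter_permChar α)
    (S.permChar_singular hdvd) classInner_permChar_one hd.le
  · refine absurd (two_pretransitive_of_rank ?_) hnot2
    rw [show permChar G α = _ from h.1]
    simp only [classInner_add_left, classInner_add_right, classInner_irr, if_true, if_neg hχ,
      if_neg hχ.symm]
    norm_num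
  obtain ⟨ψ, h3, h4⟩ := h' hd
  have h5 : irrOne G ≠ ψ := fun e => by rw [← e, charDegree_irrOne'] at h3; omega
  have h6 : χ ≠ ψ := fun e => by rw [← e, h.deg] at h3; omega
  obtain ⟨b, hb, h7, -⟩ := Cfsg.Agent.S0719.result hprim hα a (by
    have := classInner_permChar_self_eq_rank (G := G) a
    rw [show permChar G α = _ from h4] at this
    simp only [classInner_add_left, classInner_add_right, classInner_irr, if_true, if_neg hχ,
      if_neg hχ.symm, if_neg h5, if_neg h5.symm, if_neg h6, if_neg h6.symm] at this
    exact_mod_cast this.symm) χ ψ χ.2 ψ.2 h4 h.apply_one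
    (by rw [← ψ.2.coe_charDegree, h3])
  obtain ⟨k, -, -, -, h8, -⟩ := h.sl2
  have h9 : b * (b + 1) ∣ 2 ^ k := ⟨2, by nlinarith⟩
  have h10 : b = 1 := by
    obtain ⟨i, -, hi⟩ := (Nat.dvd_prime_pow Nat.prime_two).1 (dvd_of_mul_right_dvd h9)
    obtain ⟨j, -, hj⟩ := (Nat.dvd_prime_pow Nat.prime_two).1 (dvd_of_mul_left_dvd h9)
    rcases i with _ | i
    · exact hi
    rcases j with _ | j <;> omega
  have h11 : p = 5 := by rw [h7, h10]; rfl
  exact ⟨h11, h.alt_five h11⟩

end Cfsg.Agent.S4707
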