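import Mathlib
-- Template for statement S4724 (row 4724; see /opt/grader/pristine/manifest.json for weights).
-- Copy to Cfsg/Agent/S4724.lean and replace the sorry. The statement below is byte-identical to the frozen
-- statement Cfsg.CfsgFrozen.S4724 (Cfsg/Statements/S4724.lean; the theorem Cfsg.perm7_prime_degree_unique_degree_p_character_ti_complement);
-- the grader kernel-checks Cfsg.Agent.S4724.result against that frozen type. Keep the theorem IN THIS FILE
-- (a `result` declared elsewhere and merely imported here is not credited); helpers may live anywhere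
-- under Cfsg/Agent/.
import Cfsg.Statements.S4724
import Cfsg.Agent.Blk.OneTI
import Cfsg.Agent.Perm.PrimeDegree
import Cfsg.Agent.Perm.Regular

set_option autoImplicit false
set_option linter.style.haveILetI false
set_option linter.unusedVariables false
open Cfsg

namespace Cfsg.Agent.S4724


/-- Let G be a transitive permutation group of prime degree p having exactly one irreducible character of degree p. Let P be a Sylow p-subgroup and suppose N_G(P) = P·E for a subgroup E with P ∩ E = 1, such that the normalizer of E has order 2·#E and E meets each of its conjugates by elements outside its normalizer trivially. Then p is 5, 7 or 11 and G is isomorphic to PSL(2, p). -/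
theorem result {α : Type*} [Fintype α] [DecidableEq α] {p : ℕ} [Fact p.Prime] (hα : Fintype.card α = p) (G : Subgroup (Equiv.Perm α)) [MulAction.IsPretransitive G α] (huniq : ∃! χ : Cfsg.IrrCharacter G, Cfsg.charDegree (χ : G → ℂ) = p) (P : Sylow p G) (E : Subgroup G) (hPE : (P : Subgroup G) ⊔ E = Subgroup.normalizer ((P : Subgroup G) : Set G)) (hPE' : (P : Subgroup G) ⊓ E = ⊥) (hNE : Nat.card (Subgroup.normalizer (E : Set G)) = 2 * Nat.card E) (hTI : ∀ g : G, g ∉ Subgroup.normalizer (E : Set G) → E ⊓ E.map (MulAut.conj g).toMonoidHom = ⊥) : (p = 5 ∨ p = 7 ∨ p = 11) ∧ ∃ (F : Type) (_ : Field F) (_ : Fintype F), Fintype.card F = p ∧ Nonempty (G ≃* Matrix.ProjectiveSpecialLinearGroup (Fin 2) F) := by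
  open Cfsg.Agent.Blk.One Cfsg.Agent.Perm Cfsg.Agent.Ch MulAction Subgroup in
  haveI := Fintype.ofFinite G
  have hΩ : Nat.card α = p := by rw [Nat.card_eq_fintype_card, hα]
  obtain ⟨S, h1, -, h2⟩ := exists_setup P (card_sylow_of_prime_degree hΩ P)
  rw [← h2] at hPE
  rw [← h1] at hPE hPE'
  obtain ⟨a, ha⟩ : ∃ a : α, S.x • a ≠ a := by
    by_contra h
    push Not at h
    exact S.x_ne_one (FaithfulSMul.eq_of_smul_eq_smul (α := α) fun a => by rw [h, one_smul])
  obtain ⟨e, -, he⟩ := exists_coord_of_pow_eq_one hΩ (orderOf_dvd_iff_pow_eq_one.1 S.hx.dvd) ha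
  haveI : IsPretransitive (zpowers S.x) α := ⟨fun b c => ⟨⟨S.x ^ (e c - e b).val,
    pow_mem (mem_zpowers _) _⟩, e.injective (by
      rw [Subgroup.mk_smul, coord_pow he, ZMod.natCast_zmod_val, add_sub_cancel])⟩⟩
  haveI := IsPreprimitive.of_prime_card (G := G) (X := α) (by rw [hΩ]; exact Fact.out)
  haveI : Nonempty α := ⟨a⟩
  have hS : S.C = zpowers S.x := S.C_eq'.trans
    (centralizer_eq_of_transitive (X := α) _ _ (S.zpowers_le_C.trans S.C_eq'.le))
  have hE : E ≤ S.N := hPE ▸ le_sup_right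
  have h3 : ∀ z ∈ E, z ∈ zpowers S.x → z = 1 := fun z hz hz' => hPE'.le ⟨hz', hz⟩
  have h4 : Function.Injective (S.al.comp (inclusion hE)) := (injective_iff_map_eq_one _).2
    fun z hz => Subtype.ext (h3 _ z.2 (hS ▸ (S.al_eq_one_iff _).1 hz))
  obtain ⟨y, rfl⟩ := E.isCyclic_iff_exists_zpowers_eq_top.1 (isCyclic_of_injective _ h4)
  have h5 : ∀ n ∈ S.N, ∃ u ∈ zpowers S.x, ∃ z ∈ zpowers y, n = u * z := fun n hn => by
    obtain ⟨u, hu, z, hz, h⟩ := (coe_mul_of_right_le_normalizer_left _ _ (hE.trans S.N_eq.le)).le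
      (hPE.ge hn)
    exact ⟨u, hu, z, hz, h.symm⟩
  obtain ⟨ψ, hψ, hu⟩ := huniq
  obtain ⟨h6, h7⟩ := Setup.psl_of_unique hS (pPrimeCore_eq_bot_of_primitive (Ω := α) hΩ.symm.dvd)
    ((index_stabilizer_of_transitive G a).trans hΩ) hψ hu (hE (mem_zpowers y)) (by
      rw [← Nat.card_zpowers, ← S.card_range_al, Nat.card_congr (MonoidHom.ofInjective h4).toEquiv]
      congr 2
      refine le_antisymm (fun _ ⟨z, h⟩ => ⟨_, h⟩) ?_
      rintro _ ⟨n, rfl⟩
      obtain ⟨u, hu, z, hz, h⟩ := h5 n n.2
      refine ⟨⟨z, hz⟩, ?_⟩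
      rw [show n = ⟨u, S.C_le_N (hS ▸ hu)⟩ * ⟨z, hE hz⟩ from Subtype.ext h, map_mul,
        (S.al_eq_one_iff _).2 (hS.ge hu), one_mul]
      rfl) h3 h5 (by rw [hNE, Nat.card_zpowers]) fun g z hz hz1 h => by
        by_contra hg
        exact hz1 ((MulAut.conj g).map_eq_one_iff.1 ((hTI g hg).le ⟨h, z, hz, rfl⟩))
  exact ⟨h6, ZMod p, inferInstance, inferInstance, ZMod.card p, h7⟩

end Cfsg.Agent.S4724
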