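import Mathlib
import Cfsg.Statements.S4733
import Cfsg.Agent.Blk.Rank
import Cfsg.Agent.Blk.Contrib2
import Cfsg.Agent.Blk.Idem
import Cfsg.Agent.S0914

set_option autoImplicit false
open Cfsg

namespace Cfsg.Agent.S4733

open Cfsg.Agent.Ch Cfsg.Agent.Blk Cfsg.Agent.Blk.Om


/-- Let p be a prime, M a maximal ideal of the algebraic integers containing p, and B a p-block of the finite group G with k irreducible characters and p-regular rank l (the number of irreducible Brauer characters). Then l ≤ k, and the following are equivalent: B has defect 0; k = l = 1; k = l. -/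
theorem result {G : Type*} [Group G] [Finite G] (p : ℕ) [Fact p.Prime] (M : Ideal Cfsg.AlgInt) (hM : Cfsg.IsPModular p M) (B : Set (Cfsg.IrrCharacter G)) (hB : Cfsg.IsPBlock M B) : Cfsg.blockRank p B ≤ Nat.card B ∧ (Cfsg.blockDefect p B = 0 ↔ (Nat.card B = 1 ∧ Cfsg.blockRank p B = 1)) ∧ (Cfsg.blockDefect p B = 0 ↔ Nat.card B = Cfsg.blockRank p B) := by
  classical
  have := hM.isMaximal
  have := Fintype.ofFinite G
  have hpos := blockRank_pos hM.prime hB.nonempty
  have hle := blockRank_le_card (p := p) B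
  have h1 : blockDefect p B = 0 → Nat.card B = 1 := by
    intro hd
    obtain ⟨χ, hχ, h0⟩ := exists_minVal (p := p) hB.nonempty
    have h2 := minVal_add_blockDefect (p := p) hB.nonempty
    have hdvd := χ.2.charDegree_dvd_card
    have h3 : ¬ p ∣ Nat.card G / charDegree (χ : G → ℂ) := by
      intro h
      have h4 : Nat.card G / charDegree (χ : G → ℂ) ≠ 0 :=
        (Nat.div_pos (Nat.le_of_dvd Nat.card_pos hdvd) χ.2.charDegree_pos).ne'
      have h5 := (hM.prime.dvd_iff_one_le_factorization h4).1 h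
      rw [Nat.factorization_div hdvd] at h5
      simp only [Finsupp.coe_tsub, Pi.sub_apply] at h5
      omega
    rw [hB.eq_blockOf hχ, (S0914.result p M hM χ).1 h3]
    simp
  have h2 : Nat.card B = blockRank p B → blockDefect p B = 0 := by
    intro hk
    have e1 := card_mul_natCard_eq_sum B
    have e2 := card_mul_blockRank hM hB.blockCoeff_mem
    rw [hk, e2, ← sub_eq_zero, ← Finset.sum_sub_distrib] at e1
    have e3 : ∀ g : G, ∑ᶠ χ ∈ B, (χ : G → ℂ) g * (χ : G → ℂ) g⁻¹ =
        ((∑ χ : IrrCharacter G, if χ ∈ B then ‖(χ : G → ℂ) g‖ ^ 2 else 0 : ℝ) : ℂ) := by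
      intro g
      rw [finsum_mem_irr]
      push_cast
      refine Finset.sum_congr rfl fun χ _ => ?_
      split_ifs
      · rw [χ.isCharacter.apply_inv, Complex.mul_conj, Complex.normSq_eq_norm_sq]
      · simp
    have e4 : ∑ g : G, (if p ∣ orderOf g then
        ∑ χ : IrrCharacter G, if χ ∈ B then ‖(χ : G → ℂ) g‖ ^ 2 else 0 else 0 : ℝ) = 0 := by
      have : ((∑ g : G, (if p ∣ orderOf g then
          ∑ χ : IrrCharacter G, if χ ∈ B then ‖(χ : G → ℂ) g‖ ^ 2 else 0 else 0 : ℝ) : ℝ) : ℂ) =
          0 := by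
        rw [← neg_eq_zero, ← e1, Complex.ofReal_sum, ← Finset.sum_neg_distrib]
        refine Finset.sum_congr rfl fun g _ => ?_
        rw [e3]
        split_ifs <;> simp
      exact_mod_cast this
    have hnn : ∀ g : G, (0 : ℝ) ≤
        ∑ χ : IrrCharacter G, if χ ∈ B then ‖(χ : G → ℂ) g‖ ^ 2 else 0 := fun g =>
      Finset.sum_nonneg fun χ _ => by split_ifs <;> positivity
    have hvan : ∀ χ ∈ B, ∀ g : G, p ∣ orderOf g → (χ : G → ℂ) g = 0 := by
      intro χ hχ g hg
      have h3 := (Finset.sum_eq_zero_iff_of_nonneg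
        (fun g _ => by split_ifs; exacts [hnn g, le_rfl])).1 e4 g (Finset.mem_univ _)
      rw [if_pos hg] at h3
      have h4 := (Finset.sum_eq_zero_iff_of_nonneg
        (fun χ _ => by split_ifs <;> positivity)).1 h3 χ (Finset.mem_univ _)
      rw [if_pos hχ] at h4
      simpa using h4
    obtain ⟨χ, hχ, h0⟩ := exists_minVal (p := p) hB.nonempty
    have h5 := apply_div_card_memLocalRing hM χ.isClassFunction (hvan χ hχ)
      (fun η => by rw [classInner_irr]; exact MemLocalRing.ite MemLocalRing.one MemLocalRing.zero) 1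
    have h6 : Nat.card (Subgroup.centralizer ({1} : Set G)) = Nat.card G := by
      rw [show Subgroup.centralizer ({1} : Set G) = ⊤ from by
        ext g; simp [Subgroup.mem_centralizer_iff], Subgroup.card_top]
    rw [h6, ← χ.2.coe_charDegree,
      hM.natCast_div_memLocalRing_iff χ.2.charDegree_pos.ne' Nat.card_pos.ne'] at h5
    rw [blockDefect_eq]
    omega
  refine ⟨hle, ⟨fun hd => ⟨h1 hd, by have := h1 hd; omega⟩, fun h => h2 (by omega)⟩,
    ⟨fun hd => by have := h1 hd; omega, h2⟩⟩

end Cfsg.Agent.S4733
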