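import Cfsg.Statements.S4758
import Cfsg.Agent.Ch.Det
import Cfsg.Agent.Blk.OneAlt
import Cfsg.Agent.S3378
import Cfsg.Agent.S0494
import Cfsg.Agent.Cl.LinearIso
import Cfsg.Agent.GW.Cover
import Cfsg.Agent.GT.PPrimeCore
import Cfsg.Agent.Blk.Q8Group
-- import your own Cfsg.Agent.* helpers here

set_option autoImplicit false
open Cfsg

namespace Cfsg.Agent.S4758

open Cfsg.Agent.Ch ComplexConjugate

section Char

variable {G : Type*} [Group G] [Fintype G] {u : G} {χ θ φ : G → ℂ}

/-- The hypothesis. -/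
def Hyp (u : G) : Prop :=
  ∀ χ, IsIrrCharacter G χ → χ ≠ (fun _ => 1) → χ 1 - χ u = 4 ∨ χ u = 0

/-- Characters of degree three with value `-1`. -/
structure T3 (u : G) (χ : G → ℂ) : Prop where
  irr : IsIrrCharacter G χ
  one : χ 1 = 3
  val : χ u = -1

theorem inner_congr {a b c d : G → ℂ} (h : ∀ g, a g * conj (b g) = c g * conj (d g)) :
    classInner a b = classInner c d := by
  simp only [classInner_def, h]

theorem inner_ne {a b : G → ℂ} (ha : IsIrrCharacter G a) (hb : IsIrrCharacter G b) {m n : ℕ}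
    (h1 : a 1 = m) (h2 : b 1 = n) (h : m ≠ n) : classInner a b = 0 :=
  ha.classInner_eq_zero hb fun e => h (by rw [e, h2] at h1; exact_mod_cast h1.symm)

theorem Hyp.eq_one (h : Hyp u) (hφ : IsIrrCharacter G φ) (h1 : φ u = φ 1) : φ = fun _ => 1 := by
  by_contra hne
  rcases h φ hφ hne with h2 | h2
  · rw [h1, sub_self] at h2; norm_num at h2
  · exact hφ.apply_one_ne_zero (h1.symm.trans h2)

theorem Hyp.cases (h : Hyp u) (hφ : IsIrrCharacter G φ) :
    φ = (fun _ => 1) ∨ T3 u φ ∨ (φ u = 0 ∧ 2 ≤ charDegree φ) ∨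
      (5 ≤ charDegree φ ∧ φ u = (charDegree φ - 4 : ℕ)) := by
  by_cases h1 : φ = fun _ => 1
  · exact Or.inl h1
  right
  have hd := hφ.coe_charDegree
  have hn := hφ.isCharacter.norm_le u
  have h0 := hφ.charDegree_pos
  rcases h φ hφ h1 with h2 | h2
  · have h3 : φ u = charDegree φ - 4 := by rw [hd, ← h2]; ring
    by_cases h5 : 5 ≤ charDegree φ
    · exact Or.inr (Or.inr ⟨h5, by rw [h3, Nat.cast_sub (by omega)]; rfl⟩)
    obtain h4 | h4 | h4 | h4 : charDegree φ = 1 ∨ charDegree φ = 2 ∨ charDegree φ = 3 ∨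
      charDegree φ = 4 := by omega
    · rw [h3, h4] at hn; norm_num at hn
    · exfalso
      have hc := hφ.isCharacter.mul hφ.isCharacter.complexConj
      have hk : u ∈ charKer (φ * fun g => conj (φ g)) := by
        rw [hc.mem_charKer]
        simp only [Pi.mul_apply, h3, ← hd, h4]
        simp [map_ofNat]; norm_num
      have h6 := hc.eq_smul_of_forall_constituent IsIrrCharacter.one fun ξ hξ hne =>
        h.eq_one hξ (hξ.mem_charKer.1 (hc.charKer_le_of_constituent hξ hne hk))
      rw [← classInner_eq_mul_conj_one, hφ.classInner_self] at h6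
      have := congrFun h6 1
      simp only [Pi.mul_apply, ← hd, h4] at this
      simp [map_ofNat] at this; norm_num at this
    · exact Or.inl ⟨hφ, by rw [← hd, h4]; rfl, by rw [h3, h4]; norm_num⟩
    · exact Or.inr (Or.inl ⟨by rw [h3, h4]; norm_num, by omega⟩)
  · refine Or.inr (Or.inl ⟨h2, hφ.two_le_charDegree fun h3 => ?_⟩)
    have := hφ.isCharacter.norm_eq_one_of_apply_one h3 u
    rw [h2] at this; norm_num at this

theorem Hyp.perfect (h : Hyp u) : commutator G = ⊤ := by
  by_contra hne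
  obtain ⟨φ, h1, h2⟩ := exists_irr_ne_one_le_charKer (commutator G) hne
  have h3 := φ.2.apply_one_eq_one_iff_commutator_le.2 h1
  have h4 := φ.2.isCharacter.charDegree_eq_one_iff.2 h3
  rcases h.cases φ.2 with h5 | h5 | h5 | h5
  · exact h2 h5
  · rw [h5.one] at h3; norm_num at h3
  · omega
  · omega

theorem Hyp.exists_T3 (h : Hyp u) (hθ : IsCharacter G θ) (hneg : (θ u).re < 0) :
    ∃ φ, T3 u φ ∧ classInner θ φ ≠ 0 := by
  by_contra hn
  push Not at hn
  obtain ⟨m, hm, he⟩ := hθ.exists_mult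
  refine hneg.not_ge ?_
  rw [he, Finset.sum_apply, Complex.re_sum]
  refine Finset.sum_nonneg fun φ _ => ?_
  rw [Pi.smul_apply, nsmul_eq_mul]
  rcases h.cases φ.2 with h5 | h5 | h5 | h5
  · rw [h5]; simp
  · rw [← hm, hn _ h5]; simp
  · rw [h5.1]; simp
  · rw [h5.2, ← Nat.cast_mul, Complex.natCast_re]; positivity

theorem Hyp.exists_big (h : Hyp u) (hθ : IsCharacter G θ) (h1 : classInner θ (fun _ => 1) = 0)
    (hpos : 0 < (θ u).re) : ∃ φ, IsIrrCharacter G φ ∧ classInner θ φ ≠ 0 ∧ 5 ≤ charDegree φ := by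
  by_contra hn
  push Not at hn
  obtain ⟨m, hm, he⟩ := hθ.exists_mult
  refine hpos.not_ge ?_
  rw [he, Finset.sum_apply, Complex.re_sum]
  refine Finset.sum_nonpos fun φ _ => ?_
  rw [Pi.smul_apply, nsmul_eq_mul]
  rcases h.cases φ.2 with h5 | h5 | h5 | h5
  · rw [← hm, h5, h1]; simp
  · rw [h5.val]; simp
  · rw [h5.1]; simp
  · by_cases h6 : classInner θ φ = 0
    · rw [← hm, h6]; simp
    · exact absurd (hn _ φ.2 h6) h5.1.not_gt

theorem Hyp.not_deg_one (h : Hyp u) (hθ : IsCharacter G θ) (h1 : classInner θ (fun _ => 1) = 0) :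
    θ 1 ≠ 1 := fun h2 => by
  have h3 := hθ.isIrr_of_apply_one h2
  rw [h3.eq_one_of_commutator_eq_top h2 h.perfect, IsIrrCharacter.one.classInner_self] at h1
  exact one_ne_zero h1

theorem sq_three (hG : commutator G = ⊤) (hχ : IsCharacter G χ) (h3 : χ 1 = 3) (g : G) :
    χ (g * g) = χ g ^ 2 - 2 * conj (χ g) := by
  have hd : charDegree χ = 3 := (hχ.charDegree_eq_iff (n := 3)).2 h3
  have hex := hχ.exists_sum_monoidHom_restrict (Subgroup.zpowers g) (by
    rintro _ ⟨a, rfl⟩ _ ⟨b, rfl⟩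
    exact (Commute.zpow_zpow_self g a b).eq)
  rw [hd] at hex
  obtain ⟨l, hl⟩ := hex
  simp only [Fin.sum_univ_three] at hl
  let x : Subgroup.zpowers g := ⟨g, Subgroup.mem_zpowers g⟩
  have hdet : (l 0 x : ℂ) * l 1 x * l 2 x = 1 := by
    obtain ⟨f, hf⟩ := hχ.exists_detHom
    have h1 : f g = 1 := Abelianization.commutator_subset_ker f (hG ▸ Subgroup.mem_top g)
    have h2 := hχ.detChar_restrict (Subgroup.zpowers g) x
    have h4 : (fun y : Subgroup.zpowers g => χ y) = ((fun y => (l 0 y : ℂ)) + fun y => (l 1 y : ℂ))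
        + fun y => (l 2 y : ℂ) := funext hl
    have hc := fun i => isCharacter_monoidHom_units (l i)
    rw [h4, ((hc 0).add (hc 1)).detChar_add (hc 2), (hc 0).detChar_add (hc 1),
      (hc 0).detChar_of_apply_one (by simp), (hc 1).detChar_of_apply_one (by simp),
      (hc 2).detChar_of_apply_one (by simp), hf] at h2
    simpa [x, h1] using h2
  have h1 := hl x
  have h2 := hl (x * x)
  simp only [map_mul, Units.val_mul] at h2
  have h4 := fun i => monoidHom_units_mul_conj (l i) x
  change χ g = _ at h1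
  change χ (g * g) = _ at h2
  rw [h1, h2, map_add, map_add]
  have h5 := h4 0
  have h6 := h4 1
  have h7 := h4 2
  generalize conj (l 0 x : ℂ) = a' at *
  generalize conj (l 1 x : ℂ) = b' at *
  generalize conj (l 2 x : ℂ) = c' at *
  generalize (l 0 x : ℂ) = a at *
  generalize (l 1 x : ℂ) = b at *
  generalize (l 2 x : ℂ) = c at *
  linear_combination (-2 * (a' + b' + c')) * hdet + 2 * b * c * h5 + 2 * a * c * h6 + 2 * a * b * h7

theorem T3.conj (h : T3 u χ) : T3 u fun g => conj (χ g) :=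
  ⟨h.irr.complexConj, by simp [h.one, map_ofNat], by simp [h.val]⟩

theorem T3.ne_one (h : T3 u χ) : χ ≠ fun _ => 1 := fun e => by
  have := h.one; rw [e] at this; norm_num at this

theorem T3.inner_one (h : T3 u χ) : classInner χ (fun _ => 1) = 0 := h.irr.classInner_one h.ne_one

theorem Hyp.isCharacter_sym (h : Hyp u) (hχ : T3 u χ) :
    IsCharacter G (χ * χ - fun g => conj (χ g)) := by
  convert Blk.One.isCharacter_symSq hχ.irr.isCharacter using 1
  funext g
  rw [sq_three h.perfect hχ.irr.isCharacter hχ.one]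
  simp only [Pi.sub_apply, Pi.mul_apply]
  ring

theorem Hyp.real (h : Hyp u) (hχ : T3 u χ) (g : G) : conj (χ g) = χ g := by
  by_contra hne
  have hc := hχ.irr.isCharacter
  have hb := hχ.conj
  have h1 : classInner χ (fun g => conj (χ g)) = 0 :=
    hχ.irr.classInner_eq_zero hb.irr fun e => hne (congrFun e g).symm
  have hS := h.isCharacter_sym hχ
  set S := χ * χ - fun g => conj (χ g) with hSd
  have hS1 : S 1 = 6 := by simp [hSd, hχ.one, map_ofNat]; norm_num
  have hSu : S u = 2 := by simp [hSd, hχ.val]; norm_num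
  have hS0 : classInner S (fun _ => 1) = 0 := by
    rw [hSd, classInner_sub_left, hb.inner_one, sub_zero, ← h1]
    exact inner_congr fun g => by simp
  have hSi : IsIrrCharacter G S := by
    obtain ⟨φ, hφ, hne, h5⟩ := h.exists_big hS hS0 (by rw [hSu]; norm_num)
    have h6 := hS.charDegree_irr_le hφ hne
    rw [(hS.charDegree_eq_iff (n := 6)).2 hS1] at h6
    by_cases h7 : charDegree φ = 5
    · refine absurd ?_ (h.not_deg_one (hS.sub_irr hφ hne) ?_)
      · rw [Pi.sub_apply, hS1, ← hφ.coe_charDegree, h7]; norm_num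
      · rw [classInner_sub_left, hS0, hφ.classInner_one, sub_zero]
        rintro rfl
        rw [charDegree_one] at h5; omega
    · rwa [hS.eq_irr_of_apply_one hφ hne (by
        rw [hS1, ← hφ.coe_charDegree, show charDegree φ = 6 by omega]; rfl)]
  have hχb := hc.mul hb.irr.isCharacter
  have hχb1 : classInner (χ * fun g => conj (χ g)) (fun _ => 1) = 1 := by
    rw [← classInner_eq_mul_conj_one, hχ.irr.classInner_self]
  have hψ := hχb.sub_irr IsIrrCharacter.one (by rw [hχb1]; exact one_ne_zero)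
  set ψ := (χ * fun g => conj (χ g)) - fun _ => 1 with hψd
  have hψi : IsIrrCharacter G ψ := by
    refine hψ.isIrr_of_classInner_self ?_
    have e1 : classInner (χ * fun g => conj (χ g)) (χ * fun g => conj (χ g)) =
        classInner (S + fun g => conj (χ g)) (S + fun g => conj (χ g)) :=
      inner_congr fun g => by simp [hSd]; ring
    have e2 := inner_ne hSi hb.irr (m := 6) (n := 3) hS1 hb.one (by norm_num)
    rw [classInner_add_left, classInner_add_right, classInner_add_right, hSi.classInner_self,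
      hb.irr.classInner_self, e2, classInner_eq_zero_comm.1 e2] at e1
    rw [hψd, classInner_sub_left, classInner_sub_right, classInner_sub_right, e1, hχb1,
      IsCharacter.one.classInner_comm hχb, hχb1, IsIrrCharacter.one.classInner_self]
    norm_num
  have hχS := hc.mul hS
  obtain ⟨θ₁, h₁, hn₁⟩ := h.exists_T3 hχS (by simp [hSu, hχ.val])
  have hχS' := hχS.sub_irr h₁.irr hn₁
  obtain ⟨θ₂, h₂, hn₂⟩ := h.exists_T3 hχS' (by simp [hSu, hχ.val, h₁.val])
  have key : ∀ θ, T3 u θ → classInner ((fun g => conj (χ g)) * θ) S = classInner (χ * S) θ :=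
    fun θ hθ => by
      rw [(hb.irr.isCharacter.mul hθ.irr.isCharacter).classInner_comm hS]
      exact inner_congr fun g => by simp; ring
  have hc₁ := hb.irr.isCharacter.mul h₁.irr.isCharacter
  have hc₂ := hb.irr.isCharacter.mul h₂.irr.isCharacter
  by_cases h12 : θ₁ = θ₂
  · subst h12
    have h2 := hχS'.one_le_re_classInner h₁.irr.isCharacter hn₂
    rw [classInner_sub_left, h₁.irr.classInner_self, ← key _ h₁] at h2
    have h3 := hc₁.mul_charDegree_irr_le hSi (k := 2) (by simp at h2 ⊢; linarith)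
    rw [(hS.charDegree_eq_iff (n := 6)).2 hS1, hc₁.charDegree_eq_iff (n := 9) |>.2
      (by simp [hχ.one, h₁.one, map_ofNat]; norm_num)] at h3
    omega
  · have h0 := h₁.irr.classInner_eq_zero h₂.irr h12
    rw [classInner_sub_left, h0, sub_zero] at hn₂
    have h2 := hc₁.classInner_ne_zero_of_common hc₂ hSi (by rwa [key _ h₁]) (by rwa [key _ h₂])
    have hθ := h₁.irr.isCharacter.mul h₂.irr.isCharacter.complexConj
    have h3 : classInner (θ₁ * fun g => conj (θ₂ g)) (fun _ => 1) = 0 := by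
      rw [← classInner_eq_mul_conj_one, h0]
    have h4 : classInner (θ₁ * fun g => conj (θ₂ g)) ψ ≠ 0 := by
      rw [hψd, classInner_sub_right, h3, sub_zero]
      convert h2 using 1
      exact inner_congr fun g => by simp; ring
    refine h.not_deg_one (hθ.sub_irr hψi h4) ?_ ?_
    · rw [classInner_sub_left, h3, hψd, classInner_sub_left, hχb1,
        IsIrrCharacter.one.classInner_self]
      norm_num
    · simp [hψd, hχ.one, h₁.one, h₂.one, map_ofNat]

/-- The character of degree five. -/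
def sig (χ : G → ℂ) : G → ℂ := χ * χ - χ - fun _ => 1

theorem sig_apply (g : G) : sig χ g = χ g * χ g - χ g - 1 := rfl

theorem T3.sig_one (h : T3 u χ) : sig χ 1 = 5 := by rw [sig_apply, h.one]; norm_num

theorem T3.sig_val (h : T3 u χ) : sig χ u = 1 := by rw [sig_apply, h.val]; norm_num

theorem Hyp.sig_irr (h : Hyp u) (hχ : T3 u χ) : IsIrrCharacter G (sig χ) := by
  have hS := h.isCharacter_sym hχ
  rw [show (fun g => conj (χ g)) = χ from funext (h.real hχ)] at hS
  have h1 : classInner (χ * χ - χ) (fun _ => 1) = 1 := by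
    have e : classInner (χ * χ) (fun _ => 1) = classInner χ χ :=
      inner_congr fun g => by simp [h.real hχ]
    rw [classInner_sub_left, hχ.inner_one, sub_zero, e, hχ.irr.classInner_self]
  have hσ : IsCharacter G (sig χ) := hS.sub_irr IsIrrCharacter.one (by rw [h1]; exact one_ne_zero)
  obtain ⟨φ, hφ, hne, h5⟩ := h.exists_big hσ (by
    rw [sig, classInner_sub_left, h1, IsIrrCharacter.one.classInner_self, sub_self])
    (by rw [hχ.sig_val]; norm_num)
  have h6 := hσ.charDegree_irr_le hφ hne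
  rw [(hσ.charDegree_eq_iff (n := 5)).2 hχ.sig_one] at h6
  rwa [hσ.eq_irr_of_apply_one hφ hne (by
    rw [hχ.sig_one, ← hφ.coe_charDegree, show charDegree φ = 5 by omega]; rfl)]

theorem Hyp.conj_sig (h : Hyp u) (hχ : T3 u χ) (g : G) : conj (sig χ g) = sig χ g := by
  simp [sig_apply, h.real hχ]

theorem Hyp.inner_sig (h : Hyp u) (hχ : T3 u χ) (hθ : T3 u θ) : classInner θ (sig χ) = 0 :=
  inner_ne hθ.irr (h.sig_irr hχ) (m := 3) (n := 5) hθ.one hχ.sig_one (by norm_num)

theorem Hyp.sig_one (h : Hyp u) (hχ : T3 u χ) : classInner (sig χ) (fun _ => 1) = 0 :=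
  inner_ne (h.sig_irr hχ) IsIrrCharacter.one (m := 5) (n := 1) hχ.sig_one (by simp) (by norm_num)

theorem Hyp.inner_mul_mul (h : Hyp u) (hχ : T3 u χ) (hθ : T3 u θ) (hne : χ ≠ θ) :
    classInner (χ * θ) (χ * θ) = 1 + classInner (sig χ) (sig θ) := by
  have e1 : classInner (χ * θ) (χ * θ) =
      classInner (sig χ + χ + fun _ => 1) (sig θ + θ + fun _ => 1) :=
    inner_congr fun g => by simp [sig_apply, h.real hχ, h.real hθ]; ring
  simp only [classInner_add_left, classInner_add_right] at e1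
  rw [e1, classInner_eq_zero_comm.1 (h.inner_sig hχ hθ), h.sig_one hχ, h.inner_sig hθ hχ,
    hχ.irr.classInner_eq_zero hθ.irr hne, hχ.inner_one,
    classInner_eq_zero_comm.1 (h.sig_one hθ), classInner_eq_zero_comm.1 hθ.inner_one,
    IsIrrCharacter.one.classInner_self]
  ring

theorem Hyp.sig_eq (h : Hyp u) (hχ : T3 u χ) (hθ : T3 u θ) : sig χ = sig θ := by
  by_cases hne : χ = θ
  · rw [hne]
  by_contra hs
  have h1 := h.inner_mul_mul hχ hθ hne
  rw [(h.sig_irr hχ).classInner_eq_zero (h.sig_irr hθ) hs, add_zero] at h1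
  have h2 := (hχ.irr.isCharacter.mul hθ.irr.isCharacter).isIrr_of_classInner_self h1
  rcases h _ h2 (fun e => by
    have := congrFun e 1
    simp only [Pi.mul_apply, hχ.one, hθ.one] at this
    norm_num at this) with h3 | h3 <;>
  simp only [Pi.mul_apply, hχ.one, hθ.one, hχ.val, hθ.val] at h3 <;> norm_num at h3

theorem Hyp.apply_sq (h : Hyp u) (hχ : T3 u χ) (g : G) : χ (g * g) = χ g ^ 2 - 2 * χ g := by
  rw [sq_three h.perfect hχ.irr.isCharacter hχ.one, h.real hχ]

theorem Hyp.charKer_le (h : Hyp u) (hχ : T3 u χ) (hθ : T3 u θ) : charKer χ ≤ charKer θ := by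
  intro g hg
  rw [hθ.irr.mem_charKer, hθ.one]
  have h1 := congrFun (h.sig_eq hχ hθ) g
  rw [sig_apply, sig_apply, hχ.irr.mem_charKer.1 hg, hχ.one] at h1
  have h2 : (θ g - 3) * (θ g + 2) = 0 := by linear_combination -h1
  rcases mul_eq_zero.1 h2 with h3 | h3
  · linear_combination h3
  · have h4 := hθ.irr.isCharacter.re_le (g * g)
    rw [h.apply_sq hθ, show θ g = -2 by linear_combination h3, hθ.one] at h4
    norm_num at h4

theorem Hyp.exists_eta (h : Hyp u) (hχ : T3 u χ) : ∃ θ, T3 u θ ∧ χ ≠ θ ∧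
    IsCharacter G (χ * sig χ - sig χ - χ - θ) ∧ classInner (χ * sig χ) (sig χ) = 1 := by
  have hσ := h.sig_irr hχ
  have hΛ : IsCharacter G (χ * sig χ - sig χ) := by
    convert Blk.One.isCharacter_altSq hσ.isCharacter using 1
    funext g
    simp only [Pi.sub_apply, Pi.mul_apply, sig_apply, h.apply_sq hχ]
    ring
  have h1 : classInner (χ * sig χ - sig χ) χ = 1 := by
    have e1 : classInner (χ * sig χ) χ = classInner (sig χ) (sig χ + χ + fun _ => 1) :=
      inner_congr fun g => by simp [sig_apply, h.real hχ]; ring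
    rw [classInner_sub_left, e1, classInner_add_right, classInner_add_right, hσ.classInner_self,
      classInner_eq_zero_comm.1 (h.inner_sig hχ hχ), h.sig_one hχ]
    ring
  have hτ := hΛ.sub_irr hχ.irr (by rw [h1]; exact one_ne_zero)
  obtain ⟨θ, hθ, hne⟩ := h.exists_T3 hτ (by simp [hχ.val, hχ.sig_val])
  have hη := hτ.sub_irr hθ.irr hne
  refine ⟨θ, hθ, fun e => hne ?_, hη, ?_⟩
  · rw [← e, classInner_sub_left, h1, hχ.irr.classInner_self, sub_self]
  · have h2 : classInner (χ * sig χ - sig χ - χ - θ) (sig χ) = 0 := by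
      by_contra h3
      have := hη.charDegree_irr_le hσ h3
      rw [(hσ.isCharacter.charDegree_eq_iff (n := 5)).2 hχ.sig_one, (hη.charDegree_eq_iff (n := 4)).2
        (by simp [hχ.one, hθ.one, hχ.sig_one]; norm_num)] at this
      omega
    rw [classInner_sub_left, classInner_sub_left, classInner_sub_left, hσ.classInner_self,
      h.inner_sig hχ hχ, h.inner_sig hχ hθ] at h2
    linear_combination h2

theorem Hyp.exists_pair (h : Hyp u) (hχ : T3 u χ) : ∃ θ, T3 u θ ∧ χ ≠ θ ∧
    IsIrrCharacter G (χ * θ - sig χ) ∧ ∀ g, χ g * θ g = χ g * sig χ g - χ g - θ g := by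
  obtain ⟨θ, hθ, hne, hη, h1⟩ := h.exists_eta hχ
  obtain ⟨-, -, -, -, h2⟩ := h.exists_eta hθ
  have hs := h.sig_eq hχ hθ
  rw [← hs] at h2
  have hσ := h.sig_irr hχ
  have hc := hχ.irr.isCharacter.mul hθ.irr.isCharacter
  have h3 := h.inner_mul_mul hχ hθ hne
  rw [← hs, hσ.classInner_self] at h3
  have h4 : classInner (χ * θ) (sig χ) ≠ 0 := by
    have e1 : classInner (χ * θ) (sig χ) = classInner (χ * sig χ - sig χ - χ - θ + sig χ + χ + θ) θ :=
      inner_congr fun g => by simp [h.conj_sig hχ, h.real hθ]; ring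
    rw [e1]
    refine (((hη.add hσ.isCharacter).add hχ.irr.isCharacter).classInner_add_ne_zero_iff
      hθ.irr.isCharacter hθ.irr.isCharacter).2 (Or.inr ?_)
    rw [hθ.irr.classInner_self]; exact one_ne_zero
  have hη' := hc.sub_irr hσ h4
  obtain ⟨m, hm⟩ := hc.exists_nat_classInner hσ.isCharacter
  obtain ⟨n, hn⟩ := hη'.exists_nat_classInner hη'
  have hn' := hn
  rw [classInner_sub_left, classInner_sub_right, classInner_sub_right, h3,
    hσ.isCharacter.classInner_comm hc, hm, hσ.classInner_self] at hn'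
  have hmn : n + 2 * m = 3 := by exact_mod_cast (by linear_combination -hn' : (n : ℂ) + 2 * m = 3)
  have hm0 : m ≠ 0 := fun e => h4 (by rw [hm, e, Nat.cast_zero])
  obtain rfl : m = 1 := by omega
  obtain rfl : n = 1 := by omega
  have hi := hη'.isIrr_of_classInner_self (by rw [hn, Nat.cast_one])
  have hi1 : (χ * θ - sig χ) 1 = (4 : ℕ) := by simp [hχ.one, hθ.one, hχ.sig_one]; norm_num
  refine ⟨θ, hθ, hne, hi, fun g => ?_⟩
  have h5 : classInner (χ * sig χ - sig χ - χ - θ) (χ * θ - sig χ) ≠ 0 := by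
    have e1 : classInner (χ * sig χ) (χ * θ) =
        classInner (θ * sig χ + χ * θ + θ) (sig χ) :=
      inner_congr fun g => by simp [sig_apply, h.real hχ, h.real hθ]; ring
    rw [classInner_sub_left, classInner_sub_left, classInner_sub_left,
      inner_ne hσ hi (m := 5) hχ.sig_one hi1 (by norm_num),
      inner_ne hχ.irr hi (m := 3) hχ.one hi1 (by norm_num),
      inner_ne hθ.irr hi (m := 3) hθ.one hi1 (by norm_num), classInner_sub_right, e1,
      classInner_add_left, classInner_add_left, h2, hm, h.inner_sig hχ hθ, h1]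
    norm_num
  have := congrFun (hη.eq_irr_of_apply_one hi h5 (by
    rw [hi1]; simp [hχ.one, hθ.one, hχ.sig_one]; norm_num)) g
  simp only [Pi.sub_apply, Pi.mul_apply] at this
  linear_combination -this

theorem Hyp.poly (h : Hyp u) (hχ : T3 u χ) (g : G) :
    (χ g - 3) * (χ g + 1) * (χ g * sig χ g) = 0 := by
  obtain ⟨θ, hθ, -, -, h1⟩ := h.exists_pair hχ
  have h2 := congrFun (h.sig_eq hχ hθ) g
  have h3 := h1 g
  rw [sig_apply] at h3 ⊢
  rw [sig_apply, sig_apply] at h2
  have h4 : (θ g - χ g) * (θ g + χ g - 1) = 0 := by linear_combination -h2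
  rcases mul_eq_zero.1 h4 with h5 | h5
  · rw [show θ g = χ g by linear_combination h5] at h3
    linear_combination -(χ g * χ g - χ g - 1) * h3
  · rw [show θ g = 1 - χ g by linear_combination h5] at h3
    linear_combination -(χ g - 3) * χ g * h3

theorem Hyp.inner_sq (h : Hyp u) (hχ : T3 u χ) (c : ℂ) :
    (Nat.card G : ℂ) = ∑ g, (χ g + c) * (χ g * sig χ g) := by
  have e1 : classInner (sig χ + (1 + c) • χ + fun _ => 1) (sig χ) = 1 := by
    rw [classInner_add_left, classInner_add_left, classInner_smul_left, h.inner_sig hχ hχ,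
      classInner_eq_zero_comm.1 (h.sig_one hχ), (h.sig_irr hχ).classInner_self]
    ring
  rw [← mul_one (Nat.card G : ℂ), ← e1, card_mul_classInner]
  refine Finset.sum_congr rfl fun g _ => ?_
  simp only [h.conj_sig hχ, Pi.add_apply, Pi.smul_apply, smul_eq_mul]
  rw [sig_apply]
  ring

theorem Hyp.index_charKer (h : Hyp u) (hχ : T3 u χ) : (charKer χ).index = 60 := by
  classical
  have h1 := h.inner_sq hχ 1
  rw [← Finset.sum_filter_add_sum_filter_not _ (· ∈ charKer χ), Finset.sum_eq_zero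
    (s := Finset.univ.filter (· ∉ charKer χ)), Finset.sum_congr rfl (g := fun _ => 60)] at h1
  · rw [add_zero, Finset.sum_const, nsmul_eq_mul, ← Fintype.card_subtype,
      ← Nat.card_eq_fintype_card, ← (charKer χ).card_mul_index] at h1
    have h2 : Nat.card (charKer χ) * (charKer χ).index = Nat.card (charKer χ) * 60 := by
      exact_mod_cast h1
    exact Nat.eq_of_mul_eq_mul_left Nat.card_pos h2
  · intro g hg
    rw [sig_apply, hχ.irr.mem_charKer.1 (Finset.mem_filter.1 hg).2, hχ.one]; norm_num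
  · intro g hg
    have h2 := h.poly hχ g
    rw [mul_assoc] at h2
    refine (mul_eq_zero.1 h2).resolve_left fun h3 => (Finset.mem_filter.1 hg).2 ?_
    rw [hχ.irr.mem_charKer, hχ.one]; linear_combination h3

theorem Hyp.card_neg (h : Hyp u) (hχ : T3 u χ) : Nat.card {g // χ g = -1} * 4 = Nat.card G := by
  classical
  have h1 := h.inner_sq hχ (-3)
  rw [← Finset.sum_filter_add_sum_filter_not _ (χ · = -1), Finset.sum_eq_zero
    (s := Finset.univ.filter (¬ χ · = -1)), Finset.sum_congr rfl (g := fun _ => 4)] at h1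
  · rw [add_zero, Finset.sum_const, nsmul_eq_mul, ← Fintype.card_subtype,
      ← Nat.card_eq_fintype_card] at h1
    exact_mod_cast h1.symm
  · intro g hg
    rw [sig_apply, (Finset.mem_filter.1 hg).2]; norm_num
  · intro g hg
    have h2 : (χ g + 1) * ((χ g + -3) * (χ g * sig χ g)) = 0 := by
      linear_combination h.poly hχ g
    refine (mul_eq_zero.1 h2).resolve_left fun h3 => (Finset.mem_filter.1 hg).2 ?_
    linear_combination h3

theorem Hyp.apply_eq_zero (h : Hyp u) (hu : u ≠ 1) (hχ : T3 u χ) (φ : IrrCharacter G)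
    (hφ : ¬ charKer χ ≤ charKer (φ : G → ℂ)) : (φ : G → ℂ) u = 0 := by
  classical
  have := hχ.irr.isCharacter.charKer_normal
  have h1 := sum_degree_mul_apply_of_ne hu
  have h2 := sum_irr_le_charKer_degree_mul (charKer χ) u
  rw [if_neg (by rw [hχ.irr.mem_charKer, hχ.val, hχ.one]; norm_num)] at h2
  rw [← Finset.sum_filter_add_sum_filter_not _
    (fun φ : IrrCharacter G => charKer χ ≤ charKer (φ : G → ℂ)), h2, zero_add] at h1
  have h3 : ∀ ψ : IrrCharacter G, ¬ charKer χ ≤ charKer (ψ : G → ℂ) →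
      ∃ n : ℕ, (ψ : G → ℂ) u = n := fun ψ hψ => by
    rcases h.cases ψ.2 with h5 | h5 | h5 | h5
    · exact ⟨1, by rw [h5]; simp⟩
    · exact absurd (h.charKer_le hχ h5) hψ
    · exact ⟨0, by rw [h5.1]; simp⟩
    · exact ⟨_, h5.2⟩
  choose! n hn using h3
  rw [Finset.sum_congr rfl (g := fun ψ : IrrCharacter G => ((charDegree (ψ : G → ℂ) * n ψ : ℕ) : ℂ)) fun ψ hψ => by
    rw [hn ψ (Finset.mem_filter.1 hψ).2, Nat.cast_mul, ψ.2.coe_charDegree], ← Nat.cast_sum,
    Nat.cast_eq_zero, Finset.sum_eq_zero_iff] at h1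
  rw [hn φ hφ, (mul_eq_zero.1 (h1 φ (by simpa using hφ))).resolve_left φ.2.charDegree_pos.ne',
    Nat.cast_zero]

theorem Hyp.card_centralizer (h : Hyp u) (hu : u ≠ 1) (hχ : T3 u χ) :
    Nat.card (Subgroup.centralizer ({u} : Set G)) = 4 := by
  classical
  have := hχ.irr.isCharacter.charKer_normal
  obtain ⟨θ, hθ, hne, hη, -⟩ := h.exists_pair hχ
  have hσ := h.sig_irr hχ
  have hθK := h.charKer_le hχ hθ
  have hσK : charKer χ ≤ charKer (sig χ) := fun g hg => by
    rw [hσ.mem_charKer, sig_apply, sig_apply, hχ.irr.mem_charKer.1 hg]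
  let f : Fin 5 → IrrCharacter G := ![irrOne G, ⟨χ, hχ.irr⟩, ⟨θ, hθ.irr⟩, ⟨_, hη⟩, ⟨_, hσ⟩]
  have hd : ∀ i, (f i : G → ℂ) 1 = (![1, 3, 3, 4, 5] i : ℕ) := fun i => by
    fin_cases i <;> simp [f, coe_irrOne, hχ.one, hθ.one, hχ.sig_one]
    norm_num
  have hv : ∀ i, ‖(f i : G → ℂ) u‖ ^ 2 = ![1, 1, 1, 0, 1] i := fun i => by
    fin_cases i <;> simp [f, coe_irrOne, hχ.val, hθ.val, hχ.sig_val]
  have hinj : Function.Injective f := fun i j hij => by
    have h1 := hd i
    rw [hij, hd j, Nat.cast_inj] at h1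
    fin_cases i <;> fin_cases j <;> simp at h1 ⊢
    · exact hne (congrArg Subtype.val hij)
    · exact hne (congrArg Subtype.val hij).symm
  have hsub : Finset.univ.map ⟨f, hinj⟩ ⊆ Finset.univ.filter
      fun φ : IrrCharacter G => charKer χ ≤ charKer (φ : G → ℂ) := fun φ hφ => by
    obtain ⟨i, -, rfl⟩ := Finset.mem_map.1 hφ
    refine Finset.mem_filter.2 ⟨Finset.mem_univ _, ?_⟩
    fin_cases i
    · exact le_top.trans charKer_one.ge
    · exact le_rfl
    · exact hθK
    · exact (le_inf ((le_inf le_rfl hθK).trans (inf_charKer_le_mul _ _)) hσK).trans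
        (inf_charKer_le_sub _ _)
    · exact hσK
  have heq : Finset.univ.map ⟨f, hinj⟩ = Finset.univ.filter
      fun φ : IrrCharacter G => charKer χ ≤ charKer (φ : G → ℂ) := by
    by_contra hne
    have h1 := sum_irr_le_charKer_sq (charKer χ)
    obtain ⟨φ, h2, h3⟩ := Finset.exists_of_ssubset (hsub.ssubset_of_ne hne)
    have h4 := Finset.sum_lt_sum_of_subset (f := fun φ : IrrCharacter G =>
      charDegree (φ : G → ℂ) ^ 2) hsub h2 h3 (pow_pos φ.2.charDegree_pos 2) fun _ _ _ => zero_le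
    rw [h1, h.index_charKer hχ, Finset.sum_map] at h4
    simp only [Function.Embedding.coeFn_mk, charDegree_of_apply_one (hd _), Fin.sum_univ_five] at h4
    simp at h4
  have h1 := sum_irr_norm_sq u
  rw [← Finset.sum_filter_add_sum_filter_not _
    (fun φ : IrrCharacter G => charKer χ ≤ charKer (φ : G → ℂ)), ← heq, Finset.sum_map,
    Finset.sum_eq_zero (s := Finset.filter _ _) fun φ hφ => by
      rw [h.apply_eq_zero hu hχ φ (Finset.mem_filter.1 hφ).2]; simp] at h1
  simp only [Function.Embedding.coeFn_mk, hv, Fin.sum_univ_five] at h1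
  simp [-Nat.card_eq_fintype_card] at h1
  exact_mod_cast (by linarith : (Nat.card (Subgroup.centralizer ({u} : Set G)) : ℝ) = 4)

theorem Hyp.isConj (h : Hyp u) (hu : u ≠ 1) (hχ : T3 u χ) {k : ℕ} :
    ∀ {g : G}, g ^ 2 ^ k = 1 → g ∉ charKer χ → IsConj u g := by
  have h1 : ∀ g, χ g = -1 → IsConj u g := by
    have h2 := card_isConj_mul_card_centralizer u
    rw [h.card_centralizer hu hχ, ← h.card_neg hχ] at h2
    have h3 : {x | IsConj u x} = {g | χ g = -1} :=
      Set.eq_of_subset_of_ncard_le (fun x hx => by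
        obtain ⟨c, rfl⟩ := isConj_iff.1 hx
        exact (hχ.irr.isClassFunction u c).trans hχ.val)
        (Nat.eq_of_mul_eq_mul_right (by norm_num) h2).ge
    exact fun g hg => (Set.ext_iff.1 h3 g).2 hg
  have h2 : ∀ k : ℕ, ∀ g : G, g ^ 2 ^ k = 1 → χ g = 3 ∨ χ g = -1 := by
    intro k
    induction k with
    | zero => intro g hg; rw [pow_zero, pow_one] at hg; exact Or.inl (hg ▸ hχ.one)
    | succ k ih =>
      intro g hg
      have h3 := ih (g * g) (by rw [← sq, ← pow_mul, ← pow_succ', hg])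
      rw [h.apply_sq hχ] at h3
      rcases h3 with h3 | h3
      · have : (χ g - 3) * (χ g + 1) = 0 := by linear_combination h3
        exact (mul_eq_zero.1 this).imp (fun h => by linear_combination h)
          fun h => by linear_combination h
      · have h4 : χ g = 1 := by
          have : (χ g - 1) ^ 2 = 0 := by linear_combination h3
          linear_combination pow_eq_zero_iff two_ne_zero |>.1 this
        have := h.poly hχ g
        rw [sig_apply, h4] at this
        norm_num at this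
  intro g hg hK
  exact h1 g ((h2 k g hg).resolve_left fun h3 => hK (hχ.irr.mem_charKer.2 (h3.trans hχ.one.symm)))

theorem Hyp.exists_three (h : Hyp u) (hu : u ≠ 1) : ∃ χ, T3 u χ := by
  by_contra hn
  push Not at hn
  have h1 := congrArg Complex.re (sum_degree_mul_apply_of_ne hu)
  rw [Complex.re_sum, Complex.zero_re] at h1
  refine (Finset.sum_pos' (fun φ _ => ?_) ⟨irrOne G, Finset.mem_univ _, by simp [coe_irrOne]⟩).ne' h1
  rw [← φ.2.coe_charDegree]
  rcases h.cases φ.2 with h5 | h5 | h5 | h5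
  · rw [h5]; simp
  · exact absurd h5 (hn _)
  · rw [h5.1]; simp
  · rw [h5.2, ← Nat.cast_mul, Complex.natCast_re]; positivity

end Char

section Grp

open Subgroup

variable {G : Type*} [Group G] [Finite G]

theorem inv_of_fpf {H : Subgroup G} {s : G} (hn : s ∈ normalizer (H : Set G))
    (h2 : ∀ x ∈ H, s * s * x = x * (s * s)) (hf : ∀ x ∈ H, s * x = x * s → x = 1) :
    ∀ x ∈ H, s * x * s⁻¹ = x⁻¹ := by
  let φ : MulAut H := H.normalizerMonoidHom ⟨s, hn⟩
  have hφ : ∀ x : H, (φ x : G) = s * x * s⁻¹ := fun _ => rfl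
  have h3 := MonoidHom.FixedPointFree.coe_eq_inv_of_involutive (φ := φ)
    (fun x hx => Subtype.ext (hf x x.2 (by
      have := congrArg Subtype.val hx
      rw [hφ] at this
      exact mul_inv_eq_iff_eq_mul.1 this)))
    (fun x => Subtype.ext (by
      rw [hφ, hφ]
      calc s * (s * x * s⁻¹) * s⁻¹ = s * s * x * (s * s)⁻¹ := by group
        _ = x := by rw [h2 x x.2, mul_inv_cancel_right]))
  intro x hx
  exact congrArg Subtype.val (congrFun h3 ⟨x, hx⟩)

omit [Finite G] in
theorem eq_inv_of_three {a b x : G} (ha : a * x⁻¹ * a⁻¹ = x⁻¹⁻¹) (hb : b * x * b⁻¹ = x⁻¹)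
    (hab : a * b * x * (a * b)⁻¹ = x⁻¹) : x = x⁻¹ := by
  rw [← hab, show a * b * x * (a * b)⁻¹ = a * (b * x * b⁻¹) * a⁻¹ by group, hb, ha, inv_inv]

/-- The group-theoretic data. -/
structure Dat (K : Subgroup G) (u : G) : Prop where
  idx : K.index = 60
  not_mem : u ∉ K
  sq_mem : u * u ∈ K
  cen : Nat.card (centralizer ({u} : Set G)) = 4
  cj : ∀ {k : ℕ} {g : G}, g ^ 2 ^ k = 1 → g ∉ K → IsConj u g

variable {K : Subgroup G} [K.Normal] {u : G}

omit [Finite G] [K.Normal] in
theorem Dat.of_isConj (h : Dat K u) {s : G} (hs : IsConj u s) :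
    Nat.card (centralizer ({s} : Set G)) = 4 ∧ orderOf s = orderOf u := by
  obtain ⟨c, rfl⟩ := isConj_iff.1 hs
  refine ⟨?_, (MulAut.conj c).orderOf_eq u⟩
  rw [← h.cen]
  refine Nat.card_congr ((MulAut.conj c).symm.toEquiv.subtypeEquiv fun x => ?_)
  simp only [mem_centralizer_singleton_iff, MulEquiv.toEquiv_eq_coe, EquivLike.coe_coe,
    MulAut.conj_symm_apply]
  constructor <;> intro e
  · calc c⁻¹ * x * c * u = c⁻¹ * (x * (c * u * c⁻¹)) * c := by group
      _ = _ := by rw [e]; group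
  · calc x * (c * u * c⁻¹) = c * (c⁻¹ * x * c * u) * c⁻¹ := by group
      _ = _ := by rw [e]; group

omit [Finite G] [K.Normal] in
theorem Dat.ord (h : Dat K u) : orderOf u = 2 ∨ orderOf u = 4 := by
  have h1 : orderOf u ∣ 2 ^ 2 := by
    have := Subgroup.orderOf_dvd_natCard _ (mem_centralizer_singleton_iff.2 rfl :
      u ∈ centralizer ({u} : Set G))
    rwa [h.cen] at this
  obtain ⟨k, hk, h2⟩ := (Nat.dvd_prime_pow Nat.prime_two).1 h1
  interval_cases k
  · exact absurd (orderOf_eq_one_iff.1 h2 ▸ K.one_mem) h.not_mem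
  · exact Or.inl h2
  · exact Or.inr h2

theorem Dat.exists_sylow (h : Dat K u) : ∃ S : Sylow 2 G, u ∈ S ∧
    Nat.card S = Nat.card (K.subgroupOf S) * 4 ∧ (∃ s ∈ S, s ∉ K ∧ u * s ∉ K) ∧
      ∀ s ∈ S, s ∉ K → IsConj u s ∧ s * s = u * u := by
  classical
  have hp : IsPGroup 2 (zpowers u) := by
    rcases h.ord with h1 | h1
    · exact IsPGroup.of_card (n := 1) (by rw [Nat.card_zpowers, h1]; rfl)
    · exact IsPGroup.of_card (n := 2) (by rw [Nat.card_zpowers, h1]; rfl)
  obtain ⟨S, hS⟩ := hp.exists_le_sylow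
  have huS : u ∈ S := hS (mem_zpowers u)
  have h4 : Nat.card ((S : Subgroup G).map (QuotientGroup.mk' K)) = 4 := by
    have := (S.mapSurjective (QuotientGroup.mk'_surjective K)).card_eq_multiplicity
    rw [← index_eq_card, h.idx] at this
    exact this.trans (by decide +kernel)
  have hc : ∀ s ∈ S, s ∉ K → IsConj u s := fun s hs hK => by
    obtain ⟨k, hk⟩ := S.isPGroup' ⟨s, hs⟩
    exact h.cj (congrArg Subtype.val hk) hK
  refine ⟨S, huS, ?_, ?_, ?_⟩
  · rw [← h4, ← relIndex_ker, QuotientGroup.ker_mk', relIndex, card_mul_index]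
  · by_contra hn
    push Not at hn
    have h5 : ((S : Subgroup G).map (QuotientGroup.mk' K) : Set (G ⧸ K)) ⊆
        {1, (QuotientGroup.mk' K u)⁻¹} := by
      rintro _ ⟨s, hs, rfl⟩
      by_cases hK : s ∈ K
      · exact Or.inl ((QuotientGroup.eq_one_iff s).2 hK)
      · exact Or.inr (eq_inv_of_mul_eq_one_right ((QuotientGroup.eq_one_iff _).2 (hn s hs hK)))
    have h6 := (Set.ncard_le_ncard h5).trans (Set.ncard_insert_le _ _)
    rw [Set.ncard_singleton, ← Nat.card_coe_set_eq, SetLike.coe_sort_coe, h4] at h6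
    omega
  · suffices ∃ z, ∀ s ∈ S, s ∉ K → s * s = z by
      obtain ⟨z, hz⟩ := this
      exact fun s hs hK => ⟨hc s hs hK, (hz s hs hK).trans (hz u huS h.not_mem).symm⟩
    rcases h.ord with h1 | h1
    · exact ⟨1, fun s hs hK => by
        rw [← sq, ← h1, ← (h.of_isConj (hc s hs hK)).2, pow_orderOf_eq_one]⟩
    · have : Nontrivial S := ⟨⟨⟨u, huS⟩, 1, fun e => h.not_mem (by
        rw [show u = 1 from congrArg Subtype.val e]; exact K.one_mem)⟩⟩
      have := S.isPGroup'.center_nontrivial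
      obtain ⟨z, hz⟩ := exists_prime_orderOf_dvd_card' (G := center S) 2 (by
        obtain ⟨n, hn, e⟩ := (S.isPGroup'.to_subgroup (center S)).nontrivial_iff_card.1 this
        rw [e]; exact dvd_pow_self 2 hn.ne')
      refine ⟨z.1.1, fun s hs hK => ?_⟩
      obtain ⟨h2, h3⟩ := h.of_isConj (hc s hs hK)
      have h5 : zpowers s = centralizer {s} := eq_of_le_of_card_ge
        (zpowers_le.2 (mem_centralizer_singleton_iff.2 rfl)) (by rw [h2, Nat.card_zpowers, h3, h1])
      have h6 : z.1.1 ∈ zpowers s := h5 ▸ mem_centralizer_singleton_iff.2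
        (congrArg Subtype.val (mem_center_iff.1 z.2 ⟨s, hs⟩)).symm
      have h7 : orderOf (z.1.1 : G) = 2 := by rw [Subgroup.orderOf_coe, Subgroup.orderOf_coe, hz]
      rw [mem_zpowers_iff_mem_range_orderOf, h3, h1] at h6
      obtain ⟨i, hi, e⟩ := Finset.mem_image.1 h6
      rw [← e, orderOf_pow, h3, h1] at h7
      rw [Finset.mem_range] at hi
      interval_cases i <;> simp at h7
      rw [← e, sq]

theorem Dat.not_dvd (h : Dat K u) : ¬ orderOf u ∣ Nat.card K := by
  obtain ⟨S, huS, hc, ⟨s, hs, hsK, husK⟩, hS⟩ := h.exists_sylow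
  have hinv : ∀ s ∈ S, s ∉ K → ∀ t ∈ S, t ∈ K → s * t * s⁻¹ = t⁻¹ := fun s hs hK t ht htK => by
    have h1 := (hS (t * s) (S.1.mul_mem ht hs) fun e => hK ((K.mul_mem_cancel_left htK).1 e)).2
    rw [← (hS s hs hK).2] at h1
    calc s * t * s⁻¹ = t⁻¹ * (t * s * (t * s)) * (s * s)⁻¹ := by group
      _ = _ := by rw [h1, mul_inv_cancel_right]
  have hT : ∀ t ∈ S, t ∈ K → t = t⁻¹ := fun t ht htK =>
    eq_inv_of_three (hinv u huS h.not_mem _ (S.1.inv_mem ht) (K.inv_mem htK))
      (hinv s hs hsK t ht htK) (hinv _ (S.1.mul_mem huS hs) husK t ht htK)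
  have hle : Nat.card S ≤ 2 * orderOf u := by
    rcases h.ord with h1 | h1
    · have h2 : ∀ x ∈ S, x * x = 1 := fun x hx => by
        by_cases hK : x ∈ K
        · exact mul_eq_one_iff_eq_inv.2 (hT x hx hK)
        · rw [(hS x hx hK).2, ← sq, ← h1, pow_orderOf_eq_one]
      rw [h1, ← show 4 = 2 * 2 from rfl, ← h.cen]
      refine card_le_of_le fun x hx => mem_centralizer_singleton_iff.2 ?_
      rw [mul_eq_one_iff_eq_inv.1 (h2 _ (S.1.mul_mem hx huS)), mul_inv_rev,
        ← mul_eq_one_iff_eq_inv.1 (h2 _ hx), ← mul_eq_one_iff_eq_inv.1 (h2 _ huS)]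
    · have h2 : (S : Subgroup G) ⊓ K < centralizer {u} := by
        refine lt_of_le_of_ne (fun t ht => mem_centralizer_singleton_iff.2 ?_) fun e => h.not_mem ?_
        · have := hinv u huS h.not_mem t ht.1 ht.2
          rw [← hT t ht.1 ht.2] at this
          exact (mul_inv_eq_iff_eq_mul.1 this).symm
        · exact (e.ge (mem_centralizer_singleton_iff.2 rfl)).2
      have h3 := card_dvd_of_le h2.le
      have h4 : Nat.card ↥((S : Subgroup G) ⊓ K) ≠ 4 := fun e =>
        h2.ne (eq_of_le_of_card_ge h2.le (by rw [e, h.cen]))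
      have h5 : Nat.card (K.subgroupOf S) = Nat.card ↥((S : Subgroup G) ⊓ K) := by
        rw [← inf_subgroupOf_left, Nat.card_congr (subgroupOfEquivOfLe inf_le_left).toEquiv]
      rw [h.cen] at h3
      have h6 := Nat.le_of_dvd (by norm_num) h3
      rw [hc, h5, h1]
      generalize Nat.card ↥((S : Subgroup G) ⊓ K) = m at *
      interval_cases m <;> omega
  intro hd
  have h7 : 4 * orderOf u ∣ Nat.card S := by
    have h8 : 4 * orderOf u ∣ Nat.card G := by
      rw [← K.card_mul_index, h.idx, mul_comm]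
      exact mul_dvd_mul hd (by norm_num)
    rcases h.ord with h1 | h1 <;> rw [h1] at h8 ⊢
    · exact S.pow_dvd_card_of_pow_dvd_card (n := 3) h8
    · exact S.pow_dvd_card_of_pow_dvd_card (n := 4) h8
  have := Nat.le_of_dvd Nat.card_pos h7
  have := orderOf_pos u
  omega

theorem Dat.comm (h : Dat K u) : IsMulCommutative (oddCore G) := by
  obtain ⟨S, huS, -, ⟨s, hs, hsK, husK⟩, hS⟩ := h.exists_sylow
  have hodd : ∀ x ∈ oddCore G, Odd (orderOf x) := fun x hx =>
    (GT.odd_card_oddCore (G := G)).of_dvd_nat (Subgroup.orderOf_dvd_natCard _ hx)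
  have hinv : ∀ s ∈ S, s ∉ K → ∀ x ∈ oddCore G ⊓ centralizer {u * u}, s * x * s⁻¹ = x⁻¹ :=
    fun s hs hK => by
      obtain ⟨h1, h2⟩ := hS s hs hK
      refine inv_of_fpf (inf_normalizer_le_normalizer_inf ⟨?_, ?_⟩)
        (fun x hx => ?_) fun x hx e => ?_
      · rw [normalizer_eq_top]; trivial
      · exact le_normalizer (mem_centralizer_singleton_iff.2 (by rw [← h2, mul_assoc]))
      · rw [h2]; exact (mem_centralizer_singleton_iff.1 hx.2).symm
      · have h3 := Subgroup.orderOf_dvd_natCard _ (mem_centralizer_singleton_iff.2 e.symm)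
        rw [(h.of_isConj h1).1] at h3
        exact orderOf_eq_one_iff.1 (Nat.Coprime.eq_one_of_dvd
          ((Nat.coprime_two_right.2 (hodd x hx.1)).pow_right 2) h3)
  have h1 : ∀ x ∈ oddCore G, u * u * x = x * (u * u) → x = 1 := fun x hx e => by
    have hm : x ∈ oddCore G ⊓ centralizer {u * u} := ⟨hx, mem_centralizer_singleton_iff.2 e.symm⟩
    have h2 := eq_inv_of_three (hinv u huS h.not_mem _ (inv_mem hm))
      (hinv s hs hsK x hm) (hinv _ (S.1.mul_mem huS hs) husK x hm)
    refine orderOf_eq_one_iff.1 (Nat.Coprime.eq_one_of_dvd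
      (Nat.coprime_two_right.2 (hodd x hx)) (orderOf_dvd_of_pow_eq_one ?_))
    rw [sq]; exact mul_eq_one_iff_eq_inv.2 h2
  have h4 : u * u * (u * u) = 1 := by
    have : u ^ 4 = 1 := orderOf_dvd_iff_pow_eq_one.1 (by rcases h.ord with e | e <;> simp [e])
    rw [← this, show 4 = 2 + 2 from rfl, pow_add, sq]
  have h2 := inv_of_fpf (H := oddCore G) (s := u * u) (by rw [normalizer_eq_top]; trivial)
    (fun x _ => by rw [h4, one_mul, mul_one]) h1
  refine ⟨⟨fun a b => Subtype.ext ?_⟩⟩
  have h3 := h2 _ (mul_mem a.2 b.2)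
  rw [show u * u * ((a : G) * b) * (u * u)⁻¹ = u * u * a * (u * u)⁻¹ * (u * u * b * (u * u)⁻¹) by
    group, h2 _ a.2, h2 _ b.2, ← mul_inv_rev, inv_inj] at h3
  exact h3.symm

theorem Dat.main [Group.IsPerfect G] (h : Dat K u) :
    (Nonempty (G ⧸ oddCore G ≃* Matrix.ProjectiveSpecialLinearGroup (Fin 2) (ZMod 5)) ∧
      orderOf u = 2) ∨
    (Nonempty (G ⧸ oddCore G ≃* Matrix.SpecialLinearGroup (Fin 2) (ZMod 5)) ∧ orderOf u = 4) := by
  have h60 : Nat.card (G ⧸ K) = 60 := h.idx
  have : Nontrivial (G ⧸ K) := Finite.one_lt_card_iff_nontrivial.1 (by omega)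
  have := S3378.simple_sixty h60 (Group.IsPerfect.not_isSolvable _)
  obtain ⟨e⟩ := S0494.result h60
  let e' := e.trans Cl.psl2_zmod_five_equiv_alt.some.symm
  have hOK : oddCore G ≤ K := by
    rcases (inferInstance : ((oddCore G).map (QuotientGroup.mk' K)).Normal).eq_bot_or_eq_top with
      h1 | h1
    · rwa [Subgroup.map_eq_bot_iff, QuotientGroup.ker_mk'] at h1
    · have h2 := (GT.odd_card_oddCore (G := G)).of_dvd_nat
        (card_map_dvd (oddCore G) (QuotientGroup.mk' K))
      rw [h1, card_top, h60] at h2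
      exact absurd h2 (by decide)
  have hd := h.not_dvd
  rcases h.ord with h1 | h1 <;> rw [h1] at hd
  · have h2 : oddCore G = K := hOK.antisymm
      (GT.le_oddCore (Nat.not_even_iff_odd.1 (mt even_iff_two_dvd.1 hd)))
    exact Or.inl ⟨⟨(QuotientGroup.quotientMulEquivOfEq h2).trans e'⟩, h1⟩
  · refine Or.inr ⟨?_, h1⟩
    let π₀ : G ⧸ oddCore G →* G ⧸ K := QuotientGroup.map _ _ (MonoidHom.id G) hOK
    have hk : π₀.ker = K.map (QuotientGroup.mk' _) :=
      QuotientGroup.ker_map _ _ _ _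
    have hne : π₀.ker ≠ ⊥ := by
      rw [hk, Ne, Subgroup.map_eq_bot_iff, QuotientGroup.ker_mk']
      intro hle
      have h2 := (GT.odd_card_oddCore (G := G)).of_dvd_nat
        (Subgroup.orderOf_dvd_natCard _ (hle h.sq_mem))
      rw [← sq, orderOf_pow, h1] at h2
      exact absurd h2 (by decide)
    have hc : Nat.card π₀.ker = 2 := by
      obtain ⟨P, N, hN, hNP⟩ := Blk.Q8.nc_two_of_not_four_dvd hd
      have h2 : N ≤ (oddCore G).subgroupOf K := by
        have h3 : N ≤ oddCore K := GT.le_oddCore (Nat.coprime_two_right.1 (by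
          rw [← hNP.index_eq_card]; exact (Nat.Prime.coprime_iff_not_dvd Nat.prime_two).2
            P.not_dvd_index |>.symm))
        intro x hx
        exact ((GT.pPrimeCoreOf_eq_inf (p := 2) K).le ⟨x, h3 hx, rfl⟩).1
      have h3 := index_dvd_of_le h2
      rw [hNP.symm.index_eq_card] at h3
      obtain ⟨n, hn⟩ := P.isPGroup'.exists_card_eq
      have h4 := card_subgroup_dvd_card (P : Subgroup K)
      have h5 : n ≤ 1 := by
        by_contra h6
        exact hd ((pow_dvd_pow 2 (show 2 ≤ n by omega)).trans (hn ▸ h4))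
      have h6 : Nat.card π₀.ker ∣ 2 := by
        rw [hk, ← relIndex_ker, QuotientGroup.ker_mk', relIndex]
        exact h3.trans (hn ▸ (pow_dvd_pow 2 h5))
      exact ((Nat.dvd_prime Nat.prime_two).1 h6).resolve_left fun e => hne (card_eq_one.1 e)
    have hk' : (e'.toMonoidHom.comp π₀).ker = π₀.ker := MonoidHom.ker_comp_of_injective _ _ e'.injective
    refine GW.nonempty_sl2 (by simp; decide) (by simp) (e'.toMonoidHom.comp π₀)
      (e'.surjective.comp fun x => ?_) ?_ ?_ ?_
    · obtain ⟨x, rfl⟩ := QuotientGroup.mk_surjective x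
      exact ⟨x, rfl⟩
    · rw [hk']
      obtain ⟨z, hz, hu⟩ := (Nat.card_eq_two_iff' (1 : π₀.ker)).1 hc
      intro x hx
      refine mem_center_iff.2 fun g => ?_
      by_cases h2 : x = 1
      · simp [h2]
      · have h3 := hu ⟨x, hx⟩ fun e => h2 (congrArg Subtype.val e)
        have h4 := hu ⟨g * x * g⁻¹, Normal.conj_mem inferInstance x hx g⟩ fun e =>
          h2 (by simpa using congrArg Subtype.val e)
        exact mul_inv_eq_iff_eq_mul.1 (congrArg Subtype.val (h4.trans h3.symm))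
    · rw [hk']; exact IsPGroup.of_card (n := 1) hc
    · rwa [hk']

end Grp


/-- Let u ≠ 1 be an element of the finite group G such that every non-principal irreducible character χ satisfies χ(1) − χ(u) = 4 or χ(u) = 0. Then O(G), the largest normal subgroup of odd order, is abelian, and either G ⧸ O(G) ≅ PSL₂(5) and u is an involution, or G ⧸ O(G) ≅ SL₂(5) and u has order 4. -/
theorem result {G : Type*} [Group G] [Finite G] (u : G) (hu : u ≠ 1) (hyp : ∀ χ : Cfsg.IrrCharacter G, (χ : G → ℂ) ≠ (fun _ => (1 : ℂ)) → ((χ : G → ℂ) 1 - (χ : G → ℂ) u = 4 ∨ (χ : G → ℂ) u = 0)) : IsMulCommutative ↥(Cfsg.oddCore G) ∧ ((Nonempty (G ⧸ Cfsg.oddCore G ≃* Matrix.ProjectiveSpecialLinearGroup (Fin 2) (ZMod 5)) ∧ orderOf u = 2) ∨ (Nonempty (G ⧸ Cfsg.oddCore G ≃* Matrix.SpecialLinearGroup (Fin 2) (ZMod 5)) ∧ orderOf u = 4)) := by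
  classical
  have := Fintype.ofFinite G
  have h : Hyp u := fun χ hχ => hyp ⟨χ, hχ⟩
  obtain ⟨χ, hχ⟩ := h.exists_three hu
  have := hχ.irr.isCharacter.charKer_normal
  have : Group.IsPerfect G := ⟨h.perfect⟩
  have hD : Dat (charKer χ) u := ⟨h.index_charKer hχ, by
    rw [hχ.irr.mem_charKer, hχ.val, hχ.one]; norm_num, by
    rw [hχ.irr.mem_charKer, h.apply_sq hχ, hχ.val, hχ.one]; norm_num,
    h.card_centralizer hu hχ, h.isConj hu hχ⟩
  exact ⟨hD.comm, hD.main⟩

end Cfsg.Agent.S4758
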