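import Mathlib
import Cfsg.Statements.S4759
import Cfsg.Agent.Blk.DadeMain

set_option autoImplicit false
open Cfsg

namespace Cfsg.Agent.S4759

open Cfsg.Agent.Ch

open Cfsg.Agent.Blk.Dade Cfsg.Agent.GT Cfsg.Agent.GT.PG Subgroup in
theorem ext_unique {G : Type*} [Group G] [Finite G] {F S S' : Subgroup G} {z : G} (hF : ESZ 2 F z)
    {χ χ' : G → ℂ} (e : Ext F S z χ) (e' : Ext F S' z χ') {f : G} (hf : f ∈ F) : χ f = χ' f := by
  have h1 : χ 1 = χ' 1 := by
    have a : χ 1 = _ := (IsCharacter.coe_charDegree e.ch).symm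
    have b : χ' 1 = _ := (IsCharacter.coe_charDegree e'.ch).symm
    have c := e.deg.trans e'.deg.symm
    rw [a, b] at c ⊢
    have d := mul_left_cancel₀ two_ne_zero c
    norm_cast at d ⊢
    exact Nat.pow_left_injective two_ne_zero d
  by_cases hz : f ∈ zpowers z
  · rcases (mem_zpowers_iff_of_two hF.orderOf_z).1 hz with rfl | rfl
    · exact h1
    · rw [e.neg, e'.neg, h1]
  · rw [(e.ch.mono le_sup_left).vanish hF e.neg hf hz,
      (e'.ch.mono le_sup_left).vanish hF e'.neg hf hz]

open Cfsg.Agent.Blk.Dade Cfsg.Agent.GT Cfsg.Agent.GT.PG Subgroup in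

/-- Let G be a finite group that is the semidirect product of a normal extraspecial 2-subgroup E and a complement H acting faithfully on E (no non-identity element of H centralizes E), and suppose H has a normal subgroup K of odd order with [E, K] = E. Then every faithful irreducible character θ of E (there is exactly one) extends to G: some irreducible character of G restricts to θ on E. -/
theorem result {G : Type*} [Group G] [Finite G] (E H : Subgroup G) [E.Normal] (hE : Cfsg.IsExtraspecial 2 ↥E) (hEH : E ⊓ H = ⊥) (hEHtop : E ⊔ H = ⊤) (hfaith : ∀ h ∈ H, (∀ e ∈ E, h * e = e * h) → h = 1) (K : Subgroup G) (hKH : K ≤ H) (hKn : ∀ h ∈ H, ∀ k ∈ K, h * k * h⁻¹ ∈ K) (hKodd : Odd (Nat.card ↥K)) (hEK : ⁅E, K⁆ = E) (θ : Cfsg.IrrCharacter ↥E) (hθ : ∀ e : ↥E, (θ : ↥E → ℂ) e = (θ : ↥E → ℂ) 1 → e = 1) : ∃ χ : Cfsg.IrrCharacter G, ∀ e : ↥E, (χ : G → ℂ) e = (θ : ↥E → ℂ) e := by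
  obtain ⟨z, hz, -⟩ := exists_esz hE
  have hN : ∀ X : Subgroup G, X ≤ normalizer (E : Set G) := fun X => le_normalizer_of_normal
  have hI : IsCh E (extendByZero E θ) := isCh_extendByZero θ.2.isCharacter
  have hneg : extendByZero E (θ : E → ℂ) z = -extendByZero E (θ : E → ℂ) 1 := by
    rw [extendByZero_of_mem _ _ hz.z_mem, extendByZero_of_mem _ _ (one_mem _)]
    have h1 := θ.2.apply_mul_of_mem_center (z := ⟨z, hz.z_mem⟩)
      (mem_center_iff.2 fun g => Subtype.ext (hz.commute_z g.2).eq) ⟨z, hz.z_mem⟩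
    rw [show (⟨z, hz.z_mem⟩ * ⟨z, hz.z_mem⟩ : E) = 1 from Subtype.ext (by
      simpa [sq] using hz.z_pow)] at h1
    rcases mul_self_eq_mul_self_iff.1 h1.symm with e | e
    · exact absurd (congrArg Subtype.val (hθ _ e)) hz.z_ne_one
    · exact e
  have e0 : Ext E ⊥ z (extendByZero E θ) :=
    ⟨hI.mono (by simp), hneg, (hI.irr_iff hz hneg).1 (by simpa using θ.2)⟩
  have hHK : H ≤ normalizer (K : Set G) := fun h hh =>
    mem_normalizer_iff_of_finite.2 (hKn h hh)
  obtain ⟨P⟩ : Nonempty (Sylow 2 H) := inferInstance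
  set S := (P : Subgroup H).map H.subtype
  have hSH : S ≤ H := map_subtype_le _
  have hES : E ⊓ S = ⊥ := eq_bot_iff.2 ((inf_le_inf_left _ hSH).trans hEH.le)
  have hyp : Hyp E K S z := by
    refine ⟨hz, hN _, hN _, hSH.trans hHK, hKodd, P.isPGroup'.map _, hES, ?_⟩
    refine le_trans (le_inf inf_le_left ?_) hz.center_eq.le
    rw [← CopAct.commutator_eq_bot_iff]
    nth_rewrite 1 [← hEK]
    apply commutator_commutator_eq_bot_of_rotate
    · rw [CopAct.commutator_eq_bot_iff.2 (inf_le_right : E ⊓ centralizer (K : Set G) ≤ _),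
        commutator_bot_left]
    · rw [eq_bot_iff]
      refine (commutator_mono ((commutator_mono inf_le_left le_rfl).trans hz.commutator_le)
        le_rfl).trans (le_of_eq (CopAct.commutator_eq_bot_iff.2 fun k hk c hc => ?_))
      exact (commute_of_mem_normalizer hz (hN K hk) hc).symm
  obtain ⟨χ, e⟩ := main _ G E K S z (Nat.lt_succ_self _) hyp
  obtain ⟨χ', h1, h2⟩ := extends_of_primes (N := E) θ.2 (fun g n => by
    have := ext_unique hz (e0.conj (g := g) (map_conj_eq_of_normal E g) (Subgroup.map_bot _)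
      (commute_z_of_mem_normalizer hz (hN ⊤ (mem_top g)))) e0 n.2
    rwa [extendByZero_coe, extendByZero_of_mem] at this) (fun p hp _ hd => by
    have h2 : p = 2 := by
      obtain ⟨m, hm⟩ := hz.isPGroup.exists_card_eq
      have : p ∣ Nat.card E := by
        rcases (Nat.Prime.dvd_mul hp).1 hd with h | h
        · exact h.trans θ.2.isCharacter.detOrder_dvd_card
        · exact h.trans θ.2.charDegree_dvd_card
      rw [hm] at this
      exact (Nat.prime_dvd_prime_iff_eq hp Nat.prime_two).1 (hp.dvd_of_dvd_pow this)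
    subst h2
    refine ⟨E ⊔ S, le_sup_left, fun x => χ x, ?_, e.ch, fun n => by
      rw [← extendByZero_coe E (θ : E → ℂ) n]; exact ext_unique hz e e0 n.2⟩
    have c1 := CopAct.card_sup_of_inf_eq_bot (hN H) hEH
    have c2 := CopAct.card_sup_of_inf_eq_bot (hN S) hES
    have c3 := (E ⊔ S).card_mul_index
    have c4 := (P : Subgroup H).card_mul_index
    rw [hEHtop, card_top, ← c4, ← c3, c2, card_map_of_injective H.subtype_injective,
      mul_assoc] at c1
    rw [Nat.eq_of_mul_eq_mul_left Nat.card_pos (Nat.eq_of_mul_eq_mul_left Nat.card_pos c1)]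
    exact P.not_dvd_index)
  exact ⟨⟨χ', h1⟩, h2⟩

end Cfsg.Agent.S4759
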