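import Cfsg.Statements.S4763
import Cfsg.Agent.Deg.Over
import Cfsg.Agent.S4452
import Cfsg.Agent.FG.ClassCount
-- import your own Cfsg.Agent.* helpers here

set_option autoImplicit false
open Cfsg

namespace Cfsg.Agent.S4763

open Cfsg.Agent.Ch Cfsg.Agent.Deg
open scoped ComplexConjugate

theorem commutator_le {G : Type*} [Group G] [Finite G] (p : ℕ) [hp : Fact p.Prime] (hnil : ¬ Group.IsNilpotent G) (N : Subgroup G) [N.Normal] (hN : (Nat.card N).Coprime p) (hidx : ∃ k : ℕ, N.index = p ^ k) (hone : Nat.card {χ : Cfsg.IrrCharacter G // p ∣ Cfsg.charDegree (χ : G → ℂ)} = 1) : commutator G ≤ N := by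
  classical
  have := Fintype.ofFinite G
  by_contra hc
  obtain ⟨k, hk⟩ := hidx
  obtain ⟨β, hβ, hNβ, hβ1⟩ := exists_nonlinear_le_charKer N hc
  have hpβ : p ∣ charDegree β :=
    prime_dvd_of_dvd_pow_of_ne_one hp.out (hk ▸ charDegree_dvd_index_of_le_charKer hβ hNβ) hβ1
  have hsub := (Nat.card_eq_one_iff_unique.1 hone).1
  have huniq : ∀ χ, IsIrrCharacter G χ → p ∣ charDegree χ → N ≤ charKer χ := by
    intro χ hχ hd
    have : (⟨⟨χ, hχ⟩, hd⟩ : {χ : Cfsg.IrrCharacter G // p ∣ Cfsg.charDegree (χ : G → ℂ)}) =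
      ⟨⟨β, hβ⟩, hpβ⟩ := hsub.elim _ _
    have h2 : χ = β := congrArg (fun x => x.1.1) this
    exact h2 ▸ hNβ
  have hNb : N ≠ ⊥ := by
    rintro rfl
    rw [Subgroup.index_bot] at hk
    exact hnil (IsPGroup.of_card hk).isNilpotent
  obtain ⟨θ, hθ, hθ1⟩ := exists_irr_ne_one hNb
  by_cases hI : inertia N θ = ⊤
  · obtain ⟨χ, hχ, he⟩ := extends_of_coprime_card hθ (inertia_eq_top_iff.1 hI) (hk ▸ hN.pow_right k)
    have hres : (fun n : N => χ n) = θ := funext he
    have h1 := gallagher_mul_irr hχ.isCharacter (hres ▸ hθ) hβ hNβ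
    have h2 := classInner_res_mul_ne_zero (hres ▸ hθ : IsIrrCharacter N fun n : N => χ n) hβ hNβ
    rw [hres] at h2
    refine hθ1 (eq_one_of_le_charKer_of_over h1.isCharacter hθ h2 (huniq _ h1 ?_))
    rw [hβ.isCharacter.charDegree_mul hχ.isCharacter]
    exact hpβ.mul_right _
  · obtain ⟨χ, hχ, ho⟩ := exists_irr_over N hθ
    refine hθ1 (eq_one_of_le_charKer_of_over hχ.isCharacter hθ ho (huniq _ hχ ?_))
    refine dvd_trans ?_ (index_inertia_dvd hχ hθ ho)
    exact prime_dvd_of_dvd_pow_of_ne_one hp.out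
      (hk ▸ Subgroup.index_dvd_of_le (le_inertia hθ.isClassFunction))
      (fun e => hI (Subgroup.index_eq_one.1 e))

theorem card_classes {G : Type*} [Group G] [Finite G] (p : ℕ) [hp : Fact p.Prime] (P : Sylow p G)
    (h : Subgroup.normalizer (P : Set G) ≤ Subgroup.centralizer (P : Set G)) :
    Nat.card {C : ConjClasses G // ¬ p ∣ Nat.card C.carrier} =
      Nat.card (ConjClasses (Subgroup.normalizer (P : Set G))) := by
  symm
  have key : ∀ x : Subgroup.normalizer (P : Set G), ¬ p ∣ Nat.card (ConjClasses.mk (x : G)).carrier := by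
    intro x hx
    rw [FG.natCard_carrier_mk] at hx
    refine P.not_dvd_index (hx.trans (Subgroup.index_dvd_of_le fun y hy => ?_))
    exact Subgroup.mem_centralizer_singleton_iff.2 (h x.2 y hy)
  let f : ConjClasses (Subgroup.normalizer (P : Set G)) →
      {C : ConjClasses G // ¬ p ∣ Nat.card C.carrier} := fun c =>
    ⟨ConjClasses.map (Subgroup.subtype _) c, by
      obtain ⟨x, rfl⟩ := ConjClasses.mk_surjective c
      exact key x⟩
  refine Nat.card_eq_of_bijective f ⟨?_, ?_⟩
  · intro c d hcd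
    obtain ⟨x, rfl⟩ := ConjClasses.mk_surjective c
    obtain ⟨y, rfl⟩ := ConjClasses.mk_surjective d
    have h1 : ConjClasses.mk (x : G) = ConjClasses.mk (y : G) := congrArg Subtype.val hcd
    obtain ⟨g, hg⟩ := isConj_iff.1 (ConjClasses.mk_eq_mk_iff_isConj.1 h1)
    obtain ⟨n, hn, e⟩ := P.conj_eq_normalizer_conj_of_mem_centralizer x g⁻¹ (h x.2)
      (by rw [inv_inv, hg]; exact h y.2)
    rw [inv_inv, hg] at e
    refine ConjClasses.mk_eq_mk_iff_isConj.2 (isConj_iff.2 ⟨⟨n, hn⟩⁻¹, Subtype.ext ?_⟩)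
    simpa using e.symm
  · rintro ⟨C, hC⟩
    obtain ⟨x, rfl⟩ := ConjClasses.mk_surjective C
    rw [FG.natCard_carrier_mk] at hC
    obtain ⟨Q⟩ : Nonempty (Sylow p (Subgroup.centralizer ({x} : Set G))) := inferInstance
    have hQ : IsPGroup p ((Q : Subgroup _).map (Subgroup.centralizer ({x} : Set G)).subtype) :=
      Q.isPGroup'.map _
    have hi : ¬ p ∣ ((Q : Subgroup _).map (Subgroup.centralizer ({x} : Set G)).subtype).index := by
      rw [Subgroup.index_map_subtype]
      exact fun hh => (hp.out.dvd_mul.1 hh).elim Q.not_dvd_index hC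
    obtain ⟨g, hg⟩ := MulAction.exists_smul_eq G (hQ.toSylow hi) P
    have hm : g * x * g⁻¹ ∈ Subgroup.centralizer (P : Set G) := by
      intro y hy
      rw [← hg] at hy
      obtain ⟨z, hz, rfl⟩ := hy
      obtain ⟨w, -, rfl⟩ := hz
      have := Subgroup.mem_centralizer_singleton_iff.1 w.2
      simp only [Subgroup.coe_subtype, MulDistribMulAction.toMonoidEnd_apply, MulDistribMulAction.toMonoidHom_apply, MulAut.smul_def, MulAut.conj_apply]
      calc _ = g * (w * x) * g⁻¹ := by group
        _ = _ := by rw [this]; group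
    refine ⟨ConjClasses.mk ⟨g * x * g⁻¹, Subgroup.centralizer_le_normalizer _ hm⟩, Subtype.ext ?_⟩
    exact ConjClasses.mk_eq_mk_iff_isConj.2 (isConj_iff.2 ⟨g, rfl⟩).symm

theorem card_compl {α : Type*} [Finite α] (q : α → Prop) :
    Nat.card {x // q x} + Nat.card {x // ¬ q x} = Nat.card α := by
  classical
  rw [← Nat.card_sum]
  exact Nat.card_congr (Equiv.sumCompl q)

/-- Let p be a prime and G a finite group that is not nilpotent and has a normal p-complement (a normal subgroup of order prime to p and index a power of p). If G has exactly one irreducible complex character of degree divisible by p, then G has exactly one conjugacy class whose size is divisible by p. -/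
theorem result {G : Type*} [Group G] [Finite G] (p : ℕ) [Fact p.Prime] (hnil : ¬ Group.IsNilpotent G) (N : Subgroup G) [N.Normal] (hN : (Nat.card N).Coprime p) (hidx : ∃ k : ℕ, N.index = p ^ k) (hone : Nat.card {χ : Cfsg.IrrCharacter G // p ∣ Cfsg.charDegree (χ : G → ℂ)} = 1) : Nat.card {C : ConjClasses G // p ∣ Nat.card C.carrier} = 1 := by
  have hp : p.Prime := Fact.out
  have hc := commutator_le p hnil N hN hidx hone
  obtain ⟨P⟩ : Nonempty (Sylow p G) := inferInstance
  obtain ⟨k, hk⟩ := hidx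
  obtain ⟨m, hm⟩ := P.isPGroup'.exists_card_eq
  have hcop : (Nat.card N).Coprime (Nat.card P) := hm ▸ hN.pow_right m
  have hdis : N ⊓ P = ⊥ := disjoint_iff.1 (Subgroup.disjoint_of_coprime_natCard hcop)
  have htop : N ⊔ P = ⊤ := by
    rw [← Subgroup.index_eq_one]
    by_contra h1
    have h2 : (N ⊔ P).index ∣ p ^ k := by
      rw [← hk]; exact Subgroup.index_dvd_of_le le_sup_left
    exact P.not_dvd_index ((prime_dvd_of_dvd_pow_of_ne_one hp
      h2 h1).trans (Subgroup.index_dvd_of_le le_sup_right))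
  have hNC : Subgroup.normalizer (P : Set G) ≤ Subgroup.centralizer (P : Set G) := by
    intro n hn y hy
    have h1 : n * y * n⁻¹ * y⁻¹ ∈ N ⊓ P :=
      ⟨hc (Subgroup.commutator_mem_commutator (Subgroup.mem_top n) (Subgroup.mem_top y)),
        Subgroup.mul_mem _ ((Subgroup.mem_normalizer_iff.1 hn y).1 hy) (Subgroup.inv_mem _ hy)⟩
    rw [hdis, Subgroup.mem_bot] at h1
    calc y * n = (n * y * n⁻¹ * y⁻¹) * (y * n) := by rw [h1, one_mul]
      _ = n * y := by group
  have hm0 : m ≠ 0 := by
    rintro rfl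
    obtain ⟨⟨χ, hχ⟩⟩ := (Nat.card_eq_one_iff_unique.1 hone).2
    have := hχ.trans χ.2.charDegree_dvd_card
    rw [← (P : Subgroup G).index_mul_card, hm, pow_zero, mul_one] at this
    exact P.not_dvd_index this
  have hiff : ∀ d : ℕ, d.Coprime (Nat.card P) ↔ ¬ p ∣ d := by
    intro d
    rw [hm, Nat.coprime_pow_right_iff (Nat.pos_of_ne_zero hm0), Nat.coprime_comm, hp.coprime_iff_not_dvd]
  have h1 := S4452.result N P htop hcop (have := P.isPGroup'.isNilpotent; inferInstance)
  simp only [hiff] at h1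
  have h2 : Nat.card {η : Cfsg.IrrCharacter (Subgroup.normalizer (P : Set G)) // ¬ p ∣ (Cfsg.charDegree (η : Subgroup.normalizer (P : Set G) → ℂ))} = Nat.card (IrrCharacter (Subgroup.normalizer (P : Set G))) := by
    refine Nat.card_congr (Equiv.subtypeUnivEquiv fun η hη => ?_)
    have hn : ((P : Subgroup G).subgroupOf (Subgroup.normalizer (P : Set G))).Normal :=
      Subgroup.normal_in_normalizer (H := (P : Subgroup G))
    have := η.2.charDegree_dvd_index_of_comm ((P : Subgroup G).subgroupOf (Subgroup.normalizer (P : Set G))) (fun a ha b hb => Subtype.ext (hNC b.2 a ha))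
    exact P.not_dvd_index ((hη.trans this).trans (Subgroup.relIndex_dvd_index_of_le Subgroup.le_normalizer))
  have h3 := card_classes p P hNC
  have h4 := card_compl (fun χ : IrrCharacter G => p ∣ Cfsg.charDegree (χ : G → ℂ))
  have h5 := card_compl (fun C : ConjClasses G => p ∣ Nat.card C.carrier)
  rw [card_irr] at h2 h4
  have h6 : Nat.card {χ : IrrCharacter G // ¬ p ∣ Cfsg.charDegree (χ : G → ℂ)} = _ := h1.trans h2
  omega

end Cfsg.Agent.S4763
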