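import Mathlib
import Cfsg.Statements.S4779
import Cfsg.Agent.Deg.GraphD

set_option autoImplicit false
set_option linter.style.haveILetI false
set_option linter.unusedVariables false
open Cfsg

namespace Cfsg.Agent.S4779

open Cfsg.Agent.Deg.Gr

/-- Let N be a solvable normal subgroup of the finite group G contained in the derived subgroup of G, and consider the common-divisor graph on the relative degree set cd(G|N) (degrees of irreducible complex characters of G whose kernel does not contain N, two distinct degrees adjacent when not coprime). If this graph has two vertices that are not joined by any path, then there is a vertex a₀ such that any two distinct vertices in the component of a₀ are adjacent, and any two distinct vertices outside that component are adjacent or have a common neighbour (one component is complete, the other has diameter at most 2). -/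
theorem result {G : Type*} [Group G] [Finite G] (N : Subgroup G) [N.Normal] [Group.IsSolvable N] (hNG : N ≤ commutator G) (hdisc : ¬ (Cfsg.commonDivisorGraph.induce (Cfsg.relCharDegrees N)).Preconnected) : ∃ a₀ : ↥(Cfsg.relCharDegrees N), (∀ b c : ↥(Cfsg.relCharDegrees N), (Cfsg.commonDivisorGraph.induce (Cfsg.relCharDegrees N)).Reachable a₀ b → (Cfsg.commonDivisorGraph.induce (Cfsg.relCharDegrees N)).Reachable a₀ c → b ≠ c → (Cfsg.commonDivisorGraph.induce (Cfsg.relCharDegrees N)).Adj b c) ∧ (∀ b c : ↥(Cfsg.relCharDegrees N), ¬ (Cfsg.commonDivisorGraph.induce (Cfsg.relCharDegrees N)).Reachable a₀ b → ¬ (Cfsg.commonDivisorGraph.induce (Cfsg.relCharDegrees N)).Reachable a₀ c → b ≠ c → (Cfsg.commonDivisorGraph.induce (Cfsg.relCharDegrees N)).Adj b c ∨ ∃ d : ↥(Cfsg.relCharDegrees N), (Cfsg.commonDivisorGraph.induce (Cfsg.relCharDegrees N)).Adj b d ∧ (Cfsg.commonDivisorGraph.induce (Cfsg.relCharDegrees N)).Adj d c) := by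
  simp only [SimpleGraph.Preconnected, not_forall] at hdisc
  obtain ⟨u, v, huv⟩ := hdisc
  obtain ⟨p, hp, hpm⟩ := exists_prime_dvd_relIndex (commutator_lt_dgr u.2)
  obtain ⟨a, b₀, hab, ha, hb⟩ : ∃ a b₀ : relCharDegrees N, ¬ (RG N).Reachable a b₀ ∧ p ∣ a.1 ∧
      ¬ p ∣ b₀.1 := by
    rcases shape_or hNG hp hpm huv with h | h
    · exact ⟨v, u, fun h' => huv h'.symm, h.2 p hp hpm,
        fun h' => not_coprime_of_dvd hp.ne_one h' hpm h.1⟩
    · exact ⟨u, v, huv, h.2 p hp hpm, fun h' => not_coprime_of_dvd hp.ne_one h' hpm h.1⟩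
  have hin : ∀ c, (RG N).Reachable a c → p ∣ c.1 := fun c hc =>
    (shape_of_not_reach hNG hp hpm (fun h => hab (hc.trans h.symm)) hb).2 p hp hpm
  have hout : ∀ c, ¬ (RG N).Reachable a c → (⁅N, N⁆.relIndex N).Coprime c.1 := fun c hc =>
    (shape_of_not_reach hNG hp hpm (fun h => hc h.symm) fun h =>
      hc (reach_of_not_coprime (not_coprime_of_dvd hp.ne_one ha h))).1.symm
  refine ⟨a, fun b c h1 h2 h3 =>
    adj_of_not_coprime h3 (not_coprime_of_dvd hp.ne_one (hin b h1) (hin c h2)),
    fun b c h1 h2 h3 => ?_⟩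
  by_cases hbc : b.1.Coprime c.1
  swap
  · exact Or.inl (adj_of_not_coprime h3 hbc)
  obtain ⟨d, hd, d1, d2⟩ := common_neighbour _ N rfl hNG
    {d | ∃ hd : d ∈ relCharDegrees N, ¬ (RG N).Reachable a ⟨d, hd⟩}
    (by
      rintro x ⟨hx, h⟩ y hy hxy
      exact ⟨hy, fun h' => h (h'.trans
        (reach_of_not_coprime (a := ⟨x, hx⟩) (b := ⟨y, hy⟩) hxy).symm)⟩)
    (by
      rintro x ⟨hx, h⟩
      exact hout _ h) b.1 b.2 c.1 c.2 ⟨b.2, h1⟩ ⟨c.2, h2⟩ hbc
  refine Or.inr ⟨⟨d, hd⟩, adj_of_not_coprime ?_ d1, (adj_of_not_coprime ?_ d2).symm⟩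
  · rintro rfl
    exact d2 hbc.symm
  · rintro rfl
    exact d1 hbc

end Cfsg.Agent.S4779
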