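import Mathlib
import Cfsg.Agent.Gar.E
import Cfsg.Statements.S4783

set_option autoImplicit false
open Cfsg

namespace Cfsg.Agent.S4783

/-- A finite solvable group with exactly four distinct irreducible complex character degrees has trivial fourth derived subgroup (derived length at most 4). -/
theorem result {G : Type*} [Group G] [Finite G] [Group.IsSolvable G] (hcd : Nat.card ↥(Cfsg.charDegrees G) = 4) : derivedSeries G 4 = ⊥ := by
  have h1 : (charDegrees G \ {1}).ncard = 3 := by
    rw [Set.ncard_sdiff_singleton_of_mem Ch.degK_one_mem_charDegrees, ← Nat.card_coe_set_eq, hcd]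
  obtain ⟨x, y, z, -, -, -, h2⟩ := Set.ncard_eq_three.1 h1
  exact Gar.garrison G inferInstance x y z fun χ hχ h =>
    h2.le ⟨Deg.mem_charDegrees.2 ⟨χ, hχ, rfl⟩, h⟩

end Cfsg.Agent.S4783
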