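import Cfsg.Statements.S4838
import Cfsg.Agent.Deg.Gagola
import Cfsg.Agent.GT.PGroupChain
-- import your own Cfsg.Agent.* helpers here

set_option autoImplicit false
open Cfsg

namespace Cfsg.Agent.S4838

open Cfsg.Agent.Ch Cfsg.Agent.Deg
open scoped ComplexConjugate

/-- Let G be a finite group of order greater than 2 with an irreducible character χ nonzero on exactly two conjugacy classes, N the normal p-subgroup of elements where χ is nonzero, and P a Sylow p-subgroup of G. Then (a) for every x outside N the centralizer of x in G has the same order as the centralizer of xN in G/N; (b) the centre of P lies in N, and equals N exactly when P is normal in G; (c) N, viewed inside P, is a term of the upper central series of P. -/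
theorem result {G : Type*} [Group G] [Finite G] (hG : 2 < Nat.card G) (χ : Cfsg.IrrCharacter G) (hχ : Nat.card {C : ConjClasses G // ∃ g ∈ C.carrier, (χ : G → ℂ) g ≠ 0} = 2) (p : ℕ) [Fact p.Prime] (N : Subgroup G) [N.Normal] (hN : ∀ g : G, g ∈ N ↔ (χ : G → ℂ) g ≠ 0) (hNp : IsPGroup p N) (hN1 : N ≠ ⊥) (P : Sylow p G) :
    (∀ x : G, x ∉ N → Nat.card (Subgroup.centralizer ({x} : Set G)) = Nat.card (Subgroup.centralizer ({(x : G ⧸ N)} : Set (G ⧸ N)))) ∧
      ((Subgroup.center ↥(P : Subgroup G)).map (P : Subgroup G).subtype ≤ N ∧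
        ((Subgroup.center ↥(P : Subgroup G)).map (P : Subgroup G).subtype = N ↔ (P : Subgroup G).Normal)) ∧
      (∃ i : ℕ, Subgroup.upperCentralSeries ↥(P : Subgroup G) i = N.subgroupOf (P : Subgroup G)) := by
  classical
  have h := gag_of_mem hG χ.2 hχ hN
  have hp : p.Prime := Fact.out
  have hNP : N ≤ P := (GT.le_pCore hNp).trans (GT.pCore_le_sylow P)
  have key : ∀ y : (P : Subgroup G), (y : G) ∉ N →
      Nat.card N ≤ (Subgroup.centralizer ({y} : Set (P : Subgroup G))).index := by
    intro y hy
    set D := Subgroup.centralizer ({y} : Set (P : Subgroup G)) with hD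
    have h1 : Nat.card D ∣ N.index := by
      have h2 : D.map (P : Subgroup G).subtype ≤ Subgroup.centralizer ({(y : G)} : Set G) := by
        rintro _ ⟨z, hz, rfl⟩
        rw [Subgroup.mem_centralizer_singleton_iff]
        exact congrArg Subtype.val (Subgroup.mem_centralizer_singleton_iff.1 hz)
      have h3 := Subgroup.card_dvd_of_le h2
      rw [GT.card_map_subtype, h.card_centralizer_eq_quotient hy] at h3
      exact h3.trans (Subgroup.card_subgroup_dvd_card _)
    obtain ⟨a, ha⟩ := IsPGroup.iff_card.1 hNp
    obtain ⟨b, hb⟩ := IsPGroup.iff_card.1 (P.isPGroup'.to_subgroup D)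
    have h2 : p ^ (a + b) ∣ Nat.card G := by
      rw [← Subgroup.card_mul_index N, pow_add, ← ha, ← hb]
      exact Nat.mul_dvd_mul_left _ h1
    have h3 := P.pow_dvd_card_of_pow_dvd_card h2
    rw [← Subgroup.card_mul_index D, pow_add, ← ha, ← hb, mul_comm] at h3
    exact Nat.le_of_dvd (Nat.pos_of_ne_zero Subgroup.index_ne_zero_of_finite)
      (Nat.dvd_of_mul_dvd_mul_left Nat.card_pos h3)
  have step : ∀ (y : (P : Subgroup G)) (K : Subgroup (P : Subgroup G)),
      (∀ g : (P : Subgroup G), y * g * y⁻¹ * g⁻¹ ∈ K) → (y : G) ∉ N → Nat.card N ≤ Nat.card K := by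
    intro y K hK hy
    refine (key y hy).trans ?_
    rw [← card_isConj_eq_index]
    refine Nat.card_le_card_of_injective (fun z => ⟨y * z.1⁻¹, ?_⟩) fun z w he => ?_
    · obtain ⟨c, hc⟩ := isConj_iff.1 z.2
      have := hK c
      rw [← hc]
      convert this using 1
      group
    · exact Subtype.ext (inv_injective (mul_left_cancel (congrArg Subtype.val he)))
  have hZ : (Subgroup.center ↥(P : Subgroup G)).map (P : Subgroup G).subtype ≤ N := by
    rintro _ ⟨y, hy, rfl⟩
    by_contra hyN
    have := step y ⊥ (fun g => by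
      rw [Subgroup.mem_bot, ← Subgroup.mem_center_iff.1 hy g]; group) hyN
    rw [Subgroup.card_bot] at this
    exact absurd h.one_lt_card (not_lt.2 this)
  refine ⟨fun x hx => h.card_centralizer_eq_quotient hx, ⟨hZ, fun he => ?_, fun hn => ?_⟩, ?_⟩
  · obtain ⟨x, hx, hx1⟩ := (Subgroup.bot_or_exists_ne_one N).resolve_left h.ne_bot
    have h1 : (P : Subgroup G) ≤ Subgroup.centralizer (N : Set G) := by
      intro g hg n hn
      rw [← he] at hn
      obtain ⟨z, hz, rfl⟩ := hn
      exact (congrArg Subtype.val (Subgroup.mem_center_iff.1 hz ⟨g, hg⟩)).symm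
    have h2 : IsPGroup p (Subgroup.centralizer (N : Set G)) :=
      (h.isPGroup_centralizer hp hNp hx hx1).to_le
        (Subgroup.centralizer_le (Set.singleton_subset_iff.2 hx))
    rw [← P.is_maximal' h2 h1]
    infer_instance
  · refine le_antisymm hZ (h.le_of_normal _ ?_)
    have : Nontrivial (P : Subgroup G) :=
      (Subgroup.nontrivial_iff_ne_bot _).2 fun hb => h.ne_bot (le_bot_iff.1 (hb ▸ hNP))
    have h1 := P.isPGroup'.center_nontrivial
    rw [Subgroup.nontrivial_iff_ne_bot] at h1
    intro hb
    exact h1 ((Subgroup.map_eq_bot_iff_of_injective _ Subtype.val_injective).1 hb)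
  · have h1 : ∀ i, Subgroup.upperCentralSeries ↥(P : Subgroup G) i ≤ N.subgroupOf P ∨
        ∃ j, Subgroup.upperCentralSeries ↥(P : Subgroup G) j = N.subgroupOf P := by
      intro i
      induction i with
      | zero => left; simp
      | succ i ih =>
        rcases ih with ih | ih
        · by_cases he : Subgroup.upperCentralSeries ↥(P : Subgroup G) i = N.subgroupOf P
          · exact Or.inr ⟨i, he⟩
          · left
            intro y hy
            by_contra hyN
            have h2 := step y _ (Subgroup.mem_upperCentralSeries_succ_iff.1 hy) hyN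
            have h3 := GT.card_lt_of_lt (lt_of_le_of_ne ih he)
            rw [GT.card_subgroupOf_of_le hNP] at h3
            omega
        · exact Or.inr ih
    have := P.isPGroup'.isNilpotent
    obtain ⟨n, hn⟩ := Group.IsNilpotent.nilpotent ↥(P : Subgroup G)
    rcases h1 n with h2 | h2
    · exact ⟨n, le_antisymm h2 (hn ▸ le_top)⟩
    · exact h2

end Cfsg.Agent.S4838
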