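import Cfsg.Statements.S4805
import Cfsg.Agent.Deg.ClassDiff
import Cfsg.Agent.Deg.Gagola2
import Cfsg.Agent.S4838
-- import your own Cfsg.Agent.* helpers here

set_option autoImplicit false
open Cfsg

namespace Cfsg.Agent.S4805

open Cfsg.Agent.Ch Cfsg.Agent.Deg
open scoped ComplexConjugate

theorem not_dvd_index {G : Type*} [Group G] [Finite G] {χ : G → ℂ} (h : Gag χ (commutator G))
    (hχ : Nat.card {C : ConjClasses G // ∃ g ∈ C.carrier, χ g ≠ 0} = 2)
    {p : ℕ} (hp : p.Prime) (hp2 : p ≠ 2) (hN : IsPGroup p (commutator G)) :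
    ¬ p ∣ (commutator G).index := by
  have := Fact.mk hp
  obtain ⟨P⟩ : Nonempty (Sylow p G) := inferInstance
  have hNP : commutator G ≤ P := (GT.le_pCore hN).trans (GT.pCore_le_sylow P)
  have hPn : (P : Subgroup G).Normal := Subgroup.Normal.of_commutator_le _ hNP
  have hC : Subgroup.centralizer (commutator G : Set G) = P :=
    (h.centralizer_eq_pCore hp hN).trans (GT.pCore_eq_sylow P)
  have hcomm : ∀ a ∈ (P : Subgroup G), ∀ b ∈ (P : Subgroup G), a * b = b * a := by
    intro a ha b hb
    by_contra hne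
    have hz : a * b * a⁻¹ * b⁻¹ ∈ commutator G :=
      Subgroup.commutator_mem_commutator (Subgroup.mem_top a) (Subgroup.mem_top b)
    have hz1 : a * b * a⁻¹ * b⁻¹ ≠ 1 := fun h1 => hne (by
      rwa [mul_inv_eq_one, mul_inv_eq_iff_eq_mul] at h1)
    have h1 := h.index_centralizer hz hz1
    have h2 : Subgroup.centralizer {a * b * a⁻¹ * b⁻¹} = ⊤ := by
      rw [eq_top_iff]
      intro c _
      rw [Subgroup.mem_centralizer_singleton_iff, ← mul_inv_eq_iff_eq_mul]
      have hu : c * a * c⁻¹ * a⁻¹ ∈ commutator G :=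
        Subgroup.commutator_mem_commutator (Subgroup.mem_top c) (Subgroup.mem_top a)
      have hv : c * b * c⁻¹ * b⁻¹ ∈ commutator G :=
        Subgroup.commutator_mem_commutator (Subgroup.mem_top c) (Subgroup.mem_top b)
      generalize hu' : c * a * c⁻¹ * a⁻¹ = u at hu
      generalize hv' : c * b * c⁻¹ * b⁻¹ = v at hv
      have e1 : Commute u a := (hC.ge ha) u hu
      have e2 : Commute u b := (hC.ge hb) u hu
      have e3 : Commute v a := (hC.ge ha) v hv
      have e4 : Commute v b := (hC.ge hb) v hv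
      have e5 : Commute u v := h.comm u hu v hv
      calc c * (a * b * a⁻¹ * b⁻¹) * c⁻¹ = (u * a) * (v * b) * (u * a)⁻¹ * (v * b)⁻¹ := by
            rw [← hu', ← hv']; group
        _ = u * (a * v) * b * a⁻¹ * (u⁻¹ * b⁻¹) * v⁻¹ := by group
        _ = u * v * (a * b * a⁻¹ * b⁻¹) * (v * u)⁻¹ := by
            rw [← e3.eq, e2.inv_inv.eq]; group
        _ = _ := by
            rw [e5.eq, h.comm _ (Subgroup.mul_mem _ hv hu) _ hz]; group
    rw [h2, Subgroup.index_top] at h1
    have h3 := h.dvd_card hp hN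
    rw [← h1] at h3
    exact hp2 ((Nat.prime_dvd_prime_iff_eq hp Nat.prime_two).1 h3)
  have h1 := (S4838.result h.two_lt ⟨χ, h.irr⟩ hχ p (commutator G) h.mem hN h.ne_bot P).2.1.1
  have h2 : (P : Subgroup G) ≤ commutator G := fun a ha => h1 ⟨⟨a, ha⟩,
    Subgroup.mem_center_iff.2 fun b => Subtype.ext (hcomm _ b.2 _ ha), rfl⟩
  exact fun hd => P.not_dvd_index (le_antisymm h2 hNP ▸ hd)

theorem card_eq_two {G : Type*} [Group G] {χ : G → ℂ} {N : Subgroup G} (h : Gag χ N) :
    Nat.card {C : ConjClasses G // ∃ g ∈ C.carrier, χ g ≠ 0} = 2 := by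
  obtain ⟨x, hx, hx1⟩ := (Subgroup.bot_or_exists_ne_one N).resolve_left h.ne_bot
  rw [Nat.card_eq_two_iff' (⟨ConjClasses.mk 1, 1, ConjClasses.mem_carrier_mk,
    h.irr.apply_one_ne_zero⟩ : {C : ConjClasses G // ∃ g ∈ C.carrier, χ g ≠ 0})]
  refine ⟨⟨ConjClasses.mk x, x, ConjClasses.mem_carrier_mk, (h.mem x).1 hx⟩, fun he => ?_, ?_⟩
  · have := congrArg Subtype.val he
    simp only [ConjClasses.mk_eq_mk_iff_isConj, isConj_one_left] at this
    exact hx1 this
  · rintro ⟨C, y, hy, hy0⟩ hne
    rw [ConjClasses.mem_carrier_iff_mk_eq] at hy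
    subst hy
    refine Subtype.ext (ConjClasses.mk_eq_mk_iff_isConj.2
      (h.isConj y ((h.mem y).2 hy0) x hx ?_ hx1))
    rintro rfl
    exact hne rfl

/-- Let G be a finite group, g an element outside the centre of G, and χ an irreducible complex character of degree greater than one with χ(g) ≠ 0 such that every other irreducible character of degree greater than one vanishes at g. Then g lies in the derived subgroup G′ and χ(g) = −[G : G′]/χ(1); G′ is the union of the kernel of χ (the elements where χ takes the value χ(1)) and the conjugacy class of g, and χ vanishes outside G′; every irreducible character of degree greater than one whose kernel contains that of χ equals χ; and G is solvable. -/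
theorem result {G : Type*} [Group G] [Finite G] (g : G) (hg : g ∉ Subgroup.center G) (χ : Cfsg.IrrCharacter G) (hχ1 : Cfsg.charDegree (χ : G → ℂ) ≠ 1) (hχg : (χ : G → ℂ) g ≠ 0) (hother : ∀ ψ : Cfsg.IrrCharacter G, Cfsg.charDegree (ψ : G → ℂ) ≠ 1 → ψ ≠ χ → (ψ : G → ℂ) g = 0) : g ∈ commutator G ∧ (χ : G → ℂ) g = -(((commutator G).index : ℂ) / (χ : G → ℂ) 1) ∧ ((commutator G : Set G) = {x : G | (χ : G → ℂ) x = (χ : G → ℂ) 1} ∪ {h : G | IsConj g h}) ∧ (∀ x : G, x ∉ commutator G → (χ : G → ℂ) x = 0) ∧ (∀ ψ : Cfsg.IrrCharacter G, Cfsg.charDegree (ψ : G → ℂ) ≠ 1 → (∀ x : G, (χ : G → ℂ) x = (χ : G → ℂ) 1 → (ψ : G → ℂ) x = (ψ : G → ℂ) 1) → ψ = χ) ∧ Group.IsSolvable G := by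
  classical
  have := Fintype.ofFinite (G →* ℂˣ)
  have hsplit : ∀ x : G, ∑ ψ : IrrCharacter G, (ψ : G → ℂ) x * conj ((ψ : G → ℂ) g) =
      (if x * g⁻¹ ∈ commutator G then ((commutator G).index : ℂ) else 0) +
        (χ : G → ℂ) x * conj ((χ : G → ℂ) g) := by
    intro x
    rw [← sum_monoidHom_units_apply, ← Finset.sum_filter_add_sum_filter_not Finset.univ
      (fun ψ : IrrCharacter G => (ψ : G → ℂ) 1 = 1)]
    congr 1
    · rw [Finset.sum_subtype _ (p := fun ψ : IrrCharacter G => (ψ : G → ℂ) 1 = 1) (by simp),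
        ← Equiv.sum_comp linearEquiv]
      refine Finset.sum_congr rfl fun f _ => ?_
      simp [conj_monoidHom_units]
    · rw [Finset.sum_eq_single χ]
      · intro ψ hψ hne
        rw [hother ψ (fun h => (Finset.mem_filter.1 hψ).2
          (ψ.isCharacter.charDegree_eq_one_iff.1 h)) hne]
        simp
      · intro h
        exact absurd (Finset.mem_filter.2 ⟨Finset.mem_univ _, fun h1 =>
          hχ1 (χ.isCharacter.charDegree_eq_one_iff.2 h1)⟩) h
  have hg1 : g ≠ 1 := by
    rintro rfl
    exact hg (Subgroup.one_mem _)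
  have h0 := χ.2.apply_one_ne_zero
  have hcg : conj ((χ : G → ℂ) g) ≠ 0 := by simpa using hχg
  have h1 := hsplit 1
  rw [column_orthogonality_of_not_isConj (fun h => hg1 (isConj_one_right.1 h)), one_mul] at h1
  have hgG : g ∈ commutator G := by
    by_contra h
    rw [if_neg (fun h' => h ((commutator G).inv_mem_iff.1 h')), zero_add] at h1
    exact mul_ne_zero h0 hcg h1.symm
  rw [if_pos ((commutator G).inv_mem hgG)] at h1
  have h2 : (χ : G → ℂ) g = -(((commutator G).index : ℂ) / (χ : G → ℂ) 1) := by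
    have := congrArg conj h1
    simp only [map_zero, map_add, map_natCast, map_mul, Complex.conj_conj,
      χ.isCharacter.conj_apply_one] at this
    field_simp
    linear_combination -this
  have hout : ∀ x : G, x ∉ commutator G → (χ : G → ℂ) x = 0 := by
    intro x hx
    have h3 := hsplit x
    rw [column_orthogonality_of_not_isConj, if_neg, zero_add] at h3
    · exact (mul_eq_zero.1 h3.symm).resolve_right hcg
    · exact fun h => hx (((commutator G).mul_mem_cancel_right ((commutator G).inv_mem hgG)).1 h)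
    · intro h
      obtain ⟨c, hc⟩ := isConj_iff.1 h.symm
      exact hx (hc ▸ Subgroup.Normal.conj_mem inferInstance g hgG c)
  have hin : ∀ x ∈ commutator G, x ∉ charKer (χ : G → ℂ) → IsConj g x := by
    intro x hx hxK
    by_contra hc
    have h3 := hsplit x
    rw [column_orthogonality_of_not_isConj (fun h => hc h.symm),
      if_pos ((commutator G).mul_mem hx ((commutator G).inv_mem hgG))] at h3
    refine hxK (χ.2.mem_charKer.2 (mul_right_cancel₀ hcg ?_))
    linear_combination h1 - h3
  have hKG : charKer (χ : G → ℂ) ≤ commutator G := fun x hx => by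
    by_contra h
    exact h0 ((apply_eq_of_mem_charKer hx).symm.trans (hout x h))
  have hgK : g ∉ charKer (χ : G → ℂ) := by
    intro h
    rw [apply_eq_of_mem_charKer h, χ.isCharacter.conj_apply_one, ← χ.2.coe_charDegree] at h1
    have h3 : 0 = (commutator G).index +
        charDegree (χ : G → ℂ) * charDegree (χ : G → ℂ) := by exact_mod_cast h1
    have := Subgroup.index_ne_zero_of_finite (H := commutator G)
    omega
  have hKn := χ.isCharacter.charKer_normal
  set K := charKer (χ : G → ℂ) with hK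
  obtain ⟨ψ, hψ, -, hχψ⟩ := χ.2.exists_faithful_quotient K rfl
  have hχψ' : ∀ x, (χ : G → ℂ) x = ψ (x : G ⧸ K) := fun x => congrFun hχψ x
  set π := QuotientGroup.mk' K with hπ
  have hcomm : commutator (G ⧸ K) = (commutator G).map π := by
    rw [commutator_def, ← Subgroup.map_top_of_surjective π (QuotientGroup.mk'_surjective K),
      ← Subgroup.map_commutator]
    rfl
  have hmem : ∀ x : G, (x : G ⧸ K) ∈ commutator (G ⧸ K) ↔ x ∈ commutator G := fun x => by
    rw [hcomm]
    change x ∈ ((commutator G).map π).comap π ↔ _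
    rw [GT.comap_map_mk', sup_eq_left.2 hKG]
  have hgag : Gag ψ (commutator (G ⧸ K)) := by
    refine ⟨hψ, fun x => ?_, fun hb => ?_, fun x hx y hy hx1 hy1 => ?_, ?_⟩
    · obtain ⟨x, rfl⟩ := QuotientGroup.mk_surjective x
      rw [hmem, ← hχψ']
      refine ⟨fun hx => ?_, fun hx => by_contra fun h => hx (hout x h)⟩
      by_cases hxK : x ∈ K
      · rwa [apply_eq_of_mem_charKer hxK]
      · rwa [← χ.isClassFunction.eq_of_isConj (hin x hx hxK)]
    · have := (hmem g).2 hgG
      rw [hb, Subgroup.mem_bot, QuotientGroup.eq_one_iff] at this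
      exact hgK this
    · obtain ⟨x, rfl⟩ := QuotientGroup.mk_surjective x
      obtain ⟨y, rfl⟩ := QuotientGroup.mk_surjective y
      exact π.map_isConj ((hin x ((hmem x).1 hx) fun h =>
        hx1 ((QuotientGroup.eq_one_iff x).2 h)).symm.trans (hin y ((hmem y).1 hy) fun h =>
        hy1 ((QuotientGroup.eq_one_iff y).2 h)))
    · have h3 := hψ.charDegree_sq_le
      have h4 := hψ.two_le_charDegree (fun h => hχ1
        (χ.isCharacter.charDegree_eq_one_iff.2 ((hχψ' 1).trans h)))
      nlinarith
  refine ⟨hgG, h2, ?_, hout, fun φ hφ1 hφ => ?_, ?_⟩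
  · ext x
    constructor
    · intro hx
      by_cases hxK : x ∈ K
      · exact Or.inl (apply_eq_of_mem_charKer hxK)
      · exact Or.inr (hin x hx hxK)
    · rintro (hx | hx)
      · exact hKG (χ.2.mem_charKer.2 hx)
      · obtain ⟨c, hc⟩ := isConj_iff.1 hx
        exact hc ▸ Subgroup.Normal.conj_mem inferInstance g hgG c
  · by_contra hne
    obtain ⟨φ', hφ', he⟩ := φ.2.exists_quotient K fun x hx => hφ x (apply_eq_of_mem_charKer hx)
    have h3 := hgag.le_charKer hφ' (fun h => hne (Subtype.ext (by rw [he, hχψ, h])))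
      ((hmem g).2 hgG)
    have h4 := hother φ hφ1 hne
    rw [he] at h4
    exact hφ'.apply_one_ne_zero ((apply_eq_of_mem_charKer h3).symm.trans h4)
  · obtain ⟨r, hr, hN⟩ := hgag.exists_isPGroup
    have hel := hgag.elementary hr hN
    refine isSolvable_of_class_diff hr (K := K) (fun hr2 => ?_) hKG ?_ hgG hgK (fun x hx => ?_) hin
    · have := not_dvd_index hgag (card_eq_two hgag) hr hr2 hN
      rwa [hcomm, Subgroup.index_map_eq _ (QuotientGroup.mk'_surjective K)
        (by rw [QuotientGroup.ker_mk']; exact hKG)] at this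
    · rw [GT.commutator_le_iff_map_mk', ← hcomm, Subgroup.commutator_eq_bot_iff_le_centralizer]
      exact fun a ha b hb => hgag.comm b hb a ha
    · rw [← QuotientGroup.eq_one_iff, QuotientGroup.mk_pow]
      exact hel.2 _ ((hmem x).2 hx)

end Cfsg.Agent.S4805
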