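import Mathlib
import Cfsg.Statements.S4811
import Cfsg.Agent.Deg.GraphA

set_option autoImplicit false
set_option linter.style.haveILetI false
set_option linter.unusedVariables false
open Cfsg

namespace Cfsg.Agent.S4811

open Cfsg.Agent.Ch Cfsg.Agent.Deg Cfsg.Agent.Deg.Gr

theorem of_two {G : Type*} [Group G] (a b : ℕ)
    (h : ∀ v : degreePrimes G,
      (∃ ha : a ∈ degreePrimes G, ((degreeGraph G).induce (degreePrimes G)).Reachable v ⟨a, ha⟩) ∨
      (∃ hb : b ∈ degreePrimes G, ((degreeGraph G).induce (degreePrimes G)).Reachable v ⟨b, hb⟩)) :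
    Nat.card ((Cfsg.degreeGraph G).induce (Cfsg.degreePrimes G)).ConnectedComponent ≤ 2 := by
  refine card_cc_le_two _ (fun v => ∃ ha : a ∈ degreePrimes G,
    ((degreeGraph G).induce (degreePrimes G)).Reachable v ⟨a, ha⟩) ?_ ?_
  · rintro u v ⟨ha, hu⟩ ⟨_, hv⟩
    exact hu.trans hv.symm
  · intro u v hu hv
    obtain ⟨hb, h1⟩ := (h u).resolve_left hu
    obtain ⟨_, h2⟩ := (h v).resolve_left hv
    exact h1.trans h2.symm

/-- For every finite solvable group G the character degree graph of G (vertices: the primes dividing some irreducible complex character degree; edges: distinct primes whose product divides some degree) has at most two connected components. -/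
theorem result {G : Type*} [Group G] [Finite G] [Group.IsSolvable G] : Nat.card ((Cfsg.degreeGraph G).induce (Cfsg.degreePrimes G)).ConnectedComponent ≤ 2 := by
  by_cases h1 : commutator G ≤ ⁅commutator G, ⊤⁆
  · by_cases h2 : commutator G ≤ ⁅commutator G, commutator G⁆
    · have h3 : commutator G = ⊥ := by
        by_contra h3
        exact (Group.IsSolvable.commutator_lt_of_ne_bot h3).not_ge h2
      refine of_two 0 0 ?_
      rintro ⟨p, hp, d, hd, hpd⟩
      obtain ⟨χ, hχ, rfl⟩ := Deg.mem_charDegrees.1 hd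
      rw [(Deg.charDegree_eq_one_iff_commutator_le hχ).2 (h3 ▸ bot_le)] at hpd
      exact absurd (Nat.dvd_one.1 hpd) hp.ne_one
    · obtain ⟨N, K, hN, hK, -, hF⟩ := deg12_exists_frobSec h1 h2
      have hf1 : N.index ≠ 1 := mt Subgroup.index_eq_one.1 hF.ne_top
      have hk1 : K.relIndex N ≠ 1 := fun h => hF.lt.not_ge (Subgroup.relIndex_eq_one.1 h)
      obtain ⟨a, ha, haN⟩ := Nat.exists_prime_and_dvd hf1
      obtain ⟨b, hb, hbK⟩ := Nat.exists_prime_and_dvd hk1
      refine of_two a b ?_
      rintro ⟨p, hp⟩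
      obtain ⟨hpp, d, hd, hpd⟩ := id hp
      obtain ⟨χ, hχ, rfl⟩ := Deg.mem_charDegrees.1 hd
      have := Fintype.ofFinite N
      have := Fintype.ofFinite G
      obtain ⟨ψ, hψ, hne⟩ := exists_irr_under N hχ
      rcases hF.exists_or_dvd hψ with ⟨ξ, hξ, h3⟩ | h3
      · left
        obtain ⟨e, he, h4⟩ := exists_degree_eq_mul hψ hχ hne
        have h5 : charDegree χ = e * charDegree ψ := by
          rw [← hχ.coe_charDegree, ← hψ.coe_charDegree] at h4
          exact_mod_cast h4
        refine reach_of_dvd hp ha (Deg.mem_charDegrees.2 ⟨ξ, hξ, rfl⟩) ?_ ?_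
        · rw [h3]
          exact hpd.trans (h5 ▸ Nat.mul_dvd_mul_right he _)
        · rw [h3]
          exact haN.mul_right _
      · right
        exact reach_of_dvd hp hb hd hpd
          ((hb.dvd_of_dvd_pow (hbK.trans h3)).trans (charDegree_dvd_of_under hχ hψ hne))
  · obtain ⟨θ, hθ, h4, -, h5⟩ := deg12_exists_vanish h1
    obtain ⟨a, ha, haθ⟩ := Nat.exists_prime_and_dvd h4
    refine of_two a a ?_
    rintro ⟨p, hp⟩
    left
    obtain ⟨hpp, d, hd, hpd⟩ := id hp
    obtain ⟨χ, hχ, rfl⟩ := Deg.mem_charDegrees.1 hd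
    by_cases hc : (charDegree θ).Coprime (charDegree χ)
    · have := hθ.isCharacter.charCenter_normal
      have h6 := res_irr_dgr (charCenter θ) hχ (by
        rw [← Deg.sq_charDegree_eq_index hθ _ le_rfl h5]
        exact hc.pow_left 2)
      have h7 := deg12_mul_irr_of_vanish hθ le_rfl h5 hχ.isCharacter h6
      refine reach_of_dvd hp ha (Deg.mem_charDegrees.2 ⟨_, h7, rfl⟩) ?_ ?_
      · rw [hθ.isCharacter.charDegree_mul hχ.isCharacter]
        exact hpd.mul_left _
      · rw [hθ.isCharacter.charDegree_mul hχ.isCharacter]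
        exact haθ.mul_right _
    · obtain ⟨s, hs, hs1, hs2⟩ := Nat.Prime.not_coprime_iff_dvd.1 hc
      obtain ⟨hs', h6⟩ := reach_of_dvd hp hs hd hpd hs2
      obtain ⟨ha', h7⟩ := reach_of_dvd hs' ha (Deg.mem_charDegrees.2 ⟨θ, hθ, rfl⟩) hs1 haθ
      exact ⟨ha', h6.trans h7⟩

end Cfsg.Agent.S4811
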