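import Mathlib
import Cfsg.Statements.S4847
import Cfsg.Agent.Deg.PalC

set_option autoImplicit false
open Cfsg

namespace Cfsg.Agent.S4847

/-- Let G be a finite solvable group and p, q, r three distinct primes each dividing the degree of some irreducible character of G. Then for some two of them the product divides the degree of some irreducible character of G (the character degree graph of a solvable group has no three pairwise non-adjacent vertices). -/
theorem result {G : Type*} [Group G] [Finite G] [hs : Group.IsSolvable G] (p q r : ℕ) (hp : p.Prime) (hq : q.Prime) (hr : r.Prime) (hpq : p ≠ q) (hqr : q ≠ r) (hpr : p ≠ r)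
    (hpd : ∃ χ : Cfsg.IrrCharacter G, p ∣ Cfsg.charDegree (χ : G → ℂ)) (hqd : ∃ χ : Cfsg.IrrCharacter G, q ∣ Cfsg.charDegree (χ : G → ℂ)) (hrd : ∃ χ : Cfsg.IrrCharacter G, r ∣ Cfsg.charDegree (χ : G → ℂ)) :
    (∃ χ : Cfsg.IrrCharacter G, p * q ∣ Cfsg.charDegree (χ : G → ℂ)) ∨ (∃ χ : Cfsg.IrrCharacter G, q * r ∣ Cfsg.charDegree (χ : G → ℂ)) ∨ (∃ χ : Cfsg.IrrCharacter G, p * r ∣ Cfsg.charDegree (χ : G → ℂ)) := by
  have f : ∀ {a : ℕ}, (∃ χ : IrrCharacter G, a ∣ charDegree (χ : G → ℂ)) → Deg.Pal.Adj G a a :=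
    fun ⟨χ, h⟩ => ⟨χ, χ.2, h, h⟩
  have g : ∀ {a b : ℕ}, a.Prime → b.Prime → a ≠ b → Deg.Pal.Adj G a b →
      ∃ χ : IrrCharacter G, a * b ∣ charDegree (χ : G → ℂ) := fun ha hb h ⟨χ, h1, h2, h3⟩ =>
    ⟨⟨χ, h1⟩, ((Nat.coprime_primes ha hb).2 h).mul_dvd_of_dvd_of_dvd h2 h3⟩
  exact (Deg.Pal.three_primes G hp hq hr hpq hqr hpr (f hpd) (f hqd) (f hrd)).imp (g hp hq hpq)
    (Or.imp (g hq hr hqr) (g hp hr hpr))

end Cfsg.Agent.S4847
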