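import Mathlib
-- Template for statement S4848 (row 4848; see /opt/grader/pristine/manifest.json for weights).
-- Copy to Cfsg/Agent/S4848.lean and replace the sorry. The statement below is byte-identical to the frozen
-- statement Cfsg.CfsgFrozen.S4848 (Cfsg/Statements/S4848.lean; the theorem Cfsg.chr10_nonabelian_group_vanishing_elements_of_p_power_order);
-- the grader kernel-checks Cfsg.Agent.S4848.result against that frozen type. Keep the theorem IN THIS FILE
-- (a `result` declared elsewhere and merely imported here is not credited); helpers may live anywhere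
-- under Cfsg/Agent/.
import Cfsg.Statements.S4848
import Cfsg.Agent.S4456
import Cfsg.Agent.S4558
import Cfsg.Agent.Ch.Clifford
import Cfsg.Agent.Ch.Galois
import Cfsg.Agent.Ch.Quotient
import Cfsg.Agent.Ch.Kernel
import Cfsg.Agent.Ch.Orthogonality
import Cfsg.Agent.Deg.Over
import Cfsg.Agent.FG.ClassIdx
import Cfsg.Agent.GT.TransferPNilp
import Cfsg.Agent.GT.Cores

set_option autoImplicit false
set_option linter.style.haveILetI false
set_option linter.unusedVariables false
open Cfsg

namespace Cfsg.Agent.S4848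

open Subgroup

/-- In a nilpotent group every non-central element is a zero of an irreducible character. -/
theorem exists_zero_of_nilpotent (Q : Type*) [Group Q] [Group.IsNilpotent Q] :
    Finite Q → ∀ y : Q, y ∉ center Q → ∃ χ : IrrCharacter Q, (χ : Q → ℂ) y = 0 := by
  refine nilpotent_center_quotient_ind
    (P := fun Q _ _ => Finite Q → ∀ y : Q, y ∉ center Q → ∃ χ : IrrCharacter Q, (χ : Q → ℂ) y = 0)
    Q ?_ ?_
  · intro Q _ _ _ y hy
    exact absurd (mem_center_iff.2 fun g => Subsingleton.elim _ _) hy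
  · intro Q _ _ ih _ y hy
    by_cases hc : (y : Q ⧸ center Q) ∈ center (Q ⧸ center Q)
    · obtain ⟨x, hx⟩ : ∃ x, x * y ≠ y * x := by
        by_contra h
        push Not at h
        exact hy (mem_center_iff.2 h)
      have hz : x * y * x⁻¹ * y⁻¹ ∈ center Q := by
        rw [← QuotientGroup.eq_one_iff]
        have := mem_center_iff.1 hc (x : Q ⧸ center Q)
        simp only [QuotientGroup.mk_mul, QuotientGroup.mk_inv, this]
        group
      have hz1 : x * y * x⁻¹ * y⁻¹ ≠ 1 := fun e => hx (by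
        calc x * y = x * y * x⁻¹ * y⁻¹ * (y * x) := by group
          _ = y * x := by rw [e, one_mul])
      obtain ⟨χ, hχ⟩ := Ch.exists_irr_apply_ne hz1
      refine ⟨χ, ?_⟩
      have h3 := χ.2.apply_mul_of_mem_center hz y
      rw [inv_mul_cancel_right, χ.2.isClassFunction.conj_eq] at h3
      by_contra h
      exact hχ (mul_right_cancel₀ h h3).symm
    · obtain ⟨χ, hχ⟩ := ih inferInstance _ hc
      exact ⟨⟨_, χ.2.comp_mk⟩, hχ⟩

/-- A `p`-element fixing all classes of the normal `p'`-subgroup `K` centralises `K`. -/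
theorem mem_centralizer_of_isConj {G : Type*} [Group G] [Finite G] {p : ℕ} [Fact p.Prime]
    {K : Subgroup G} [K.Normal] (hK : ¬ p ∣ Nat.card K) {Y : Subgroup G} (hY : IsPGroup p Y)
    (h : ∀ a ∈ Y, ∀ n : K, IsConj n (MulAut.conjNormal a n)) : Y ≤ centralizer (K : Set G) := by
  have h1 : (centralizer (Y : Set G)).subgroupOf K = ⊤ := by
    refine FG.CI.eq_top_of_forall_conj_mem fun n => ?_
    let X := {m : K // IsConj n m}
    let act : MulAction Y X :=
      { smul := fun a m => ⟨MulAut.conjNormal (a : G) m.1, m.2.trans (h a a.2 m.1)⟩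
        one_smul := fun m => Subtype.ext (by
          show MulAut.conjNormal ((1 : Y) : G) m.1 = m.1
          simp)
        mul_smul := fun a b m => Subtype.ext (by
          show MulAut.conjNormal ((a * b : Y) : G) m.1 =
            MulAut.conjNormal (a : G) (MulAut.conjNormal (b : G) m.1)
          simp) }
    have hX : ¬ p ∣ Nat.card X := fun hd => hK (hd.trans (by
      rw [Ch.card_isConj_eq_index]; exact index_dvd_card _))
    obtain ⟨m, hm⟩ := hY.nonempty_fixed_point_of_prime_not_dvd_card X hX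
    obtain ⟨c, hc⟩ := isConj_iff.1 m.2
    refine ⟨c, ?_⟩
    rw [hc, mem_subgroupOf]
    intro a ha
    have e : MulAut.conjNormal a m.1 = m.1 := congrArg Subtype.val (hm ⟨a, ha⟩)
    have e' : a * (m.1 : G) * a⁻¹ = m.1 := congrArg Subtype.val e
    calc a * (m.1 : G) = a * (m.1 : G) * a⁻¹ * a := by group
      _ = m.1 * a := by rw [e']
  exact le_centralizer_iff.1 (subgroupOf_eq_top.1 h1)

theorem pow_eq_one_of {G : Type*} [Group G] {p a b : ℕ} {x y : G} (hc : Commute x y)
    (hx : x ^ p ^ a = 1) (hxy : (x * y) ^ p ^ b = 1) : y ^ p ^ (a + b) = 1 := by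
  have h1 : (x * y) ^ p ^ (a + b) = 1 := by rw [pow_add, mul_comm, pow_mul, hxy, one_pow]
  have h2 : x ^ p ^ (a + b) = 1 := by rw [pow_add, pow_mul, hx, one_pow]
  rwa [hc.mul_pow, h2, one_mul] at h1


/-- Let p be a prime and G a finite non-commutative group in which every vanishing element (an element at which some irreducible character is zero) has order a positive power of p. Then either G is a p-group, or the centre of G equals O_p(G) and G/Z(G) is a Frobenius group with a Frobenius complement of p-power order. -/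
theorem result {G : Type*} [Group G] [Finite G] (hna : ¬ IsMulCommutative G) (p : ℕ) [Fact p.Prime] (hvan : ∀ g : G, (∃ χ : Cfsg.IrrCharacter G, (χ : G → ℂ) g = 0) → ∃ m : ℕ, 1 ≤ m ∧ orderOf g = p ^ m) :
    IsPGroup p G ∨ (Subgroup.center G = Cfsg.pCore p G ∧ ∃ H : Subgroup (G ⧸ Subgroup.center G), Cfsg.IsFrobeniusComplement H ∧ IsPGroup p H) := by
  classical
  have hp : p.Prime := Fact.out
  cases nonempty_fintype G
  by_cases hG : IsPGroup p G
  · exact Or.inl hG
  right
  have hzero : ∀ χ : G → ℂ, IsIrrCharacter G χ → charDegree χ ≠ 1 → ∃ g, χ g = 0 := by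
    intro χ hχ h1
    have := hχ.charDegree_pos
    exact hχ.exists_apply_eq_zero (by omega)
  obtain ⟨K, hKn, hKc, k, hk⟩ := S4456.result (G := G) p hp fun χ h1 => by
    obtain ⟨g, hg⟩ := hzero χ χ.2 h1
    obtain ⟨m, -, hm⟩ := hvan g ⟨χ, hg⟩
    exact S4558.result p χ χ.2.isCharacter g ⟨m, hm⟩ hg
  have hK : ¬ p ∣ Nat.card K := (Nat.Prime.coprime_iff_not_dvd hp).1 hKc.symm
  have hQ : IsPGroup p (G ⧸ K) := IsPGroup.of_card (n := k) (by rw [← index_eq_card, hk])
  have hK1 : K ≠ ⊥ := fun e => hG (IsPGroup.of_card (n := k) (by rw [← hk, e, index_bot]))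
  have hKp : ∀ x ∈ K, ∀ n, x ^ p ^ n = 1 → x = 1 := by
    intro x hx n hn
    have h1 : orderOf x ∣ p ^ n := orderOf_dvd_of_pow_eq_one hn
    have h2 : orderOf x ∣ Nat.card K := K.orderOf_dvd_natCard hx
    exact orderOf_eq_one_iff.1 (Nat.eq_one_of_dvd_coprimes (hKc.pow_right n) h2 h1)
  -- A
  have hA : ∀ y x : G, ∀ a, y ^ p ^ a = 1 → x ∈ K → Commute y x →
      (∃ χ : IrrCharacter G, (χ : G → ℂ) (y * x) = 0) → x = 1 := by
    intro y x a hy hx hc hv
    obtain ⟨m, -, hm⟩ := hvan _ hv
    exact hKp x hx _ (pow_eq_one_of hc hy (hm ▸ pow_orderOf_eq_one _))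
  -- B
  have hB : ∀ y x : G, ∀ a, y ^ p ^ a = 1 → x ∈ K → Commute y x → x ≠ 1 →
      (y : G ⧸ K) ∈ center (G ⧸ K) := by
    intro y x a hy hx hc hx1
    by_contra hn
    have := hQ.isNilpotent
    obtain ⟨χ, hχ⟩ := exists_zero_of_nilpotent (G ⧸ K) inferInstance _ hn
    refine hx1 (hA y x a hy hx hc ⟨⟨_, χ.2.comp_mk⟩, ?_⟩)
    show (χ : G ⧸ K → ℂ) ((y * x : G) : G ⧸ K) = 0
    rw [QuotientGroup.mk_mul, (QuotientGroup.eq_one_iff x).2 hx, mul_one, hχ]
  -- C
  have hC : ∀ y x : G, ∀ a, y ^ p ^ a = 1 → x ∈ K → Commute y x → x ≠ 1 →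
      y ∈ centralizer (K : Set G) := by
    intro y x a hy hx hc hx1
    have hz := hB y x a hy hx hc hx1
    have hin : ∀ θ : IrrCharacter K, y ∈ Ch.inertia K (θ : K → ℂ) := by
      intro θ
      obtain ⟨χ, hχ, hov⟩ := Ch.exists_irr_over K θ.2
      have hKT := Ch.le_inertia θ.2.isClassFunction
      obtain ⟨ψ, -, -, hψ, -⟩ := Ch.clifford_corr_surj θ.2 rfl hKT hχ hov
      by_contra hn
      refine hx1 (hA y x a hy hx hc ⟨⟨χ, hχ⟩, ?_⟩)
      show χ (y * x) = 0
      rw [← hψ]
      refine Ch.indFun_eq_zero_of_forall_not_mem _ _ fun g hg => hn ?_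
      have h1 : g * (y * x) * g⁻¹ * y⁻¹ ∈ K := by
        rw [← QuotientGroup.eq_one_iff]
        have := mem_center_iff.1 hz (g : G ⧸ K)
        simp only [QuotientGroup.mk_mul, QuotientGroup.mk_inv, (QuotientGroup.eq_one_iff x).2 hx,
          mul_one, this]
        group
      have := mul_mem (inv_mem (hKT h1)) hg
      rwa [show (g * (y * x) * g⁻¹ * y⁻¹)⁻¹ * (g * (y * x) * g⁻¹) = y by group] at this
    have hY : IsPGroup p (zpowers y) := by
      intro ⟨z, n, hn⟩
      refine ⟨a, Subtype.ext ?_⟩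
      show z ^ p ^ a = 1
      rw [← hn, ← zpow_natCast, ← zpow_mul, mul_comm, zpow_mul, zpow_natCast, hy, one_zpow]
    refine mem_centralizer_of_isConj hK hY (fun b hb n => ?_) (mem_zpowers y)
    rw [Ch.isConj_iff_forall_irr]
    intro θ
    exact (Ch.mem_inertia.1 (zpowers_le.2 (hin θ) hb) n).symm
  have hcomp : ∀ P : Sylow p G, K.IsComplement' (P : Subgroup G) := fun P =>
    GT.Tr.isComplement'_sylow_of_normal P hK hk
  -- E
  have hE : ∀ (P : Sylow p G), ∀ y ∈ (P : Subgroup G), y ∈ centralizer (K : Set G) →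
      y ∈ center G := by
    intro P y hyP hy
    obtain ⟨x, hx, hx1⟩ := (K.bot_or_exists_ne_one).resolve_left hK1
    obtain ⟨a, ha⟩ := P.isPGroup' ⟨y, hyP⟩
    have hz := hB y x a (congrArg Subtype.val ha) hx (hy x hx).symm hx1
    rw [mem_center_iff]
    intro g
    obtain ⟨⟨⟨c, hc⟩, ⟨u, hu⟩⟩, rfl⟩ := (hcomp P).2 g
    have h1 : u * y * u⁻¹ * y⁻¹ ∈ K := by
      rw [← QuotientGroup.eq_one_iff]
      have := mem_center_iff.1 hz (u : G ⧸ K)
      simp only [QuotientGroup.mk_mul, QuotientGroup.mk_inv, this]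
      group
    have h2 : u * y * u⁻¹ * y⁻¹ = 1 := by
      have := (hcomp P).disjoint
      rw [disjoint_def] at this
      exact this h1 (mul_mem (mul_mem (mul_mem hu hyP) (inv_mem hu)) (inv_mem hyP))
    have h3 : u * y = y * u := by
      calc u * y = u * y * u⁻¹ * y⁻¹ * (y * u) := by group
        _ = y * u := by rw [h2, one_mul]
    show c * u * y = y * (c * u)
    rw [mul_assoc, h3, ← mul_assoc, hy c hc, mul_assoc]
  obtain ⟨β, hβ, -, hβ1⟩ := Deg.exists_nonlinear_le_charKer (⊥ : Subgroup G) fun h => hna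
    ⟨⟨fun a b => by
      have := h (commutator_mem_commutator (mem_top a) (mem_top b))
      exact commutatorElement_eq_one_iff_mul_comm.1 this⟩⟩
  obtain ⟨g, hg⟩ := hzero β hβ hβ1
  obtain ⟨m, -, hm⟩ := hvan g ⟨⟨β, hβ⟩, hg⟩
  have hgm : g ^ p ^ m = 1 := hm ▸ pow_orderOf_eq_one _
  have hβ0 : β 1 ≠ 0 := hβ.apply_one_ne_zero
  have hZ : IsPGroup p (center G) := by
    intro z
    have h1 := hβ.apply_mul_of_mem_center z.2 g
    rw [hg, mul_zero] at h1
    obtain ⟨n, -, hn⟩ := hvan _ ⟨⟨β, hβ⟩, (mul_eq_zero.1 h1).resolve_left hβ0⟩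
    have hc : Commute g z := mem_center_iff.1 z.2 g
    exact ⟨_, Subtype.ext (pow_eq_one_of hc hgm (by rw [hc.eq, ← hn, pow_orderOf_eq_one]))⟩
  obtain ⟨P, hP⟩ := (IsPGroup.of_card (G := zpowers g) (n := m)
    (by rw [Nat.card_zpowers, hm])).exists_le_sylow
  have hZP : center G ≤ P := hZ.le_sylow_of_normal P
  have hpre : ∀ x : G, QuotientGroup.mk' (center G) x ∈
      (P : Subgroup G).map (QuotientGroup.mk' (center G)) → x ∈ (P : Subgroup G) := by
    intro x hx
    have : x ∈ ((P : Subgroup G).map (QuotientGroup.mk' (center G))).comap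
      (QuotientGroup.mk' (center G)) := hx
    rwa [comap_map_eq, QuotientGroup.ker_mk', sup_eq_left.2 hZP] at this
  refine ⟨le_antisymm (GT.le_pCore hZ) fun y hy => ?_,
    (P : Subgroup G).map (QuotientGroup.mk' (center G)), ⟨?_, ?_, ?_⟩, P.isPGroup'.map _⟩
  · have hO := GT.isPGroup_pCore (G := G) p
    have hOP : pCore p G ≤ P := hO.le_sylow_of_normal P
    refine hE P y (hOP hy) fun x hx => ?_
    exact (commute_of_normal_of_disjoint K (pCore p G) hKn inferInstance
      ((hcomp P).disjoint.mono_right hOP) x y hx hy).eq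
  · rw [Ne, Subgroup.map_eq_bot_iff, QuotientGroup.ker_mk']
    intro h
    have h1 := hβ.norm_apply_of_mem_center (h (hP (mem_zpowers g)))
    rw [hg, norm_zero] at h1
    have := hβ.charDegree_pos
    have h2 : charDegree β = 0 := by exact_mod_cast h1.symm
    omega
  · intro e
    apply hG
    have : (P : Subgroup G) = ⊤ := eq_top_iff.2 fun x _ => hpre x (e ▸ mem_top _)
    exact (this ▸ P.isPGroup' : IsPGroup p (⊤ : Subgroup G)).of_surjective (⊤ : Subgroup G).subtype
      fun x => ⟨⟨x, trivial⟩, rfl⟩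
  · intro c hc
    obtain ⟨c, rfl⟩ := QuotientGroup.mk'_surjective (center G) c
    rw [eq_bot_iff]
    rintro _ ⟨⟨h, hh, rfl⟩, h2⟩
    replace h2 := mem_pointwise_smul_iff_inv_smul_mem.1 h2
    have h3 : c⁻¹ * h * c ∈ (P : Subgroup G) := hpre _ (by simpa using h2)
    obtain ⟨⟨⟨x, hx⟩, ⟨u, hu⟩⟩, rfl⟩ := (hcomp P).2 c
    have hx1 : x ≠ 1 := by
      rintro rfl
      exact hc ⟨u, hu, by simp⟩
    have h4 : x⁻¹ * h * x ∈ (P : Subgroup G) := by
      have := mul_mem (mul_mem hu h3) (inv_mem hu)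
      simpa [mul_assoc] using this
    have h5 : x⁻¹ * (h * x * h⁻¹) = 1 := by
      have := (hcomp P).disjoint
      rw [disjoint_def] at this
      refine this (mul_mem (inv_mem hx) (hKn.conj_mem x hx h)) ?_
      have := mul_mem h4 (inv_mem hh)
      simpa [mul_assoc] using this
    have h6 : Commute h x := by
      show h * x = x * h
      calc h * x = x * (x⁻¹ * (h * x * h⁻¹)) * h := by group
        _ = x * h := by rw [h5, mul_one]
    obtain ⟨a, ha⟩ := P.isPGroup' ⟨h, hh⟩
    have h7 := hE P h hh (hC h x a (congrArg Subtype.val ha) hx h6 hx1)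
    exact (QuotientGroup.eq_one_iff h).2 h7

end Cfsg.Agent.S4848
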