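import Mathlib
import Cfsg.Statements.S4865
import Cfsg.Agent.Ch.RelGlaub2
import Cfsg.Agent.Ch.RealChar2
import Cfsg.Agent.FG.SylowNormal

set_option autoImplicit false
open Cfsg

namespace Cfsg.Agent.S4865

open Cfsg.Agent.Ch Cfsg.Agent.Ch.Glb Cfsg.Agent.Ch.RG
open scoped ComplexConjugate

section Rel
variable {G : Type*} [Group G] [Finite G] {L H : Subgroup G}

theorem mlt_ne_zero_iff (h : L ≤ H) [Fintype (L.subgroupOf H)] (ξ : IrrCharacter H)
    (η : IrrCharacter L) : mlt h ξ η ≠ 0 ↔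
      classInner (fun n : L.subgroupOf H => (ξ : H → ℂ) n) (subOf H (η : L → ℂ)) ≠ 0 := by
  have := Fintype.ofFinite L
  rw [classInner_res_subgroupOf h, mlt_spec, Nat.cast_ne_zero]

theorem real_of_mlt (h : L ≤ H) (hn : H ≤ Subgroup.normalizer (L : Set G))
    (hodd : Odd (L.relIndex H)) {ξ : IrrCharacter H} {η : IrrCharacter L}
    (hr : ∀ g, ((ξ : H → ℂ) g).im = 0) (h0 : mlt h ξ η ≠ 0) (n : L) : ((η : L → ℂ) n).im = 0 := by
  have := Fintype.ofFinite (L.subgroupOf H)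
  have := Subgroup.normal_subgroupOf_of_le_normalizer hn
  exact RC.real_of_under_real hodd ξ.2 hr (isIrrCharacter_subgroupOf h η.2)
    ((mlt_ne_zero_iff h ξ η).mp h0) ⟨⟨n, h n.2⟩, n.2⟩

theorem existsUnique_real_mlt (h : L ≤ H) (hn : H ≤ Subgroup.normalizer (L : Set G))
    (hodd : Odd (L.relIndex H)) {η : IrrCharacter L} (hr : ∀ g, ((η : L → ℂ) g).im = 0) :
    ∃! ξ : IrrCharacter H, mlt h ξ η ≠ 0 ∧ ∀ g, ((ξ : H → ℂ) g).im = 0 := by
  have := Fintype.ofFinite (L.subgroupOf H)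
  have := Subgroup.normal_subgroupOf_of_le_normalizer hn
  simp only [mlt_ne_zero_iff]
  exact RC.existsUnique_real_over hodd (isIrrCharacter_subgroupOf h η.2) fun n => hr _

theorem degree_of_mlt (h : L ≤ H) (hn : H ≤ Subgroup.normalizer (L : Set G))
    (hodd : Odd (L.relIndex H)) {ξ : IrrCharacter H} {η : IrrCharacter L}
    (hr : ∀ g, ((ξ : H → ℂ) g).im = 0) (h0 : mlt h ξ η ≠ 0) :
    charDegree (ξ : H → ℂ) = (invSub (η : L → ℂ)).relIndex H * charDegree (η : L → ℂ) := by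
  have := Fintype.ofFinite (L.subgroupOf H)
  have := Fintype.ofFinite H
  have := Subgroup.normal_subgroupOf_of_le_normalizer hn
  have h1 := (RC.fsInd_eq_of_real_over hodd ξ.2 hr (isIrrCharacter_subgroupOf h η.2)
    ((mlt_ne_zero_iff h ξ η).mp h0)).1
  rw [RC.charDegree_eq_of_under ξ.2 (isIrrCharacter_subgroupOf h η.2) (e := 1) (by simpa using h1)
    one_ne_zero, one_mul]
  congr 1
  rw [Subgroup.relIndex]
  congr 1
  ext x
  rw [mem_inertia, Subgroup.mem_subgroupOf, mem_invSub_iff (hn x.2), funext_iff]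
  exact ⟨fun h1 n => h1 ⟨⟨n, h n.2⟩, n.2⟩, fun h1 n => h1 ⟨n, n.2⟩⟩

theorem mlt_cjI_right (h : L ≤ H) (hn : H ≤ Subgroup.normalizer (L : Set G)) (ξ : IrrCharacter H)
    (η : IrrCharacter L) {x : G} (hx : x ∈ H) : mlt h ξ (cjI (hn hx) η) = mlt h ξ η := by
  rw [← mlt_cjI h (Subgroup.le_normalizer hx) (hn hx) ξ η,
    cjI_eq_of_inv (inv_self ξ.2.isClassFunction) hx]

theorem exists_cjI_of_mlt (h : L ≤ H) (hn : H ≤ Subgroup.normalizer (L : Set G))
    {ξ : IrrCharacter H} {η η' : IrrCharacter L} (h1 : mlt h ξ η ≠ 0) (h2 : mlt h ξ η' ≠ 0) :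
    ∃ (x : G) (hx : x ∈ H), η' = cjI (hn hx) η := by
  have := Fintype.ofFinite L
  obtain ⟨x, hx, h3⟩ := exists_cj_of_under h hn ξ.2 η.2 η'.2 (by rwa [mlt_spec, Nat.cast_ne_zero])
    (by rwa [mlt_spec, Nat.cast_ne_zero])
  exact ⟨x, hx, Subtype.ext h3⟩

theorem real_iff_ccI {K : Type*} [Group K] [Finite K] {χ : IrrCharacter K} :
    (∀ g, ((χ : K → ℂ) g).im = 0) ↔ ccI χ = χ := by
  rw [RC.real_iff_conj, Subtype.ext_iff]; rfl

theorem real_iff_of_rcorr {p : ℕ} {S : Subgroup G} {h : L ≤ H} (C : RCorr p S h)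
    {θ : IrrCharacter H} {η : IrrCharacter L} (hθ : Inv S (θ : H → ℂ)) (hη : Inv S (η : L → ℂ))
    (h1 : ¬ p ∣ mlt h θ η) : (∀ g, ((θ : H → ℂ) g).im = 0) ↔ ∀ g, ((η : L → ℂ) g).im = 0 := by
  have h2 := h1
  rw [← mlt_ccI] at h2
  rw [real_iff_ccI, real_iff_ccI]
  constructor
  · intro h3
    rw [h3] at h2
    exact C.uniq θ _ _ hθ (fun s hs g g' hg => congrArg conj (hη s hs g g' hg)) hη h2 h1
  · intro h3
    rw [h3] at h2
    exact C.inj _ _ η (fun s hs g g' hg => congrArg conj (hθ s hs g g' hg)) hθ hη h2 h1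

theorem index_modEq {p : ℕ} [Fact p.Prime] (P : Sylow p G) {I : Subgroup G}
    (h : (P : Subgroup G) ≤ I) :
    I.index ≡ I.relIndex (Subgroup.normalizer ((P : Subgroup G) : Set G)) [MOD p] := by
  have h1 : (Subgroup.normalizer ((P : Subgroup G) : Set G)).index ≡ 1 [MOD p] := by
    rw [P.coe_coe, ← P.card_eq_index_normalizer]; exact card_sylow_modEq_one p G
  have h2 : (Subgroup.normalizer ((P : Subgroup G) : Set G)).relIndex I ≡ 1 [MOD p] := by
    rw [Subgroup.relIndex, Subgroup.subgroupOf_normalizer_eq h, ← P.coe_subtype h, Sylow.coe_coe,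
      ← Sylow.card_eq_index_normalizer]
    exact card_sylow_modEq_one p I
  have h3 := (Subgroup.relIndex_mul_index
    (inf_le_left (a := I) (b := Subgroup.normalizer ((P : Subgroup G) : Set G)))).trans
    (Subgroup.relIndex_mul_index inf_le_right).symm
  rw [Subgroup.inf_relIndex_left, Subgroup.inf_relIndex_right] at h3
  have h4 := h2.mul_right I.index
  rw [h3, one_mul] at h4
  exact h4.symm.trans (by simpa only [mul_one] using h1.mul_left _)

theorem exists_normalizer_conj {p : ℕ} [Fact p.Prime] (P : Sylow p G) {I : Subgroup G}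
    (h : (P : Subgroup G) ≤ I) {g : G} (h' : ∀ x ∈ (P : Subgroup G), g * x * g⁻¹ ∈ I) :
    ∃ i ∈ I, i * g ∈ Subgroup.normalizer ((P : Subgroup G) : Set G) := by
  have h1 : ((g • P : Sylow p G) : Subgroup G) ≤ I := by
    rintro _ ⟨x, hx, rfl⟩
    exact h' x hx
  obtain ⟨i, hi⟩ := MulAction.exists_smul_eq I ((g • P).subtype h1) (P.subtype h)
  rw [Sylow.smul_subtype] at hi
  refine ⟨i, i.2, ?_⟩
  rw [P.coe_coe, ← Sylow.smul_eq_iff_mem_normalizer, mul_smul]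
  exact Sylow.subtype_injective hi

end Rel

theorem inf_normal {G : Type*} [Group G] [Finite G] {p : ℕ} [Fact p.Prime]
    (hsolv : Group.IsSolvable (RC.pCl p G)) (hreal : RC.RealPPrime p G) (P : Sylow p G) :
    ((P : Subgroup G) ⊓ RC.pCl 2 G).Normal := by
  have := RC.pCl_normal (G := G) Nat.prime_two
  obtain ⟨Q, hQ⟩ := FG.H96.exists_sylow_eq_subgroupOf P (RC.pCl 2 G)
  have h1 := RC.sylow_normal_of_relIndex hsolv hreal le_rfl ⟨0, by simp⟩ Q
  have h2 := Q.characteristic_of_normal h1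
  have h3 := ConjAct.normal_of_characteristic_of_normal (K := (Q : Subgroup (RC.pCl 2 G)))
  rwa [hQ, Subgroup.subgroupOf_map_subtype] at h3

/-- Let p be a prime and G a finite group such that the subgroup generated by the p-elements of G is solvable and every real-valued irreducible complex character of G has degree prime to p. Let N be the normalizer of a Sylow p-subgroup of G. Then there is a bijection from the real-valued irreducible characters of G onto the real-valued irreducible characters of N of degree prime to p under which corresponding degrees are congruent modulo p up to sign. -/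
theorem result {G : Type*} [Group G] [Finite G] (p : ℕ) [Fact p.Prime] (hsolv : Group.IsSolvable ↥(Subgroup.closure {g : G | ∃ k : ℕ, orderOf g = p ^ k})) (hreal : ∀ χ : Cfsg.IrrCharacter G, (∀ g : G, ((χ : G → ℂ) g).im = 0) → ¬ p ∣ Cfsg.charDegree (χ : G → ℂ)) (P : Sylow p G) : ∃ f : {χ : Cfsg.IrrCharacter G // ∀ g : G, ((χ : G → ℂ) g).im = 0} → {ξ : Cfsg.IrrCharacter ↥(Subgroup.normalizer ((P : Subgroup G) : Set G)) // (∀ n, ((ξ : ↥(Subgroup.normalizer ((P : Subgroup G) : Set G)) → ℂ) n).im = 0) ∧ ¬ p ∣ Cfsg.charDegree (ξ : ↥(Subgroup.normalizer ((P : Subgroup G) : Set G)) → ℂ)}, Function.Bijective f ∧ ∀ χ, ((Cfsg.charDegree ((f χ).1 : ↥(Subgroup.normalizer ((P : Subgroup G) : Set G)) → ℂ) : ZMod p) = (Cfsg.charDegree (χ.1 : G → ℂ) : ZMod p) ∨ (Cfsg.charDegree ((f χ).1 : ↥(Subgroup.normalizer ((P : Subgroup G) : Set G)) → ℂ) : ZMod p) = -(Cfsg.charDegree (χ.1 : G → ℂ) : ZMod p)) := by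
  have hp : p.Prime := Fact.out
  have hQ := inf_normal hsolv hreal P
  have hK := RC.pCl_normal (G := G) Nat.prime_two
  have hodd := RC.odd_index_pCl (G := G)
  generalize RC.pCl 2 G = K at hQ hK hodd
  set N := Subgroup.normalizer ((P : Subgroup G) : Set G) with hN
  have := Fintype.ofFinite G
  have := Fintype.ofFinite K
  have hnK : ∀ x : G, x ∈ Subgroup.normalizer (K : Set G) := fun x => by
    rw [Subgroup.normalizer_eq_top]; trivial
  have hPN : (P : Subgroup G) ≤ N := Subgroup.le_normalizer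
  have hNL : N ≤ Subgroup.normalizer ((N ⊓ K : Subgroup G) : Set G) := fun x hx =>
    Subgroup.mem_normalizer_fintype fun k hk => Subgroup.mem_inf.mpr
      ⟨mul_mem (mul_mem hx hk.1) (inv_mem hx), hK.conj_mem _ hk.2 _⟩
  have hodd' : Odd ((N ⊓ K).relIndex N) := by
    rw [Subgroup.inf_relIndex_left]
    exact hodd.of_dvd_nat (Subgroup.relIndex_dvd_index_of_normal K N)
  have H : RCorr p P (inf_le_right : N ⊓ K ≤ K) := by
    refine rcorr_of_rel hp P.2 (N := P ⊓ K) (by rw [Subgroup.normalizer_eq_top]; exact le_top)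
      inf_le_right (by rw [Subgroup.normalizer_eq_top]; exact le_top) (fun x _ => hnK x)
      (by rw [Subgroup.inf_relIndex_right]; exact FG.H96.not_dvd_relIndex_sylow_inf P K)
      (fun k => ?_) _
    simp only [Subgroup.mem_inf]
    refine ⟨fun hk => ⟨hk.2, fun x hx => ⟨?_, ?_⟩⟩, fun hk => ⟨?_, hk.1⟩⟩
    · convert mul_mem hx ((Subgroup.mem_normalizer_iff.mp hk.1 _).mp (inv_mem hx)) using 1
      group
    · exact mul_mem (hK.conj_mem _ hk.2 _) (inv_mem hk.2)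
    · refine Subgroup.mem_normalizer_fintype fun x (hx : x ∈ (P : Subgroup G)) => ?_
      change _ ∈ (P : Subgroup G)
      convert mul_mem hx (hk.2 _ (inv_mem hx)).1 using 1
      group
  let R : IrrCharacter G → IrrCharacter N → Prop := fun χ ξ =>
    ∃ (θ : IrrCharacter K) (η : IrrCharacter ↥(N ⊓ K)), Inv P (θ : K → ℂ) ∧
      Inv P (η : ↥(N ⊓ K) → ℂ) ∧ classInner (fun n : K => (χ : G → ℂ) n) θ ≠ 0 ∧
      mlt inf_le_left ξ η ≠ 0 ∧ ¬ p ∣ mlt inf_le_right θ η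
  have hcj : ∀ (θ : IrrCharacter K) (η : IrrCharacter ↥(N ⊓ K)) (x : G) (hx : x ∈ N),
      Inv P (θ : K → ℂ) → Inv P (η : ↥(N ⊓ K) → ℂ) → ¬ p ∣ mlt inf_le_right θ η →
      Inv P (cjI (hnK x) θ : K → ℂ) ∧ Inv P (cjI (hNL hx) η : ↥(N ⊓ K) → ℂ) ∧
        ¬ p ∣ mlt inf_le_right (cjI (hnK x) θ) (cjI (hNL hx) η) := fun θ η x hx h1 h2 h3 =>
    ⟨h1.cj hx _, h2.cj hx _, by rwa [mlt_cjI]⟩
  have hdeg : ∀ χ ξ, R χ ξ → (∀ g, ((χ : G → ℂ) g).im = 0) → (∀ g, ((ξ : N → ℂ) g).im = 0) →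
      ((charDegree (ξ : N → ℂ) : ZMod p) = charDegree (χ : G → ℂ) ∨
        (charDegree (ξ : N → ℂ) : ZMod p) = -charDegree (χ : G → ℂ)) := by
    rintro χ ξ ⟨θ, η, h1, h2, h3, h4, h5⟩ hχ hξ
    have e1 : (invSub (η : ↥(N ⊓ K) → ℂ)).relIndex N = (inertia K (θ : K → ℂ)).relIndex N := by
      rw [Subgroup.relIndex, Subgroup.relIndex]
      congr 1
      ext x
      obtain ⟨h6, h7, h8⟩ := hcj θ η x x.2 h1 h2 h5
      rw [Subgroup.mem_subgroupOf, Subgroup.mem_subgroupOf, mem_invSub_iff (hNL x.2), mem_inertia']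
      constructor
      · intro h9
        rw [show cjI (hNL x.2) η = η from Subtype.ext h9] at h8
        exact congrArg Subtype.val (H.inj _ _ _ h6 h1 h2 h8 h5)
      · intro h9
        rw [show cjI (hnK x) θ = θ from Subtype.ext h9] at h8
        exact congrArg Subtype.val (H.uniq _ _ _ h1 h7 h2 h8 h5)
    have e2 := index_modEq P (I := inertia K (θ : K → ℂ)) fun x hx => h1.cj_eq hx (hnK x)
    rw [degree_of_mlt _ hNL hodd' hξ h4, e1, RC.charDegree_eq_of_under χ.2 θ.2 (e := 1)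
      (by simpa using (RC.fsInd_eq_of_real_over hodd χ.2 hχ θ.2 h3).1) one_ne_zero, one_mul,
      Nat.cast_mul, Nat.cast_mul, (ZMod.natCast_eq_natCast_iff _ _ _).mpr e2, ← hN]
    rcases H.charDegree_eq_or hp P.2 (fun x _ => hnK x) (hPN.trans hNL) h1 h2 h5 with h | h <;>
      simp [h]
  have hex : ∀ χ : {χ : IrrCharacter G // ∀ g : G, ((χ : G → ℂ) g).im = 0},
      ∃ ξ : {ξ : IrrCharacter N // (∀ n, ((ξ : N → ℂ) n).im = 0) ∧ ¬ p ∣ charDegree (ξ : N → ℂ)},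
        R χ.1 ξ.1 := by
    rintro ⟨χ, hχ⟩
    obtain ⟨θ, hθ, h1, h2⟩ := RC.exists_invariant_under P.2 K χ.2 (hreal χ hχ)
    have h3 : Inv P θ := inv_of_cj (fun x _ => hnK x) fun x hx => h2 hx
    obtain ⟨η, h4, h5⟩ := H.ex ⟨θ, hθ⟩ h3
    obtain ⟨ξ, ⟨h6, h7⟩, -⟩ := existsUnique_real_mlt inf_le_left hNL hodd'
      ((real_iff_of_rcorr H h3 h4 h5).mp (RC.real_of_under_real hodd χ.2 hχ hθ h1))
    have h8 : R χ ξ := ⟨⟨θ, hθ⟩, η, h3, h4, h1, h6, h5⟩
    refine ⟨⟨ξ, h7, fun h9 => hreal χ hχ ?_⟩, h8⟩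
    have h10 := hdeg χ ξ h8 hχ h7
    rw [(ZMod.natCast_eq_zero_iff _ _).mpr h9, zero_eq_neg, eq_comm, or_self] at h10
    exact (ZMod.natCast_eq_zero_iff _ _).mp h10
  choose f hf using hex
  refine ⟨f, ⟨fun χ χ' h => ?_, fun ξ => ?_⟩, fun χ => hdeg _ _ (hf χ) χ.2 (f χ).2.1⟩
  · obtain ⟨θ, η, h1, h2, h3, h4, h5⟩ := hf χ
    obtain ⟨θ', η', h1', h2', h3', h4', h5'⟩ := hf χ'
    rw [← h] at h4'
    obtain ⟨x, hx, rfl⟩ := exists_cjI_of_mlt _ hNL h4 h4'
    obtain ⟨h6, h7, h8⟩ := hcj θ η x hx h1 h2 h5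
    obtain rfl := H.inj _ _ _ h1' h6 h7 h5' h8
    refine Subtype.ext ((RC.existsUnique_real_over hodd θ.2
      (RC.real_of_under_real hodd χ.1.2 χ.2 θ.2 h3)).unique ⟨h3, χ.2⟩ ⟨?_, χ'.2⟩)
    rwa [← classInner_res_conjChar χ'.1.2.isClassFunction x]
  · obtain ⟨η, h2, h4⟩ := exists_inv_not_dvd hp P.2 (hPN.trans hNL)
      (fun η => mlt inf_le_left ξ.1 η * charDegree (η : ↥(N ⊓ K) → ℂ)) (fun x hx η => by
        rw [mlt_cjI_right _ hNL _ _ (hPN hx)]
        congr 1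
        exact charDegree_congr (by simp [cjI])) (by rw [← charDegree_eq_sum_mlt]; exact ξ.2.2)
    replace h4 : mlt inf_le_left ξ.1 η ≠ 0 := fun h => h4 (by simp [h])
    have hη := real_of_mlt _ hNL hodd' ξ.2.1 h4
    obtain ⟨θ, h1, h5⟩ := H.surj η h2
    obtain ⟨χ, ⟨h3, hχ⟩, -⟩ := RC.existsUnique_real_over hodd θ.2
      ((real_iff_of_rcorr H h1 h2 h5).mpr hη)
    refine ⟨⟨χ, hχ⟩, Subtype.ext ?_⟩
    obtain ⟨θ', η', h1', h2', h3', h4', h5'⟩ := hf ⟨χ, hχ⟩
    obtain ⟨g, hg⟩ := mem_conjugates.mp (mem_conjugates_of_under χ.2 θ.2 θ'.2 h3 h3')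
    obtain ⟨i, hi, hx⟩ := exists_normalizer_conj P (I := inertia K (θ : K → ℂ))
      (fun x hx => h1.cj_eq hx (hnK x)) (g := g) fun x hx => by
        rw [← mem_inertia_conjChar, ← hg]; exact h1'.cj_eq hx (hnK x)
    obtain rfl : θ' = cjI (hnK (i * g)) θ := Subtype.ext (by
      rw [hg, ← mem_inertia'.mp hi, ← conjChar_mul]; rfl)
    obtain ⟨h6, h7, h8⟩ := hcj θ η _ hx h1 h2 h5
    obtain rfl := H.uniq _ _ _ h6 h2' h7 h5' h8
    rw [mlt_cjI_right _ hNL _ _ hx] at h4'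
    exact (existsUnique_real_mlt inf_le_left hNL hodd' hη).unique ⟨h4', (f _).2.1⟩ ⟨h4, ξ.2.1⟩

end Cfsg.Agent.S4865
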