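import Mathlib
import Cfsg.Statements.S4864
import Cfsg.Agent.S4865
import Cfsg.Agent.S0160

set_option autoImplicit false
open Cfsg

namespace Cfsg.Agent.S4864

open Cfsg.Agent.Ch

theorem isConj_inv_of {X : Type*} [Group X] {a b : X} (h : IsConj a b) (hb : IsConj b b⁻¹) :
    IsConj a a⁻¹ := by
  obtain ⟨c, rfl⟩ := isConj_iff.mp h
  exact h.trans (hb.trans (isConj_iff.mpr ⟨c⁻¹, by group⟩))

theorem aux {G : Type*} [Group G] [Finite G] {p : ℕ} [Fact p.Prime]
    (hsolv : Group.IsSolvable (RC.pCl p G)) (hreal : RC.RealPPrime p G) (P : Sylow p G)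
    (h0 : (P : Subgroup G) ⊓ RC.pCl 2 G = ⊥) (x : G) (hx : IsConj x x⁻¹) :
    ∃ y ∈ Subgroup.normalizer ((P : Subgroup G) : Set G), IsConj x y := by
  obtain ⟨f, hf, -⟩ := S4865.result p hsolv hreal P
  let N := Subgroup.normalizer ((P : Subgroup G) : Set G)
  have hK := RC.pCl_normal (G := G) Nat.prime_two
  have hodd := RC.odd_index_pCl (G := G)
  have hf1 := hf.1
  have h1 := Nat.card_le_card_of_injective (fun χ => (⟨(f χ).1, (f χ).2.1⟩ :
    {ξ : IrrCharacter N // ∀ n, ((ξ : N → ℂ) n).im = 0})) fun a b h =>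
      hf1 (Subtype.ext (by simpa using h))
  rw [S0160.result, S0160.result] at h1
  have hc : ∀ y : N, IsConj y y⁻¹ → (y : G) ∈ Subgroup.centralizer ((P : Subgroup G) : Set G) := by
    intro y hy z hz
    have h2 : (y : G) ∈ RC.pCl 2 G :=
      RC.mem_of_isConj_inv hodd (one_mem _) (by rw [one_mul]; exact N.subtype.map_isConj hy)
    have h3 : z * (y * z⁻¹ * (y : G)⁻¹) ∈ (P : Subgroup G) ⊓ RC.pCl 2 G := by
      refine Subgroup.mem_inf.mpr ⟨mul_mem hz ((Subgroup.mem_normalizer_iff.mp y.2 _).mp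
        (inv_mem (show z ∈ (P : Subgroup G) from hz))), ?_⟩
      convert mul_mem (hK.conj_mem _ h2 z) (inv_mem h2) using 1
      group
    rw [h0, Subgroup.mem_bot] at h3
    calc z * y = z * (y * z⁻¹ * (y : G)⁻¹) * (y * z) := by group
      _ = y * z := by rw [h3, one_mul]
  let ι : {c : ConjClasses N // ∀ g : N, ConjClasses.mk g = c → IsConj g g⁻¹} →
      {c : ConjClasses G // ∀ g : G, ConjClasses.mk g = c → IsConj g g⁻¹} := fun c =>
    ⟨ConjClasses.map N.subtype c.1, fun g hg => by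
      obtain ⟨c, hc⟩ := c
      obtain ⟨y, rfl⟩ := ConjClasses.mk_surjective c
      exact isConj_inv_of (ConjClasses.mk_eq_mk_iff_isConj.mp hg) (N.subtype.map_isConj (hc y rfl))⟩
  have hι : Function.Injective ι := by
    rintro ⟨a, ha⟩ ⟨b, hb⟩ h
    obtain ⟨a, rfl⟩ := ConjClasses.mk_surjective a
    obtain ⟨b, rfl⟩ := ConjClasses.mk_surjective b
    have h2 : ConjClasses.mk (a : G) = ConjClasses.mk (b : G) := congrArg Subtype.val h
    obtain ⟨g, hg⟩ := isConj_iff.mp (ConjClasses.mk_eq_mk_iff_isConj.mp h2)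
    have hg' : g⁻¹⁻¹ * a * g⁻¹ = b := by rw [inv_inv, hg]
    obtain ⟨n, hn, h3⟩ := P.conj_eq_normalizer_conj_of_mem_centralizer a g⁻¹ (hc a (ha a rfl))
      (hg' ▸ hc b (hb b rfl))
    refine Subtype.ext (ConjClasses.mk_eq_mk_iff_isConj.mpr (isConj_iff.mpr
      ⟨⟨n, hn⟩⁻¹, Subtype.ext ?_⟩))
    simpa [hg'] using h3.symm.trans hg'
  obtain ⟨⟨c, hc⟩, h2⟩ := ((Nat.bijective_iff_injective_and_card ι).mpr
    ⟨hι, le_antisymm (Nat.card_le_card_of_injective ι hι) h1⟩).2
    ⟨ConjClasses.mk x, fun g hg => isConj_inv_of (ConjClasses.mk_eq_mk_iff_isConj.mp hg) hx⟩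
  obtain ⟨y, rfl⟩ := ConjClasses.mk_surjective c
  have h3 : ConjClasses.mk (y : G) = ConjClasses.mk x := congrArg Subtype.val h2
  exact ⟨y, y.2, (ConjClasses.mk_eq_mk_iff_isConj.mp h3).symm⟩

/-- Let p be a prime and G a finite group such that the subgroup generated by the p-elements of G is solvable and every real-valued irreducible complex character of G has degree prime to p. Then the normalizer of a Sylow p-subgroup of G contains an element of every real conjugacy class of G: every element conjugate to its inverse is conjugate to an element of that normalizer. -/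
theorem result {G : Type*} [Group G] [Finite G] (p : ℕ) [Fact p.Prime] (hsolv : Group.IsSolvable ↥(Subgroup.closure {g : G | ∃ k : ℕ, orderOf g = p ^ k})) (hreal : ∀ χ : Cfsg.IrrCharacter G, (∀ g : G, ((χ : G → ℂ) g).im = 0) → ¬ p ∣ Cfsg.charDegree (χ : G → ℂ)) (P : Sylow p G) (x : G) (hx : IsConj x x⁻¹) : ∃ y ∈ Subgroup.normalizer ((P : Subgroup G) : Set G), IsConj x y := by
  have hp : p.Prime := Fact.out
  have hQ := S4865.inf_normal hsolv hreal P
  let π := QuotientGroup.mk' ((P : Subgroup G) ⊓ RC.pCl 2 G)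
  have hπ : Function.Surjective π := QuotientGroup.mk'_surjective _
  have hmem : ∀ z, π z ∈ (P : Subgroup G).map π ↔ z ∈ (P : Subgroup G) := fun z => by
    rw [← Subgroup.mem_comap, Subgroup.comap_map_eq_self (by
      rw [QuotientGroup.ker_mk']; exact inf_le_left)]
  obtain ⟨y, hy, h⟩ := aux (RC.isSolvable_pCl_of_surjective hp hπ hsolv)
    (RC.RealPPrime.of_surjective hreal hπ) (P.mapSurjective hπ) (by
      rw [Sylow.coe_mapSurjective, ← RC.map_pCl_of_surjective Nat.prime_two hπ, eq_bot_iff]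
      rintro _ ⟨h1, z, hz, rfl⟩
      exact (QuotientGroup.eq_one_iff z).mpr ⟨(hmem z).mp h1, hz⟩) (π x)
    (by rw [← map_inv]; exact π.map_isConj hx)
  obtain ⟨c, rfl⟩ := isConj_iff.mp h
  obtain ⟨c, rfl⟩ := hπ c
  refine ⟨c * x * c⁻¹, Subgroup.mem_normalizer_fintype fun z hz => ?_, isConj_iff.mpr ⟨c, rfl⟩⟩
  rw [Sylow.coe_mapSurjective] at hy
  refine (hmem _).mp ?_
  simpa only [map_mul, map_inv] using (Subgroup.mem_normalizer_iff.mp hy _).mp ((hmem z).mpr hz)

end Cfsg.Agent.S4864
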