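import Mathlib
import Cfsg.Statements.S4881
import Cfsg.Agent.K3C.Grp2
import Cfsg.Agent.K3C.Aff

set_option autoImplicit false
open Cfsg

namespace Cfsg.Agent.S4881

section

open Subgroup Ch Ch.KT K3C

theorem main {G : Type*} [Group G] [Finite G] {p : ℕ} [hp : Fact p.Prime] (hs : IsPSolvable p G)
    (hd : p ∣ Nat.card G) (h : TwoCl p G) : p ≤ 2 * kp p G ∨ (p ≠ 2 ∧
      2 * Nat.card G = p * (p - 1) ∧ ∃ f : G →* affineGroup (ZMod p), Function.Injective f) := by
  have h1 := GT.not_dvd_card_pPrimeCore (G := G) hp.out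
  have hc := GT.pPrimeCore_characteristic (G := G) (p := p)
  by_cases h0 : pPrimeCore p G = ⊥
  · rcases core2 hs hd h h0 with a | ⟨A, H, _, a1, a2, a3, -, a4, a5, -⟩
    · exact Or.inl a
    · refine Or.inr ⟨fun e => by omega, ?_, exists_affine_embed a1 a2 a3 a4⟩
      rw [← a3.card_mul_card, a4, ← a5]
      ring
  left
  have hq := QuotientGroup.mk'_surjective (pPrimeCore p G)
  have h2 : p ∣ Nat.card (G ⧸ pPrimeCore p G) := by
    rw [← (pPrimeCore p G).card_mul_index] at hd
    exact ((Nat.Prime.dvd_mul hp.out).1 hd).resolve_left h1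
  rcases core2 (hs.quotient _) h2 (h.of_surjective hq) GT.pPrimeCore_quotient_pPrimeCore with
    a | ⟨A, H, _, -, -, a3, a4, -, -, a5⟩
  · exact a.trans (Nat.mul_le_mul_left 2 (kp_le_of_surjective hq))
  obtain ⟨⟨x, hx⟩, hx1⟩ := ne_bot_iff_exists_ne_one.1 h0
  let f : G →* H := (a3.symm.QuotientMulEquiv.toMonoidHom.comp (QuotientGroup.mk' A)).comp
    (QuotientGroup.mk' (pPrimeCore p G))
  have hf : Function.Surjective f :=
    (a3.symm.QuotientMulEquiv.surjective.comp (QuotientGroup.mk'_surjective A)).comp hq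
  have h3 := k_add_le (p := p) f hf a4 (ι := Unit) (fun _ => x)
    (fun _ e => hx1 (Subtype.ext e))
    (fun _ => by
      change (a3.symm.QuotientMulEquiv.toMonoidHom.comp (QuotientGroup.mk' A)) (x : G ⧸ _) = 1
      rw [(QuotientGroup.eq_one_iff x).2 hx, map_one])
    (fun _ e => h1 (e.trans (orderOf_dvd_natCard _ hx))) fun _ _ _ => rfl
  rw [Nat.card_unique (α := Unit)] at h3
  omega

end

/-- Let p be a prime and G a finite p-solvable group with exactly three conjugacy classes of p-elements (counting the identity). Then twice the number of conjugacy classes of p-regular elements of G is at least p − 1, with equality if and only if p is odd, G has order p(p − 1)/2 and G embeds in the one-dimensional affine group over the field with p elements (so G is that group's subgroup of index 2: cyclic of order p extended by cyclic of order (p − 1)/2). -/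
theorem result {G : Type*} [Group G] [Finite G] (p : ℕ) [Fact p.Prime] (hsolv : Cfsg.IsPSolvable p G) (h3 : Nat.card {c : ConjClasses G // ∃ g : G, ConjClasses.mk g = c ∧ ∃ k : ℕ, orderOf g = p ^ k} = 3) : p - 1 ≤ 2 * Nat.card {c : ConjClasses G // ∃ g : G, ConjClasses.mk g = c ∧ ¬ p ∣ orderOf g} ∧ (2 * Nat.card {c : ConjClasses G // ∃ g : G, ConjClasses.mk g = c ∧ ¬ p ∣ orderOf g} = p - 1 ↔ (p ≠ 2 ∧ 2 * Nat.card G = p * (p - 1) ∧ ∃ f : G →* ↥(Cfsg.affineGroup (ZMod p)), Function.Injective f)) := by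
  obtain ⟨h1, h2⟩ := K3C.twoCl_of_card h3
  have h4 := (Fact.out : p.Prime).two_le
  have h5 := main hsolv h2 h1
  have h6 : (p ≠ 2 ∧ 2 * Nat.card G = p * (p - 1) ∧ ∃ f : G →* affineGroup (ZMod p),
      Function.Injective f) → 2 * Ch.KT.kp p G = p - 1 :=
    fun ⟨a, b, _, hf⟩ => K3C.kp_of_affine b a hf
  change p - 1 ≤ 2 * Ch.KT.kp p G ∧ (2 * Ch.KT.kp p G = p - 1 ↔ _)
  exact ⟨h5.elim (fun a => by omega) fun a => (h6 a).ge,
    fun e => h5.resolve_left (by omega), h6⟩

end Cfsg.Agent.S4881
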