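import Mathlib
import Cfsg.Statements.S4885
import Cfsg.Agent.Blk.PQSolv
import Cfsg.Agent.Blk.PSolvPB

set_option autoImplicit false
open Cfsg

namespace Cfsg.Agent.S4885

/-- Let p and q be primes dividing the order of the finite group G, and suppose G is p-solvable and q-solvable. Fix maximal ideals of the algebraic integers containing p and q, defining the principal p-block and the principal q-block. If the irreducible characters of degree prime to p in the principal p-block are exactly the irreducible characters of degree prime to q in the principal q-block, then p = q. -/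
theorem result {G : Type*} [Group G] [Finite G] (p q : ℕ) [Fact p.Prime] [Fact q.Prime] (hp : p ∣ Nat.card G) (hq : q ∣ Nat.card G) (hps : Cfsg.IsPSolvable p G) (hqs : Cfsg.IsPSolvable q G) (Mp Mq : Ideal Cfsg.AlgInt) (hMp : Cfsg.IsPModular p Mp) (hMq : Cfsg.IsPModular q Mq) (h : ∀ χ : Cfsg.IrrCharacter G, (χ ∈ Cfsg.principalBlock Mp G ∧ ¬ p ∣ Cfsg.charDegree (χ : G → ℂ)) ↔ (χ ∈ Cfsg.principalBlock Mq G ∧ ¬ q ∣ Cfsg.charDegree (χ : G → ℂ))) : p = q := by
  classical
  simp only [Blk.Om.mem_principal_iff_of_isPConstrained hMp hps.isPConstrained,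
    Blk.Om.mem_principal_iff_of_isPConstrained hMq hqs.isPConstrained] at h
  by_contra hpq
  have hp' : p.Prime := Fact.out
  obtain ⟨P, Q, hc⟩ := Blk.PQ.exists_commuting hpq G hps hqs
    (fun χ hχ h1 h2 => ((h ⟨χ, hχ⟩).mp ⟨h1, h2⟩).2) fun χ hχ h1 h2 => ((h ⟨χ, hχ⟩).mpr ⟨h1, h2⟩).2
  have h1 := Blk.PQ.le_pPrimeCore_of_le_centralizer hqs Q (Blk.PQ.coprime_card (Ne.symm hpq) P.2)
    (Subgroup.le_centralizer_iff.mp hc)
  have hπ := QuotientGroup.mk'_surjective (pPrimeCore p G)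
  let R := P.mapSurjective hπ
  have := Fintype.ofFinite (R : Subgroup (G ⧸ pPrimeCore p G))
  have hR : (R : Subgroup (G ⧸ pPrimeCore p G)) ≠ ⊥ := R.ne_bot_of_dvd_card
    ((hp'.dvd_mul.mp (Subgroup.card_eq_card_quotient_mul_card_subgroup (pPrimeCore p G) ▸ hp)).resolve_right
      (GT.not_dvd_card_pPrimeCore hp'))
  have := (Subgroup.nontrivial_iff_ne_bot _).mpr hR
  have := Blk.PQ.solv R.2
  obtain ⟨x, -, hx⟩ := SetLike.exists_of_lt (Group.IsSolvable.commutator_lt_top_of_nontrivial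
    (R : Subgroup (G ⧸ pPrimeCore p G)))
  obtain ⟨ν, hν⟩ := Ch.exists_monoidHom_units_ne_one hx
  have hl := Ch.isIrrCharacter_monoidHom_units ν
  obtain ⟨χ, hχ, h4, h5⟩ := Blk.PQ.exists_over_not_dvd hp' le_rfl R.not_dvd_index hl
    (by rw [Deg.charDegree_linear]; exact hp'.one_lt.ne' ∘ Nat.dvd_one.mp)
    (Deg.ext_self hl.isCharacter)
  have h6 := h1.trans ((h ⟨_, hχ.comp_mk⟩).mp ⟨Ch.le_charKer_comp_mk _ χ, h4⟩).1
  refine hν (Units.ext (congrFun (Deg.eq_one_of_le_charKer_of_over hχ.isCharacter hl h5 ?_) x))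
  rintro _ ⟨y, hy, rfl⟩
  exact hχ.isCharacter.mem_charKer.mpr (hχ.comp_mk.isCharacter.mem_charKer.mp (h6 hy))

end Cfsg.Agent.S4885
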