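import Cfsg.Statements.S4903
import Cfsg.Agent.Blk.LowSixteen

set_option autoImplicit false
open Cfsg

namespace Cfsg.Agent.S4903

set_option linter.unusedVariables false
set_option linter.style.haveILetI false
open Cfsg.Agent.Blk

/-- Let G be a finite group with a faithful irreducible complex character of degree 16, p a prime with p ≥ 19, and P a Sylow p-subgroup of G. Then P is normal in G, or p = 31 and the quotient of G by its centre is isomorphic to PSL(2,31). -/
theorem result {G : Type*} [Group G] [Finite G] (χ : Cfsg.IrrCharacter G) (hdeg : Cfsg.charDegree (χ : G → ℂ) = 16) (hfaith : ∀ g : G, (χ : G → ℂ) g = (χ : G → ℂ) 1 → g = 1) (p : ℕ) [Fact p.Prime] (hp : 19 ≤ p) (P : Sylow p G) : (P : Subgroup G).Normal ∨ (p = 31 ∧ Nonempty (G ⧸ Subgroup.center G ≃* Matrix.ProjectiveSpecialLinearGroup (Fin 2) (ZMod 31))) := by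

  by_contra h
  rw [not_or] at h
  have hf := χ.isCharacter.charKer_eq_bot_iff.2 hfaith
  obtain ⟨K, _, _, φ, S, h1, h2, h3, h4, h5⟩ := Lin.reduce (by omega) χ.2 hf (by omega) h.1
  obtain ⟨e⟩ := Lin.quot_center_equiv h1
  rcases S.cases_large h5 (by omega) h2 h3 (by omega) (by omega) with ⟨⟨f⟩, h6⟩ | h6
  · have h7 : p ≠ 33 := fun e => absurd (Fact.out : p.Prime) (by rw [e]; norm_num)
    obtain rfl : p = 31 := by omega
    exact h.2 ⟨rfl, ⟨e.trans f⟩⟩
  · omega

end Cfsg.Agent.S4903
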