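import Cfsg.Statements.S4904
import Cfsg.Agent.Blk.LowSeven
import Cfsg.Agent.Cl.LinearBasic
import Cfsg.Agent.Cl.PSL2Pairs

set_option autoImplicit false
open Cfsg

namespace Cfsg.Agent.S4904

set_option linter.unusedVariables false
set_option linter.style.haveILetI false
open Cfsg.Agent.Blk
open scoped IsMulCommutative

/-- Let G be a finite group with a faithful irreducible complex character of degree d < 27, and p a prime with p > d + 1 and P a Sylow p-subgroup of G. Then one of the following holds: P is normal in G; the quotient of G by its centre is isomorphic to PSL(2,p) and 2d = p + 1 or 2d = p − 1; p = 17, d = 15 and G is isomorphic to the direct product of SL(2,16) with an abelian group; p = 7, d = 4 and G modulo its centre is the alternating group of degree 7; p = 5, d = 3 and G modulo its centre is the alternating group of degree 6. -/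
theorem result {G : Type*} [Group G] [Finite G] (d : ℕ) (hd : d < 27) (χ : Cfsg.IrrCharacter G) (hdeg : Cfsg.charDegree (χ : G → ℂ) = d) (hfaith : ∀ g : G, (χ : G → ℂ) g = (χ : G → ℂ) 1 → g = 1) (p : ℕ) [Fact p.Prime] (hp : d + 1 < p) (P : Sylow p G) : (P : Subgroup G).Normal ∨ (Nonempty (G ⧸ Subgroup.center G ≃* Matrix.ProjectiveSpecialLinearGroup (Fin 2) (ZMod p)) ∧ (2 * d = p + 1 ∨ 2 * d = p - 1)) ∨ (p = 17 ∧ d = 15 ∧ ∃ (A : Type) (_ : CommGroup A) (_ : Finite A), Nonempty (G ≃* Matrix.SpecialLinearGroup (Fin 2) (GaloisField 2 4) × A)) ∨ (p = 7 ∧ d = 4 ∧ Nonempty (G ⧸ Subgroup.center G ≃* ↥(alternatingGroup (Fin 7)))) ∨ (p = 5 ∧ d = 3 ∧ Nonempty (G ⧸ Subgroup.center G ≃* ↥(alternatingGroup (Fin 6)))) := by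

  refine or_iff_not_imp_left.2 fun hn => ?_
  have hf := χ.isCharacter.charKer_eq_bot_iff.2 hfaith
  have h0 := χ.2.charDegree_pos
  have hp' : p.Prime := Fact.out
  by_cases h5 : 5 ≤ p
  swap
  · have h1 : p ≠ 4 := fun e => by rw [e] at hp'; norm_num at hp'
    refine (hn ⟨fun y hy g => ?_⟩).elim
    rwa [Lin.le_center_of_inf (K := ⊤) (by
      rw [top_inf_eq, eq_bot_iff, ← hf]
      exact χ.isCharacter.commutator_le_charKer_of_apply_one
        (χ.isCharacter.charDegree_eq_one_iff.1 (by omega))) (Subgroup.mem_top y) |>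
        fun h => Subgroup.mem_center_iff.1 h g, mul_inv_cancel_right]
  obtain ⟨K, _, _, φ, S, h1, h2, h3, h4, h6⟩ := Lin.reduce h5 χ.2 hf (by omega) hn
  obtain ⟨e⟩ := Lin.quot_center_equiv h1
  rw [hdeg] at h4
  by_cases h7 : 7 < p
  · rcases S.cases_large h6 h7 h2 h3 (by omega) (by omega) with
      ⟨⟨f⟩, h8⟩ | ⟨h8, h9, F, _, _, h10, ⟨f⟩⟩
    · exact Or.inl ⟨⟨e.trans f⟩, h4 ▸ h8⟩
    obtain ⟨f⟩ := Lin.prod_of_quot (A := Subgroup.center (G ⧸ K)) h1 (Cl.sl_commutator_eq_top (F := F) (Or.inr (by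
      classical
      by_contra! a1
      have := Finset.card_le_card (show (Finset.univ : Finset F) ⊆ {0, 1, -1} from fun a _ => by
        rcases eq_or_ne a 0 with a2 | a2
        · simp [a2]
        · simpa [a2] using a1 a a2)
      have := Finset.card_le_three (a := (0 : F)) (b := 1) (c := -1)
      rw [Finset.card_univ] at *
      omega))) (Subgroup.eq_bot_of_card_eq _ (by
        rw [Cl.L2.card_center_SL, Nat.card_eq_fintype_card, h10]; rfl)) f
    obtain ⟨A, _, _, ⟨f'⟩⟩ := Finite.exists_type_univ_nonempty_mulEquiv.{_, 0} (Subgroup.center G)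
    haveI := Fintype.ofFinite (GaloisField 2 4)
    have f'' := FiniteField.ringEquivOfCardEq (K := F) (K' := GaloisField 2 4) (by
      rw [h10, ← Nat.card_eq_fintype_card, GaloisField.card 2 4 (by omega)]; rfl)
    exact Or.inr (Or.inl ⟨h8, by omega, A, ⟨fun a b => f'.symm.injective (by
      rw [map_mul, map_mul, mul_comm])⟩, inferInstance,
      ⟨f.trans ((Cl.slMapEquiv _ f'').prodCongr f')⟩⟩)
  have h8 := S.le_of_faithful h6 h2.isCharacter h3
  by_cases h9 : 2 * d + 1 = p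
  · obtain ⟨f⟩ := S.psl_of_half h6 h2.isCharacter h3 (by omega)
    exact Or.inl ⟨⟨e.trans f⟩, by omega⟩
  obtain ⟨he, i, h | ⟨m, a1, a2⟩⟩ := S.low_cases h2 (by omega) fun e =>
    S.x_ne_one (Subgroup.mem_bot.1 (h3 ▸ h2.mem_charKer.2 e))
  swap
  · have := S.plus_half h6 h2.isCharacter h3 (by omega) he a1 a2
    omega
  have h10 := h.deg
  obtain ⟨H, _, T, j, a1, a2, a3, a4, a5, ⟨f⟩⟩ := Lin.exists_gen h h6 h3 (by omega) he
  have h11 : p ≠ 6 := fun e => by rw [e] at hp'; norm_num at hp'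
  obtain rfl | rfl : p = 5 ∨ p = 7 := by omega
  · rcases a1.five a2 a4 a5 (by omega) with ⟨⟨f'⟩⟩ | ⟨⟨f'⟩⟩
    · exact Or.inl ⟨⟨e.trans (f.symm.trans f')⟩, by omega⟩
    · exact Or.inr (Or.inr (Or.inr ⟨rfl, by omega, ⟨e.trans (f.symm.trans f')⟩⟩))
  by_cases h12 : d = 5
  · obtain ⟨a, -, -, -, a6, -⟩ := One.Setup.sl_of_sub_two h6 (by omega) h2 h3 (by omega)
    have a7 : a < 3 := lt_of_not_ge fun e => by
      have := Nat.pow_le_pow_right two_pos e
      omega
    interval_cases a <;> omega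
  rcases a1.seven a2 a4 a5 (by omega) with ⟨⟨f'⟩⟩ | ⟨⟨f'⟩⟩
  · exact Or.inl ⟨⟨e.trans (f.symm.trans f')⟩, by omega⟩
  · exact Or.inr (Or.inr (Or.inl ⟨rfl, by omega, ⟨e.trans (f.symm.trans f')⟩⟩))

end Cfsg.Agent.S4904
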