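import Mathlib
import Cfsg.Statements.S4911
import Cfsg.Agent.Ch.RealChar
import Cfsg.Agent.Ch.GlaubPGroup
import Cfsg.Agent.S0160

set_option autoImplicit false
open Cfsg

namespace Cfsg.Agent.S4911

open Cfsg.Agent.Ch Cfsg.Agent.Ch.Glb Cfsg.Agent.GT
open scoped ComplexConjugate

theorem rel_conj {p : ℕ} {G C : Type*} [Group G] [Group C] [Finite C] {f : C →* G} {χ : G → ℂ}
    {β : C → ℂ} (h : Rel p f χ β) : Rel p f (fun g => conj (χ g)) (fun c => conj (β c)) := by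
  obtain ⟨ε, hε, Δ, hΔ, h⟩ := h
  refine ⟨ε, hε, fun c => conj (Δ c), ?_, fun c => by simp [h]⟩
  obtain ⟨a, b, ha, hb, rfl⟩ := hΔ
  exact ⟨_, _, ha.complexConj, hb.complexConj, by funext c; simp⟩

theorem card_real_irr {Γ : Type*} [Group Γ] [Finite Γ] {p : ℕ} (hp : p.Prime) {S G C : Subgroup Γ}
    {hCG : C ≤ G} (H : Corr p S hCG) :
    Nat.card {θ : IrrCharacter G // (∀ k, ((θ : G → ℂ) k).im = 0) ∧ Inv S (θ : G → ℂ)} =
      Nat.card {β : IrrCharacter C // ∀ k, ((β : C → ℂ) k).im = 0} := by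
  choose f hf hrel using H.ex
  refine Nat.card_congr (Equiv.ofBijective (fun θ => ⟨⟨f θ.1 θ.1.2 θ.2.2, hf _ _ _⟩, ?_⟩) ⟨?_, ?_⟩)
  · have h := rel_conj (hrel θ.1 θ.1.2 θ.2.2)
    rw [RC.real_iff_conj.mp θ.2.1] at h
    exact RC.real_iff_conj.mpr (h.unique hp θ.1.2.isCharacter (hf _ _ _).complexConj (hf _ _ _)
      (hrel _ _ _))
  · intro θ θ' h
    have h' : f θ.1 θ.1.2 θ.2.2 = f θ'.1 θ'.1.2 θ'.2.2 :=
      congrArg (fun x => (x.1 : C → ℂ)) h
    refine Subtype.ext (Subtype.ext (H.inj _ _ _ θ.1.2 θ'.1.2 (hf _ θ.1.2 θ.2.2) θ.2.2 θ'.2.2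
      (hrel _ _ _) ?_))
    rw [h']; exact hrel _ _ _
  · rintro ⟨β, hβ⟩
    obtain ⟨χ, hχ, hinv, h⟩ := H.surj _ β.2
    have h' := rel_conj h
    rw [RC.real_iff_conj.mp hβ] at h'
    have hr : (fun g => conj (χ g)) = χ := H.inj _ _ _ hχ.complexConj hχ β.2
      (fun s hs g g' hg => by simp only [hinv s hs g g' hg]) hinv h' h
    refine ⟨⟨⟨χ, hχ⟩, RC.real_iff_conj.mpr hr, hinv⟩, Subtype.ext (Subtype.ext ?_)⟩
    exact (hrel χ hχ hinv).unique hp hχ.isCharacter (hf _ _ _) β.2 h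

theorem card_real_cl {Γ : Type*} [Group Γ] [Finite Γ] {G S C : Subgroup Γ}
    (hn : S ≤ Subgroup.normalizer (G : Set Γ))
    (hcop : (Nat.card S).Coprime (Nat.card G)) (hsolv : Group.IsSolvable S ∨ Group.IsSolvable G)
    (hC : C = G ⊓ Subgroup.centralizer (S : Set Γ)) :
    Nat.card {K : ConjClasses C // ∀ g : C, ConjClasses.mk g = K → IsConj g g⁻¹} =
      Nat.card {K : ConjClasses G // (∀ g : G, ConjClasses.mk g = K → IsConj g g⁻¹) ∧ InvCl S K} := by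
  have hCG : C ≤ G := hC ▸ inf_le_left
  have hCS : C ≤ Subgroup.centralizer (S : Set Γ) := hC ▸ inf_le_right
  have hconj : ∀ c c' : C, IsConj (Subgroup.inclusion hCG c) (Subgroup.inclusion hCG c') →
      IsConj c c' := by
    intro c c' h'
    rw [isConj_iff] at h' ⊢
    obtain ⟨x, hx⟩ := h'
    have hx' : (x : Γ) * c * (x : Γ)⁻¹ = c' := congrArg Subtype.val hx
    obtain ⟨d, hd, h2⟩ := CopAct.exists_centralizer_conj_elt_eq hn hcop hsolv (hCS c.2) x.2
      (hx' ▸ hCS c'.2)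
    exact ⟨⟨d, hC ▸ hd⟩, Subtype.ext (h2.trans hx')⟩
  have hinv : ∀ {X : Type _} [Group X] {a b : X}, IsConj a b → IsConj b b⁻¹ → IsConj a a⁻¹ := by
    intro X _ a b h hb
    obtain ⟨c, rfl⟩ := isConj_iff.mp h
    refine h.trans (hb.trans (isConj_iff.mpr ⟨c⁻¹, by group⟩))
  refine Nat.card_congr (Equiv.ofBijective
    (fun K => ⟨ConjClasses.map (Subgroup.inclusion hCG) K.1, ?_, ?_⟩) ⟨?_, ?_⟩)
  · obtain ⟨K, hK⟩ := K
    obtain ⟨c, rfl⟩ := ConjClasses.mk_surjective K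
    intro g hg
    have h' : ConjClasses.mk g = ConjClasses.mk (Subgroup.inclusion hCG c) := hg
    rw [ConjClasses.mk_eq_mk_iff_isConj] at h'
    refine hinv h' ?_
    rw [← map_inv]
    exact (Subgroup.inclusion hCG).map_isConj (hK c rfl)
  · obtain ⟨K, hK⟩ := K
    obtain ⟨c, rfl⟩ := ConjClasses.mk_surjective K
    intro s hs g g' hg h
    have h' : ConjClasses.mk g = ConjClasses.mk (Subgroup.inclusion hCG c) := h
    change _ = ConjClasses.mk (Subgroup.inclusion hCG c)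
    rw [ConjClasses.mk_eq_mk_iff_isConj, isConj_iff] at h' ⊢
    obtain ⟨x, hx⟩ := h'
    refine ⟨⟨s * x * s⁻¹, CopAct.conj_mem hn hs x.2⟩, Subtype.ext ?_⟩
    have hx' : (x : Γ) * g * (x : Γ)⁻¹ = c := congrArg Subtype.val hx
    have hc := hCS c.2 s hs
    simp only [Subgroup.coe_mul, Subgroup.coe_inv, Subgroup.coe_inclusion, hg]
    calc s * x * s⁻¹ * (s * g * s⁻¹) * (s * x * s⁻¹)⁻¹ = s * ((x : Γ) * g * (x : Γ)⁻¹) * s⁻¹ := by
          group
      _ = c := by rw [hx', hc]; group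
  · rintro ⟨K, hK⟩ ⟨K', hK'⟩ h
    obtain ⟨c, rfl⟩ := ConjClasses.mk_surjective K
    obtain ⟨c', rfl⟩ := ConjClasses.mk_surjective K'
    have h' : ConjClasses.mk (Subgroup.inclusion hCG c) =
      ConjClasses.mk (Subgroup.inclusion hCG c') := congrArg Subtype.val h
    rw [ConjClasses.mk_eq_mk_iff_isConj] at h'
    exact Subtype.ext (ConjClasses.mk_eq_mk_iff_isConj.mpr (hconj _ _ h'))
  · rintro ⟨K, hKr, hK⟩
    obtain ⟨g, rfl⟩ := ConjClasses.mk_surjective K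
    obtain ⟨k, hk, h⟩ := CopAct.exists_conj_mem_centralizer hn hcop hsolv (x := (g : Γ)) (by
      intro a ha
      have := hK a ha g ⟨_, CopAct.conj_mem hn ha g.2⟩ rfl rfl
      rw [eq_comm, ConjClasses.mk_eq_mk_iff_isConj, isConj_iff] at this
      obtain ⟨x, hx⟩ := this
      exact ⟨x, x.2, (congrArg Subtype.val hx).symm⟩)
    let c : C := ⟨k * g * k⁻¹,
      hC ▸ Subgroup.mem_inf.mpr ⟨mul_mem (mul_mem hk g.2) (inv_mem hk), h⟩⟩
    have hgc : IsConj g (Subgroup.inclusion hCG c) := isConj_iff.mpr ⟨⟨k, hk⟩, rfl⟩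
    refine ⟨⟨ConjClasses.mk c, fun d hd => ?_⟩, Subtype.ext ?_⟩
    · rw [ConjClasses.mk_eq_mk_iff_isConj] at hd
      refine hinv hd (hconj _ _ ?_)
      rw [map_inv]
      exact hinv hgc.symm (hKr g rfl)
    · change ConjClasses.mk (Subgroup.inclusion hCG _) = _
      rw [eq_comm, ConjClasses.mk_eq_mk_iff_isConj]
      exact hgc

/-- Let P and K be subgroups of a finite group with P a p-group normalizing K and K of order prime to p. Then the number of P-invariant real-valued irreducible complex characters of K equals the number of conjugacy classes of K that are real (closed under inversion) and P-invariant. Moreover, if every real-valued irreducible character of K is P-invariant, then every real element of K (one conjugate in K to its inverse) is conjugate in K to an element centralized by P. -/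
theorem result {G : Type*} [Group G] [Finite G] (p : ℕ) [Fact p.Prime] (P K : Subgroup G) (hP : IsPGroup p ↥P) (hK : ¬ p ∣ Nat.card ↥K) (hPK : P ≤ Subgroup.normalizer (K : Set G)) : Nat.card {θ : Cfsg.IrrCharacter ↥K // (∀ k : ↥K, ((θ : ↥K → ℂ) k).im = 0) ∧ (∀ x ∈ P, ∀ k k' : ↥K, (k' : G) = x * (k : G) * x⁻¹ → (θ : ↥K → ℂ) k' = (θ : ↥K → ℂ) k)} = Nat.card {c : ConjClasses ↥K // (∀ k : ↥K, ConjClasses.mk k = c → IsConj k k⁻¹) ∧ ∀ k : ↥K, ConjClasses.mk k = c → ∀ x ∈ P, ∀ k' : ↥K, (k' : G) = x * (k : G) * x⁻¹ → ConjClasses.mk k' = c} ∧ ((∀ θ : Cfsg.IrrCharacter ↥K, (∀ k : ↥K, ((θ : ↥K → ℂ) k).im = 0) → (∀ x ∈ P, ∀ k k' : ↥K, (k' : G) = x * (k : G) * x⁻¹ → (θ : ↥K → ℂ) k' = (θ : ↥K → ℂ) k)) → ∀ k : ↥K, IsConj k k⁻¹ → ∃ k' : ↥K, IsConj k k' ∧ ∀ x ∈ P, x * (k' : G) * x⁻¹ = (k' : G)) := by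
  have hp : p.Prime := Fact.out
  have hcop : (Nat.card P).Coprime (Nat.card K) := by
    obtain ⟨n, hn⟩ := IsPGroup.iff_card.mp hP
    rw [hn]
    exact Nat.Coprime.pow_left _ ((Nat.Prime.coprime_iff_not_dvd hp).mpr hK)
  have hsolv : Group.IsSolvable P ∨ Group.IsSolvable K := by
    have := hP.isNilpotent
    exact Or.inl inferInstance
  have H := corr_pGroup hp hP hPK hcop.symm rfl (inf_le_left (a := K))
  have h1 := ((card_real_irr hp H).trans S0160.result).trans (card_real_cl hPK hcop hsolv rfl)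
  have e : ∀ c : ConjClasses K, InvCl P c ↔ ∀ k : ↥K, ConjClasses.mk k = c → ∀ x ∈ P, ∀ k' : ↥K,
      (k' : G) = x * (k : G) * x⁻¹ → ConjClasses.mk k' = c := fun c =>
    ⟨fun h k hk x hx k' hk' => h x hx k k' hk' hk, fun h x hx k k' hk' hk => h k hk x hx k' hk'⟩
  refine ⟨h1.trans (by simp only [e]), fun hall k hk => ?_⟩
  have h2 : Nat.card {θ : IrrCharacter K // (∀ k, ((θ : K → ℂ) k).im = 0) ∧ Inv P (θ : K → ℂ)} =
      Nat.card {θ : IrrCharacter K // ∀ k, ((θ : K → ℂ) k).im = 0} :=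
    Nat.card_congr (Equiv.subtypeEquivRight fun θ => ⟨fun h => h.1, fun h => ⟨h, hall θ h⟩⟩)
  rw [h2, S0160.result] at h1
  let ι : {c : ConjClasses K // (∀ g : K, ConjClasses.mk g = c → IsConj g g⁻¹) ∧ InvCl P c} →
      {c : ConjClasses K // ∀ g : K, ConjClasses.mk g = c → IsConj g g⁻¹} := fun c => ⟨c.1, c.2.1⟩
  have hι : Function.Injective ι := fun a b h => Subtype.ext (congrArg (fun x => x.1) h)
  have hbij := (Nat.bijective_iff_injective_and_card ι).mpr ⟨hι, h1.symm⟩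
  obtain ⟨c, hc⟩ := hbij.2 ⟨ConjClasses.mk k, fun g hg => by
    rw [ConjClasses.mk_eq_mk_iff_isConj] at hg
    obtain ⟨c, rfl⟩ := isConj_iff.mp hg
    exact hg.trans (hk.trans (isConj_iff.mpr ⟨c⁻¹, by group⟩))⟩
  have hc' : c.1 = ConjClasses.mk k := congrArg Subtype.val hc
  have hK' := hc' ▸ c.2.2
  obtain ⟨y, hy, h⟩ := CopAct.exists_conj_mem_centralizer hPK hcop hsolv (x := (k : G)) (by
    intro a ha
    have := hK' a ha k ⟨_, CopAct.conj_mem hPK ha k.2⟩ rfl rfl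
    rw [eq_comm, ConjClasses.mk_eq_mk_iff_isConj, isConj_iff] at this
    obtain ⟨x, hx⟩ := this
    exact ⟨x, x.2, (congrArg Subtype.val hx).symm⟩)
  refine ⟨⟨y, hy⟩ * k * ⟨y, hy⟩⁻¹, isConj_iff.mpr ⟨_, rfl⟩, fun x hx => ?_⟩
  have := h x hx
  simp only [Subgroup.coe_mul, Subgroup.coe_inv]
  rw [this]; group

end Cfsg.Agent.S4911
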