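import Mathlib
import Cfsg.Statements.S4914
import Cfsg.Agent.Ch.RelGlaub2

set_option autoImplicit false
open Cfsg

namespace Cfsg.Agent.S4914

open Cfsg.Agent.Ch Cfsg.Agent.Ch.Glb Cfsg.Agent.Ch.RG

/-- Let P and K be subgroups of a finite group G with P a p-group normalizing K, and suppose K has a normal Sylow p-subgroup Q. Let C be the subgroup of those k ∈ K whose commutator with every element of P lies in Q (so that C/Q is the fixed-point subgroup of P on K/Q). Then there is a bijection f from the P-invariant irreducible complex characters of K onto the P-invariant irreducible complex characters of C such that, for every P-invariant irreducible character χ of K, the multiplicity of f(χ) in the restriction of χ to C is a natural number congruent to 1 or to −1 modulo p, every other P-invariant irreducible character of C occurs in that restriction with multiplicity divisible by p, and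 the degrees of χ and f(χ) are congruent modulo p up to sign. -/
theorem result {G : Type*} [Group G] [Finite G] (p : ℕ) [Fact p.Prime] (P K Q C : Subgroup G) (hP : IsPGroup p ↥P) (hPK : P ≤ Subgroup.normalizer (K : Set G)) (hQK : Q ≤ K) (hQn : ∀ k ∈ K, ∀ q ∈ Q, k * q * k⁻¹ ∈ Q) (hQp : ∃ a : ℕ, Nat.card ↥Q = p ^ a) (hQsyl : ¬ p ∣ Q.relIndex K) (hCK : C ≤ K) (hC : ∀ k : G, k ∈ C ↔ (k ∈ K ∧ ∀ x ∈ P, x * k * x⁻¹ * k⁻¹ ∈ Q)) : ∃ f : {χ : Cfsg.IrrCharacter ↥K // (∀ x ∈ P, ∀ k k' : ↥K, (k' : G) = x * (k : G) * x⁻¹ → (χ : ↥K → ℂ) k' = (χ : ↥K → ℂ) k)} → {ξ : Cfsg.IrrCharacter ↥C // (∀ x ∈ P, ∀ k k' : ↥C, (k' : G) = x * (k : G) * x⁻¹ → (ξ : ↥C → ℂ) k' = (ξ : ↥C → ℂ) k)}, Function.Bijective f ∧ ∀ χ, (∀ ξ : {ξ : Cfsg.IrrCharacter ↥C // (∀ x ∈ P, ∀ k k' : ↥C, (k' : G) = x * (k : G) * x⁻¹ → (ξ : ↥C → ℂ) k' = (ξ : ↥C → ℂ) k)}, ∃ m : ℕ, (Nat.card ↥C : ℂ)⁻¹ * ∑ᶠ c : ↥C, (χ.1 : ↥K → ℂ) (Subgroup.inclusion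 hCK c) * (starRingEnd ℂ) ((ξ.1 : ↥C → ℂ) c) = (m : ℂ) ∧ (ξ = f χ → ((m : ZMod p) = 1 ∨ (m : ZMod p) = -1)) ∧ (ξ ≠ f χ → p ∣ m)) ∧ ((Cfsg.charDegree ((f χ).1 : ↥C → ℂ) : ZMod p) = (Cfsg.charDegree (χ.1 : ↥K → ℂ) : ZMod p) ∨ (Cfsg.charDegree ((f χ).1 : ↥C → ℂ) : ZMod p) = -(Cfsg.charDegree (χ.1 : ↥K → ℂ) : ZMod p)) := by
  have hp : p.Prime := Fact.out
  have := Fintype.ofFinite C
  have hKQ : K ≤ Subgroup.normalizer (Q : Set G) := fun k hk =>
    Subgroup.mem_normalizer_fintype (hQn k hk)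
  have hPQ : P ≤ Subgroup.normalizer (Q : Set G) := fun x hx =>
    Subgroup.mem_normalizer_fintype fun q hq => by
      have hn : (Q.subgroupOf K).Normal := Subgroup.normal_subgroupOf_of_le_normalizer hKQ
      have hm : x * q * x⁻¹ ∈ K := (Subgroup.mem_normalizer_iff.mp (hPK hx) _).mp (hQK hq)
      obtain ⟨a, ha⟩ := hQp
      have h1 : (x * q * x⁻¹) ^ p ^ a = 1 := by
        rw [conj_pow, ← ha, show q ^ Nat.card Q = 1 from
          congrArg Subtype.val (pow_card_eq_one' (G := Q) (x := ⟨q, hq⟩))]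
        simp
      have h2 : (x * q * x⁻¹) ^ Q.relIndex K ∈ Q := (Q.subgroupOf K).pow_index_mem ⟨_, hm⟩
      obtain ⟨u, hu⟩ := exists_pow_eq_self_of_coprime (Nat.Coprime.coprime_dvd_right
        (orderOf_dvd_of_pow_eq_one h1) (((hp.coprime_iff_not_dvd).mpr hQsyl).symm.pow_right a))
      exact hu ▸ pow_mem h2 u
  have hPC : P ≤ Subgroup.normalizer (C : Set G) := fun x hx =>
    Subgroup.mem_normalizer_fintype fun k hk => (hC _).mpr
      ⟨(Subgroup.mem_normalizer_iff.mp (hPK hx) _).mp (hCK hk), fun y hy => by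
        convert (Subgroup.mem_normalizer_iff.mp (hPQ hx) _).mp (((hC k).mp hk).2 (x⁻¹ * y * x)
          (mul_mem (mul_mem (inv_mem hx) hy) hx)) using 1
        group⟩
  have H := rcorr_of_rel hp hP hPQ hQK hKQ hPK hQsyl hC hCK
  choose f hf hm using H.ex
  refine ⟨fun χ => ⟨f χ.1 χ.2, hf _ _⟩, ⟨fun χ χ' h => ?_, fun ξ => ?_⟩, fun χ => ⟨fun ξ => ?_, ?_⟩⟩
  · have h' : f χ.1 χ.2 = f χ'.1 χ'.2 := congrArg Subtype.val h
    exact Subtype.ext (H.inj _ _ _ χ.2 χ'.2 (hf _ χ.2) (hm _ _) (h' ▸ hm _ _))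
  · obtain ⟨χ, hχ, h⟩ := H.surj ξ.1 ξ.2
    exact ⟨⟨χ, hχ⟩, Subtype.ext (H.uniq χ _ _ hχ (hf _ _) ξ.2 (hm _ _) h)⟩
  · refine ⟨mlt hCK χ.1 ξ.1, ?_, fun h => ?_, fun h => ?_⟩
    · rw [← mlt_spec, finsum_eq_sum_of_fintype]; rfl
    · subst h
      exact sq_eq_one_iff.mp (H.sq _ _ χ.2 (hf _ _) (hm _ _))
    · exact H.dvd_of_ne χ.2 (hf _ χ.2) ξ.2 (hm _ _) fun h' => h (Subtype.ext h')
  · exact H.charDegree_eq_or hp hP hPK hPC χ.2 (hf _ _) (hm _ _)

end Cfsg.Agent.S4914
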