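import Mathlib
import Cfsg.Statements.S4923
import Cfsg.Agent.Ch.GaloisFix
import Cfsg.Agent.Ch.Galois
import Cfsg.Agent.Ch.RealChar
import Cfsg.Agent.Ch.Orthogonality
import Cfsg.Agent.FG.TwoMax
import Cfsg.Agent.GT.PGroupMaxClass

set_option autoImplicit false
open Cfsg

namespace Cfsg.Agent.S4923

open Cfsg.Agent.Ch Cfsg.Agent.GT Cfsg.Agent.GT.PG

theorem field_iff {G : Type*} [Group G] [Finite G] {g : G} {N : ℕ} (hN : N ≠ 0) (hg : g ^ N = 1)
    {ζ ε : ℂ} (hζ : ζ ^ N = 1) (hε : ε = 1 ∨ ε = -1) :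
    IntermediateField.adjoin ℚ {z : ℂ | ∃ χ : IrrCharacter G, (χ : G → ℂ) g = z} =
      IntermediateField.adjoin ℚ ({ζ + ε * ζ⁻¹} : Set ℂ) ↔
    ∀ k : ℕ, k.Coprime N → (IsConj (g ^ k) g ↔ ζ ^ k = ζ ∨ ζ ^ (k + 1) = ε) := by
  have h0 : ζ ≠ 0 := fun h => by simp [h, hN] at hζ
  have key : ∀ (σ : ℂ ≃+* ℂ) (k : ℕ), (∀ ξ : ℂ, ξ ^ N = 1 → σ ξ = ξ ^ k) →
      (((∀ s ∈ {z : ℂ | ∃ χ : IrrCharacter G, (χ : G → ℂ) g = z}, σ s = s) ↔
        ∀ t ∈ ({ζ + ε * ζ⁻¹} : Set ℂ), σ t = t) ↔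
      (IsConj (g ^ k) g ↔ ζ ^ k = ζ ∨ ζ ^ (k + 1) = ε)) := fun σ k hσ => by
    refine iff_congr ?_ ?_
    · rw [isConj_iff_forall_irr]
      have h1 : ∀ χ : IrrCharacter G, σ ((χ : G → ℂ) g) = (χ : G → ℂ) (g ^ k) := fun χ =>
        χ.2.isCharacter.galois_apply_of_pow_eq_one (σ : ℂ →+* ℂ) hσ hg
      exact ⟨fun h χ => h1 χ ▸ h _ ⟨χ, rfl⟩, by rintro h _ ⟨χ, rfl⟩; rw [h1, h]⟩
    · have h1 : σ ε = ε := by rcases hε with rfl | rfl <;> simp
      have h2 : ζ ^ k ≠ 0 := pow_ne_zero _ h0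
      simp only [Set.mem_singleton_iff, forall_eq, map_add, map_mul, map_inv₀, h1, hσ ζ hζ]
      rw [← sub_eq_zero, ← sub_eq_zero (a := ζ ^ k), ← sub_eq_zero (a := ζ ^ (k + 1)), ← mul_eq_zero,
        show (ζ ^ k - ζ) * (ζ ^ (k + 1) - ε) =
          (ζ ^ k + ε * (ζ ^ k)⁻¹ - (ζ + ε * ζ⁻¹)) * (ζ ^ k * ζ) by field_simp; ring]
      simp [h0, h2]
  have hi : ∀ ξ : ℂ, ξ ^ N = 1 → IsIntegral ℚ ξ := fun ξ h =>
    IsIntegral.of_pow (Nat.pos_of_ne_zero hN) (h ▸ isIntegral_one)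
  rw [galois_adjoin_eq_iff (by rintro _ ⟨χ, rfl⟩; exact (χ.2.isCharacter.isIntegral g).tower_top)
    (by rintro _ rfl
        exact (hi ζ hζ).add (IsIntegral.mul (by rcases hε with rfl | rfl; exacts [isIntegral_one,
          isIntegral_one.neg]) (hi _ (by rw [inv_pow, hζ, inv_one]))))]
  refine ⟨fun h k hk => ?_, fun h σ => ?_⟩
  · obtain ⟨σ, hσ⟩ := galois_exists_pow hN hk
    exact (key σ k hσ).mp (h σ)
  · obtain ⟨k, hk, hσ⟩ := galois_exists_exponent (σ : ℂ →+* ℂ) hN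
    exact (key σ k hσ).mpr (h k hk)

theorem exists_conj {G : Type*} [Group G] [Finite G] {p : ℕ} [hp : Fact p.Prime] (P : Sylow p G)
    {a x : G} (hP : (P : Subgroup G) ≤ Subgroup.normalizer (Subgroup.zpowers a : Set G))
    (hA : IsPGroup p (MulAut (Subgroup.zpowers a)))
    (hx : x ∈ Subgroup.normalizer (Subgroup.zpowers a : Set G)) :
    ∃ y ∈ (P : Subgroup G), y * a * y⁻¹ = x * a * x⁻¹ := by
  let φ := (Subgroup.zpowers a).normalizerMonoidHom
  obtain ⟨y, hy, e⟩ := ((hA.to_subgroup _).to_subgroup ⊤).le_sylow_of_normal ((P.subtype hP).mapSurjective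
    φ.rangeRestrict_surjective) (Subgroup.mem_top (φ.rangeRestrict ⟨x, hx⟩))
  exact ⟨y, hy, congrArg (fun f : φ.range => ((f.1 ⟨a, Subgroup.mem_zpowers a⟩ : _) : G)) e⟩

theorem isConj_iff' {G : Type*} [Group G] [Finite G] (P : Sylow 2 G) {m : ℕ} {a b : (P : Subgroup G)}
    (h : MaxTwo m a b) {k : ℕ} :
    IsConj ((a : G) ^ k) a ↔ a ^ k = a ∨ a ^ k = b * a * b⁻¹ := by
  have ho : orderOf (a : G) = 2 ^ (m + 1) := by rw [Subgroup.orderOf_coe, h.orderOf_eq]
  refine ⟨fun hc => ?_, ?_⟩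
  · obtain ⟨x, hx⟩ := isConj_iff.mp hc.symm
    have hn : ∀ x : G, x * a * x⁻¹ ∈ Subgroup.zpowers (a : G) →
        x ∈ Subgroup.normalizer (Subgroup.zpowers (a : G) : Set G) := fun x hx =>
      Subgroup.mem_normalizer_fintype (by
        rintro _ ⟨i, rfl⟩
        simpa only [conj_zpow, SetLike.mem_coe] using Subgroup.zpow_mem _ hx i)
    obtain ⟨y, hy, e⟩ := exists_conj P (fun y hy => hn y (by
      obtain ⟨i, hi⟩ := h.normal.conj_mem a (Subgroup.mem_zpowers a) ⟨y, hy⟩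
      exact ⟨i, congrArg Subtype.val hi⟩)) (IsPGroup.of_card (n := m) (by
        rw [IsCyclic.card_mulAut, Nat.card_zpowers, ho, Nat.totient_prime_pow_succ Nat.prime_two]
        simp)) (hn x (hx ▸ Subgroup.npow_mem_zpowers _ k))
    have e' : a ^ k = ⟨y, hy⟩ * a * ⟨y, hy⟩⁻¹ := Subtype.ext (hx.symm.trans e.symm)
    by_cases hy' : (⟨y, hy⟩ : P) ∈ Subgroup.zpowers a
    · exact Or.inl (e'.trans (conj_eq_self_of_mem_zpowers hy'))
    · exact Or.inr (e'.trans (h.conj_eq_of_notMem hy'))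
  · rintro (e | e)
    · rw [show (a : G) ^ k = a from congrArg Subtype.val e]
    · exact (isConj_iff.mpr ⟨(b : G), (congrArg Subtype.val e).symm⟩ : IsConj (a : G) _).symm

/-- Let G be a finite group with Sylow 2-subgroup P of order 2^n ≥ 8, and let ζ be a primitive 2^(n−1)-th root of unity in ℂ. Then the commutator subgroup of P has index 4 in P if and only if there is an element g of P whose conjugacy class in G has even size and such that the field generated over ℚ by the values at g of all irreducible complex characters of G equals ℚ(ζ + ζ⁻¹) or ℚ(ζ − ζ⁻¹). -/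
theorem result {G : Type*} [Group G] [Finite G] (P : Sylow 2 G) (n : ℕ) (hn : 3 ≤ n) (hP : Nat.card P = 2 ^ n) (ζ : ℂ) (hζ : IsPrimitiveRoot ζ (2 ^ (n - 1))) :
    (commutator ↥P).index = 4 ↔
      ∃ g : G, g ∈ (P : Subgroup G) ∧ 2 ∣ (Subgroup.centralizer ({g} : Set G)).index ∧
        (IntermediateField.adjoin ℚ {z : ℂ | ∃ χ : Cfsg.IrrCharacter G, (χ : G → ℂ) g = z} = IntermediateField.adjoin ℚ ({ζ + ζ⁻¹} : Set ℂ) ∨
          IntermediateField.adjoin ℚ {z : ℂ | ∃ χ : Cfsg.IrrCharacter G, (χ : G → ℂ) g = z} = IntermediateField.adjoin ℚ ({ζ - ζ⁻¹} : Set ℂ)) := by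
  obtain ⟨m, rfl⟩ : ∃ m, n = m + 2 := ⟨n - 2, by omega⟩
  replace hζ : IsPrimitiveRoot ζ (2 ^ (m + 1)) := hζ
  have hN : 2 ^ (m + 2) ≠ 0 := by positivity
  have hζN : ζ ^ 2 ^ (m + 2) = 1 := by rw [pow_succ, pow_mul, hζ.pow_eq_one, one_pow]
  have hz : ∀ i j, ζ ^ i = ζ ^ j ↔ i ≡ j [MOD 2 ^ (m + 1)] := fun i j => by
    rw [(hζ.isOfFinOrder (by positivity)).pow_eq_pow_iff_modEq, ← hζ.eq_orderOf]
  have hm : ζ ^ 2 ^ m = -1 := (hζ.pow (by positivity) (pow_succ 2 m)).eq_neg_one_of_two_right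
  have hg : ∀ g ∈ (P : Subgroup G), g ^ 2 ^ (m + 2) = 1 := fun g hg =>
    congrArg Subtype.val (hP ▸ pow_card_eq_one' (x := (⟨g, hg⟩ : P)))
  change (commutator (P : Subgroup G)).index = 4 ↔ _
  rw [← one_mul ζ⁻¹, sub_eq_add_neg, ← neg_mul]
  constructor
  · intro h
    obtain ⟨m', a, b, H⟩ := exists_maxTwo_of_index_commutator P.2 (fun hc => by
      rw [FG.TM.commutator_eq_bot_iff.mpr hc, Subgroup.index_bot, hP] at h
      have := Nat.pow_le_pow_right two_pos hn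
      omega) h
    obtain rfl : m = m' := by have := H.eq_of_card hP; omega
    have ha : ∀ i j, a ^ i = a ^ j ↔ ζ ^ i = ζ ^ j := fun i j => by
      rw [hz, pow_eq_pow_iff_modEq, H.orderOf_eq]
    have h1 : ∀ k, a ^ k = a ↔ ζ ^ k = ζ := fun k => by simpa using ha k 1
    refine ⟨a, a.2, ?_, ?_⟩
    · by_contra hi
      obtain ⟨x, hx⟩ := RC.exists_conj_mem_of_not_dvd_index P.2 hi
      obtain ⟨y, hy⟩ := MulAction.exists_smul_eq G (x • P) P
      have h2 : ((x • P : Sylow 2 G) : Subgroup G) ≤ Subgroup.centralizer {(a : G)} := by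
        rintro _ ⟨z, hz, rfl⟩; exact hx z hz
      have h3 : (a : G) ∈ ((x • P : Sylow 2 G) : Subgroup G) := by
        rw [← (x • P).3 (((x • P).2.to_sup_of_normal_right' (P.2.to_le
          (Subgroup.zpowers_le_of_mem a.2)) (h2.trans ?_))) le_sup_left]
        · exact Subgroup.mem_sup_right (Subgroup.mem_zpowers _)
        · rw [← Subgroup.centralizer_closure, ← Subgroup.zpowers_eq_closure]
          exact Subgroup.centralizer_le_normalizer _
      obtain ⟨z, hz, e⟩ := h3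
      have h4 : (⟨z, hz⟩ : P) ^ 2 = 1 := by
        rcases H.mem_center_iff.mp (Subgroup.mem_center_iff.mpr fun w => Subtype.ext
          ((MulAut.conj x).injective (show _ = MulAut.conj x (z * w) by
            rw [Subgroup.coe_mul, map_mul, map_mul, show MulAut.conj x z = a from e]
            exact (hx w w.2 a rfl).symm)) : (⟨z, hz⟩ : P) ∈ Subgroup.center P) with h | h
        exacts [by rw [h, one_pow], by rw [h, H.z_sq]]
      have h5 : a ^ 2 = 1 := Subtype.ext (by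
        rw [Subgroup.coe_pow, ← show MulAut.conj x z = a from e, ← map_pow,
          show z ^ 2 = 1 from congrArg Subtype.val h4, map_one]; rfl)
      have h6 := Nat.le_of_dvd two_pos (H.orderOf_eq ▸ orderOf_dvd_of_pow_eq_one h5)
      have := Nat.pow_le_pow_right two_pos (show 2 ≤ m + 1 by omega)
      omega
    · rw [field_iff hN (hg _ a.2) hζN (Or.inl rfl), field_iff hN (hg _ a.2) hζN (Or.inr rfl)]
      simp only [isConj_iff' P H, h1]
      have h7 : b * a * b⁻¹ = a⁻¹ → ∀ k, (a ^ k = b * a * b⁻¹ ↔ ζ ^ (k + 1) = 1) := fun e k => by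
        rw [e, eq_inv_iff_mul_eq_one, ← pow_succ, ← pow_zero a, ha, pow_zero]
      rcases H.rel with ⟨-, e⟩ | ⟨-, e⟩ | ⟨-, -, e⟩
      · exact Or.inl fun k _ => by rw [h7 e]
      · exact Or.inl fun k _ => by rw [h7 e]
      · refine Or.inr fun k _ => ?_
        rw [e, ← mul_left_inj a, ← pow_succ, ← pow_succ, Nat.sub_add_cancel Nat.one_le_two_pow, ha, hm]
  · rintro ⟨g, hgP, hi, h⟩
    rw [field_iff hN (hg _ hgP) hζN (Or.inl rfl), field_iff hN (hg _ hgP) hζN (Or.inr rfl)] at h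
    have hna : ¬ IsMulCommutative P := fun hc => P.not_dvd_index (hi.trans
      (Subgroup.index_dvd_of_le fun x hx => Subgroup.mem_centralizer_singleton_iff.mpr
        (congrArg Subtype.val (hc.1.1 ⟨x, hx⟩ ⟨g, hgP⟩))))
    rcases (show m = 1 ∨ 2 ≤ m by omega) with rfl | hm2
    · obtain ⟨a, ha⟩ := FG.TM.exists_index_two_of_card_eight hna hP
      obtain ⟨m', b, H | ⟨h1, h2, -⟩⟩ := maxTwo_or_modular P.2 hna ha
      · exact H.index_commutator
      · have h3 := (Subgroup.zpowers a).card_mul_index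
        have := Nat.pow_le_pow_right two_pos (show 3 ≤ m' + 1 by omega)
        rw [Nat.card_zpowers, h2, ha, hP] at h3
        omega
    have h0 : ζ ≠ 0 := hζ.ne_zero (by positivity)
    have hnc : ¬ IsConj (g ^ (1 + 2 ^ m)) g := fun hc => by
      have hk : (1 + 2 ^ m).Coprime (2 ^ (m + 2)) := Nat.Coprime.pow_right _
        ((Nat.coprime_two_right).mpr (by rw [add_comm]; exact (Nat.even_pow.mpr ⟨even_two, by omega⟩).add_one))
      have h4 : ζ ^ 4 = 1 := by
        rcases h with h | h <;> rcases (h _ hk).mp hc with e | e <;>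
          simp only [pow_add, pow_one, hm] at e
        · exact absurd (by linear_combination (-1 / 2 : ℂ) * e) h0
        · linear_combination (1 - ζ ^ 2) * e
        · exact absurd (by linear_combination (-1 / 2 : ℂ) * e) h0
        · linear_combination (-1 - ζ ^ 2) * e
      have h5 := Nat.le_of_dvd four_pos (hζ.dvd_of_pow_eq_one 4 h4)
      have := Nat.pow_le_pow_right two_pos (show 3 ≤ m + 1 by omega)
      omega
    set a : (P : Subgroup G) := ⟨g, hgP⟩
    obtain ⟨i, hi', ho⟩ := (Nat.dvd_prime_pow Nat.prime_two).mp (hP ▸ orderOf_dvd_natCard a)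
    have h1 : m < i := by
      by_contra h1
      refine hnc ?_
      rw [pow_add, pow_one, show g ^ 2 ^ m = 1 from congrArg Subtype.val (orderOf_dvd_iff_pow_eq_one.mp
        (ho ▸ pow_dvd_pow 2 (not_lt.mp h1)) : a ^ 2 ^ m = 1), mul_one]
    have h2 : i ≠ m + 2 := fun e => hna (have := isCyclic_of_orderOf_eq_card a (by rw [ho, hP, e])
      IsCyclic.isMulCommutative)
    obtain rfl : i = m + 1 := by omega
    have h3 := (Subgroup.zpowers a).card_mul_index
    rw [Nat.card_zpowers, ho, hP, pow_succ 2 (m + 1)] at h3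
    obtain ⟨m', b, H | ⟨-, h4, -, -, h5⟩⟩ := maxTwo_or_modular P.2 hna
      (Nat.eq_of_mul_eq_mul_left (by positivity) h3)
    · exact H.index_commutator
    · obtain rfl : m = m' := by have := Nat.pow_right_injective le_rfl (ho.symm.trans h4); omega
      exact absurd (isConj_iff.mpr ⟨(b : G), congrArg Subtype.val h5⟩ : IsConj g _).symm hnc

end Cfsg.Agent.S4923
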