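import Mathlib
import Cfsg.Statements.S4930
import Cfsg.Agent.S4931
import Cfsg.Agent.Ch.GlaubPGroup
import Cfsg.Agent.Ch.Clifford
import Cfsg.Agent.Ch.Linear
import Cfsg.Agent.Ch.Integrality

set_option autoImplicit false
open Cfsg

namespace Cfsg.Agent.S4930

open Cfsg.Agent.Ch

/-- An irreducible character of degree prime to `p` kills the commutator of a normal `p`-subgroup. -/
theorem comm_le_ker {N : Type*} [Group N] [Finite N] {p : ℕ} [hp : Fact p.Prime] (Q : Subgroup N)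
    [Q.Normal] (hQ : IsPGroup p Q) {θ : N → ℂ} (hθ : IsIrrCharacter N θ)
    (hd : ¬ p ∣ charDegree θ) : ⁅Q, Q⁆ ≤ charKer θ := by
  classical
  have := Fintype.ofFinite N
  have h1 : commutator Q ≤ charKer (fun x : Q => θ x) := by
    intro x hx
    rw [(hθ.isCharacter.restrict Q).mem_charKer_iff_forall_constituent]
    intro φ hφ hne
    have h2 := charDegree_dvd_of_under hθ hφ hne
    obtain ⟨k, hk⟩ := IsPGroup.iff_card.mp hQ
    have h3 := hφ.charDegree_dvd_card
    rw [hk] at h3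
    obtain ⟨j, -, hj⟩ := (Nat.dvd_prime_pow hp.out).mp h3
    have h4 : j = 0 := by
      by_contra h
      exact hd ((dvd_pow_self p h).trans (hj ▸ h2))
    rw [h4, pow_zero, hφ.isCharacter.charDegree_eq_one_iff] at hj
    exact hφ.isCharacter.commutator_le_charKer_of_apply_one hj hx
  rw [hθ.isCharacter.charKer_restrict] at h1
  have h2 := Subgroup.map_mono (f := Q.subtype) h1
  rw [Subgroup.map_subtype_commutator, Subgroup.subgroupOf_map_subtype] at h2
  exact h2.trans inf_le_left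

/-- A character of degree prime to `p` lies over a `P`-invariant character of a normal subgroup. -/
theorem exists_inv_under {G : Type*} [Group G] [Fintype G] {p : ℕ} [hp : Fact p.Prime]
    (K : Subgroup G) [K.Normal] [Fintype K] {P : Subgroup G} (hP : IsPGroup p P) {χ : G → ℂ}
    (hχ : IsIrrCharacter G χ) (hd : ¬ p ∣ charDegree χ) :
    ∃ θ : K → ℂ, IsIrrCharacter K θ ∧ classInner (fun n : K => χ n) θ ≠ 0 ∧ P ≤ inertia K θ := by
  obtain ⟨θ, hθ, hne⟩ := exists_irr_under K hχ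
  obtain ⟨e, -, he, -⟩ := clifford_nat hχ hθ hne
  have h1 := clifford_apply_one hχ hθ hne
  rw [he, ← hχ.coe_charDegree, ← hθ.coe_charDegree] at h1
  have h2 : charDegree χ = e * (inertia K θ).index * charDegree θ := by exact_mod_cast h1
  have h3 : ¬ p ∣ Nat.card (G ⧸ inertia K θ) := fun h => hd (by
    rw [h2]; exact Dvd.dvd.mul_right (Dvd.dvd.mul_left h _) _)
  obtain ⟨y, hy⟩ := hP.nonempty_fixed_point_of_prime_not_dvd_card (G ⧸ inertia K θ) h3
  obtain ⟨g, rfl⟩ := QuotientGroup.mk_surjective y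
  refine ⟨conjChar g⁻¹ θ, ?_, ?_, fun x hx => ?_⟩
  · rw [conjChar_eq_comp]
    exact hθ.comp_mulEquiv _
  · rwa [classInner_res_conjChar hχ.isClassFunction]
  · rw [mem_inertia_conjChar, inv_inv]
    have h4 : ((x * g : G) : G ⧸ inertia K θ) = (g : G ⧸ inertia K θ) := hy ⟨x, hx⟩
    have h5 := QuotientGroup.eq.mp h4.symm
    rwa [← mul_assoc] at h5

/-- With a fixed point free coprime action of a `p`-group, `K` is in the kernel. -/
theorem le_ker_of_fpf {G : Type*} [Group G] [Finite G] {p : ℕ} [hp : Fact p.Prime]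
    (K : Subgroup G) [hK : K.Normal] {P : Subgroup G} (hP : IsPGroup p P)
    (hcop : (Nat.card K).Coprime (Nat.card P))
    (hC : K ⊓ Subgroup.centralizer (P : Set G) = ⊥) {χ : G → ℂ}
    (hχ : IsIrrCharacter G χ) (hd : ¬ p ∣ charDegree χ) : K ≤ charKer χ := by
  classical
  have := Fintype.ofFinite G
  obtain ⟨θ, hθ, hne, hI⟩ := exists_inv_under K hP hχ hd
  have hn : P ≤ Subgroup.normalizer (K : Set G) := by
    rw [Subgroup.normalizer_eq_top]; exact le_top
  have H := Glb.corr_pGroup hp.out hP hn hcop hC.symm bot_le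
  have hinv : Glb.Inv P θ := fun s hs g g' h => by
    rw [← mem_inertia.mp (hI hs) g]
    exact congrArg θ (Subtype.ext h)
  have hinv' : Glb.Inv P (fun _ : K => (1 : ℂ)) := fun _ _ _ _ _ => rfl
  obtain ⟨β, hβ, h1⟩ := H.ex θ hθ hinv
  obtain ⟨β', hβ', h2⟩ := H.ex _ IsIrrCharacter.one hinv'
  have h3 : β' = β := by
    rw [hβ.eq_one_of_charKer_eq_top (Subsingleton.elim _ _),
      hβ'.eq_one_of_charKer_eq_top (Subsingleton.elim _ _)]
  rw [h3] at h2
  have h4 := H.inj _ _ _ hθ IsIrrCharacter.one hβ hinv hinv' h1 h2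
  rw [h4] at hne
  exact hχ.le_charKer_of_classInner_one K hne

open Classical in
/-- The sum of the squares of the degrees prime to `p`. -/
noncomputable def sq (p : ℕ) (G : Type*) [Group G] [Finite G] : ℕ :=
  ∑ χ : IrrCharacter G with ¬ p ∣ charDegree χ.1, charDegree χ.1 ^ 2

theorem finsum_eq (p : ℕ) (G : Type*) [Group G] [Finite G] :
    ∑ᶠ χ : {χ : IrrCharacter G // ¬ p ∣ charDegree (χ : G → ℂ)}, charDegree (χ.1 : G → ℂ) ^ 2 =
      sq p G := by
  classical
  rw [finsum_eq_sum_of_fintype, sq]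
  exact (Finset.sum_subtype (p := fun χ : IrrCharacter G => ¬ p ∣ charDegree (χ : G → ℂ)) _
    (by simp) (fun χ : IrrCharacter G => charDegree (χ : G → ℂ) ^ 2)).symm

theorem card_eq_sq {N : Type*} [Group N] [Finite N] {p : ℕ} [hp : Fact p.Prime] (Q : Subgroup N)
    [Q.Normal] (hQ : IsPGroup p Q) (hi : ¬ p ∣ Q.index) :
    Nat.card N = Nat.card (⁅Q, Q⁆ : Subgroup N) * sq p N := by
  classical
  rw [← (⁅Q, Q⁆ : Subgroup N).card_mul_index, ← sum_irr_le_charKer_sq, sq]
  congr 1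
  refine Finset.sum_congr (Finset.filter_congr fun θ _ => ⟨fun h hd => hi (hd.trans ?_),
    fun h => comm_le_ker Q hQ θ.2 h⟩) fun _ _ => rfl
  exact θ.2.charDegree_dvd_index_of_commutator Q fun a ha b hb =>
    θ.2.isCharacter.mem_charKer.mp (h (Subgroup.commutator_mem_commutator ha hb))

theorem exists_over {G : Type*} [Group G] [Finite G] {p : ℕ} [hp : Fact p.Prime] (N : Subgroup G)
    [Fintype N] (hi : ¬ p ∣ N.index) (θ : IrrCharacter N) (hd : ¬ p ∣ charDegree (θ : N → ℂ)) :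
    ∃ χ : IrrCharacter G, ¬ p ∣ charDegree (χ : G → ℂ) ∧
      classInner (fun n : N => (χ : G → ℂ) n) θ ≠ 0 := by
  classical
  have := Fintype.ofFinite G
  have hI := isCharacter_indFun N θ.2.isCharacter
  obtain ⟨m, h1, -, h2⟩ := hI.exists_nat_classInner_self
  have h3 : charDegree (indFun N (θ : N → ℂ)) = N.index * charDegree (θ : N → ℂ) := by
    apply charDegree_of_apply_one
    rw [indFun_one, ← θ.2.coe_charDegree]; push_cast; rfl
  by_contra hcon
  push Not at hcon
  have h4 : p ∣ N.index * charDegree (θ : N → ℂ) := by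
    rw [← h3, h2]
    refine Finset.dvd_sum fun χ _ => ?_
    by_cases h : p ∣ charDegree (χ : G → ℂ)
    · exact h.mul_left _
    · have h5 := hcon χ h
      rw [← classInner_indFun_eq_res N θ.2.isCharacter χ.2.isCharacter, h1] at h5
      have h6 : m χ = 0 := by exact_mod_cast h5
      simp [h6]
  rcases (Nat.Prime.dvd_mul hp.out).mp h4 with h | h
  · exact hi h
  · exact hd h

theorem sq_le {G : Type*} [Group G] [Finite G] {p : ℕ} [hp : Fact p.Prime] (N : Subgroup G)
    (hi : ¬ p ∣ N.index) : sq p N ≤ sq p G ∧ (sq p N = sq p G →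
      ∀ θ : IrrCharacter N, ¬ p ∣ charDegree (θ : N → ℂ) →
        ∃ χ : IrrCharacter G, ∀ x : N, (χ : G → ℂ) x = (θ : N → ℂ) x) := by
  classical
  have := Fintype.ofFinite N
  have h0 : ∀ θ : IrrCharacter N, ∃ χ : IrrCharacter G, ¬ p ∣ charDegree (θ : N → ℂ) →
      ¬ p ∣ charDegree (χ : G → ℂ) ∧ classInner (fun n : N => (χ : G → ℂ) n) θ ≠ 0 := fun θ => by
    by_cases h : p ∣ charDegree (θ : N → ℂ)
    · exact ⟨⟨_, IsIrrCharacter.one⟩, fun h' => absurd h h'⟩
    · obtain ⟨χ, hχ⟩ := exists_over N hi θ h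
      exact ⟨χ, fun _ => hχ⟩
  choose f hf using h0
  set A : Finset (IrrCharacter N) := {θ : IrrCharacter N | ¬ p ∣ charDegree θ.1} with hA
  set B : Finset (IrrCharacter G) := {χ : IrrCharacter G | ¬ p ∣ charDegree χ.1} with hB
  have hmA : ∀ θ, θ ∈ A ↔ ¬ p ∣ charDegree (θ : N → ℂ) := fun θ => by simp [hA]
  have hmB : ∀ χ, χ ∈ B ↔ ¬ p ∣ charDegree (χ : G → ℂ) := fun χ => by simp [hB]
  have hle : ∀ θ ∈ A, charDegree (θ : N → ℂ) ≤ charDegree (f θ : G → ℂ) := fun θ hθ => by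
    rw [← charDegree_restrict _ N]
    exact ((f θ).2.isCharacter.restrict N).charDegree_irr_le θ.2 (hf θ ((hmA θ).mp hθ)).2
  have h1 : ∀ θ ∈ A, charDegree (θ : N → ℂ) ^ 2 ≤
      charDegree (θ : N → ℂ) * charDegree (f θ : G → ℂ) := fun θ hθ => by
    rw [pow_two]; exact Nat.mul_le_mul_left _ (hle θ hθ)
  have h2 : ∑ θ ∈ A, charDegree (θ : N → ℂ) * charDegree (f θ : G → ℂ) ≤ sq p G := by
    rw [← Finset.sum_fiberwise_of_maps_to (t := B) (g := f)
      (fun θ hθ => (hmB _).mpr (hf θ ((hmA θ).mp hθ)).1)]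
    refine Finset.sum_le_sum fun χ _ => ?_
    obtain ⟨m, h3, -, h4⟩ := (χ.2.isCharacter.restrict N).exists_nat_classInner_self
    rw [charDegree_restrict] at h4
    have h5 : ∑ θ ∈ A with f θ = χ, charDegree (θ : N → ℂ) * charDegree (f θ : G → ℂ) =
        (∑ θ ∈ A with f θ = χ, charDegree (θ : N → ℂ)) * charDegree (χ : G → ℂ) := by
      rw [Finset.sum_mul]
      exact Finset.sum_congr rfl fun θ hθ => by rw [(Finset.mem_filter.mp hθ).2]
    rw [h5, pow_two]
    refine Nat.mul_le_mul_right _ ?_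
    rw [h4]
    refine le_trans (Finset.sum_le_sum fun θ hθ => ?_)
      (Finset.sum_le_sum_of_subset (Finset.subset_univ _))
    obtain ⟨h6, h7⟩ := Finset.mem_filter.mp hθ
    have h8 := (hf θ ((hmA θ).mp h6)).2
    rw [h7, h3] at h8
    exact Nat.le_mul_of_pos_left _ (Nat.pos_of_ne_zero (by exact_mod_cast h8))
  have h3 : sq p N ≤ ∑ θ ∈ A, charDegree (θ : N → ℂ) * charDegree (f θ : G → ℂ) :=
    Finset.sum_le_sum h1
  refine ⟨h3.trans h2, fun he θ hθ => ⟨f θ, fun x => ?_⟩⟩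
  have h4 : ∑ θ ∈ A, charDegree (θ : N → ℂ) ^ 2 =
      ∑ θ ∈ A, charDegree (θ : N → ℂ) * charDegree (f θ : G → ℂ) :=
    le_antisymm h3 (h2.trans he.ge)
  have h5 := (Finset.sum_eq_sum_iff_of_le h1).mp h4 θ ((hmA θ).mpr hθ)
  rw [pow_two] at h5
  have h6 := Nat.eq_of_mul_eq_mul_left θ.2.charDegree_pos h5
  have h7 := ((f θ).2.isCharacter.restrict N).eq_irr_of_apply_one θ.2 (hf θ hθ).2 (by
    rw [← θ.2.coe_charDegree, h6, (f θ).2.coe_charDegree]; rfl)
  exact congrFun h7 x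

theorem sq_ge {G : Type*} [Group G] [Finite G] {p : ℕ} {N K : Subgroup G} [K.Normal]
    (h1 : K ⊔ N = ⊤)
    (h : ∀ χ : IrrCharacter G, ¬ p ∣ charDegree (χ : G → ℂ) → K ≤ charKer (χ : G → ℂ)) :
    sq p G ≤ sq p N := by
  classical
  have hs : Function.Surjective ((QuotientGroup.mk' K).comp N.subtype) := fun y => by
    obtain ⟨y, rfl⟩ := QuotientGroup.mk_surjective y
    obtain ⟨a, ha, b, hb, rfl⟩ := Subgroup.mem_sup_of_normal_left.mp (h1.ge (Subgroup.mem_top y))
    exact ⟨⟨b, hb⟩, by simp [(QuotientGroup.eq_one_iff a).mpr ha]⟩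
  have hr : ∀ χ : {χ : IrrCharacter G // ¬ p ∣ charDegree (χ : G → ℂ)},
      IsIrrCharacter N fun n : N => (χ.1 : G → ℂ) n := fun χ => by
    obtain ⟨ψ, hψ, he⟩ := χ.1.2.exists_quotient K
      (χ.1.2.isCharacter.le_charKer_iff.mp (h χ.1 χ.2))
    have := hψ.comp_surjective _ hs
    rw [he]; exact this
  let r : {χ : IrrCharacter G // ¬ p ∣ charDegree (χ : G → ℂ)} ↪ IrrCharacter N :=
    ⟨fun χ => ⟨_, hr χ⟩, fun χ χ' he => Subtype.ext (Subtype.ext (funext fun y => by
      obtain ⟨a, ha, b, hb, rfl⟩ := Subgroup.mem_sup_of_normal_left.mp (h1.ge (Subgroup.mem_top y))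
      have h2 := congrFun (congrArg Subtype.val he) ⟨b, hb⟩
      exact (h χ.1 χ.2 ha b).trans (h2.trans (h χ'.1 χ'.2 ha b).symm)))⟩
  rw [← finsum_eq, finsum_eq_sum_of_fintype]
  have h2 : ∑ χ : {χ : IrrCharacter G // ¬ p ∣ charDegree (χ : G → ℂ)},
      charDegree (χ.1 : G → ℂ) ^ 2 =
      ∑ θ ∈ Finset.univ.map r, charDegree (θ : N → ℂ) ^ 2 := by
    rw [Finset.sum_map]
    exact Finset.sum_congr rfl fun χ _ => by rw [← charDegree_restrict _ N]; rfl
  rw [h2, sq]
  refine Finset.sum_le_sum_of_subset fun θ hθ => ?_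
  obtain ⟨χ, -, rfl⟩ := Finset.mem_map.mp hθ
  refine Finset.mem_filter.mpr ⟨Finset.mem_univ _, ?_⟩
  have h3 := χ.2
  rw [← charDegree_restrict _ N] at h3
  exact h3

/-- Let G be a finite group, P a Sylow 2-subgroup of G with normalizer N, and P′ the commutator subgroup of P. Then the sum of the squares of the degrees of the irreducible complex characters of G of odd degree is at least the index of P′ in N (the order of N divided by the order of P′), and equality holds if and only if N has a normal complement in G: a normal subgroup K of G with K ∩ N = 1 and KN = G. -/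
theorem result {G : Type*} [Group G] [Finite G] (P : Sylow 2 G) :
    Nat.card (Subgroup.normalizer ((P : Subgroup G) : Set G)) ≤ Nat.card (commutator ↥P) * (∑ᶠ χ : {χ : Cfsg.IrrCharacter G // ¬ 2 ∣ Cfsg.charDegree (χ : G → ℂ)}, Cfsg.charDegree (χ.1 : G → ℂ) ^ 2) ∧
    (Nat.card (Subgroup.normalizer ((P : Subgroup G) : Set G)) = Nat.card (commutator ↥P) * (∑ᶠ χ : {χ : Cfsg.IrrCharacter G // ¬ 2 ∣ Cfsg.charDegree (χ : G → ℂ)}, Cfsg.charDegree (χ.1 : G → ℂ) ^ 2) ↔
      ∃ K : Subgroup G, K.Normal ∧ K ⊓ Subgroup.normalizer ((P : Subgroup G) : Set G) = ⊥ ∧ K ⊔ Subgroup.normalizer ((P : Subgroup G) : Set G) = ⊤) := by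
  rw [finsum_eq]
  have hS := (Cfsg.Agent.S4931.result 2 P).1
  set N := Subgroup.normalizer ((P : Subgroup G) : Set G) with hN
  have hPN : (P : Subgroup G) ≤ N := Subgroup.le_normalizer
  have hP : ¬ 2 ∣ (P : Subgroup G).relIndex N := fun h =>
    P.not_dvd_index (h.trans (Subgroup.relIndex_dvd_index_of_le hPN))
  have hi : ¬ 2 ∣ N.index := fun h => P.not_dvd_index (h.trans (Subgroup.index_dvd_of_le hPN))
  have : ((P : Subgroup G).subgroupOf N).Normal := Subgroup.normal_in_normalizer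
  have h1 := card_eq_sq ((P : Subgroup G).subgroupOf N) (P.2.comap_subtype) hP
  have h2 : Nat.card (⁅(P : Subgroup G).subgroupOf N, (P : Subgroup G).subgroupOf N⁆ : Subgroup N) =
      Nat.card (commutator ↥P) := by
    rw [← S4931.comm_subgroupOf hPN, Nat.card_congr (Subgroup.subgroupOfEquivOfLe
      ((Subgroup.commutator_le_self _).trans hPN)).toEquiv, ← Subgroup.map_subtype_commutator,
      Subgroup.card_map_of_injective (Subgroup.subtype_injective _)]
    rfl
  rw [h2] at h1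
  obtain ⟨h3, h4⟩ := sq_le (p := 2) N hi
  rw [h1]
  refine ⟨Nat.mul_le_mul_left _ h3, fun h => ?_, ?_⟩
  · obtain ⟨K, hK, h5, h6⟩ := hS (h4 (Nat.eq_of_mul_eq_mul_left Nat.card_pos h))
    exact ⟨K, hK, h6, h5⟩
  · rintro ⟨K, hK, h5, h6⟩
    have hc : K.IsComplement' N := by
      refine Subgroup.isComplement'_of_disjoint_and_mul_eq_univ (disjoint_iff.mpr h5) ?_
      rw [← Subgroup.normal_mul, h6]; rfl
    have hcop : (Nat.card K).Coprime (Nat.card (P : Subgroup G)) := by
      obtain ⟨k, hk⟩ := IsPGroup.iff_card.mp P.2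
      rw [hk, ← hc.index_eq_card]
      exact ((Nat.Prime.coprime_iff_not_dvd Nat.prime_two).mpr hi).symm.pow_right _
    have h7 : K ⊓ Subgroup.centralizer ((P : Subgroup G) : Set G) = ⊥ :=
      eq_bot_iff.mpr ((inf_le_inf_left _ (Subgroup.centralizer_le_normalizer _)).trans h5.le)
    rw [le_antisymm h3 (sq_ge h6 fun χ hχ => le_ker_of_fpf K P.2 hcop h7 χ.2 hχ)]

end Cfsg.Agent.S4930
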