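import Mathlib
import Cfsg.Statements.S4957
import Cfsg.Agent.S4956
import Cfsg.Agent.GT.ElemAbRep
import Cfsg.Agent.Ch.KTMain
-- import your own Cfsg.Agent.* helpers here

set_option autoImplicit false
open Cfsg

namespace Cfsg.Agent.S4957

/-- Let X be a finite group and V a normal subgroup of X in which every element has order dividing the prime p, whose index in X is prime to p and which is its own centralizer in X; so V is an elementary abelian normal Sylow p-subgroup, and any complement G to V in X is a group of order prime to p acting faithfully on the vector space V by conjugation (the coprime linear setting of the k(GV) problem). Suppose a complement G to V in X is transitive by conjugation on the nonidentity elements of V. Then X has at most (order of V) conjugacy classes, and if equality holds then G is cyclic (hence, being transitive, a Singer cycle), or V has order 8 and G has order 21 (the nonabelian group of order 21 inside the simple group of order 168), or V has order 9 and G has order 16 (a semidihedral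 Sylow 2-subgroup of the 2-dimensional general linear group over the field with 3 elements). -/
theorem result {X : Type*} [Group X] [Finite X] (p : ℕ) [Fact p.Prime] (V : Subgroup X) [V.Normal] (hVexp : ∀ v ∈ V, v ^ p = 1) (hidx : ¬ p ∣ V.index) (hself : Subgroup.centralizer (V : Set X) = V) (G : Subgroup X) (hGV : Subgroup.IsComplement' V G) (htrans : ∀ v ∈ V, ∀ w ∈ V, v ≠ 1 → w ≠ 1 → ∃ g ∈ G, g * v * g⁻¹ = w) : Nat.card (ConjClasses X) ≤ Nat.card V ∧ (Nat.card (ConjClasses X) = Nat.card V → (IsCyclic G ∨ (Nat.card V = 8 ∧ Nat.card G = 21) ∨ (Nat.card V = 9 ∧ Nat.card G = 16))) := by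
  classical
  have hV : IsElementaryAbelian p V :=
    ⟨Subgroup.le_centralizer_iff_isMulCommutative.1 hself.ge, hVexp⟩
  by_cases h0 : V = ⊥
  · have h1 : V = ⊤ := by rw [← hself, h0]; exact eq_top_iff.2 fun x _ y hy => by simp_all
    have : Subsingleton X := ⟨fun a b => by
      rw [Subgroup.mem_bot.1 (h0.le (h1.ge (Subgroup.mem_top a))),
        Subgroup.mem_bot.1 (h0.le (h1.ge (Subgroup.mem_top b)))]⟩
    refine ⟨FG.card_conjClasses_le_card.trans (by rw [h1, Subgroup.card_top]), fun _ => Or.inl ?_⟩
    exact isCyclic_of_subsingleton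
  obtain ⟨⟨v, hv⟩, hv1⟩ := Subgroup.ne_bot_iff_exists_ne_one.1 h0
  replace hv1 : v ≠ 1 := fun e => hv1 (Subtype.ext e)
  have hG : ¬ p ∣ Nat.card G := by rwa [← hGV.symm.index_eq_card]
  have hpV : IsPGroup p V := fun x => ⟨1, Subtype.ext (by simpa using hVexp x x.2)⟩
  obtain ⟨n, hn⟩ := hpV.exists_card_eq
  have hk := S4956.result V (fun a ha b hb => hself.ge hb a ha) G hGV
    (hn ▸ ((Nat.Prime.coprime_iff_not_dvd Fact.out).2 hG).pow_left n) {1, v}
    (by simp [hv]) fun w hw => by
      by_cases h : w = 1
      · subst h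
        exact ⟨1, ⟨by simp, 1, one_mem _, by simp⟩, fun s ⟨_, g, _, hs⟩ => by simpa using hs.symm⟩
      · refine ⟨v, ⟨by simp, htrans w hw v hv h hv1⟩, fun s ⟨hs, g, _, hg⟩ => ?_⟩
        rcases Finset.mem_insert.1 hs with rfl | hs
        · exact absurd (by simpa using hg) h
        · exact Finset.mem_singleton.1 hs
  rw [Finset.sum_pair hv1.symm, show G ⊓ Subgroup.centralizer ({1} : Set X) = G from
    inf_eq_left.2 fun g _ => Subgroup.mem_centralizer_singleton_iff.2 (by simp)] at hk
  have hh := FG.card_eq_relIndex_mul_card_inf (Subgroup.centralizer {v}) G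
  rw [← FG.ncard_conj_orbit_subgroup, inf_comm, show {y | ∃ g ∈ G, g * v * g⁻¹ = y} =
    (V : Set X) \ {1} from Set.ext fun y => ⟨fun ⟨g, _, e⟩ => e ▸
      ⟨Subgroup.Normal.conj_mem inferInstance v hv g, by simpa using hv1⟩,
      fun hy => htrans v hv y hy.1 hv1 hy.2⟩, Set.ncard_sdiff_singleton_of_mem V.one_mem] at hh
  have hN : G ≤ Subgroup.normalizer (V : Set X) := Subgroup.le_normalizer_of_normal
  let ρ : G →* (GT.EAV hV ≃ₗ[ZMod p] GT.EAV hV) :=
    (LinearMap.GeneralLinearGroup.generalLinearEquiv (ZMod p) _).toMonoidHom.comp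
      (GT.eaRep hV hN).toHomUnits
  have hρ : Function.Injective ρ := fun a b e =>
    GT.eaRep_injective (hV := hV) (hHV := hN) (by rw [hself]; exact hGV.disjoint.symm.eq_bot)
      (LinearMap.ext fun x => DFunLike.congr_fun e x)
  have : Nontrivial (GT.EAV hV) := ⟨⟨GT.EAV.mk hV v hv, 0, fun e => hv1 (congrArg GT.EAV.val e)⟩⟩
  obtain ⟨h1, h2⟩ := Ch.KT.concl hρ hG (fun x y hx hy => by
    obtain ⟨g, hg, e⟩ := htrans _ x.val_mem _ y.val_mem (mt GT.EAV.val_eq_one_iff.1 hx)
      (mt GT.EAV.val_eq_one_iff.1 hy)
    exact ⟨⟨g, hg⟩, GT.EAV.ext e⟩) hh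
  rw [GT.EAV.card_eq] at h1 h2
  have h3 := FG.card_conjClasses_le_card (G := ↥(G ⊓ Subgroup.centralizer ({v} : Set X)))
  exact ⟨by omega, fun e => h2 (by omega)⟩

end Cfsg.Agent.S4957
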