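import Cfsg.Statements.S4997
import Cfsg.Agent.Ch.VanP

set_option autoImplicit false
open Cfsg

namespace Cfsg.Agent.S4997

/-- Let p be an odd prime and G a finite solvable group with exactly one conjugacy class consisting of vanishing elements (elements at which some irreducible complex character is zero) of order divisible by p. Let P be a Sylow p-subgroup of G. Then the order of P is at most p times the order of the largest normal p-subgroup of G. -/
theorem result {G : Type*} [Group G] [Finite G] (hsolv : Group.IsSolvable G) (p : ℕ) [Fact p.Prime] (hp : p ≠ 2) (h1 : Set.ncard {C : ConjClasses G | (∀ g ∈ C.carrier, ∃ χ : Cfsg.IrrCharacter G, (χ : G → ℂ) g = 0) ∧ ∃ g ∈ C.carrier, p ∣ orderOf g} = 1) (P : Sylow p G) : Nat.card ↥(P : Subgroup G) ≤ p * Nat.card ↥(Cfsg.pCore p G) := by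
  obtain ⟨C, hC⟩ := Set.ncard_eq_one.1 h1
  have key : ∀ x : G, Ch.VanP.Van x → p ∣ orderOf x → ConjClasses.mk x = C := by
    intro x ⟨χ, hχ⟩ hx
    have : ConjClasses.mk x ∈ ({C} : Set (ConjClasses G)) := by
      rw [← hC]
      refine ⟨fun g hg => ⟨χ, ?_⟩, x, ConjClasses.mem_carrier_mk, hx⟩
      obtain ⟨c, rfl⟩ := isConj_iff.1
        (ConjClasses.mk_eq_mk_iff_isConj.1 (ConjClasses.mem_carrier_iff_mk_eq.1 hg).symm)
      rw [χ.2.isClassFunction.conj_eq, hχ]
    exact this
  have h : Ch.VanP.Hyp p G := Ch.VanP.hyp_of_orderOf fun x y hx hx' hy hy' => by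
    obtain ⟨c, rfl⟩ := isConj_iff.1
      (ConjClasses.mk_eq_mk_iff_isConj.1 ((key x hx hx').trans (key y hy hy').symm))
    exact (MulAut.conj c).orderOf_eq x |>.symm
  have h2 := Nat.le_of_dvd (Fact.out : p.Prime).pos (h.card_map_dvd P)
  have h3 := ((QuotientGroup.mk' (Cfsg.pCore p G)).domRestrict (P : Subgroup G)).ker.index_mul_card
  rw [Subgroup.index_ker, MonoidHom.domRestrict_range, MonoidHom.ker_domRestrict,
    QuotientGroup.ker_mk'] at h3
  rw [← h3]
  refine Nat.mul_le_mul h2 ?_
  exact (Nat.card_congr (Subgroup.subgroupOfEquivOfLe (GT.pCore_le_sylow P)).toEquiv).le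

end Cfsg.Agent.S4997
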