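import Cfsg.Statements.S5176
import Cfsg.Agent.WQ.Top
import Cfsg.Agent.Fus.KNormalizer

set_option autoImplicit false
universe u
open Cfsg

namespace Cfsg.Agent.S5176

/-- The fusion-system form of the standard form problem for SL(2, q), q odd. Let F be a simple saturated fusion system over a finite 2-group S and let R ≤ S be generalized quaternion of order at least 16. Suppose R is weakly closed in S with respect to F, and R is strongly closed in the centralizer system C_F(⟨y⟩) for every involution y of C_S(R). Then either F is the 2-fusion system of PSL(3, q) or of G₂(q) for some odd q (realized by an injective homomorphism of S onto a Sylow 2-subgroup), or S contains a quasi-dihedral subgroup that is strongly closed in F. -/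
theorem result {Ω : Type u} [Group Ω] {S : Subgroup Ω} [Finite S] (hS : IsPGroup 2 S)
    (F : Cfsg.FusionSystem S) (hF : F.IsSimple 2)
    (R : Subgroup Ω) (hRS : R ≤ S) (k : ℕ) (hk : 2 ≤ k) (eR : ↥R ≃* QuaternionGroup (2 ^ k))
    (hW : F.WeaklyClosed R)
    (hC : ∀ y ∈ Cfsg.FusionSystem.centralizerIn S R, orderOf y = 2 →
      ∀ C : Cfsg.FusionSystem (Cfsg.FusionSystem.centralizerIn S (Subgroup.zpowers y)),
        F.IsCentralizerSystem (Subgroup.zpowers y) C → C.StronglyClosed R) :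
    (∃ (K : Type) (_ : Field K) (_ : Fintype K), Odd (Fintype.card K) ∧
        ((∃ ι : ↥S →* Matrix.ProjectiveSpecialLinearGroup (Fin 3) K, F.IsRealizedBy ι ∧
            ∃ T : Sylow 2 (Matrix.ProjectiveSpecialLinearGroup (Fin 3) K),
              (T : Subgroup (Matrix.ProjectiveSpecialLinearGroup (Fin 3) K)) = ι.range) ∨
         (∃ ι : ↥S →* ↥(Cfsg.Lie.G2 K), F.IsRealizedBy ι ∧
            ∃ T : Sylow 2 ↥(Cfsg.Lie.G2 K), (T : Subgroup ↥(Cfsg.Lie.G2 K)) = ι.range))) ∨
      ∃ P : Subgroup Ω, P ≤ S ∧ Cfsg.IsQuasiDihedral ↥P ∧ F.StronglyClosed P := by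
  obtain ⟨k, rfl⟩ : ∃ j, k = j + 1 := ⟨k - 1, by omega⟩
  obtain ⟨E, hE⟩ := F.exists_toTop
  obtain ⟨r, s, H⟩ := Inv.Fz.exists_mc_of_quaternion
    ((Subgroup.subgroupOfEquivOfLe hRS).trans eR)
  have sc : ∀ y ∈ S, y * y = 1 → y ≠ 1 → (∀ x ∈ R, y * x = x * y) →
      ∀ P f, F.Mor P f → y ∈ P → f y = y → ∀ x ∈ P, x ∈ R → f x ∈ R := by
    intro y hy h2 h1 hc P f hf hP e x hx hR
    have hy' := Subgroup.zpowers_le.2 hy
    have hC' := F.isCentralizerSystem_centralizerSystem hy'
    have hx' : x ∈ WQ.CS S y := WQ.mem_CS.2 ⟨hRS hR, hc x hR⟩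
    refine (hC y (Fus.mem_centralizerIn.2 ⟨hy, fun x hx => (hc x hx).symm⟩)
      (G2T.GS.orderOf_of_sq h2 h1) _ hC').mem (P := Subgroup.zpowers x)
      ((Fus.cs_mor_iff hC').2 ⟨Subgroup.zpowers_le.2 hx', fun p hp => ?_, f,
        hf.mono (sup_le (Subgroup.zpowers_le.2 hx) (Subgroup.zpowers_le.2 hP)), fun _ _ => rfl, ?_⟩)
      (Subgroup.mem_zpowers x) hR
    · exact e ▸ WQ.map_mem_CS hf hP (Subgroup.zpowers_le.2 hx hp) (Subgroup.zpowers_le.2 hx' hp)
    · rintro _ ⟨n, rfl⟩
      beta_reduce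
      rw [hf.map_zpow hP, e]
  have hy : WQ.Hy E (R.subgroupOf S) k r s (r (G2T.hf k)) := by
    refine ⟨hE.isSaturated hF.1 hS, hE.isPGroup hS, by omega, H, rfl, le_top, fun f hf => ?_,
      fun y _ h2 h1 hc P f hf hP e x hx hR => ?_⟩
    · exact ((Fus.img_toSub hRS ▸ hE.weaklyClosed hW).iso hf).maps
    · have := sc y y.2 (congrArg Subtype.val h2) (fun e => h1 (Subtype.ext e))
        (fun x hx => congrArg Subtype.val (hc ⟨x, hRS hx⟩ hx)) _ _ (hE.pull hf)
        (Fus.mem_img_of_mem hP) (by rw [Fus.toSub_apply y.2, e])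
        x (Fus.mem_img_of_mem hx) hR
      beta_reduce at this
      rwa [Fus.toSub_apply x.2] at this
  rcases hy.concl (hE.isSimple hS hF) with ⟨L, _, _, ho, h⟩ | ⟨D, -, h1, h2⟩
  · exact Or.inl ⟨L, _, _, ho, h.imp (fun h => (h.of_iso hE).exists hS)
      fun h => (h.of_iso hE).exists hS⟩
  · exact Or.inr ⟨D.map S.subtype, Subgroup.map_subtype_le _, Inv.Fz.isQuasiDihedral_of_equiv
      (Subgroup.equivMapOfInjective _ _ S.subtype_injective) h1, FusionSystem.IsTop.closed' hE h2⟩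

end Cfsg.Agent.S5176
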