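import Cfsg.Statements.S5178
import Cfsg.Agent.Fus.TransvApp

set_option autoImplicit false
universe u
open Cfsg

namespace Cfsg.Agent.S5178

open Cfsg.FusionSystem Cfsg.Agent.Fus Cfsg.Agent.GT Subgroup
open scoped commutatorElement


/-- Let p be an odd prime, S a finite p-group containing an extraspecial subgroup Q of index p, and F a saturated fusion system over S whose largest subgroup normal in F is trivial. Then the centre of S equals the centre of Q. -/
theorem result {Ω : Type u} [Group Ω] {S : Subgroup Ω} [Finite S] (p : ℕ) [Fact p.Prime] (hp : Odd p) (hS : IsPGroup p S)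
    (Q : Subgroup Ω) (hQS : Q ≤ S) (hQ : Cfsg.IsExtraspecial p ↥Q) (hQi : (Q.subgroupOf S).index = p)
    (F : Cfsg.FusionSystem S) (hF : F.IsSaturated p) (hO : F.core = ⊥) :
    S ⊓ Subgroup.centralizer (S : Set Ω) = Q ⊓ Subgroup.centralizer (Q : Set Ω) := by
  have := finite_of_le hQS
  obtain ⟨z, hz, hc⟩ := exists_esz' hQ
  have hn : S ≤ normalizer (Q : Set Ω) := le_normalizer_of_relIndex hS hQS hQi
  have hzS : zpowers z ≤ centralizerIn S S := by
    refine le_inf (hz.zpowers_le.trans hQS) (le_centralizer_iff.1 ?_)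
    refine le_centralizer_of_card_eq_prime hz.card_zpowers hS ?_
    rw [← hz.center_eq]
    exact PG.le_normalizer_inf hn (PG.le_normalizer_centralizer hn)
  rw [hz.center_eq]
  refine le_antisymm ?_ hzS
  by_cases hZQ : centralizerIn S S ≤ Q
  · rw [← hz.center_eq]
    exact le_inf hZQ (inf_le_right.trans (centralizer_le hQS))
  obtain ⟨y, hy, hyQ⟩ := not_forall₂.1 hZQ
  have hS' := PG.sup_zpowers_eq_of_relIndex_prime Fact.out hQS hQi hy.1 hyQ
  have hy' := (mem_centralizerIn.1 hy).2
  refine center_le_of_commutator_le hF hS (fun e => by simp [e] at hp; contradiction) hO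
    (hzS (mem_zpowers z)) hz.z_pow (le_antisymm ?_ (hc ▸ commutator_mono hQS hQS))
  rw [commutator_le]
  intro a ha b hb
  obtain ⟨a, ha', i, rfl⟩ := (PG.mem_sup_zpowers_of_mem_normalizer (hn hy.1)).1 (hS'.ge ha)
  obtain ⟨b, hb', j, rfl⟩ := (PG.mem_sup_zpowers_of_mem_normalizer (hn hy.1)).1 (hS'.ge hb)
  have h1 : Commute (y ^ i) (b * y ^ j) := (Commute.zpow_right (hy' _ hb) i).symm
  have h2 : Commute a (y ^ j) := Commute.zpow_right (hy' _ (hQS ha')) j
  rw [commutatorElement_mul_left_eq_conj_mul, h1.commutator_eq,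
    commutatorElement_mul_right_eq_mul_conj, h2.commutator_eq]
  simpa using hz.comm_mem a ha' b hb'

end Cfsg.Agent.S5178
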