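import Mathlib
import Cfsg.Statements.S5177
import Cfsg.Agent.Fus.Xs.CaseC
import Cfsg.Agent.Fus.ToTop
import Cfsg.Agent.S5178
-- import your own Cfsg.Agent.* helpers here

set_option autoImplicit false
universe u
open Cfsg

namespace Cfsg.Agent.S5177


/-- Let p be an odd prime, S a finite p-group of order at least p⁶ containing an extraspecial subgroup Q of index p, and F a saturated fusion system over S whose largest subgroup normal in F is trivial. Then S is isomorphic to a Sylow p-subgroup of SL(4,p), to a Sylow p-subgroup of SU(4,p), to a Sylow p-subgroup of G₂(p) with p ≥ 5, or p ≥ 11 and S has order p^(p−1), exponent p and maximal nilpotency class. -/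
theorem result {Ω : Type u} [Group Ω] {S : Subgroup Ω} [Finite S] (p : ℕ) [Fact p.Prime] (hp : Odd p) (hS : IsPGroup p S)
    (Q : Subgroup Ω) (hQS : Q ≤ S) (hQ : Cfsg.IsExtraspecial p ↥Q) (hQi : (Q.subgroupOf S).index = p)
    (h6 : p ^ 6 ≤ Nat.card S)
    (F : Cfsg.FusionSystem S) (hF : F.IsSaturated p) (hO : F.core = ⊥) [Group.IsNilpotent ↥S] :
    (∃ P : Sylow p (Matrix.SpecialLinearGroup (Fin 4) (ZMod p)),
        Nonempty (↥S ≃* ↥(P : Subgroup (Matrix.SpecialLinearGroup (Fin 4) (ZMod p))))) ∨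
      (∃ (K : Type) (_ : Field K) (_ : Fintype K), Fintype.card K = p ^ 2 ∧
        ∃ P : Sylow p ↥(Cfsg.SU 4 K p), Nonempty (↥S ≃* ↥(P : Subgroup ↥(Cfsg.SU 4 K p)))) ∨
      (5 ≤ p ∧ ∃ P : Sylow p ↥(Cfsg.Lie.G2 (ZMod p)), Nonempty (↥S ≃* ↥(P : Subgroup ↥(Cfsg.Lie.G2 (ZMod p))))) ∨
      (11 ≤ p ∧ Nat.card S = p ^ (p - 1) ∧ (∀ x : ↥S, x ^ p = 1) ∧ Group.nilpotencyClass ↥S = p - 2) := by
  obtain ⟨E, hE⟩ := F.exists_toTop
  have := FusionSystem.finite_of_le hQS
  have hQ' := hQ.of_mulEquiv (Subgroup.subgroupOfEquivOfLe hQS).symm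
  have h1 := hE.isSaturated hF hS
  have h2 := hE.core_eq_bot hO
  obtain ⟨z, hz, -⟩ := Fus.exists_esz' hQ'
  have h3 := (S5178.result p hp (hS.to_subgroup ⊤) _ le_top hQ'
    ((Subgroup.relIndex_top_right _).trans hQi) E h1 h2).trans hz.center_eq
  obtain ⟨V, _, _, ⟨X⟩⟩ := Fus.Xs.exists_xs (by rintro rfl; contradiction) hS hz hQi
    (fun x => h3 ▸ ⟨fun h => ⟨trivial, fun g _ => h g⟩, fun h g => h.2 g trivial⟩) h6
  exact X.concl h1 h2

end Cfsg.Agent.S5177
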