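import Cfsg.Statements.S5179
import Cfsg.Agent.Fus.TransvApp

set_option autoImplicit false
universe u
open Cfsg

namespace Cfsg.Agent.S5179

open Cfsg.FusionSystem Cfsg.Agent.Fus Cfsg.Agent.GT Subgroup
open scoped commutatorElement


/-- Let p be an odd prime, S a finite p-group of order at least p⁶ containing an extraspecial subgroup Q of index p, and F a saturated fusion system over S whose largest subgroup normal in F is trivial. Then no proper subgroup of Q is essential in F: an essential subgroup of F contained in Q equals Q. -/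
theorem result {Ω : Type u} [Group Ω] {S : Subgroup Ω} [Finite S] (p : ℕ) [Fact p.Prime] (hp : Odd p) (hS : IsPGroup p S)
    (Q : Subgroup Ω) (hQS : Q ≤ S) (hQ : Cfsg.IsExtraspecial p ↥Q) (hQi : (Q.subgroupOf S).index = p)
    (h6 : p ^ 6 ≤ Nat.card S)
    (F : Cfsg.FusionSystem S) (hF : F.IsSaturated p) (hO : F.core = ⊥)
    (E : Subgroup Ω) (hEQ : E ≤ Q) (hE : F.IsEssential p E) : E = Q := by
  have hfQ := finite_of_le hQS
  have hfE := finite_of_le hE.le
  have hp1 : p.Prime := Fact.out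
  obtain ⟨z, hz, hc⟩ := exists_esz' hQ
  by_contra hne
  obtain ⟨s, hs, hsE⟩ := not_forall₂.1 fun h => hne (le_antisymm hEQ h)
  have hzE : z ∈ E := hE.mem_of_comm (hQS hz.z_mem) fun x hx => hz.commute_z (hEQ hx)
  have hN : Q ≤ normalizer (E : Set Ω) := le_normalizer_of_comm_le hc.le (zpowers_le.2 hzE) hEQ
  have hab : ⁅E, E⁆ ≤ ⊥ := by
    intro b hb
    by_contra hb1
    have h1 := zpowers_le_of_mem hz.z_pow (hc.le (commutator_mono hEQ hEQ hb)) hb1
    exact hsE ((hE.isRadical hS).mem_of_frattini hS hE.isCentric ⟨hQS hs, hN hs⟩ fun x hx =>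
      mem_sup_left ((zpowers_le.2 ((zpowers_le.2 hb) h1))
        (hc.le (conj_comm_mem_commutator (hEQ hx) hs))))
  obtain ⟨X, Y, c, h⟩ := hE.exists_transv hF hS (invA_bot _) hab bot_le ⟨hQS hs, hN hs⟩ hsE hzE
    (mem_bot.2 hz.z_pow) fun x hx => mem_sup_right (hc.le (conj_comm_mem_commutator (hEQ hx) hs))
  have hQE : Q = E ⊔ zpowers s :=
    le_antisymm (h.norm ▸ le_inf hQS hN) (sup_le hEQ (zpowers_le.2 hs))
  have hY : Y ≤ X := fun y hy => by
    have h1 := mem_bot.1 ((h.fix y (h.invY.1 hy)).2 (mem_sup_left hy))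
    rw [inv_mul_eq_one, eq_mul_inv_iff_mul_eq] at h1
    refine zpowers_le.2 h.aX (hz.mem_zpowers_of_forall_commute (hEQ (h.invY.1 hy)) fun x hx =>
      comm_of_mem_sup_zpowers (fun x hx => ?_) h1.symm (hQE.le hx))
    exact commutatorElement_eq_one_iff_mul_comm.1
      (mem_bot.1 (hab (commutator_mem_commutator hx (h.invY.1 hy))))
  have hEX : E = X := by rw [← h.sup, sup_eq_left.2 hY]
  have h1 : Nat.card E = p ^ 2 := by
    have := h.sec.relIndex_eq
    rwa [relIndex_bot_left, ← hEX] at this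
  have h2 : Nat.card Q = p * p ^ 2 := by
    rw [hQE, PG.card_sup_zpowers hp1 (hN hs) hsE h.pow, h1]
  have h3 := PG.relIndex_mul_card hQS
  rw [show Q.relIndex S = p from hQi, h2] at h3
  rw [← h3, ← pow_succ', ← pow_succ'] at h6
  exact absurd ((Nat.pow_le_pow_iff_right hp1.one_lt).1 h6) (by norm_num)

end Cfsg.Agent.S5179
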