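import Mathlib
import Cfsg.Statements.S5180
import Cfsg.Agent.Fus.R3NonC
import Cfsg.Agent.GT.PGroupExtraspecial

set_option autoImplicit false
universe u
open Cfsg

namespace Cfsg.Agent.S5180

open Subgroup Cfsg.Agent.GT Cfsg.Agent.Fus Cfsg.Agent.Fus.R3
open Cfsg.FusionSystem hiding inv_mem


/-- Let p ≥ 5 be a prime, S a finite p-group of sectional p-rank exactly 3, and F a saturated fusion system over S. Then every essential subgroup E of F that needs three generators (the Frattini quotient E/Φ(E) has order p³) is normal in S. -/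
theorem result {Ω : Type u} [Group Ω] {S : Subgroup Ω} [Finite S] (p : ℕ) [Fact p.Prime] (hp : 5 ≤ p) (hS : IsPGroup p S) (hsr : Cfsg.SectionalPRankLE p 3 ↥S ∧ ¬ Cfsg.SectionalPRankLE p 2 ↥S)
    (F : Cfsg.FusionSystem S) (hF : F.IsSaturated p) (E : Subgroup Ω) (hE : F.IsEssential p E)
    (hrk : (frattini ↥E).index = p ^ 3) : S ≤ Subgroup.normalizer (E : Set Ω) := by
  obtain ⟨F', h⟩ := F.exists_toTop
  have : Fact (IsPGroup p S) := ⟨hS⟩
  have hp1 := (Fact.out : p.Prime).one_lt
  refine (normal_subgroupOf_iff_le_normalizer hE.le).1 (by_contra fun hn => ?_)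
  have e := subgroupOfEquivOfLe hE.le
  have c := Nat.card_congr e.toEquiv
  have : Finite E := finite_of_le hE.le
  have h1 := (frattini E).index_mul_card
  rcases pearl_of_not_normal (h.isSaturated hF hS) hp hsr.1 (IsTop.essential h hE) hn with k | k
  · rw [hrk, ← c, k.2] at h1
    have := Nat.le_of_dvd (by positivity) (Dvd.intro _ h1)
    rw [Nat.pow_le_pow_iff_right hp1] at this
    omega
  · have k1 := k.1.of_mulEquiv e
    rw [hrk, ← c, k.2.1, k1.1.2.1, k1.2, Nat.mul_eq_left (by positivity)] at h1
    omega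

end Cfsg.Agent.S5180
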