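import Mathlib
import Cfsg.Statements.S5181
import Cfsg.Agent.Fus.R3All

set_option autoImplicit false
universe u
open Cfsg

namespace Cfsg.Agent.S5181

open Subgroup Cfsg.Agent.GT Cfsg.Agent.Fus Cfsg.Agent.Fus.R3
open Cfsg.FusionSystem hiding inv_mem


/-- Let p be an odd prime, S a finite p-group of sectional p-rank exactly 3, and F a saturated fusion system over S whose largest subgroup normal in F is trivial. Then either S is isomorphic to a Sylow p-subgroup of Sp(4,p), or some essential subgroup of F is not normal in S. -/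
theorem result {Ω : Type u} [Group Ω] {S : Subgroup Ω} [Finite S] (p : ℕ) [Fact p.Prime] (hp : Odd p) (hS : IsPGroup p S) (hsr : Cfsg.SectionalPRankLE p 3 ↥S ∧ ¬ Cfsg.SectionalPRankLE p 2 ↥S)
    (F : Cfsg.FusionSystem S) (hF : F.IsSaturated p) (hO : F.core = ⊥) :
    (∃ P : Sylow p ↥(Matrix.symplecticGroup (Fin 2) (ZMod p)),
        Nonempty (↥S ≃* ↥(P : Subgroup ↥(Matrix.symplecticGroup (Fin 2) (ZMod p))))) ∨
      ∃ E : Subgroup Ω, F.IsEssential p E ∧ ¬ S ≤ Subgroup.normalizer (E : Set Ω) := by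
  obtain ⟨F', h⟩ := F.exists_toTop
  have : Fact (IsPGroup p S) := ⟨hS⟩
  have h2 : p ≠ 2 := by rintro rfl; exact absurd hp (by decide)
  refine or_iff_not_imp_right.2 fun k => ?_
  push Not at k
  obtain ⟨E₁, E₂, x, y, g₁, g₂, hne, H⟩ := all_normal (h.isSaturated hF hS) h2 (h.core_eq_bot hO)
    hsr.1 hsr.2 fun E hE => ⟨fun x hx g => by
      have := mem_normalizer_iff.1 (k _ (IsTop.essential' h hE) g.2) x
      simpa using (mem_map_iff_mem S.subtype_injective (x := g * x * g⁻¹)).1
        (this.1 (mem_map_of_mem _ hx))⟩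
  exact (H.out g₁ g₂ hne).1

end Cfsg.Agent.S5181
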