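import Mathlib
import Cfsg.Statements.S5182
import Cfsg.Agent.Fus.R3NonC
import Cfsg.Agent.GT.PGroupExtraspecial

set_option autoImplicit false
universe u
open Cfsg

namespace Cfsg.Agent.S5182

open Subgroup Cfsg.Agent.GT Cfsg.Agent.Fus Cfsg.Agent.Fus.R3
open Cfsg.FusionSystem hiding inv_mem


/-- Let p ≥ 5 be a prime, S a finite p-group of sectional p-rank exactly 3, and F a saturated fusion system over S whose largest subgroup normal in F is trivial. Then F has an essential subgroup that is either elementary abelian of order p² or extraspecial of order p³ and exponent p. -/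
theorem result {Ω : Type u} [Group Ω] {S : Subgroup Ω} [Finite S] (p : ℕ) [Fact p.Prime] (hp : 5 ≤ p) (hS : IsPGroup p S) (hsr : Cfsg.SectionalPRankLE p 3 ↥S ∧ ¬ Cfsg.SectionalPRankLE p 2 ↥S)
    (F : Cfsg.FusionSystem S) (hF : F.IsSaturated p) (hO : F.core = ⊥) :
    ∃ E : Subgroup Ω, (F.IsEssential p E ∧ ((Cfsg.IsElementaryAbelian p E ∧ Nat.card E = p ^ 2) ∨
        (Cfsg.IsExtraspecial p ↥E ∧ Nat.card E = p ^ 3 ∧ ∀ x ∈ E, x ^ p = 1))) := by
  obtain ⟨F', h⟩ := F.exists_toTop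
  have : Fact (IsPGroup p S) := ⟨hS⟩
  have hF' := h.isSaturated hF hS
  obtain ⟨E, hE, k⟩ : ∃ E, F'.IsEssential p E ∧ (IsElementaryAbelian p E ∧ Nat.card E = p ^ 2 ∨
      IsExtraspecial p E ∧ Nat.card E = p ^ 3 ∧ ∀ x ∈ E, x ^ p = 1) := by
    by_cases hn : ∀ E, F'.IsEssential p E → E.Normal
    · obtain ⟨E₁, E₂, x, y, g₁, g₂, hne, H⟩ :=
        all_normal hF' (by omega) (h.core_eq_bot hO) hsr.1 hsr.2 hn
      have k := (H.out g₁ g₂ hne).2
      exact ⟨E₁, g₁.ess, .inr ⟨k.1, k.2.1, k.2.2.1⟩⟩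
    · push Not at hn
      obtain ⟨E, hE, hn⟩ := hn
      exact ⟨E, hE, pearl_of_not_normal hF' hp hsr.1 hE hn⟩
  have c := card_map_of_injective (K := E) S.subtype_injective
  have e : (∀ x ∈ E, x ^ p = 1) → ∀ x ∈ E.map S.subtype, x ^ p = 1 := by
    rintro k _ ⟨x, hx, rfl⟩
    rw [← map_pow, k x hx, map_one]
  refine ⟨E.map S.subtype, IsTop.essential' h hE, k.imp (fun k => ⟨⟨?_, e k.1.2⟩, c.trans k.2⟩)
    fun k => ⟨k.1.of_mulEquiv (equivMapOfInjective _ _ S.subtype_injective), c.trans k.2.1, e k.2.2⟩⟩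
  have := k.1.1
  infer_instance

end Cfsg.Agent.S5182
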