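import Cfsg.Statements.S5185
import Cfsg.Agent.Fus.EssSL2b

set_option autoImplicit false
universe u
open Cfsg

namespace Cfsg.Agent.S5185

open Cfsg.FusionSystem Cfsg.Agent.Fus Subgroup Matrix
open scoped MatrixGroups

/-- Let F be a saturated fusion system over a finite p-group S and H an essential subgroup of order p². Then H is elementary abelian (isomorphic to C_p × C_p) and its F-automorphism group contains a subgroup isomorphic to SL(2,p). -/
theorem result {Ω : Type u} [Group Ω] {S : Subgroup Ω} [Finite S] (p : ℕ) [Fact p.Prime] (hS : IsPGroup p S)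
    (F : Cfsg.FusionSystem S) (hF : F.IsSaturated p) (H : Subgroup Ω) (hH : F.IsEssential p H) (hcard : Nat.card H = p ^ 2) :
    Cfsg.IsElementaryAbelian p H ∧
      ∃ K : Subgroup ↥(F.autGroup H), Nonempty (↥K ≃* Matrix.SpecialLinearGroup (Fin 2) (ZMod p)) := by
  have := finite_of_le hH.le
  obtain ⟨s, hs, hsE⟩ := hH.exists_notMem hF hS
  obtain ⟨⟨c, h⟩, -⟩ := hH.exists_sl2Sec_frattini hF hS (invA_bot _) bot_le
    (by rw [normalizer_eq_top]; exact le_top) (by rw [relIndex_bot_left, hcard]) hs hsE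
  refine ⟨⟨⟨⟨fun a b => Subtype.ext ?_⟩⟩, fun a ha => mem_bot.1 (h.pow_mem' ha)⟩, ?_⟩
  · exact commutatorElement_eq_one_iff_mul_comm.1 (mem_bot.1 (h.commutator_mem a.2 b.2))
  choose γ hγ hact using h.exists_acts
  have uniq : ∀ {α β : MulAut H} {M : Matrix (Fin 2) (Fin 2) (ZMod p)},
      Acts H c α M → Acts H c β M → α = β := by
    intro α β M h1 h2
    refine mulAut_ext_totA fun x hx => ?_
    have h3 := (h.eq_iff (totA_mem α hx) (totA_mem β hx)).1 (by rw [h1 x hx, h2 x hx])
    exact inv_mul_eq_one.1 (mem_bot.1 h3)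
  let φ : SL(2, ZMod p) →* F.autGroup H := MonoidHom.mk' (fun A => ⟨γ A, hγ A⟩) fun A B =>
    Subtype.ext (uniq (hact (A * B)) ((hact A).mul h.invX (hγ B) (hact B)))
  have hinj : Function.Injective φ := fun A B e =>
    Subtype.ext ((hact A).unique h.toCoord (by
      have e' : γ A = γ B := congrArg Subtype.val e
      rw [e']; exact hact B))
  exact ⟨φ.range, ⟨(MonoidHom.ofInjective hinj).symm⟩⟩

end Cfsg.Agent.S5185
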