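import Mathlib
import Cfsg.Statements.S5187
import Cfsg.Agent.Fus.EssTools

set_option autoImplicit false
set_option linter.unusedVariables false
universe u
open Cfsg

namespace Cfsg.Agent.S5187

open Cfsg.FusionSystem Cfsg.Agent.Fus Subgroup
open Cfsg.Agent.GT.PG

/-- Let F be a saturated fusion system over a finite p-group S and H an abelian essential subgroup that can be generated by two elements (its Frattini quotient has order at most p²). Then H is elementary abelian of order p², or p ≤ 3 and H is homocyclic of rank two, that is isomorphic to C_{pᵏ} × C_{pᵏ} for some k. -/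
theorem result {Ω : Type u} [Group Ω] {S : Subgroup Ω} [Finite S] (p : ℕ) [Fact p.Prime] (hS : IsPGroup p S)
    (F : Cfsg.FusionSystem S) (hF : F.IsSaturated p) (H : Subgroup Ω) (hH : F.IsEssential p H) (hab : IsMulCommutative ↥H) (hrk : (frattini ↥H).index ≤ p ^ 2) :
    (Cfsg.IsElementaryAbelian p H ∧ Nat.card H = p ^ 2) ∨
      (p ≤ 3 ∧ ∃ k : ℕ, Nonempty (↥H ≃* Multiplicative (ZMod (p ^ k) × ZMod (p ^ k)))) := by
  have := finite_of_le hH.le
  have hp : p.Prime := Fact.out
  have hHp : IsPGroup p H := hS.to_le hH.le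
  have hN := hH.noChain hF hS
  obtain ⟨x, y, k, hx, hy, h1, h2⟩ := hN.homocyclic hHp hab hrk
  have hxy : Commute x y := hab.is_comm.comm x y
  rcases k with _ | k
  · refine .inl ⟨⟨hab, fun a ha => ?_⟩, by rw [card_of_basis hxy h1 h2, hx, hy, ← pow_add]⟩
    let _ : CommGroup H := { (inferInstance : Group H) with mul_comm := hab.is_comm.comm }
    have : (⊤ : Subgroup H) ≤ (powMonoidHom p).ker := h2.ge.trans (sup_le
      (zpowers_le.2 (by rw [MonoidHom.mem_ker, powMonoidHom_apply, ← pow_one p, ← zero_add 1, ← hx,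
        pow_orderOf_eq_one]))
      (zpowers_le.2 (by rw [MonoidHom.mem_ker, powMonoidHom_apply, ← pow_one p, ← zero_add 1, ← hy,
        pow_orderOf_eq_one])))
    exact congrArg Subtype.val (this (mem_top ⟨a, ha⟩))
  right
  obtain ⟨e⟩ := nonempty_equiv_zmod_prod hx hy hxy h1
  refine ⟨?_, k + 1 + 1, ⟨(topEquiv.symm.trans (MulEquiv.subgroupCongr h2.symm)).trans
    (e.trans (MulEquiv.prodMultiplicative _ _).symm)⟩⟩
  by_contra hp3
  have hp5 : 5 ≤ p := by
    by_contra h
    have : p = 4 := by omega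
    exact absurd (this ▸ hp) (by norm_num)
  obtain ⟨s₀, hs₀, hs₀H⟩ := hH.exists_notMem hF hS
  obtain ⟨j, hsH, hsp⟩ := exists_pow_notMem_pow_mem (p := p) hs₀H
    ((exists_pow_pow_eq_one_of_mem hS hs₀.1).imp fun k hk => by rw [hk]; exact one_mem H)
  set s := s₀ ^ p ^ j
  have hs : s ∈ normalizerIn S H := pow_mem hs₀ _
  have hu : cAut H s ^ p = 1 := by
    rw [← (mulOn_cAut H).map_pow hs.2, cAut_eq_one_iff (Subgroup.le_normalizer hsp)]
    exact isMulCommutative_iff_le_centralizer.1 hab hsp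
  have hΦ := map_frattini_eq hHp
  set Φ := ⁅H, H⁆ ⊔ powerClosure p 1 H
  have hΦI : InvA (zpowers (cAut H s)) Φ := hΦ ▸ invA_map_of_characteristic _ _
  have hΦi : Φ.relIndex H = p ^ 2 := by
    rw [← hΦ, relIndex_map_subtype_top, hN.index_frattini hHp hrk]
  have hlt : Φ < H := lt_of_le_of_ne hΦI.le fun e => by
    rw [e, relIndex_self] at hΦi
    exact (Nat.one_lt_pow two_ne_zero hp.one_lt).ne hΦi
  have hB : IsPGroup p (zpowers (cAut H s)) := isPGroup_zpowers_of_pow (j := 1) (by rwa [pow_one])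
  obtain ⟨w, hw, hwΦ, hwp, hwn, hwu⟩ := InvA.exists_step hHp hB (invA_top _) hΦI hlt
  have hM : InvA (zpowers (cAut H s)) (Φ ⊔ zpowers w) := hΦI.sup_zpowers' hw fun β hβ => hwu β hβ
  have hi1 : Φ.relIndex (Φ ⊔ zpowers w) = p := relIndex_sup_zpowers hp hwn hwΦ hwp
  have hi2 : (Φ ⊔ zpowers w).relIndex H = p := by
    have := relIndex_mul_relIndex Φ (Φ ⊔ zpowers w) H le_sup_left hM.le
    rw [hi1, hΦi, sq] at this
    exact Nat.eq_of_mul_eq_mul_left hp.pos this
  have hpow : ∀ a : H, (a : Ω) ∈ Φ ↔ ∃ b, a = b ^ p := fun a => by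
    have : Φ = powerClosure p 1 H := sup_eq_right.2 (by
      rw [commutator_eq_bot_iff_le_centralizer.2 (isMulCommutative_iff_le_centralizer.1 hab)]
      exact bot_le)
    rw [this, mem_powerClosure_iff hab, pow_one]
    exact ⟨fun ⟨b, hb, e⟩ => ⟨⟨b, hb⟩, Subtype.ext e.symm⟩, fun ⟨b, e⟩ => ⟨b, b.2, by rw [e]; rfl⟩⟩
  refine hsH ((hH.isRadical hS).mem_of_frattini hS hH.isCentric hs fun a ha => ?_)
  have := (hpow _).2 (aut_trivial_mod_of_basis hp5 hab
    (fun a ha => exists_pow_eq_of_basis hab hx hy h1 h2 ha) hu (fun a => (hpow _).1 ?_) ⟨a, ha⟩)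
  · rwa [coe_mul, coe_inv, coe_cAut hs.2] at this
  · have h3 := InvA.comm_mem_of_relIndex_prime hHp hB (invA_top _) hM hM.le hi2 (mem_zpowers _) a.2
    have h4 := InvA.comm_mem_of_relIndex_prime hHp hB hM hΦI le_sup_left hi1 (mem_zpowers _) h3
    rw [totA_coe, ← coe_inv, ← coe_mul, totA_coe] at h4
    exact h4

end Cfsg.Agent.S5187
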