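import Mathlib
import Cfsg.Statements.S5188
import Cfsg.Agent.Fus.EssTools
import Cfsg.Agent.S5187
import Cfsg.Agent.GT.PGroupHeis
import Cfsg.Agent.GT.PGroupAlperin

set_option autoImplicit false
set_option linter.unusedVariables false
universe u
open Cfsg

namespace Cfsg.Agent.S5188

open Cfsg.FusionSystem Cfsg.Agent.Fus Subgroup
open Cfsg.Agent.GT.PG
open scoped commutatorElement

variable {G : Type*} [Group G] [Finite G] {p : ℕ} [Fact p.Prime]

theorem abelian_rank_three (hc : Nat.card G = p ^ 4) (hab : IsMulCommutative G)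
    (hΦ : Nat.card (frattini G) = p) :
    Nonempty (G ≃* Multiplicative (ZMod (p ^ 2) × ZMod p × ZMod p)) := by
  have hp : p.Prime := Fact.out
  have hG : IsPGroup p G := IsPGroup.of_card hc
  let _ : CommGroup G := { (inferInstance : Group G) with mul_comm := hab.is_comm.comm }
  have hexp : ∀ a : G, a ^ p ^ (1 + 1) = 1 := fun a => by
    rw [pow_succ, pow_one, pow_mul]
    have := pow_card_eq_one' (x := (⟨_, pow_mem_frattini hG a⟩ : frattini G))
    rw [hΦ] at this
    exact congrArg Subtype.val this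
  obtain ⟨x, hx⟩ : ∃ x : G, x ^ p ≠ 1 := by
    by_contra! h
    rw [(frattini_eq_bot_iff hG).2 ⟨hab, h⟩, card_bot] at hΦ
    exact hp.one_lt.ne hΦ
  have hk : orderOf x = p ^ (1 + 1) := orderOf_eq_prime_pow (by rwa [pow_one]) (hexp x)
  obtain ⟨C, h1, h2⟩ := exists_compl_of_homocyclic hexp (B := zpowers x) (by
    rintro _ ⟨i, rfl⟩ hi
    beta_reduce at hi ⊢
    rw [← zpow_natCast, ← zpow_mul, zpow_eq_one_iff_dvd hk] at hi
    obtain ⟨m, rfl⟩ : (p : ℤ) ∣ i := by
      push_cast at hi
      rw [pow_succ'] at hi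
      exact (mul_dvd_mul_iff_right (pow_ne_zero 1 (by exact_mod_cast hp.ne_zero))).1 hi
    exact ⟨x ^ m, zpow_mem (mem_zpowers x) m, by rw [← zpow_natCast, ← zpow_mul, mul_comm]⟩)
  have hC : Nat.card C = p ^ 2 := by
    have := card_sup_of_inf_eq_bot (H := zpowers x) (N := C)
      (le_top.trans (normalizer_eq_top _).ge) h1
    rw [h2, card_top, hc, Nat.card_zpowers, hk, show 4 = 1 + 1 + 2 from rfl, pow_add] at this
    exact (Nat.eq_of_mul_eq_mul_left (pow_pos hp.pos _) this).symm
  have hCc : ¬ IsCyclic C := fun h => by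
    classical
    obtain ⟨y, rfl, -⟩ := exists_orderOf_eq_of_isCyclic h
    have h3 := index_frattini_le_of_closure_eq_top hG {x, y} (by
      rw [Finset.coe_pair, ← Set.singleton_union, Subgroup.closure_union, ← zpowers_eq_closure,
        ← zpowers_eq_closure, h2])
    rw [index_eq_of_card (a := 1) (b := 3) hc (by rw [hΦ, pow_one]),
      Nat.pow_le_pow_iff_right hp.one_lt] at h3
    have := Finset.card_le_two (a := x) (b := y)
    omega
  have hel := IsElementaryAbelian.of_card_sq hC hCc
  obtain ⟨e1⟩ := nonempty_sup_equiv_prod (M := zpowers x) (L := C)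
    (fun c _ m _ => mul_comm m c) h1
  obtain ⟨e2⟩ := nonempty_zpowers_equiv hk
  obtain ⟨e3⟩ := nonempty_mulEquiv_of_elementary (p := p) (G := C)
    (H := Multiplicative (ZMod p × ZMod p)) hel.1 (fun a => Subtype.ext (hel.2 a a.2))
    inferInstance (fun a => by
      rw [← ofAdd_toAdd a, ← ofAdd_nsmul]
      exact congrArg _ (Prod.ext (by simp) (by simp)))
    (by rw [hC, Nat.card_congr Multiplicative.toAdd, Nat.card_prod, Nat.card_zmod, sq])
  exact ⟨(topEquiv.symm.trans (MulEquiv.subgroupCongr h2.symm)).trans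
    (e1.trans ((e2.prodCongr e3).trans (MulEquiv.prodMultiplicative _ _).symm))⟩

theorem not_rank_two (h : NoChain p G) (hc : Nat.card G = p ^ 4) (hab : ¬ IsMulCommutative G)
    (hΦ : (frattini G).index = p ^ 2) : False := by
  have hp : p.Prime := Fact.out
  have hG : IsPGroup p G := IsPGroup.of_card hc
  have hΦc : Nat.card (frattini G) = p ^ 2 := card_eq_of_index (a := 2) hc hΦ
  have hle := commutator_le_frattini hG
  obtain ⟨k, hk⟩ := exists_relIndex_eq_succ hG (A := ⊥) (B := commutator G) fun e =>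
    hab (FG.TM.commutator_eq_bot_iff.1 (le_bot_iff.1 e))
  rw [relIndex_bot_left] at hk
  have hk2 : k + 1 ≤ 2 := (Nat.pow_dvd_pow_iff_le_right hp.one_lt).1
    (hk ▸ hΦc ▸ card_dvd_of_le hle)
  rcases k with _ | k
  · have hq : Nat.card (G ⧸ commutator G) = p ^ 3 := index_eq_of_card (a := 1) hc hk
    have hqc : IsMulCommutative (G ⧸ commutator G) :=
      (Subgroup.Normal.quotient_commutative_iff_commutator_le).2 le_rfl
    have he : ∀ x : G ⧸ commutator G, x ^ p = 1 := by
      rcases (h.quotient hG _ hle).of_card_cube hq with h1 | h1 | ⟨-, ⟨e⟩⟩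
      · exact h1.2
      · exact h1.2.2
      · have := e.symm.injective (hqc.is_comm.comm (e.symm (.a 1)) (e.symm (.xa 0)) |>.trans
          (map_mul _ _ _).symm |> (map_mul e.symm _ _).trans)
        exact absurd this (by decide)
    have := card_le_of_le ((frattini_le_iff hG).2 ⟨le_rfl, fun y =>
      (QuotientGroup.eq_one_iff _).1 (he y)⟩)
    rw [hk, hΦc, Nat.pow_le_pow_iff_right hp.one_lt] at this
    omega
  · have hk' : Nat.card (commutator G) = p ^ 2 := by rw [hk]; congr 1; omega
    have heq : commutator G = frattini G := eq_of_le_of_card_le hle (by rw [hk', hΦc])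
    have := characteristic_centralizer (commutator G)
    by_cases hC : centralizer (commutator G : Set G) = ⊤
    · have hZ : commutator G ≤ center G := fun z hz => mem_center_iff.2 fun g =>
        (hC.ge (mem_top g) z hz).symm
      obtain ⟨x, y, hxy⟩ := FG.TM.exists_two_generators hG hΦ.le
      have hn : (zpowers ⁅y, x⁆).Normal :=
        FG.TM.normal_zpowers_of_mem_center (commutator_mem_center hZ y x)
      have h1 := card_le_of_le (FG.TM.commutator_le_of_two_generators hxy _ (mem_zpowers _))
      have h2 : ⁅y, x⁆ ^ p = 1 := by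
        rw [← commutator_pow_left_of_class_two hZ, commutatorElement_eq_one_iff_mul_comm]
        exact (mem_center_iff.1 (hZ (heq ▸ pow_mem_frattini hG y)) x).symm
      rw [hk', Nat.card_zpowers] at h1
      have := h1.trans (Nat.le_of_dvd hp.pos (orderOf_dvd_of_pow_eq_one h2))
      nlinarith [hp.one_lt]
    · have h1 := index_dvd_of_le (h.le_frattini hG hΦ.le _ hC)
      have h2 := relIndex_centralizer_le_pow_choose (A := commutator G) (H := ⊤)
        (hG.to_subgroup _) (normalizer_eq_top _).ge hk'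
      rw [relIndex_top_right] at h2
      have := (Nat.le_of_dvd (Nat.pos_of_ne_zero index_ne_zero_of_finite) h1).trans h2
      rw [hΦ, Nat.pow_le_pow_iff_right hp.one_lt] at this
      simp at this

theorem rank_three (h : NoChain p G) (hc : Nat.card G = p ^ 4) (hab : ¬ IsMulCommutative G)
    (hΦ : Nat.card (frattini G) = p) :
    (Odd p ∧ ∃ (E : Type) (_ : Group E) (_ : Finite E), Cfsg.IsExtraspecial p E ∧
        Nat.card E = p ^ 3 ∧ (∀ x : E, x ^ p = 1) ∧ Nonempty (G ≃* E × Multiplicative (ZMod p))) ∨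
      (p = 2 ∧ Nonempty (G ≃* QuaternionGroup 2 × Multiplicative (ZMod 2))) ∨
      (IsCyclic (center G) ∧ Nat.card (center G) = p ^ 2) := by
  classical
  have hp : p.Prime := Fact.out
  have hG : IsPGroup p G := IsPGroup.of_card hc
  have hΦi : (frattini G).index = p ^ 3 := index_eq_of_card (a := 1) hc (by rw [hΦ, pow_one])
  have hΦZ : frattini G ≤ center G := le_center_of_normal_card_prime hG _ hΦ
  have hZ : commutator G ≤ center G := (commutator_le_frattini hG).trans hΦZ
  obtain ⟨k, hk⟩ := (hG.to_subgroup (center G)).exists_card_eq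
  have hk4 : k ≤ 4 := (Nat.pow_dvd_pow_iff_le_right hp.one_lt).1
    (hk ▸ hc ▸ card_subgroup_dvd_card _)
  have hk1 : 1 ≤ k := (Nat.pow_dvd_pow_iff_le_right hp.one_lt).1
    (by rw [pow_one, ← hk, ← hΦ]; exact card_dvd_of_le hΦZ)
  have hk2 : 2 ≤ 4 - k := (Nat.pow_dvd_pow_iff_le_right hp.one_lt).1 (by
    rw [← index_eq_of_card (a := k) (b := 4 - k) (by rw [hc]; congr 1; omega) hk]
    exact sq_dvd_index_center hG hab)
  have hk3 : k ≠ 1 := by
    rintro rfl
    obtain ⟨n, -, hn⟩ := (isExtraspecial_of_card_center (hk.trans (pow_one p)) hab hZ).exists_card_eq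
    have := Nat.pow_right_injective hp.two_le (hc.symm.trans hn)
    omega
  obtain rfl : k = 2 := by omega
  by_cases hcyc : IsCyclic (center G)
  · exact .inr (.inr ⟨hcyc, hk⟩)
  have hel := IsElementaryAbelian.of_card_sq hk hcyc
  have hlt : frattini G < center G := lt_of_le_of_ne hΦZ fun e => by
    rw [e, hk] at hΦ
    nlinarith [hp.one_lt]
  obtain ⟨w, hw, hwΦ⟩ := SetLike.exists_of_lt hlt
  obtain ⟨x, y, hxy⟩ : ∃ x y : G, x * y ≠ y * x := by
    by_contra! h'
    exact hab ⟨⟨h'⟩⟩
  set E : Subgroup G := closure {x, y}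
  have hx : x ∈ E := subset_closure (by simp)
  have hy : y ∈ E := subset_closure (by simp)
  have hEna : ¬ IsMulCommutative E := fun h' => hxy (isMulCommutative_iff_forall.1 h' x hx y hy)
  have hEt : E ≠ ⊤ := fun e => by
    have h3 := index_frattini_le_of_closure_eq_top hG {x, y} (by rw [Finset.coe_pair]; exact e)
    rw [hΦi, Nat.pow_le_pow_iff_right hp.one_lt] at h3
    have := Finset.card_le_two (a := x) (b := y)
    omega
  obtain ⟨m, hm⟩ := (hG.to_subgroup E).exists_card_eq
  have hm4 : m < 4 := (Nat.pow_lt_pow_iff_right hp.one_lt).1 (by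
    rw [← hm, ← hc, ← card_top (G := G)]; exact card_lt_of_lt (lt_top_iff_ne_top.2 hEt))
  have hm3 : 3 ≤ m := by
    by_contra h'
    obtain rfl | rfl | rfl : m = 0 ∨ m = 1 ∨ m = 2 := by omega
    · exact hEna (card_eq_one.1 hm ▸ inferInstance)
    · exact hEna (isCyclic_of_prime_card (hm.trans (pow_one p))).isMulCommutative
    · exact hEna (IsPGroup.isMulCommutative_of_card_eq_prime_sq hm)
  obtain rfl : m = 3 := by omega
  have hE := isExtraspecial_of_card_cube hm hEna
  have hwo : orderOf w = p := hel.orderOf_eq hw fun e => hwΦ (e ▸ one_mem _)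
  have hwE : w ∉ E := fun hwE => by
    have h1 : frattini G ≤ E := by
      have h2 : ⁅x, y⁆ ∈ frattini G :=
        commutator_le_frattini hG (commutator_mem_commutator (mem_top x) (mem_top y))
      rw [← sup_zpowers_eq_of_relIndex_prime hp bot_le (by rwa [relIndex_bot_left]) h2
        (by rwa [mem_bot, commutatorElement_eq_one_iff_mul_comm])]
      exact sup_le bot_le (zpowers_le.2 (commutatorElement_mem' hx hy))
    have h3 : center G ≤ E ⊓ centralizer (E : Set G) := by
      refine le_inf ?_ (center_le_centralizer _)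
      rw [← sup_zpowers_eq_of_relIndex_prime hp hΦZ (by
        have := relIndex_mul_card hΦZ
        rw [hΦ, hk, sq] at this
        exact Nat.eq_of_mul_eq_mul_right hp.pos this) hw hwΦ]
      exact sup_le h1 (zpowers_le.2 hwE)
    have := card_le_of_le h3
    rw [← card_center_subgroup, hE.2, hk] at this
    nlinarith [hp.one_lt]
  have hwn : w ∈ normalizer (E : Set G) := centralizer_le_normalizer _ (center_le_centralizer _ hw)
  have htop : E ⊔ zpowers w = ⊤ := eq_top_of_card_eq _ (by
    rw [card_sup_zpowers hp hwn hwE (hel.2 w hw ▸ one_mem _), hm, hc, ← pow_succ'])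
  have hbot : E ⊓ zpowers w = ⊥ := by
    rcases eq_or_eq_of_relIndex_prime hp bot_le (inf_le_right : E ⊓ zpowers w ≤ _)
      (by rw [relIndex_bot_left, Nat.card_zpowers, hwo]) with h1 | h1
    · exact h1
    · exact (hwE (h1.ge (mem_zpowers w)).1).elim
  obtain ⟨e1⟩ := nonempty_sup_equiv_prod (M := E) (L := zpowers w)
    ((zpowers_le.2 hw).trans (center_le_centralizer _)) hbot
  obtain ⟨e2⟩ := nonempty_zpowers_equiv hwo
  have e := (topEquiv.symm.trans (MulEquiv.subgroupCongr htop.symm)).trans e1
  by_cases h2 : p = 2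
  · subst h2
    obtain ⟨a, b, hm'⟩ := dihedral_or_quaternion_of_card_eight hEna hm
    rcases hm'.rel with ⟨h1, h2⟩ | ⟨h1, h2⟩ | ⟨h1, -⟩
    · have hch : (closure {g : G | g ^ 2 ≠ 1}).Characteristic := characteristic_iff_map_le.2
        fun φ => by
          rw [MonoidHom.map_closure]
          refine closure_mono ?_
          rintro _ ⟨g, hg, rfl⟩ e'
          exact hg (φ.injective (by rw [map_pow, map_one]; exact e'))
      have ha2 : (a : G) ^ 2 ≠ 1 := fun e' => by
        have := orderOf_dvd_of_pow_eq_one (show a ^ 2 = 1 from Subtype.ext e')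
        rw [hm'.orderOf_eq] at this
        norm_num at this
      refine (h.not_lt_lt hG hΦi.le (M := closure {g : G | g ^ 2 ≠ 1} ⊔ center G) hlt
        (lt_of_le_of_ne le_sup_right fun e' => ha2 (hel.2 _ (e'.ge (mem_sup_left
          (subset_closure ha2))))) fun e' => hab ?_).elim
      have h3 : closure {g : G | g ^ 2 ≠ 1} ⊔ center G ≤ center G ⊔ zpowers (a : G) := by
        refine sup_le ((closure_le _).2 fun g hg => ?_) le_sup_left
        obtain ⟨n, hn, i, rfl⟩ := (mem_sup_zpowers_of_mem_normalizer hwn).1 (htop.ge (mem_top g))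
        refine mul_mem (mem_sup_right ?_) (mem_sup_left (zpow_mem hw i))
        by_contra hna
        refine hg ?_
        have h4 : (⟨n, hn⟩ : E) ^ 2 = 1 := sq_eq_one_of_dihedral hm' h1 h2 fun ⟨j, hj⟩ =>
          hna ⟨j, congrArg Subtype.val hj⟩
        rw [(commute_of_mem_center (zpow_mem hw i) n).mul_pow, hel.2 _ (zpow_mem hw i), mul_one]
        exact congrArg Subtype.val h4
      exact isMulCommutative_top_iff.1 (isMulCommutative_of_le (e'.ge.trans h3)
        (isMulCommutative_sup_zpowers hel.1 fun z hz => (mem_center_iff.1 hz _).symm))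
    · obtain ⟨e3, -⟩ :=
        exists_mulEquiv_quaternion (n := 2) hm'.orderOf_eq hm'.index_eq hm'.notMem h2 h1
      exact .inr (.inl ⟨rfl, ⟨e.trans (e3.prodCongr e2)⟩⟩)
    · omega
  have hodd := hp.odd_of_ne_two h2
  have hcp : ∀ z ∈ commutator G, z ^ p = 1 := fun z hz => hel.2 z (hZ hz)
  have hexp : ∀ g : G, g ^ p = 1 := by
    by_contra! h'
    obtain ⟨g, hg⟩ := h'
    have h1 : (omegaOne p (⊤ : Subgroup G)).index ≤ p := by
      rw [← ker_powHom hodd hZ hcp, index_ker]
      refine (card_le_of_le ?_).trans hΦ.le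
      rintro _ ⟨g, rfl⟩
      exact pow_mem_frattini hG g
    refine h.not_lt_lt hG hΦi.le (M := omegaOne p ⊤) hlt
      (lt_of_le_of_ne (hel.le_omegaOne le_top) fun e' => ?_) fun e' => hg ?_
    · rw [← e', index_eq_of_card (a := 2) (b := 2) hc hk] at h1
      nlinarith [hp.one_lt]
    · rw [← ker_powHom hodd hZ hcp] at e'
      exact e'.ge (mem_top g)
  obtain ⟨e3⟩ := nonempty_mulEquiv_of_extraspecial_exponent hE (Heis.isExtraspecial (n := 1) le_rfl)
    (fun g => Subtype.ext (hexp g)) (Heis.pow_eq_one hodd) (by rw [hm, Heis.card_eq, Nat.card_zmod])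
  exact .inl ⟨hodd, Heis 1 (ZMod p), inferInstance, inferInstance, Heis.isExtraspecial le_rfl,
    by rw [Heis.card_eq, Nat.card_zmod], Heis.pow_eq_one hodd, ⟨e.trans (e3.prodCongr e2)⟩⟩

/-- Let F be a saturated fusion system over a finite p-group S and H an essential subgroup of order p⁴. Then H is isomorphic to one of: C_p⁴ or C_{p²} × C_p × C_p (any p); C_{p²} × C_{p²} with p ∈ {2, 3}; p^{1+2}_+ × C_p with p odd (the direct product of an extraspecial group of order p³ and exponent p with a group of order p); Q₈ × C₂ (p = 2); or the non-abelian group of order p⁴ of exponent p² whose centre is cyclic of order p² (the central product of an extraspecial group of order p³ with a cyclic group of order p²; for p = 2 this is D₈ ∘ C₄). -/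
theorem result {Ω : Type u} [Group Ω] {S : Subgroup Ω} [Finite S] (p : ℕ) [Fact p.Prime] (hS : IsPGroup p S)
    (F : Cfsg.FusionSystem S) (hF : F.IsSaturated p) (H : Subgroup Ω) (hH : F.IsEssential p H) (hcard : Nat.card H = p ^ 4) :
    Cfsg.IsElementaryAbelian p H ∨
      Nonempty (↥H ≃* Multiplicative (ZMod (p ^ 2) × ZMod p × ZMod p)) ∨
      ((p = 2 ∨ p = 3) ∧ Nonempty (↥H ≃* Multiplicative (ZMod (p ^ 2) × ZMod (p ^ 2)))) ∨
      (Odd p ∧ ∃ (E : Type) (_ : Group E) (_ : Finite E), Cfsg.IsExtraspecial p E ∧ Nat.card E = p ^ 3 ∧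
        (∀ x : E, x ^ p = 1) ∧ Nonempty (↥H ≃* E × Multiplicative (ZMod p))) ∨
      (p = 2 ∧ Nonempty (↥H ≃* QuaternionGroup 2 × Multiplicative (ZMod 2))) ∨
      (¬ IsMulCommutative ↥H ∧ (∀ x ∈ H, x ^ (p ^ 2) = 1) ∧ IsCyclic ↥(Subgroup.center ↥H) ∧
        Nat.card (Subgroup.center ↥H) = p ^ 2) := by
  have := finite_of_le hH.le
  have hp : p.Prime := Fact.out
  have hG : IsPGroup p H := hS.to_le hH.le
  have hN := hH.noChain hF hS
  obtain ⟨r, hr⟩ := hG.index (frattini H)
  have hr2 : 2 ≤ r := (Nat.pow_dvd_pow_iff_le_right hp.one_lt).1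
    (hr ▸ sq_dvd_index_frattini_of_not_isCyclic hG (hN.not_isCyclic hG))
  have hr4 : r ≤ 4 := (Nat.pow_dvd_pow_iff_le_right hp.one_lt).1 (hr ▸ hcard ▸ index_dvd_card _)
  obtain rfl | rfl | rfl : r = 2 ∨ r = 3 ∨ r = 4 := by omega
  · by_cases hab : IsMulCommutative H
    · rcases S5187.result p hS F hF H hH hab hr.le with ⟨h, -⟩ | ⟨h3, k, ⟨e⟩⟩
      · exact .inl h
      · refine .inr (.inr (.inl ⟨by have := hp.two_le; omega, ?_⟩))
        have h1 := Nat.card_congr e.toEquiv
        rw [hcard, Nat.card_congr Multiplicative.toAdd, Nat.card_prod, Nat.card_zmod,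
          ← pow_add] at h1
        obtain rfl : k = 2 := by have := Nat.pow_right_injective hp.two_le h1; omega
        exact ⟨e⟩
    · exact (not_rank_two hN hcard hab hr).elim
  · have hΦ : Nat.card (frattini H) = p := (card_eq_of_index (a := 1) hcard hr).trans (pow_one p)
    by_cases hab : IsMulCommutative H
    · exact .inr (.inl (abelian_rank_three hcard hab hΦ))
    · rcases rank_three hN hcard hab hΦ with h | h | h
      · exact .inr (.inr (.inr (.inl h)))
      · exact .inr (.inr (.inr (.inr (.inl h))))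
      · refine .inr (.inr (.inr (.inr (.inr ⟨hab, fun x hx => ?_, h⟩))))
        have := pow_card_eq_one' (x := (⟨_, pow_mem_frattini hG ⟨x, hx⟩⟩ : frattini H))
        rw [hΦ] at this
        rw [sq, pow_mul]
        exact congrArg (fun z : frattini H => ((z : H) : Ω)) this
  · have h := (frattini_eq_bot_iff hG).1 (card_eq_one.1 (card_eq_of_index (a := 0) hcard hr))
    exact .inl ⟨h.1, fun a ha => congrArg Subtype.val (h.2 ⟨a, ha⟩)⟩

end Cfsg.Agent.S5188
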