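import Mathlib
import Cfsg.Statements.S5189
import Cfsg.Agent.Fus.R3Syl
import Cfsg.Agent.Fus.ToTop
import Cfsg.Agent.GT.PGroupExtraspecial

set_option autoImplicit false
universe u
open Cfsg

namespace Cfsg.Agent.S5189

open Subgroup Cfsg.Agent.GT Cfsg.Agent.Fus Cfsg.Agent.Fus.R3
open Cfsg.FusionSystem hiding inv_mem

theorem iv_toTop {Ω : Type*} [Group Ω] {S E : Subgroup Ω} {F : FusionSystem S}
    {F' : FusionSystem (⊤ : Subgroup S)} (h : F.IsTop F') (hc : ∀ φ : MulAut S, φ ∈ F.autGroup S →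
      (E.subgroupOf S).map φ.toMonoidHom = E.subgroupOf S) : Iv F' ⊤ (E.subgroupOf S) := by
  refine invA_autGroup_of_iso le_rfl le_top fun f hf x hx => ?_
  have k := h.symm.iso_push hf
  rw [h.symm.img_top] at k
  have e := (hc _ k.aut_mem).le (mem_map_of_mem _ hx)
  rw [mem_subgroupOf] at e ⊢
  rwa [MulEquiv.coe_toMonoidHom, k.coe_aut, toSub_apply x.2] at e

theorem pull {Ω : Type*} [Group Ω] {S E₁ E₂ : Subgroup Ω} [Finite S] {p : ℕ} [Fact p.Prime]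
    (l₁ : E₁ ≤ S) (l₂ : E₂ ≤ S) (h : IsExtraspecial p (E₁.subgroupOf S) ∧
      Nat.card (E₁.subgroupOf S) = p ^ 3 ∧ (∀ x ∈ E₁.subgroupOf S, x ^ p = 1) ∧
      IsElementaryAbelian p (E₂.subgroupOf S) ∧ Nat.card (E₂.subgroupOf S) = p ^ 3) :
    IsExtraspecial p E₁ ∧ Nat.card E₁ = p ^ 3 ∧ (∀ x ∈ E₁, x ^ p = 1) ∧
      IsElementaryAbelian p E₂ ∧ Nat.card E₂ = p ^ 3 :=
  ⟨h.1.of_mulEquiv (subgroupOfEquivOfLe l₁),
    (Nat.card_congr (subgroupOfEquivOfLe l₁).toEquiv).symm.trans h.2.1,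
    fun x hx => congrArg Subtype.val (h.2.2.1 ⟨x, l₁ hx⟩ hx),
    ⟨⟨⟨fun a b => Subtype.ext (congrArg (fun g : E₂.subgroupOf S => (g.1 : Ω))
      (h.2.2.2.1.1.is_comm.comm ⟨⟨a, l₂ a.2⟩, a.2⟩ ⟨⟨b, l₂ b.2⟩, b.2⟩))⟩⟩,
      fun x hx => congrArg Subtype.val (h.2.2.2.1.2 ⟨x, l₂ hx⟩ hx)⟩,
    (Nat.card_congr (subgroupOfEquivOfLe l₂).toEquiv).symm.trans h.2.2.2.2⟩


/-- Let p be an odd prime, S a finite p-group of sectional p-rank exactly 3, and F a saturated fusion system over S whose largest subgroup normal in F is trivial. Suppose S has two distinct essential subgroups E₁, E₂ each of which is invariant under every F-automorphism of S. Then S is isomorphic to a Sylow p-subgroup of Sp(4,p), and one of E₁, E₂ is extraspecial of order p³ and exponent p while the other is elementary abelian of order p³. -/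
theorem result {Ω : Type u} [Group Ω] {S : Subgroup Ω} [Finite S] (p : ℕ) [Fact p.Prime] (hp : Odd p) (hS : IsPGroup p S)
    (hsr : Cfsg.SectionalPRankLE p 3 ↥S ∧ ¬ Cfsg.SectionalPRankLE p 2 ↥S)
    (F : Cfsg.FusionSystem S) (hF : F.IsSaturated p) (hO : F.core = ⊥)
    (E₁ E₂ : Subgroup Ω) (hne : E₁ ≠ E₂) (hE₁ : F.IsEssential p E₁) (hE₂ : F.IsEssential p E₂)
    (hc₁ : (∀ φ : MulAut ↥S, φ ∈ F.autGroup S → (E₁.subgroupOf S).map φ.toMonoidHom = E₁.subgroupOf S))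
    (hc₂ : (∀ φ : MulAut ↥S, φ ∈ F.autGroup S → (E₂.subgroupOf S).map φ.toMonoidHom = E₂.subgroupOf S)) :
    (∃ P : Sylow p ↥(Matrix.symplecticGroup (Fin 2) (ZMod p)),
        Nonempty (↥S ≃* ↥(P : Subgroup ↥(Matrix.symplecticGroup (Fin 2) (ZMod p))))) ∧
      ((Cfsg.IsExtraspecial p ↥E₁ ∧ Nat.card E₁ = p ^ 3 ∧ (∀ x ∈ E₁, x ^ p = 1) ∧
          Cfsg.IsElementaryAbelian p E₂ ∧ Nat.card E₂ = p ^ 3) ∨
        (Cfsg.IsExtraspecial p ↥E₂ ∧ Nat.card E₂ = p ^ 3 ∧ (∀ x ∈ E₂, x ^ p = 1) ∧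
          Cfsg.IsElementaryAbelian p E₁ ∧ Nat.card E₁ = p ^ 3)) := by
  obtain ⟨F', h⟩ := F.exists_toTop
  have : Fact (IsPGroup p S) := ⟨hS⟩
  have h2 : p ≠ 2 := by rintro rfl; exact absurd hp (by decide)
  have j₁ := iv_toTop h hc₁
  have j₂ := iv_toTop h hc₂
  have := normal_of_iv_top j₁
  have := normal_of_iv_top j₂
  have g₁ := Lc.of_normal (h.isSaturated hF hS) (IsTop.essential h hE₁) h2 hsr.1
  have g₂ := Lc.of_normal (h.isSaturated hF hS) (IsTop.essential h hE₂) h2 hsr.1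
  have hne' : E₁.subgroupOf S ≠ E₂.subgroupOf S := fun e => hne (by
    rw [← map_subgroupOf_eq_of_le hE₁.le, e, map_subgroupOf_eq_of_le hE₂.le])
  rcases char_main (h.core_eq_bot hO) hsr.2 g₁ g₂ hne' j₁ j₂ with ⟨x, y, H⟩ | ⟨x, y, H⟩
  · have k := H.out g₁ g₂ hne'
    exact ⟨k.1, .inl (pull hE₁.le hE₂.le k.2)⟩
  · have k := H.out g₂ g₁ hne'.symm
    exact ⟨k.1, .inr (pull hE₂.le hE₁.le k.2)⟩

end Cfsg.Agent.S5189
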