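import Mathlib
import Cfsg.Statements.S5192
import Cfsg.Agent.Fus.Transfer

set_option autoImplicit false
open Cfsg

namespace Cfsg.Agent.S5192

open Cfsg.FusionSystem Cfsg.Agent.Fus

open MulAction in
theorem aux {Ω : Type*} [Group Ω] [Finite Ω] {S : Subgroup Ω}
    (hS : IsPGroup 2 ↥S) (F : Cfsg.FusionSystem S) (hF : F.IsSaturated 2)
    (T : Subgroup Ω) (hT : T.relIndex S = 2)
    (i : Ω) (hi : i ∈ S) (hi2 : orderOf i = 2) (hn : F.IsFullyNormalized (Subgroup.zpowers i))
    (h : ∀ j : Ω, F.IsConjElt i j → F.IsFullyNormalized (Subgroup.zpowers j) → j ∉ T) :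
    i ∉ F.focalSubgroup := by
  classical
  obtain ⟨J, _, _, ⟨D⟩⟩ := hF.exists_charData hS
  have := Fintype.ofFinite J
  let l : S →* ℤˣ := MonoidHom.mk' (fun s => if (s : Ω) ∈ T then 1 else -1) fun a b => by
    have := Subgroup.mul_mem_iff_of_index_two (H := T.subgroupOf S) hT (a := a) (b := b)
    simp only [Subgroup.mem_subgroupOf, Subgroup.coe_mul] at this
    by_cases ha : (a : Ω) ∈ T <;> by_cases hb : (b : Ω) ∈ T <;> simp [ha, hb, this]
  have hl : ∀ s : S, l s = if (s : Ω) ∈ T then 1 else -1 := fun _ => rfl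
  intro hf
  obtain ⟨u, hu, rfl⟩ := D.focal_le_ker_tr l hf
  simp only [Subgroup.subtype_apply] at hi hi2 hn h hf
  have hu2 : orderOf u = 2 := by rw [← hi2]; exact (Subgroup.orderOf_coe u).symm
  have hu1 : u ^ 2 = 1 := hu2 ▸ pow_orderOf_eq_one u
  let C := (normalizerIn S (Subgroup.zpowers (u : Ω))).subgroupOf S
  have hC : IsPGroup 2 C := hS.to_subgroup C
  have hcomm : ∀ c : C, (c : S) * u = u * c := fun c => by
    have h1 := (Subgroup.mem_normalizer_iff.1 c.2.2 u).1 (Subgroup.mem_zpowers _)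
    have h2 : orderOf (((c : S) : Ω) * u * ((c : S) : Ω)⁻¹) = 2 := by
      rw [← hi2]; exact (SemiconjBy.orderOf_eq ((c : S) : Ω) (by simp [SemiconjBy])).symm
    rw [mem_zpowers_iff_mem_range_orderOf, show orderOf (u : Ω) = 2 from hi2] at h1
    simp only [Finset.mem_image, Finset.mem_range, Subgroup.subtype_apply] at h1
    obtain ⟨k, hk, e⟩ := h1
    interval_cases k
    · rw [← e] at h2; simp at h2
    · exact Subtype.ext (by rw [pow_one, eq_mul_inv_iff_mul_eq] at e; exact e.symm)
  let A : SubMulAction C J :=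
    { carrier := {j | u • j = j ∧ l (D.t u j) = -1}
      smul_mem' := fun c j hj => by
        have e : u • (c : S) • j = (c : S) • j := by rw [← mul_smul, ← hcomm, mul_smul, hj.1]
        refine ⟨e, ?_⟩
        have h1 := D.t_mul u c j
        rw [← hcomm, D.t_mul, hj.1] at h1
        have h2 := congrArg l h1
        rw [map_mul, map_mul, mul_comm, mul_left_inj] at h2
        exact h2 ▸ hj.2 }
  have huC : u ∈ C := ⟨hi, Subgroup.le_normalizer (Subgroup.mem_zpowers _)⟩
  have hfix : ∀ j ∈ fixedPoints C J, j ∈ A := fun j hj => by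
    have h0 : u • j = j := hj ⟨u, huC⟩
    refine ⟨h0, ?_⟩
    obtain ⟨f, hf, e⟩ := D.gen j
    have hle : normalizerIn S (Subgroup.zpowers (u : Ω)) ≤ (stabilizer S j).map S.subtype :=
      fun x hx => ⟨⟨x, hx.1⟩, hj ⟨⟨x, hx.1⟩, hx⟩, rfl⟩
    have h1 := (hn.iso_normalizerIn (hf.mono hle)).2
    have h2 : img f (Subgroup.zpowers (u : Ω)) = Subgroup.zpowers (f u) := le_antisymm
      (img_le_iff.2 (by
        rintro _ ⟨k, rfl⟩
        exact ⟨k, (hf.map_zpow (hle huC) k).symm⟩))
      (Subgroup.zpowers_le.2 (mem_img_of_mem (Subgroup.mem_zpowers _)))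
    rw [hl, e u h0, if_neg (h _ (hf.isConjElt (hle huC)) (h2 ▸ h1))]
  have hcard : Nat.card (fixedPoints C A) = Nat.card (fixedPoints C J) := Nat.card_congr
    { toFun := fun a => ⟨a.1.1, fun c => congrArg Subtype.val (a.2 c)⟩
      invFun := fun j => ⟨⟨j.1, hfix j.1 j.2⟩, fun c => Subtype.ext (j.2 c)⟩
      left_inv := fun _ => rfl
      right_inv := fun _ => rfl }
  have hodd : Odd (Nat.card A) := by
    have h1 := (hC.card_modEq_card_fixedPoints A).trans
      (hcard ▸ (hC.card_modEq_card_fixedPoints J).symm)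
    have h2 := D.not_dvd
    rw [Nat.odd_iff]
    unfold Nat.ModEq at h1
    omega
  have h1 : D.tr l u = 1 := hu
  rw [D.tr_apply, ← Finset.prod_filter_mul_prod_filter_not Finset.univ (fun j => u • j = j),
    D.prod_eq_pow l u (Finset.univ.filter fun j => ¬ u • j = j) (fun j hj => by
      simpa using hj) 1 (fun j hj k hk => by
      rw [one_pow]
      rcases Nat.even_or_odd' k with ⟨m, rfl | rfl⟩
      · rw [pow_mul, hu1, one_pow, D.t_one, map_one]
      · rw [pow_succ, pow_mul, hu1, one_pow, one_mul] at hk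
        simp [hk] at hj), one_pow, mul_one,
    ← Finset.prod_filter_mul_prod_filter_not _ (fun j => l (D.t u j) = -1),
    Finset.prod_eq_one (s := Finset.filter (fun j => ¬ l (D.t u j) = -1) _) (fun j hj =>
      (Int.units_eq_one_or _).resolve_right (Finset.mem_filter.1 hj).2), mul_one,
    Finset.prod_congr rfl (fun j hj => (Finset.mem_filter.1 hj).2), Finset.prod_const,
    Finset.filter_filter] at h1
  have h2 : Nat.card A = (Finset.univ.filter fun j => u • j = j ∧ l (D.t u j) = -1).card := by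
    rw [← Nat.card_eq_finsetCard]
    exact Nat.card_congr (Equiv.subtypeEquivRight fun j => by simp; rfl)
  rw [← h2, hodd.neg_one_pow] at h1
  exact absurd h1 (by decide)

/-- A Thompson-type transfer for saturated fusion systems. Let F be a saturated fusion system on a finite 2-group S, T a subgroup of S of index 2, and i an involution of S such that every fully normalized F-conjugate of i lies in S but outside T. Then i does not lie in the hyperfocal subgroup of F (the Sylow group of the 2-residual subsystem). -/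
theorem result {Ω : Type*} [Group Ω] [Finite Ω] {S : Subgroup Ω}
    (hS : IsPGroup 2 ↥S) (F : Cfsg.FusionSystem S) (hF : F.IsSaturated 2)
    (T : Subgroup Ω) (hTS : T ≤ S) (hT : T.relIndex S = 2)
    (i : Ω) (hi : i ∈ S) (hi2 : orderOf i = 2)
    (h : ∀ j : Ω, F.IsConjElt i j → F.IsFullyNormalized (Subgroup.zpowers j) → j ∉ T) :
    i ∉ F.hyperfocalSubgroup 2 := by
  intro hh
  obtain ⟨Q, hc, hQ⟩ := F.exists_isConj_fullyNormalized (Subgroup.zpowers_le.2 hi)
  obtain ⟨f, hf⟩ := hc.exists_iso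
  have hm := Subgroup.mem_zpowers i
  have h2 : Q = Subgroup.zpowers (f i) := le_antisymm
    (hf.img_eq ▸ img_le_iff.2 (by
      rintro _ ⟨k, rfl⟩
      exact ⟨k, (hf.mor.map_zpow hm k).symm⟩)) (Subgroup.zpowers_le.2 (hf.maps i hm))
  subst h2
  refine aux hS F hF T hT (f i) (hf.mor.mem hm) (by rw [hf.mor.orderOf_eq hm, hi2]) hQ
    (fun j hj => h j ?_) (F.hyperfocal_le_focal 2 ((hF.stronglyClosed_hyp hS).mem hf.mor hm hh))
  obtain ⟨P, g, hg, hP, rfl⟩ := isConjElt_iff.1 hj
  exact (hg.comp hf.mor fun x hx => Subgroup.zpowers_le.2 hP (hf.maps x hx)).isConjElt hm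

end Cfsg.Agent.S5192
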