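import Mathlib
import Cfsg.Statements.S5193
import Cfsg.Agent.Fus.Control
import Cfsg.Agent.S2799

set_option autoImplicit false
open Cfsg

namespace Cfsg.Agent.S5193

open Cfsg.Agent.Fus Cfsg.FusionSystem

/-- Glauberman's Theorem for fusion systems. Let F be a saturated fusion system over a finite p-group S, let J(S) be the subgroup generated by the abelian subgroups of S of largest order, and let N be the normalizer fusion system of J(S) in F (a fusion system over N_S(J(S)) = S). Then every p-th power of an element of Z(S) that lies in the centre of N lies in the centre of F; and if p is odd, or if the symmetric group of degree 4 is not involved in any model of the normalizer system of a fully normalized F-centric subgroup (F is S₄-free), then the centre of N equals the centre of F. -/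
theorem result {Ω : Type*} [Group Ω] {S : Subgroup Ω} [Finite S] (p : ℕ) [Fact p.Prime] (hS : IsPGroup p S) (F : Cfsg.FusionSystem S) (hF : F.IsSaturated p) (N : Cfsg.FusionSystem (Cfsg.FusionSystem.normalizerIn S (Cfsg.thompsonSubgroupAOf S))) (hN : F.IsNormalizerSystem (Cfsg.thompsonSubgroupAOf S) N) : Subgroup.closure ((fun z : Ω => z ^ p) '' ((S ⊓ Subgroup.centralizer (S : Set Ω) : Subgroup Ω) : Set Ω)) ⊓ N.center ≤ F.center ∧ (p ≠ 2 ∨ F.IsSectionFree p (Equiv.Perm (Fin 4)) → N.center = F.center) := by
  revert N
  rw [← wf_thJ]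
  intro N hN
  refine ⟨hF.agemo_inf_center_le isCharPFunctor_thJ (fun L _ _ P hn => exists_quadratic_of_thJ P
    (wf_thJ (P : Subgroup L) ▸ hn)) hS hN, fun hp => hF.center_eq_of_wf isCharPFunctor_thJ
    (fun Q _ _ _ => center_le_thJ Q) (fun L _ _ P hX x hx h a => ?_) hS hp hN⟩
  have hO := IsPGroup.le_sylow_of_normal (GT.isPGroup_pCore p) P
  have hn : x ∈ Subgroup.normalizer ((thompsonSubgroupAOf (P : Subgroup L) : Subgroup L) : Set L) :=
    wf_thJ (P : Subgroup L) ▸ normalizer_le_normalizer_wf isCharPFunctor_thJ P.isPGroup'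
      (Subgroup.le_normalizer (hO hx))
  rw [wf_thJ] at h
  exact S2799.result P x (hO hx) ⟨⟨x, hn⟩, Subgroup.mem_center_iff.2 fun g =>
    Subtype.ext (mul_inv_eq_iff_eq_mul.1 (h g g.2)), rfl⟩ (hX.imp_right Or.inr) a
    (hO (Subgroup.Normal.conj_mem inferInstance x hx a))

end Cfsg.Agent.S5193
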