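import Mathlib
import Cfsg.Statements.S5195
import Cfsg.Agent.Fus.Control
import Cfsg.Agent.S2800

set_option autoImplicit false
open Cfsg

namespace Cfsg.Agent.S5195

open Cfsg.Agent.Fus Cfsg.FusionSystem

universe u

/-- If the normalizers of all nontrivial characteristic subgroups are inner, so is the system. -/
theorem eq_inner_of_char {Ω : Type u} [Group Ω] {S : Subgroup Ω} [Finite S] (p : ℕ) [Fact p.Prime]
    (hS : IsPGroup p S) (F : FusionSystem S) (hF : F.IsSaturated p)
    (hp : p ≠ 2 ∨ F.IsSectionFree p (Equiv.Perm (Fin 4)))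
    (h : ∀ Q : Subgroup S, Q ≠ ⊥ → Q.Characteristic →
      F.NLe (Q.map S.subtype) (innerFusionSystem S)) : F = innerFusionSystem S := by
  rcases subsingleton_or_nontrivial S with h0 | h0
  · exact eq_inner_iff.2 fun P f hf => ⟨1, one_mem _, fun x hx => by
      rw [one_mul, inv_one, mul_one]
      exact congrArg Subtype.val (Subsingleton.elim (⟨_, hf.mem hx⟩ : S) ⟨x, hf.le hx⟩)⟩
  refine hF.eq_inner_of_wf (c := True) isCharPFunctor_thJ
    (fun L _ _ P hX hC hN => S2800.result P hX (hC trivial) (wf_thJ (P : Subgroup L) ▸ hN)) hS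
    hp (fun _ => NLe.cLe ?_) (h _ (isCharPFunctor_thJ.1 S hS h0) (GT.thJ_characteristic _ _))
  have e : centralizerIn S S = (Subgroup.center S).map S.subtype := by
    ext x
    exact ⟨fun hx => ⟨⟨x, hx.1⟩, Subgroup.mem_center_iff.2 fun y => Subtype.ext (hx.2 y y.2), rfl⟩,
      by rintro ⟨y, hy, rfl⟩
         exact ⟨y.2, fun z hz => congrArg Subtype.val (Subgroup.mem_center_iff.1 hy ⟨z, hz⟩)⟩⟩
  rw [e]
  exact h _ ((Subgroup.nontrivial_iff_ne_bot _).1 hS.center_nontrivial) inferInstance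

theorem aux (p : ℕ) [Fact p.Prime] (n : ℕ) : ∀ {Ω : Type u} [Group Ω] {S : Subgroup Ω} [Finite S]
    (_ : IsPGroup p S) (F : FusionSystem S) (_ : F.IsSaturated p)
    (_ : p ≠ 2 ∨ F.IsSectionFree p (Equiv.Perm (Fin 4)))
    (_ : ∀ Q : Subgroup Ω, Q ≤ S → Q ≠ ⊥ → (∀ α : MulAut S, ∀ x ∈ Q, totA α x ∈ Q) →
      IsPGroup p (F.autGroup Q)), Nat.card S = n → F = innerFusionSystem S := by
  induction n using Nat.strong_induction_on with
  | _ n ih =>
  intro Ω _ S _ hS F hF hp h hn
  subst hn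
  refine eq_inner_of_char p hS F hF hp fun C hC1 hC => ?_
  set Q := C.map S.subtype with hQ
  have hQS : Q ≤ S := Subgroup.map_subtype_le _
  have hQ1 : Q ≠ ⊥ := fun e => hC1 ((Subgroup.map_eq_bot_iff_of_injective _ S.subtype_injective).1 e)
  have hQi : ∀ α : MulAut S, ∀ x ∈ Q, totA α x ∈ Q := fun α x hx =>
    (invA_map_of_characteristic ⊤ C).mem (Subgroup.mem_top α) hx
  have hn : S ≤ Subgroup.normalizer (Q : Set Ω) := by
    have := (invA_map_of_characteristic (F.autGroup S) C).le_normalizer le_rfl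
    rwa [normalizerIn_self] at this
  obtain ⟨N, hN⟩ := F.exists_isKNormalizer (T := S) hQS ⊤
    (by rw [preAut_top, normalizerIn_eq_of_le hn])
  have hK := hF.kFull_top hS (F.isFullyNormalized_of_le_normalizer hQS hn)
  have hNs := hN.isSaturated hF hS hK
  have hQN := hN.isNormal hQS
  rw [hN.nLe_iff, sub_inner_iff]
  obtain ⟨G, _, _, θ, E, hq, hk⟩ := hNs.exists_quot hS hQN.stronglyClosed
  have hG := hq.toIsFac.isPGroup hS
  have hE : E = innerFusionSystem ⊤ := by
    refine ih _ (hq.toIsFac.card_lt (hk.symm ▸ hQ1)) hG E (hq.isSaturated hNs hS)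
      (hp.imp_right fun hX => (hX.kNormalizer hF hS hN hK hQS).quot hNs hS hq (hk.symm ▸ hQN))
      (fun R' _ hR1 hR => ?_) rfl
    obtain ⟨ρ, -, hρ⟩ := hq.exists_autHom_surj (pre_le θ S R') (pre_mono bot_le)
    have h3 : IsPGroup p (N.autGroup (pre θ S R')) := by
      refine (h _ (pre_le _ _ _) (fun e => hQ1 (eq_bot_iff.2 ?_)) fun α x hx => ?_).to_le
        (hN.isSubsystemOf.autGroup_le _)
      · rw [← hk, ← e]; exact pre_mono bot_le
      · obtain ⟨σ, hσ⟩ := exists_autPush (hq.mulOn.hom.codRestrict (⊤ : Subgroup G) fun _ => Subgroup.mem_top _)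
          (fun y => by
            obtain ⟨z, hz, e⟩ := hq.toIsFac.surj y.2
            exact ⟨⟨z, hz⟩, Subtype.ext e⟩) ⊤ fun β _ z hz => by
            have h1 : (z : Ω) ∈ Q := hk ▸ mem_pre_of z.2 (congrArg Subtype.val hz)
            have h2 := hQi β z h1
            rw [← hk, totA_coe] at h2
            exact Subtype.ext (hq.mulOn.apply_mem_of_pre h2)
        have hxS := pre_le θ S R' hx
        refine mem_pre_of (totA_mem α hxS) ?_
        have h1 := hR (σ ⟨α, trivial⟩) _ (hq.mulOn.apply_mem_of_pre hx)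
        have h2 := congrArg Subtype.val (hσ ⟨α, trivial⟩ ⟨x, hxS⟩)
        rw [totA_apply _ (Subgroup.mem_top _)] at h1
        rw [totA_apply _ hxS]
        exact (congrArg (· ∈ R') h2).mp h1
    have h4 : IsPGroup p ρ.range := h3.of_surjective ρ.rangeRestrict ρ.rangeRestrict_surjective
    rwa [hρ, hq.toIsFac.img_pre le_top] at h4
  have h5 := hq.img_hyp (p := p)
  rw [hE, hyp_inner hG, hq.toIsFac.img_eq_bot_iff (N.hyperfocal_le p), hk] at h5
  refine hNs.eq_inner_of_hyp_eq_bot hS (eq_bot_iff.2 (hyp_le_of_forall_mem hS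
    fun P hP α hα hco x hx => ?_))
  have hPQ := hP.trans h5
  obtain ⟨g, hg, e⟩ := hQN.extend_of_le (mor_totA (hPQ.trans hQS) hα) hPQ
  obtain ⟨β, hβ, eβ⟩ := hg.exists_aut
  obtain ⟨m, hm⟩ := h Q hQS hQ1 hQi ⟨β, hN.isSubsystemOf.autGroup_le _ hβ⟩
  have h6 : α ^ p ^ m = 1 := eq_one_of_forall_totA fun y hy => by
    rw [← totA_pow_of_extends hPQ (fun y hy => (eβ y (hPQ hy)).trans (e y hy)) _ y hy,
      show β ^ p ^ m = 1 from congrArg Subtype.val hm, totA_one (hPQ hy)]
  rw [eq_one_of_pow_eq_one_of_not_dvd ⟨m, h6⟩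
    ((Nat.Prime.coprime_iff_not_dvd Fact.out).1 hco.symm) (pow_orderOf_eq_one α), totA_one hx,
    inv_mul_cancel]
  exact one_mem _

/-- A strengthened Frobenius normal p-complement criterion for fusion systems. Let F be a saturated fusion system over a finite p-group S such that p is odd or F is S₄-free (the symmetric group of degree 4 is not involved in any model of the normalizer system of a fully normalized F-centric subgroup). If Aut_F(Q) is a p-group for every nontrivial characteristic subgroup Q of S, then F is the inner fusion system of S. -/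
theorem result {Ω : Type*} [Group Ω] {S : Subgroup Ω} [Finite S] (p : ℕ) [Fact p.Prime] (hS : IsPGroup p S) (F : Cfsg.FusionSystem S) (hF : F.IsSaturated p) (hp : p ≠ 2 ∨ F.IsSectionFree p (Equiv.Perm (Fin 4))) (h : ∀ Q : Subgroup Ω, Q ≤ S → Q ≠ ⊥ → (Q.subgroupOf S).Characteristic → IsPGroup p (F.autGroup Q)) : ∀ P : Subgroup Ω, F.Hom P = (Cfsg.innerFusionSystem S).Hom P := by
  refine hom_eq_inner_iff.2 (aux p _ hS F hF hp (fun Q hQ hQ1 hi => h Q hQ hQ1 ?_) rfl)
  refine Subgroup.characteristic_iff_le_comap.2 fun α x hx => ?_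
  have := hi α x hx
  rwa [totA_coe] at this

end Cfsg.Agent.S5195
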