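import Mathlib
import Cfsg.Statements.S5210
import Cfsg.Agent.U4F.Main
import Cfsg.Agent.U4X.Rz2
import Cfsg.Agent.U4X.Rz3
import Cfsg.Agent.U4F.Syl

set_option autoImplicit false
open Cfsg

namespace Cfsg.Agent.S5210


/-- Let p be a prime, K a finite field with q² elements where q = pⁿ (n ≥ 1), and S a finite p-group isomorphic to a Sylow p-subgroup of the projective special unitary group PSU₄(q) realised over K. Then every saturated fusion system F over S with no nontrivial normal subgroup (O_p(F) = 1) is realizable: it is the fusion system of a finite group on a Sylow p-subgroup. -/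
theorem result {Ω : Type*} [Group Ω] {S : Subgroup Ω} [Finite S] (p : ℕ) [Fact p.Prime] (hS : IsPGroup p S) (F : Cfsg.FusionSystem S) (hF : F.IsSaturated p) {K : Type*} [Field K] [Fintype K] [CharP K p] (n : ℕ) (hn : 1 ≤ n) (hK : Fintype.card K = (p ^ n) ^ 2) (T : Sylow p (Cfsg.PSU 4 K (p ^ n))) (e : ↥S ≃* ↥(T : Subgroup (Cfsg.PSU 4 K (p ^ n)))) (hcore : F.core = ⊥) : F.IsRealizable p := by
  have hu := Cl.uField_uConj (F := K) hK
  let _ : StarRing K :=
    { star := Cl.uConj hK
      star_involutive := hu.invol.invol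
      star_mul := fun a b => (map_mul (Cl.uConj hK) a b).trans (mul_comm _ _)
      star_add := map_add (Cl.uConj hK) }
  have : U4F.UF K := ⟨inferInstance, hu.invol.exists_ne⟩
  obtain ⟨e'⟩ := U4F.syl_equiv (K := K) hn hu.card hu.pow T
  obtain ⟨E, hi⟩ := F.exists_isIsoVia_equiv (e.trans e')
  have hE := hi.isSaturated hF hS
  have hc := hi.core_eq_bot hcore
  refine U4F.Rz.isRealizable ?_ hi
  have h2 := U4F.two_le_qq K
  rcases (by omega : U4F.qq K = 2 ∨ U4F.qq K = 3 ∨ 3 < U4F.qq K) with h | h | h
  exacts [U4F.rz2 h E hE hc, U4F.rz3 h E hE hc, U4F.rz_big h E hE hc]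

end Cfsg.Agent.S5210
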