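import Mathlib
import Cfsg.Statements.S5221
import Cfsg.Agent.Fus.Control
import Cfsg.Agent.S5195

set_option autoImplicit false
open Cfsg

namespace Cfsg.Agent.S5221

open Cfsg.Agent.Fus Cfsg.FusionSystem

/-- Let F be a sparse fusion system over a finite p-group S: a saturated fusion system, not the inner fusion system of S, whose only saturated fusion systems over S contained in it are F itself and the inner one. If p is odd, or F is S₄-free (the symmetric group of degree 4 is not involved in any model of the normalizer system of a fully normalized F-centric subgroup), then F is constrained. -/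
theorem result {Ω : Type*} [Group Ω] {S : Subgroup Ω} [Finite S] (p : ℕ) [Fact p.Prime] (hS : IsPGroup p S) (F : Cfsg.FusionSystem S) (hF : F.IsSaturated p) (hsp : ¬ (∀ P : Subgroup Ω, F.Hom P = (Cfsg.innerFusionSystem S).Hom P) ∧ ∀ E : Cfsg.FusionSystem S, E.IsSaturated p → E.IsSubsystemOf F → (∀ P : Subgroup Ω, E.Hom P = F.Hom P) ∨ (∀ P : Subgroup Ω, E.Hom P = (Cfsg.innerFusionSystem S).Hom P)) (hp : p ≠ 2 ∨ F.IsSectionFree p (Equiv.Perm (Fin 4))) : F.IsConstrained p := by
  obtain ⟨hne, hsp⟩ := hsp
  rw [hom_eq_inner_iff] at hne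
  have key : ∀ V ≤ S, S ≤ Subgroup.normalizer (V : Set Ω) → ¬ V ≤ F.core →
      F.NLe V (innerFusionSystem S) := fun V hV hn h => by
    obtain ⟨N, hN⟩ := F.exists_isKNormalizer (T := S) hV ⊤
      (by rw [preAut_top, normalizerIn_eq_of_le hn])
    rcases hsp N (hN.isSaturated hF hS (hF.kFull_top hS
      (F.isFullyNormalized_of_le_normalizer hV hn))) hN.isSubsystemOf with h1 | h1
    · exact absurd (isNormal_of_sub hN fun P => (h1 P).ge).le_core h
    · exact hN.nLe_iff.2 fun P => (h1 P).le
  have hQ := F.isNormal_core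
  refine ⟨hF, F.core, hQ, hQ.isCentric ?_⟩
  by_contra hc
  by_cases h0 : F.core = ⊥
  · refine hne (S5195.eq_inner_of_char p hS F hF hp fun C hC1 hC =>
      key _ (Subgroup.map_subtype_le _) ?_ fun h => hC1 ?_)
    · have := (invA_map_of_characteristic (F.autGroup S) C).le_normalizer le_rfl
      rwa [normalizerIn_self] at this
    · rwa [h0, le_bot_iff, Subgroup.map_eq_bot_iff_of_injective _ S.subtype_injective] at h
  have hcr : F.Crit (innerFusionSystem S) F.core := by
    have e := normalizerIn_eq_of_le hQ.le_normalizer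
    refine ⟨h0, F.isFullyNormalized_of_le_normalizer hQ.le hQ.le_normalizer,
      fun h => hne (sub_inner_iff.1 (hQ.nLe_iff.1 h)), fun V _ _ h => ?_, fun V hV h h' => ?_⟩
    · rw [e] at h
      exact absurd (Subgroup.card_le_of_le normalizerIn_le) (not_le.2 h)
    · rw [e] at h
      refine key V hV ((Subgroup.eq_of_le_of_card_ge normalizerIn_le h).ge.trans
        normalizerIn_le_normalizer) fun h1 => ?_
      have := finite_of_le hQ.le
      exact absurd (Subgroup.card_le_of_le h1) (not_le.2 h')
  obtain ⟨D, G, _, _, θ, E, H', hq⟩ := hcr.exists_quotCase hF hS hQ.le_normalizer hc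
  have h1 := S5195.eq_inner_of_char p hq.isPGroup E hq.satE
    (hp.imp_right fun h => hq.sectionFree h hF hS) fun C hC1 hC => by
      have : (C.map (⊤ : Subgroup G).subtype).Normal :=
        Subgroup.Normal.map inferInstance _ fun x => ⟨⟨x, trivial⟩, rfl⟩
      exact (hq.nLe fun e => hC1 ((Subgroup.map_eq_bot_iff_of_injective _
        (⊤ : Subgroup G).subtype_injective).1 e)).trans hq.sub_inner
  exact hq.top_ne_bot (hq.eq_bot_of_normal (h1 ▸ isNormal_top_inner))

end Cfsg.Agent.S5221
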