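import Mathlib
import Cfsg.Statements.S5225
import Cfsg.Agent.Fus.Yoshida
import Cfsg.Agent.S1952

set_option autoImplicit false
open Cfsg

namespace Cfsg.Agent.S5225

open Cfsg.Agent.Fus Cfsg.FusionSystem
open scoped commutatorElement

/-- Yoshida's Theorem for fusion systems. Let F be a saturated fusion system over a finite p-group S and N the normalizer fusion system of S in F. If the focal subgroups of F and N differ (N does not control transfer in F), then S has a quotient isomorphic to the wreath product C_p ≀ C_p (realised as a Sylow p-subgroup of the symmetric group of degree p²). -/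
theorem result {Ω : Type*} [Group Ω] {S : Subgroup Ω} [Finite S] (p : ℕ) [Fact p.Prime] (hS : IsPGroup p S) (F : Cfsg.FusionSystem S) (hF : F.IsSaturated p) (N : Cfsg.FusionSystem (Cfsg.FusionSystem.normalizerIn S S)) (hN : F.IsNormalizerSystem S N) (hne : N.focalSubgroup ≠ F.focalSubgroup) : ∃ (W : Sylow p (Equiv.Perm (Fin (p ^ 2)))) (f : ↥S →* ↥(W : Subgroup (Equiv.Perm (Fin (p ^ 2))))), Function.Surjective f := by
  obtain ⟨M, hi, x, hx, y, hy, h⟩ := hF.exists_norm_notMem_frattini hS (K := N.focalSubgroup)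
    (fun f hf x hx => by
      have : N.Mor S f := by
        refine mor_of_mem (φ := hf.mulOn.hom) ?_ fun _ => rfl
        rw [hN, mem_normalizerHom_iff (f := f) fun _ => rfl, normalizerIn_self, sup_idem]
        exact ⟨le_rfl, fun x hx => hf.mem hx, f, hf, fun _ _ => rfl, hf.iso_top.img_eq⟩
      exact this.mem_focal hx)
    fun h => hne (le_antisymm (IsSubsystemOf.focal_le fun P φ hφ => (hN P ▸ hφ).1) h)
  have hMn := GT.PG.normal_of_index_prime hS hi
  have hMp : IsPGroup p M := hS.to_subgroup M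
  set K := (frattini M).map M.subtype with hK
  have hKn : K.Normal := inferInstance
  have hKM : K ≤ M := Subgroup.map_subtype_le _
  have hMn' : (M.map (QuotientGroup.mk' K)).Normal := hMn.map _ (QuotientGroup.mk'_surjective K)
  refine (S1952.result (hS.to_quotient K) (M.map (QuotientGroup.mk' K))
    (p := p) ⟨⟨⟨?_⟩⟩, ?_⟩ ?_ x y ⟨x, hx, rfl⟩ ?_ ?_).imp fun W ⟨f, hf⟩ =>
      ⟨f.comp (QuotientGroup.mk' K), hf.comp (QuotientGroup.mk'_surjective K)⟩
  · rintro ⟨_, a, ha, rfl⟩ ⟨_, b, hb, rfl⟩
    refine Subtype.ext (QuotientGroup.eq.2 ⟨⁅(⟨b, hb⟩ : M)⁻¹, (⟨a, ha⟩ : M)⁻¹⁆,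
      GT.PG.commutator_le_frattini hMp (Subgroup.commutator_mem_commutator
        (Subgroup.mem_top _) (Subgroup.mem_top _)), ?_⟩)
    simp [commutatorElement_def, mul_assoc]
  · rintro _ ⟨a, ha, rfl⟩
    rw [← map_pow, QuotientGroup.mk'_apply, QuotientGroup.eq_one_iff]
    exact ⟨⟨a, ha⟩ ^ p, GT.PG.pow_mem_frattini hMp _, rfl⟩
  · rw [Subgroup.index_map_eq _ (QuotientGroup.mk'_surjective K) (by rwa [QuotientGroup.ker_mk'])]
    exact hi
  · rintro ⟨a, ha, e⟩
    have := M.mul_mem ha (hKM (QuotientGroup.eq.1 e))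
    exact hy (by simpa using this)
  · intro e
    refine h ((QuotientGroup.eq_one_iff _).1 ?_)
    rw [← e, ← QuotientGroup.mk'_apply, map_list_prod, List.map_map]
    rfl

end Cfsg.Agent.S5225
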