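import Cfsg.Statements.S5233
import Mathlib
import Cfsg.Agent.Fus.CommP
import Cfsg.Agent.Fus.EssSmall
import Cfsg.Agent.Fus.AbInv

set_option autoImplicit false
open Cfsg

namespace Cfsg.Agent.S5233

open Cfsg.FusionSystem Cfsg.Agent.Fus Cfsg.Agent.GT Subgroup
open scoped commutatorElement


variable {Ω : Type*} [Group Ω] {S P : Subgroup Ω} {p : ℕ} [Fact p.Prime] [Finite S]
  {F : FusionSystem S}

omit [Finite S] in
theorem gen {Z : Subgroup Ω} (hZ : Nat.card Z = p) {z : Ω} (hz : z ∈ Z) (h1 : z ≠ 1) :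
    zpowers z = Z := by
  have := PG.sup_zpowers_eq_of_relIndex_prime Fact.out bot_le (by rw [relIndex_bot_left, hZ]) hz
    (fun e => h1 (mem_bot.1 e))
  rwa [bot_sup_eq] at this

omit [Finite S] in
/-- A map sending an element outside `P'` into `P'` has elementary abelian source. -/
theorem elem (hP : F.StronglyClosed P) (hZ : Nat.card (⁅P, P⁆ : Subgroup Ω) = p)
    (hpow : ∀ x ∈ P, x ^ p ∈ ⁅P, P⁆) {C : Subgroup Ω} {ψ : Ω → Ω} (hψ : F.Mor C ψ) (hC : C ≤ P)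
    (hZC : ⁅P, P⁆ ≤ C) {b : Ω} (hb : b ∈ C) (hbZ : b ∉ ⁅P, P⁆) (hψb : ψ b ∈ ⁅P, P⁆) :
    (∀ z ∈ ⁅P, P⁆, ψ z ∈ ⁅P, P⁆ → z = 1) ∧ (∀ x ∈ C, ∀ y ∈ C, x * y = y * x) ∧
      ∀ x ∈ C, x ^ p = 1 := by
  have : Finite (⁅P, P⁆ : Subgroup Ω) := Nat.finite_of_card_ne_zero (hZ ▸ (Fact.out : p.Prime).ne_zero)
  have h1 : ∀ z ∈ ⁅P, P⁆, ψ z ∈ ⁅P, P⁆ → z = 1 := fun z hz h => by
    by_contra hz1
    have h2 := ((hψ.mono hZC).iso_self fun y hy => by
      obtain ⟨i, rfl⟩ := (gen hZ hz hz1).ge hy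
      rw [hψ.map_zpow (hZC hz)]
      exact zpow_mem h i).img_eq
    exact hbZ ((hψ.mem_img_iff hZC hb).1 (h2.symm ▸ hψb))
  refine ⟨h1, fun x hx y hy => commutatorElement_eq_one_iff_mul_comm.1
    (h1 _ (commutator_mem_commutator (hC hx) (hC hy)) ?_), fun x hx => h1 _ (hpow x (hC hx)) ?_⟩
  · rw [hψ.mulOn.map_commutatorElement hx hy]
    exact commutator_mem_commutator (hP.mem hψ hx (hC hx)) (hP.mem hψ hy (hC hy))
  · rw [hψ.map_pow hx]
    exact hpow _ (hP.mem hψ hx (hC hx))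

theorem ext (hF : F.IsSaturated p) (hS : IsPGroup p S) (hP : F.StronglyClosed P)
    (hZ : Nat.card (⁅P, P⁆ : Subgroup Ω) = p) (hZS : ⁅P, P⁆ ≤ centralizerIn S S)
    {R : Subgroup Ω} {g : Ω → Ω} (hg : F.Mor R g) {b : Ω} (hb : b ∈ R) (hb1 : b ≠ 1)
    (hgb : g b ∈ ⁅P, P⁆) : ∃ ψ, F.Mor (P ⊓ centralizer {b}) ψ ∧ ψ b = g b := by
  have hm := hg.mono (zpowers_le.2 hb)
  have h1 : img g (zpowers b) = ⁅P, P⁆ := by
    rw [← gen hZ hgb (mt (hg.eq_one_iff hb).1 hb1)]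
    ext y
    rw [hm.mem_img le_rfl]
    constructor
    · rintro ⟨_, ⟨i, rfl⟩, rfl⟩
      exact ⟨i, (hg.map_zpow hb i).symm⟩
    · rintro ⟨i, rfl⟩
      exact ⟨_, ⟨i, rfl⟩, hg.map_zpow hb i⟩
  obtain ⟨ψ, hψ, e⟩ := hF.extend_centralizerIn hS (F.isFullyCentralized_of_le_centralizer
    (hZS.trans centralizerIn_le) (le_centralizer_iff.1 (hZS.trans inf_le_right)))
    (hm.iso_of_img_eq h1)
  refine ⟨ψ, hψ.mono (fun x hx => mem_sup_right (mem_centralizerIn.2 ⟨hP.le hx.1, ?_⟩)),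
    e b (mem_zpowers b)⟩
  rintro _ ⟨i, rfl⟩
  exact (Commute.zpow_right (mem_centralizer_singleton_iff.1 hx.2) i).symm

theorem main (hF : F.IsSaturated p) (hS : IsPGroup p S) (hP : F.StronglyClosed P)
    (hZ : Nat.card (⁅P, P⁆ : Subgroup Ω) = p) (hpow : ∀ x ∈ P, x ^ p ∈ ⁅P, P⁆)
    (hn : ¬ F.IsNormal P) : ∃ P₀ A : Subgroup Ω, P₀ ≤ P ∧ Nat.card P₀ = p ^ 3 ∧
      ¬ IsMulCommutative P₀ ∧ IsElementaryAbelian p A ∧ A ≤ P ∧ Nonempty (P ≃* P₀ × A) ∧
      (∃ b ∈ P₀, b ^ p = 1 ∧ ∃ s ∈ P₀, s * b ≠ b * s) ∧ (p ≠ 2 → ∀ x ∈ P₀, x ^ p = 1) := by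
  have hp1 : p.Prime := Fact.out
  have hfP := finite_of_le hP.le
  have hPp := hS.to_le hP.le
  set Z := (⁅P, P⁆ : Subgroup Ω) with hZdef
  have hZP : Z ≤ P := commutator_le_self P
  have hZS : Z ≤ centralizerIn S S := le_inf (hZP.trans hP.le) (le_centralizer_iff.1
    (le_centralizer_of_card_eq_prime hZ hS (PG.le_normalizer_of_forall_map_le fun s hs => by
      rw [hZdef, map_commutator]
      have := PG.map_conj_le_of_mem_normalizer (hP.le_normalizer hs)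
      exact commutator_mono this this)))
  have hcz : ∀ z ∈ Z, ∀ x ∈ P, x * z = z * x := fun z hz x hx =>
    (mem_centralizerIn.1 (hZS hz)).2 x (hP.le hx)
  have hna : ¬ IsMulCommutative P := fun h => by
    rw [hZdef, commutator_self_eq_bot_iff.2 h, card_bot] at hZ
    exact hp1.one_lt.ne hZ
  have hZC : ∀ b ∈ P, Z ≤ P ⊓ centralizer {b} := fun b hb z hz =>
    ⟨hZP hz, mem_centralizer_singleton_iff.2 (hcz z hz b hb).symm⟩
  have K : ∀ {R g b}, F.Mor R g → b ∈ R → b ∉ Z → g b ∈ Z → b ∈ P ∧ b ∉ centralizerIn P P ∧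
      ∃ ψ, F.Mor (P ⊓ centralizer {b}) ψ ∧ ψ b ∈ Z ∧ (∀ z ∈ Z, ψ z ∈ Z → z = 1) ∧
      IsElementaryAbelian p (P ⊓ centralizer {b} : Subgroup Ω) := by
    intro R g b hg hb hbZ hgb
    have hbP : b ∈ P := (hP.mem_iff hg hb).1 (hZP hgb)
    obtain ⟨ψ, hψ, e⟩ := ext hF hS hP hZ hZS hg hb (fun e => hbZ (e ▸ one_mem _)) hgb
    obtain ⟨h1, h2, h3⟩ := elem hP hZ hpow hψ inf_le_left (hZC b hbP)
      ⟨hbP, mem_centralizer_singleton_iff.2 rfl⟩ hbZ (e ▸ hgb)
    refine ⟨hbP, fun h4 => hna (PG.isMulCommutative_iff_forall.2 fun x hx y hy => ?_), ψ, hψ,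
      e ▸ hgb, h1, PG.isMulCommutative_iff_forall.2 h2, h3⟩
    exact h2 x ⟨hx, mem_centralizer_singleton_iff.2 ((mem_centralizerIn.1 h4).2 x hx)⟩
      y ⟨hy, mem_centralizer_singleton_iff.2 ((mem_centralizerIn.1 h4).2 y hy)⟩
  obtain ⟨R, g, b, hg, hb, hbZ, hgb⟩ : ∃ R g b, F.Mor R g ∧ b ∈ R ∧ b ∉ Z ∧ g b ∈ Z := by
    by_contra h
    push Not at h
    have hsc : F.StronglyClosed Z := stronglyClosed_iff.2 ⟨hZP.trans hP.le, fun R f hf x hx hxZ => by
      obtain ⟨g, hg, e, -⟩ := hf.inv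
      by_contra h1
      exact h _ g (f x) hg.mor (mem_img_of_mem hx) h1 (by rwa [e x hx])⟩
    let C : ℕ → Subgroup Ω := fun i => if i = 0 then P else if i = 1 then Z else ⊥
    refine hn (hF.isNormal_of_chain hS C 2 rfl rfl (fun i hi => ?_) (fun i hi => ?_) fun i hi => ?_)
    · interval_cases i
      exacts [hZP, bot_le]
    · interval_cases i
      exacts [hP, hsc, F.stronglyClosed_bot]
    · interval_cases i
      · exact fun s hs x hx => conj_comm_mem_commutator hx hs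
      · intro s hs x hx
        change _ ∈ ⊥
        rw [hcz x hx s hs, mem_bot]; group
  obtain ⟨hbP, hbC, ψ, hψ, hψb, hψZ, hel⟩ := K hg hb hbZ hgb
  set C := P ⊓ centralizer {b} with hCdef
  have hbC' : b ∈ C := ⟨hbP, mem_centralizer_singleton_iff.2 rfl⟩
  have hcC := PG.isMulCommutative_iff_forall.1 hel.1
  obtain ⟨s, hs, hsb⟩ : ∃ s ∈ P, s * b ≠ b * s := by
    by_contra h
    push Not at h
    exact hbC (mem_centralizerIn.2 ⟨hbP, h⟩)
  have hsC : s ∉ C := fun h => hsb (mem_centralizer_singleton_iff.1 h.2)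
  have hnC : P ≤ normalizer (C : Set Ω) := le_normalizer_of_comm_le le_rfl (hZC b hbP) inf_le_left
  have hPC : P = C ⊔ zpowers s := by
    refine le_antisymm (fun x hx => ?_) (sup_le inf_le_left (zpowers_le.2 hs))
    have hm : MulOn P fun x => ⁅x, b⁆ := fun x hx y hy => by
      beta_reduce
      rw [commutatorElement_mul_left_eq_conj_mul, hcz _ (commutator_mem_commutator hy hbP) x hx,
        mul_inv_cancel_right,
        hcz _ (commutator_mem_commutator hy hbP) _ (hZP (commutator_mem_commutator hx hbP))]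
    obtain ⟨i, hi⟩ := (gen hZ (commutator_mem_commutator hs hbP)
      (mt commutatorElement_eq_one_iff_mul_comm.1 hsb)).ge (commutator_mem_commutator hx hbP)
    have h1 := hm.map_mul hx (inv_mem (zpow_mem hs i))
    rw [hm.map_inv (zpow_mem hs i), hm.map_zpow hs] at h1
    beta_reduce at h1 hi
    rw [hi, mul_inv_cancel, commutatorElement_eq_one_iff_mul_comm] at h1
    have := mul_mem (mem_sup_left ⟨P.mul_mem hx (P.inv_mem (zpow_mem hs i)),
      mem_centralizer_singleton_iff.2 h1⟩ : _ ∈ C ⊔ zpowers s)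
      (mem_sup_right (zpow_mem (mem_zpowers s) i))
    rwa [inv_mul_cancel_right] at this
  have hi : C.relIndex P = p := by
    have := PG.relIndex_sup_zpowers hp1 (hnC hs) hsC (hZC b hbP (hpow s hs))
    rwa [← hPC] at this
  have hA : AbIdx p P C := ⟨hPp, inf_le_left, hcC, hi, hna⟩
  have hCb : centralizerIn P P ⊔ zpowers b = C := by
    refine PG.sup_zpowers_eq_of_relIndex_prime hp1 hA.center_le ?_ hbC' hbC
    rw [hA.relIndex_center hs hsC le_rfl, ← hZ]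
    congr 2
    ext y; rw [(hA.mulOn hs).mem_img, hZdef, hA.mem_commutator_iff hs hsC]
  have hZZ : Z ≤ centralizerIn P P := fun z hz => mem_centralizerIn.2 ⟨hZP hz, hcz z hz⟩
  obtain ⟨A, hA1, -, hA2, hA3⟩ := (invA_center (⊥ : Subgroup (MulAut P))).exists_compl
    (p := p) (by simp) (hel.mono hA.center_le) hZZ ⟨hZP, fun α hα x hx => by
      rwa [mem_bot.1 hα, totA_one (hZP hx)]⟩
  have hL : Z ⊔ zpowers b ≤ C := sup_le (hZC b hbP) (zpowers_le.2 hbC')
  have hnL : P ≤ normalizer ((Z ⊔ zpowers b : Subgroup Ω) : Set Ω) :=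
    le_normalizer_of_comm_le le_rfl le_sup_left (hL.trans inf_le_left)
  have hnZ : P ≤ normalizer (Z : Set Ω) := le_normalizer_of_comm_le le_rfl le_rfl hZP
  have hP₀ : Z ⊔ zpowers b ⊔ zpowers s ≤ P := sup_le (hL.trans inf_le_left) (zpowers_le.2 hs)
  have hb₀ : b ∈ Z ⊔ zpowers b ⊔ zpowers s := mem_sup_left (mem_sup_right (mem_zpowers b))
  have hs₀ : s ∈ Z ⊔ zpowers b ⊔ zpowers s := mem_sup_right (mem_zpowers s)
  refine ⟨Z ⊔ zpowers b ⊔ zpowers s, A, hP₀, ?_,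
    fun h => hsb (PG.isMulCommutative_iff_forall.1 h s hs₀ b hb₀), hel.mono (hA1.trans hA.center_le),
    hA1.trans centralizerIn_le, ?_, ⟨b, hb₀, hel.2 b hbC', s, hs₀, hsb⟩, fun hp => ?_⟩
  · rw [PG.card_sup_zpowers hp1 (hnL hs) (fun h => hsC (hL h)) (mem_sup_left (hpow s hs)),
      PG.card_sup_zpowers hp1 (hnZ hbP) hbZ (hpow b hbP), hZ]
    ring
  · have e : Z ⊔ zpowers b ⊔ zpowers s ⊔ A = P := by
      refine le_antisymm (sup_le hP₀ (hA1.trans centralizerIn_le)) (hPC.le.trans ?_)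
      rw [← hCb, ← hA3]
      exact sup_le (sup_le (sup_le (le_sup_left.trans (le_sup_left.trans le_sup_left)) le_sup_right)
        (le_sup_right.trans (le_sup_left.trans le_sup_left))) (le_sup_right.trans le_sup_left)
    obtain ⟨e'⟩ := nonempty_sup_equiv_prod (M := Z ⊔ zpowers b ⊔ zpowers s) (L := A)
      (hA1.trans (inf_le_right.trans (centralizer_le hP₀))) (le_bot_iff.1 fun x hx => hA2.le
      ⟨mem_of_mem_sup_zpowers (hnZ hbP) (hpow b hbP) hZZ hbC (mem_of_mem_sup_zpowers (hnL hs)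
        (mem_sup_left (hpow s hs)) hL hsC hx.1 (hA.center_le (hA1 hx.2))) (hA1 hx.2), hx.2⟩)
    exact ⟨(MulEquiv.subgroupCongr e.symm).trans e'⟩
  -- the odd case
  set a := b⁻¹ * (s * b * s⁻¹) with ha
  have haZ : a ∈ Z := conj_comm_mem_commutator hbP hs
  have ha1 : a ≠ 1 := fun e => hsb (by
    rw [ha, inv_mul_eq_one, eq_mul_inv_iff_mul_eq] at e; exact e.symm)
  have hgen := gen hZ haZ ha1
  have haC := hZC b hbP haZ
  have hmul : ∀ x ∈ P, ∀ y ∈ P, (x * y) ^ p = x ^ p * y ^ p := fun x hx y hy =>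
    mul_pow_of_commutator_le hp (hZZ haZ) (hel.2 a haC) hgen.ge hx hy
  have hdec : ∀ x ∈ P, ∃ c ∈ C, ∃ i : ℤ, c * s ^ i = x ∧ x ^ p = (s ^ p) ^ i := fun x hx => by
    obtain ⟨c, hc, i, rfl⟩ := (PG.mem_sup_zpowers_of_mem_normalizer (hnC hs)).1 (hPC.le hx)
    refine ⟨c, hc, i, rfl, ?_⟩
    rw [hmul c hc.1 _ (zpow_mem hs i), hel.2 c hc, one_mul, ← zpow_natCast, ← zpow_mul, mul_comm,
      zpow_mul, zpow_natCast]
  suffices h : s ^ p = 1 by
    intro x hx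
    obtain ⟨c, -, i, -, e⟩ := hdec x (hP₀ hx)
    rw [e, h, one_zpow]
  by_contra hsp
  have hΩ : ∀ x ∈ P, x ^ p = 1 → x ∈ C := fun x hx h => by
    obtain ⟨c, hc, i, rfl, e⟩ := hdec x hx
    rw [e, ← orderOf_dvd_iff_zpow_eq_one,
      orderOf_eq_prime (hel.2 _ (hZC b hbP (hpow s hs))) hsp] at h
    obtain ⟨j, rfl⟩ := h
    rw [zpow_mul, zpow_natCast]
    exact mul_mem hc (zpow_mem (hZC b hbP (hpow s hs)) j)
  have hCS : C ≤ S := inf_le_left.trans hP.le
  have hfC := finite_of_le hCS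
  have hmaps : ∀ f, F.Mor C f → ∀ x ∈ C, f x ∈ C := fun f hf x hx =>
    hΩ _ (hP.mem hf hx hx.1) (by rw [← hf.map_pow hx, hel.2 x hx, hf.map_one])
  have hSn : S ≤ normalizer (C : Set Ω) := PG.le_normalizer_of_forall_map_le fun t ht => by
    rintro _ ⟨x, hx, rfl⟩
    exact hmaps _ (F.mor_conj hCS ht) x hx
  obtain ⟨γ, hγ, eγ⟩ := (hψ.iso_self (hmaps ψ hψ)).exists_aut
  have hn0 : C ≤ normalizer ((⊥ : Subgroup Ω) : Set Ω) := by rw [normalizer_eq_top]; exact le_top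
  set u := cAut C s with hu
  have huA : u ∈ F.autGroup C := F.cAut_mem_autGroup hCS ⟨hP.le hs, hnC hs⟩
  have hub : totA u b = b * a := by rw [hu, totA_cAut (hnC hs) hbC', ha]; group
  have huZ : ∀ z ∈ centralizerIn P P, totA u z = z := fun z hz => by
    rw [hu, totA_cAut (hnC hs) (hA.center_le hz), (mem_centralizerIn.1 hz).2 s hs]; group
  have hax : axis u ⊥ hn0 ≤ centralizerIn P P := fun x hx => hA.mem_center hs hsC hx.1 (by
    have := mem_bot.1 hx.2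
    rw [hu, totA_cAut (hnC hs) hx.1, inv_mul_eq_one, eq_mul_inv_iff_mul_eq] at this
    exact this.symm)
  set v := γ⁻¹ * u * γ⁻¹⁻¹ with hv
  have hvA : v ∈ F.autGroup C := mul_mem (mul_mem (inv_mem hγ) huA) (inv_mem (inv_mem hγ))
  have hI := invA_bot (F.autGroup C)
  have hvax : ∀ x ∈ C, x ∈ axis v ⊥ hn0 ↔ totA γ x ∈ axis u ⊥ hn0 := fun x hx => by
    rw [← hI.totA_mem_axis_iff (inv_mem hγ) (totA_mem γ hx), totA_inv_totA γ hx]
  have hb1 : b ≠ 1 := fun e => hbZ (e ▸ one_mem _)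
  have hvtv : ∀ x ∈ C, x⁻¹ * totA v x ∈ ⊥ ⊔ zpowers b := fun x hx => by
    have h1 : (totA γ x)⁻¹ * totA u (totA γ x) ∈ Z := by
      rw [hu, totA_cAut (hnC hs) (totA_mem γ hx)]
      exact conj_comm_mem_commutator (totA_mem γ hx).1 hs
    obtain ⟨i, hi⟩ := (gen hZ hψb (mt (hψ.eq_one_iff hbC').1 hb1)).ge h1
    have h2 := totA_conj_comm γ⁻¹ u (totA_mem γ hx)
    beta_reduce at hi
    rw [totA_inv_totA γ hx, ← hi, ← eγ b hbC', ← (mulOn_totA γ).map_zpow hbC',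
      totA_inv_totA γ (zpow_mem hbC' i)] at h2
    exact mem_sup_right (h2 ▸ zpow_mem (mem_zpowers b) i)
  have hbv : b ∈ axis v ⊥ hn0 := (hvax b hbC').2 ⟨totA_mem γ hbC', by
    rw [huZ _ (hZZ (eγ b hbC' ▸ hψb)), inv_mul_cancel]; exact one_mem _⟩
  have hav : a ∉ axis v ⊥ hn0 := fun h => by
    obtain ⟨g', hg', e', -⟩ := hψ.inv
    exact (K hg'.mor (mem_img_of_mem haC) (fun h1 => ha1 (hψZ a haZ h1))
      (by rwa [e' a haC])).2.1 (eγ a haC ▸ hax ((hvax a haC).1 h))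
  obtain ⟨k, hk⟩ : ∃ k : ℕ, (a⁻¹ * totA v a) ^ k = b⁻¹ := by
    have h1 := hvtv a haC
    rw [bot_sup_eq] at h1
    have h2 := inv_mem (zpowers_le_of_mem (hel.2 b hbC') h1 fun e => hav ⟨haC, mem_bot.2 e⟩)
    rwa [← (isOfFinOrder_iff_pow_eq_one.2 ⟨p, hp1.pos, hel.2 _ (zpowers_le.2 hbC' h1)⟩
      ).mem_powers_iff_mem_zpowers] at h2
  have hva : totA (v ^ k) a = a * b⁻¹ := by
    have h1 := totA_pow_mod (hn := hn0) hI hvA haC (sup_le bot_le (zpowers_le.2 hbv) (hvtv a haC)) k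
    rw [hk, mem_bot, inv_mul_eq_one] at h1
    exact h1.symm
  have hvfix : ∀ y ∈ axis v ⊥ hn0, totA (v ^ k) y = y := fun y hy =>
    totA_pow_fix hy.1 (inv_mul_eq_one.1 (mem_bot.1 hy.2)).symm k
  have hua := huZ a (hZZ haZ)
  set w := u * v ^ k * u with hw
  have hwa : totA w a = b⁻¹ := by
    rw [hw, totA_mul _ _ haC, hua, totA_mul _ _ haC, hva, (mulOn_totA u).map_mul haC (inv_mem hbC'),
      (mulOn_totA u).map_inv hbC', hua, hub]
    group
  have hwb : totA w b = a := by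
    rw [hw, totA_mul _ _ hbC', hub, totA_mul _ _ (mul_mem hbC' haC),
      (mulOn_totA _).map_mul hbC' haC, hvfix b hbv, hva, hcC a haC _ (inv_mem hbC'),
      mul_inv_cancel_left, hua]
  have hta : totA (w * w) a = a⁻¹ := by
    rw [totA_mul _ _ haC, hwa, (mulOn_totA w).map_inv hbC', hwb]
  have htb : totA (w * w) b = b⁻¹ := by rw [totA_mul _ _ hbC', hwb, hwa]
  have hwA : w ∈ F.autGroup C := mul_mem (mul_mem huA (pow_mem hvA k)) huA
  have hcomm : ∀ x ∈ C, totA (w * w) (totA u x) = totA u (totA (w * w) x) := by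
    have m1 : MulOn C fun x => totA (w * w) (totA u x) :=
      (mulOn_totA (w * w * u)).congr fun x hx => totA_mul _ _ hx
    have m2 : MulOn C fun x => totA u (totA (w * w) x) :=
      (mulOn_totA (u * (w * w))).congr fun x hx => totA_mul _ _ hx
    refine fun x hx => (m1.mono hCb.le).eqOn_sup (m2.mono hCb.le) (fun z hz => ?_) ?_ x (hCb.ge hx)
    · obtain ⟨j, hj⟩ := exists_mul_pow_mem_axis (commutator_self_eq_bot_iff.2 hel.1).le bot_le hbC'
        (mem_bot.2 (hel.2 b hbC')) hvtv haC hav (hA.center_le hz)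
      have h1 := mul_mem hz (pow_mem (hZZ haZ) j)
      have h2 : totA w (z * a ^ j) = z * a ^ j := by
        rw [hw, totA_mul _ _ hj.1, huZ _ h1, totA_mul _ _ hj.1, hvfix _ hj, huZ _ h1]
      have h3 : totA (w * w) (z * a ^ j) = z * a ^ j := by rw [totA_mul _ _ hj.1, h2, h2]
      rw [(mulOn_totA _).map_mul (hA.center_le hz) (pow_mem haC j), (mulOn_totA _).map_pow haC,
        hta, ← eq_mul_inv_iff_mul_eq] at h3
      beta_reduce
      rw [huZ z hz, huZ _ (h3 ▸ mul_mem h1 (inv_mem (pow_mem (inv_mem (hZZ haZ)) j)))]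
    · rintro _ ⟨i, rfl⟩
      have e1 := m1.map_zpow hbC' i
      have e2 := m2.map_zpow hbC' i
      beta_reduce at e1 e2 ⊢
      rw [e1, e2]
      rw [hub, (mulOn_totA _).map_mul hbC' haC, hta, htb, (mulOn_totA u).map_inv hbC', hub,
        mul_inv_rev b a, hcC _ (inv_mem haC) _ (inv_mem hbC')]
  have hiso := iso_totA hCS (mul_mem hwA hwA)
  obtain ⟨β, hβ, eβ⟩ := (hF.receptive_of_fullyNormalized hS
    (F.isFullyNormalized_of_le_normalizer hCS hSn)).extend hiso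
  have hsN : s ∈ extN S C (totA (w * w)) := mem_extN.2 ⟨hP.le hs, hnC hs, s, hP.le hs, fun x hx => by
    rw [← totA_cAut (hnC hs) hx, ← totA_cAut (hnC hs) (totA_mem _ hx)]
    exact hcomm x hx⟩
  have hβs := hP.mem hβ hsN hs
  have h1 : s⁻¹ * β s ∈ C := by
    refine ⟨P.mul_mem (P.inv_mem hs) hβs, mem_centralizer_singleton_iff.2 ?_⟩
    have h2 := hβ.map_conj hsN (hiso.mor.le_extN hbC')
    rw [eβ b hbC', eβ _ ((mem_normalizer_iff.1 (hnC hs) b).1 hbC'), ← totA_cAut (hnC hs) hbC',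
      hcomm b hbC', totA_cAut (hnC hs) (totA_mem _ hbC'), htb] at h2
    calc s⁻¹ * β s * b = s⁻¹ * (β s * b⁻¹ * (β s)⁻¹)⁻¹ * β s := by group
      _ = b * (s⁻¹ * β s) := by rw [← h2]; group
  have h2 := hmul s hs _ h1.1
  rw [mul_inv_cancel_left, hel.2 _ h1, mul_one, ← hβ.map_pow hsN, eβ _ (hZC b hbP (hpow s hs))] at h2
  obtain ⟨i, hi⟩ := hgen.ge (hpow s hs)
  beta_reduce at hi
  refine hsp (eq_one_of_eq_inv hp hS (pow_mem (hP.le hs) p) ?_)
  rw [← hi, (mulOn_totA _).map_zpow haC, hta, inv_zpow, hi] at h2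
  exact h2.symm


/-- Let F be a saturated fusion system over a finite p-group S and P a subgroup of S strongly closed in F that is generalized extraspecial (its Frattini subgroup equals its commutator subgroup and has order p) and not isomorphic to E × A with A elementary abelian and E dihedral of order 8 (p = 2) or extraspecial of order p³ and exponent p (p odd). Then P is normal in F. -/
theorem result {Ω : Type*} [Group Ω] {S : Subgroup Ω} [Finite S] (p : ℕ) [Fact p.Prime] (hS : IsPGroup p S) (F : Cfsg.FusionSystem S) (hF : F.IsSaturated p) (P : Subgroup Ω) (hP : F.StronglyClosed P) (hge : frattini ↥P = commutator ↥P ∧ Nat.card ↥(commutator ↥P) = p) (h2 : p = 2 → ¬ ∃ (A : Type) (_ : CommGroup A), (∀ a : A, a ^ 2 = 1) ∧ Nonempty (↥P ≃* DihedralGroup 4 × A)) (hodd : p ≠ 2 → ¬ ∃ (E : Type) (_ : Group E) (A : Type) (_ : CommGroup A), Cfsg.IsExtraspecial p E ∧ Nat.card E = p ^ 3 ∧ Monoid.exponent E = p ∧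 (∀ a : A, a ^ p = 1) ∧ Nonempty (↥P ≃* E × A)) : F.IsNormal P := by
  have hp1 : p.Prime := Fact.out
  have hfP := finite_of_le hP.le
  by_contra hn
  obtain ⟨P₀, A, h1, h3, h4, h5, h6, ⟨e⟩, ⟨b, hb, hbp, s, hs, hsb⟩, h7⟩ := main hF hS hP
    (by rw [← map_subtype_commutator, card_subtype, hge.2]) (fun x hx => by
      rw [← map_subtype_commutator, ← hge.1, map_frattini_eq (hS.to_le hP.le)]
      exact mem_sup_right (PG.pow_mem_powerClosure_one hx)) hn
  have := finite_of_le h1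
  have := finite_of_le h6
  obtain ⟨n, hn⟩ := IsPGroup.iff_card.1 (hS.to_le (h6.trans hP.le))
  obtain ⟨eA⟩ := PG.nonempty_mulEquiv_pi_zmod h5.1 (fun x => Subtype.ext (h5.2 x x.2)) hn
  have hA : ∀ a : Multiplicative (Fin n → ZMod p), a ^ p = 1 := fun a => by
    rw [← eA.apply_symm_apply a, ← map_pow, map_eq_one_iff _ eA.injective]
    exact Subtype.ext (h5.2 _ (eA.symm a).2)
  by_cases hp : p = 2
  · subst hp
    obtain ⟨u, v, hm⟩ := dihedral_or_quaternion_of_card_eight h4 h3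
    rcases hm.cases with ⟨⟨e'⟩⟩ | ⟨⟨e'⟩⟩ | h8
    · exact h2 rfl ⟨_, inferInstance, hA, ⟨e.trans (e'.prodCongr eA)⟩⟩
    · have h8 : ∀ y z : QuaternionGroup (2 ^ 1), y ^ 2 = 1 → z * y = y * z := by decide
      have h9 := h8 (e' ⟨b, hb⟩) (e' ⟨s, hs⟩) (by
        rw [← map_pow, map_eq_one_iff _ e'.injective]
        exact Subtype.ext hbp)
      rw [← map_mul, ← map_mul, e'.apply_eq_iff_eq, Subtype.ext_iff] at h9
      exact hsb h9
    · omega
  · let e' : Shrink.{0} P₀ ≃* P₀ := Shrink.mulEquiv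
    refine hodd hp ⟨Shrink.{0} P₀, inferInstance, _, inferInstance,
      (isExtraspecial_of_card_cube h3 h4).of_mulEquiv e'.symm,
      (Nat.card_congr e'.toEquiv).trans h3, ?_, hA, ⟨e.trans (e'.symm.prodCongr eA)⟩⟩
    rw [Monoid.exponent_eq_of_mulEquiv e']
    have : Nontrivial P₀ := ⟨⟨⟨b, hb⟩, ⟨s, hs⟩, fun e => hsb (by rw [show b = s from Subtype.ext_iff.1 e])⟩⟩
    exact (Monoid.exponent_eq_prime_iff hp1).2 fun g hg =>
      orderOf_eq_prime (Subtype.ext (h7 hp g g.2)) hg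

end Cfsg.Agent.S5233
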