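import Mathlib
import Cfsg.Statements.S5236
import Cfsg.Agent.Fus.EssLocal

set_option autoImplicit false
set_option linter.unusedVariables false
open Cfsg

namespace Cfsg.Agent.S5236

open Cfsg.FusionSystem Cfsg.Agent.Fus Subgroup
open scoped commutatorElement

/-- Let p be an odd prime, F a saturated fusion system over a finite p-group S and P a subgroup of S strongly closed in F. Then P is normal in F if and only if Ω₁(P) (the subgroup generated by the elements of order p of P) has a chain of subgroups 1 = Q₀ ≤ Q₁ ≤ ⋯ ≤ Qₙ = Ω₁(P), each strongly closed in F, with [Qᵢ₊₁, P] ≤ Qᵢ for all i. -/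
theorem result {Ω : Type*} [Group Ω] {S : Subgroup Ω} [Finite S] (p : ℕ) [Fact p.Prime] (hS : IsPGroup p S) (F : Cfsg.FusionSystem S) (hF : F.IsSaturated p) (hp : p ≠ 2) (P : Subgroup Ω) (hP : F.StronglyClosed P) : F.IsNormal P ↔ ∃ (n : ℕ) (Q : Fin (n + 1) → Subgroup Ω), Q 0 = ⊥ ∧ Q (Fin.last n) = Cfsg.omegaOne p P ∧ Monotone Q ∧ (∀ i : Fin (n + 1), F.StronglyClosed (Q i)) ∧ ∀ i : Fin n, ⁅Q i.succ, P⁆ ≤ Q i.castSucc := by
  have := finite_of_le hP.le
  have hΩ : omegaOne p P ≤ P := (invA_top (⊥ : Subgroup (MulAut P))).omegaOne p |>.le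
  constructor
  · intro h
    have := (hS.to_le h.le).isNilpotent
    refine ⟨Group.nilpotencyClass P,
      fun i => omegaOne p P ⊓ (Subgroup.upperCentralSeries P i).map P.subtype,
      by simp, ?_, fun i j hij =>
        inf_le_inf_left _ (Subgroup.map_mono (Subgroup.upperCentralSeries_mono _ hij)),
      fun i => ?_, fun i => ?_⟩
    · simp only [Fin.val_last]
      rw [Subgroup.upperCentralSeries_nilpotencyClass, ← MonoidHom.range_eq_map,
        Subgroup.range_subtype, inf_eq_left.2 hΩ]
    · refine (h.of_invariant (inf_le_left.trans hΩ) fun g hg x hx => ?_).stronglyClosed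
      exact (((invA_top _).omegaOne p).inf
        (invA_map_of_characteristic (F.autGroup P) _)).iso_mem hg hx
    · rw [Subgroup.commutator_le]
      intro x hx s hs
      refine ⟨?_, (mem_map_upperCentralSeries_succ.1 hx.2).2 s hs⟩
      have := ((invA_top (F.autGroup P)).omegaOne p).conj_mem hP.le
        (le_normalizerIn hP.le hs) (Subgroup.inv_mem _ hx.1)
      rw [commutatorElement_def]
      simpa [mul_assoc] using mul_mem hx.1 this
  · rintro ⟨n, Q, h0, hl, hmono, hsc, hc⟩
    refine hF.isNormal_of_le_essential hS hP fun R hR => ?_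
    have := finite_of_le hR.le
    refine le_of_normalizerIn_le hS hR.le hP.le (hR.le.trans hP.le_normalizer) fun s hs => ?_
    have hsR : ∀ x ∈ R, x⁻¹ * (s * x * s⁻¹) ∈ R := fun x hx =>
      R.mul_mem (R.inv_mem hx) (conj_mem_of_mem_normalizerIn hs hx)
    let C : ℕ → Subgroup Ω := fun j => R ⊓ Q ⟨n - j, by omega⟩
    have hI : ∀ j, InvA (F.autGroup R) (C j) := fun j => (hsc _).invA' hR.le
    have hRP := hP.invA' hR.le
    have hR' := hS.to_le hR.le
    refine (hR.isRadical hS).mem_of_normal hR.isCentric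
      (K := chainStab R C n ⊓ secStab R R (R ⊓ P)) ?_ (fun l hl α hα => ⟨conj_mem_chainStab hα.1
        fun i _ => (hI i).le_stabA hl, conj_mem_secStab hα.2 ((invA_top _).le_stabA hl)
          (hRP.le_stabA hl)⟩) (normalizerIn_mono hP.le hs) ⟨?_, ?_⟩
    · rw [inf_assoc]
      refine isPGroup_chainStab_inf hR' ((hI 0).anti inf_le_right) fun α hα hco h => ?_
      have hA := coprime_card_zpowers hco
      have hz : zpowers α ≤ F.autGroup R := zpowers_le.2 hα.2
      have h1 : R ⊓ P ≤ fixA (zpowers α) := by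
        refine (hRP.anti hz).le_fixA_of_odd hp hR' hA fun x hx hxp => ?_
        have hx' : x ∈ C 0 := ⟨hx.1, by
          change x ∈ Q (Fin.last n)
          rw [hl]; exact subset_closure ⟨hx.2, hxp⟩⟩
        have := (h x hx').2
        simp only [Nat.sub_self] at this
        change _ ∈ Q 0 at this
        rw [h0, mem_bot, inv_mul_eq_one] at this
        exact mem_fixA_zpowers.2 ⟨hx.1, this.symm⟩
      have h2 := (invA_top (zpowers α)).le_fixA_of_commA_le_fixA hR' hA
        ((commA_le_of_le_secStab (zpowers_le.2 hα.1)).trans h1)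
      exact zpowers_eq_bot.1 (eq_bot_of_le_fixA h2)
    · refine mem_chainStab_of inf_le_left
        (fun i hi => inf_le_inf_left _ (hmono (by simp [Fin.le_def]; omega))) fun i hi x hx => ?_
      rw [totA_cAut hs.2 hx.1]
      refine ⟨hsR x hx.1, ?_⟩
      have hx' : x ∈ Q (Fin.succ ⟨n - (i + 1), by omega⟩) := by
        refine hmono ?_ hx.2
        simp [Fin.le_def]; omega
      rw [comm_mem_iff_conj]
      exact hc _ (commutator_mem_commutator (Subgroup.inv_mem _ hx') hs.1)
    · refine mem_secStab_of le_rfl inf_le_left fun x hx => ?_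
      rw [totA_cAut hs.2 hx]
      refine ⟨hsR x hx, ?_⟩
      have := hP.conj_mem (S.inv_mem (hR.le hx)) hs.1
      simpa [mul_assoc] using P.mul_mem this (P.inv_mem hs.1)

end Cfsg.Agent.S5236
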