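import Mathlib
import Cfsg.Statements.S5234
import Cfsg.Agent.Fus.Rank2
import Cfsg.Agent.S5236
import Cfsg.Agent.S0638

set_option autoImplicit false
set_option linter.unusedVariables false
open Cfsg

namespace Cfsg.Agent.S5234

open Cfsg.FusionSystem Cfsg.Agent.Fus Subgroup Cfsg.Agent.GT.PG
open scoped commutatorElement

section
variable {Ω : Type*} [Group Ω] {S P V : Subgroup Ω} [Finite S] {p : ℕ} [Fact p.Prime]
  {F : Cfsg.FusionSystem S}

theorem not_inv (hS : IsPGroup p S) (hF : F.IsSaturated p) (hp : p ≠ 2) (hP : F.StronglyClosed P)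
    (hV : ∀ x, x ∈ V ↔ x ∈ P ∧ x ^ p = 1) (hVsc : F.StronglyClosed V) {t : MulAut V}
    (ht : t ∈ F.autGroup V) (hti : ∀ x, t x = x⁻¹) {y : Ω} (hy : y ∈ P) :
    y ∈ centralizer (V : Set Ω) := by
  have hVS := hVsc.le
  have hcen : ∀ a : MulAut V, t * a * t⁻¹ = a := fun a => by
    rw [mul_inv_eq_iff_eq_mul]
    exact MulEquiv.ext fun x => by rw [MulAut.mul_apply, MulAut.mul_apply, hti, hti, map_inv]
  have h2 : t ^ 2 = 1 := MulEquiv.ext fun x => by rw [sq, MulAut.mul_apply, hti, hti, inv_inv]; rfl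
  have hp2 : Nat.Coprime 2 p := (Nat.coprime_primes Nat.prime_two Fact.out).2 hp.symm
  obtain ⟨β, hβ, hβc, hβt⟩ := (hF.receptive_of_fullyNormalized hS
    (F.isFullyNormalized_of_le_normalizer hVS hVsc.le_normalizer)).extend_normalizerIn_coprime ht
    (hp2.coprime_dvd_left (orderOf_dvd_of_pow_eq_one h2)) fun a ha => by rwa [hcen]
  have hN : normalizerIn S V = S := normalizerIn_eq_of_le hVsc.le_normalizer
  generalize normalizerIn S V = N at *
  subst hN
  have hI : InvA (F.autGroup N) P := by simpa [inf_eq_left.2 hP.le] using hP.invA le_rfl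
  have hIV : InvA (F.autGroup N) V := by simpa [inf_eq_left.2 hVS] using hVsc.invA le_rfl
  have hz := zpowers_le.2 hβ
  have hsec : β ∈ secStab N P (P ⊓ centralizer (V : Set Ω)) := by
    refine mem_secStab_of hP.le inf_le_left fun x hx => ⟨P.mul_mem (P.inv_mem hx) (hI.mem hβ hx), ?_⟩
    have hxn := hVsc.le_normalizer (hP.le hx)
    obtain ⟨h1, h3⟩ := (mor_totA le_rfl hβ).aut_mul_cAut hVS (α := t) (fun x hx => (hβt x hx).symm)
      (hP.le hx) hxn
    rw [hcen] at h3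
    exact (cAut_eq_cAut_iff h1 hxn).1 h3.symm
  obtain ⟨c, hc, hyc⟩ := ((hI.inf_centralizer hIV).anti hz).exists_fixed hS
    (coprime_card_zpowers hβc) (hP.le hy) fun α hα => (zpowers_le.2 hsec hα).2 y hy (hP.le hy)
  have hcP : c ∈ P := by simpa using P.mul_mem hy hyc.1
  by_cases hc1 : c = 1
  · rw [hc1, mul_one] at hyc
    simpa using Subgroup.inv_mem _ hyc.2
  obtain ⟨d, hd, hd1, hdp⟩ := exists_mem_ne_one_pow_eq_one
    ((hS.to_le hP.le).to_le (zpowers_le.2 hcP)) (by rwa [Ne, zpowers_eq_bot])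
  have hdV : d ∈ V := (hV d).2 ⟨zpowers_le.2 hcP hd, hdp⟩
  have h3 := (zpowers_le.2 hc hd).2 β (mem_zpowers β)
  rw [hβt d hdV, totA_apply _ hdV, hti, coe_inv, inv_eq_iff_mul_eq_one, ← sq] at h3
  exact absurd (orderOf_eq_one_iff.1 (Nat.eq_one_of_dvd_coprimes hp2
    (orderOf_dvd_of_pow_eq_one h3) (orderOf_dvd_of_pow_eq_one hdp))) hd1

theorem closed_zpowers (hS : IsPGroup p S) (hF : F.IsSaturated p) (hp : p ≠ 2)
    (hP : F.StronglyClosed P) (hV : ∀ x, x ∈ V ↔ x ∈ P ∧ x ^ p = 1) (hVsc : F.StronglyClosed V)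
    (hsq : ElemSq p V) {a : Ω} (ha : a ∈ V) (hac : S ≤ centralizer (zpowers a : Set Ω)) {y : Ω}
    (hy : y ∈ P) (hyV : y ∉ centralizer (V : Set Ω)) : F.StronglyClosed (zpowers a) := by
  have hVS := hVsc.le
  have := finite_of_le hVS
  have haV := zpowers_le.2 ha
  refine stronglyClosed_iff.2 ⟨haV.trans hVS, fun Q f hf x hxQ hx => by_contra fun hfx => hyV ?_⟩
  have hxV := haV hx
  have hx1 : x ≠ 1 := by rintro rfl; exact hfx (by rw [hf.map_one]; exact one_mem _)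
  have hxa := zpowers_le.2 hx
  obtain ⟨g, hg, hg1, -⟩ := (hf.mono (zpowers_le.2 hxQ)).inv
  obtain ⟨k, hk, hkg⟩ := hF.extend_centralizerIn hS (F.isFullyCentralized_of_le_centralizer
    (hxa.trans (haV.trans hVS)) (hac.trans (centralizer_le hxa))) hg
  have hb := hVsc.mem hf hxQ hxV
  have hle : img f (zpowers x) ≤ V := hVsc.img_le (hf.mono (zpowers_le.2 hxQ)) (zpowers_le.2 hxV)
  have hVc : V ≤ img f (zpowers x) ⊔ centralizerIn S (img f (zpowers x)) := fun v hv =>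
    mem_sup_right (mem_centralizerIn.2 ⟨hVS hv, fun w hw =>
      congrArg Subtype.val (hsq.comm ⟨w, hle hw⟩ ⟨v, hv⟩)⟩)
  obtain ⟨ψ, hψ, hψk⟩ := (hVsc.iso_self (hk.mono hVc)).exists_aut
  have e1 : ψ ⟨f x, hb⟩ = ⟨x, hxV⟩ := Subtype.ext (by
    rw [← totA_apply, hψk _ hb, hkg _ (mem_img_of_mem (mem_zpowers x)), hg1 x (mem_zpowers x)])
  have hyn : y ∈ normalizerIn S V := ⟨hP.le hy, hVsc.le_normalizer (hP.le hy)⟩
  have hu : ∃ k, cAut V y ^ p ^ k = 1 :=
    exists_pow_pow_eq_one_of_mem (isPGroup_autInducedBy hS V) (cAut_mem_autInducedBy hyn)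
  by_contra hyV
  have hu1 : cAut V y ≠ 1 := fun e => hyV ((cAut_eq_one_iff hyn.2).1 e)
  have e2 : cAut V y ⟨x, hxV⟩ = ⟨x, hxV⟩ := Subtype.ext (by
    rw [coe_cAut hyn.2]; exact conj_eq_of_mem_centralizer (hac hyn.1) hx)
  have hab : (⟨f x, hb⟩ : V) ∉ zpowers ⟨x, hxV⟩ :=
    fun ⟨i, hi⟩ => hfx (hxa ⟨i, congrArg Subtype.val hi⟩)
  obtain ⟨φ, -, h2, h3⟩ := hsq.exists_sl2_of_pair hu hu1 (conj_pow_eq_one ψ⁻¹ hu)
    (v := ψ⁻¹ * cAut V y * ψ⁻¹⁻¹) (fun e => hu1 (conj_eq_one_iff.1 e))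
    (a := ⟨x, hxV⟩) (b := ⟨f x, hb⟩) (fun e => hx1 (congrArg Subtype.val e)) e2
    (by rw [inv_inv, MulAut.mul_apply, MulAut.mul_apply, e1, e2, ← e1, MulAut.inv_apply_self])
    hab
  let _ : CommGroup V := { (inferInstance : Group V) with mul_comm := hsq.comm }
  have e : φ (-1) = MulEquiv.inv V := ElemSq.mulAut_ext
    (hsq.sup_eq_top (fun e => hx1 (congrArg Subtype.val e)) hab)
    (by rw [(h3 _).1]; simp [pow_val_neg_one (hsq.pow _)])
    (by rw [(h3 _).2]; simp [pow_val_neg_one (hsq.pow _)])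
  have hu' := F.cAut_mem_autGroup hVS hyn
  refine hyV (not_inv hS hF hp hP hV hVsc (t := φ (-1)) ((closure_le (F.autGroup V)).2 ?_
    (h2.le ⟨_, rfl⟩)) (fun x => by rw [e]; rfl) hy)
  rintro _ (rfl | rfl)
  exacts [hu', mul_mem (mul_mem (Subgroup.inv_mem _ hψ) hu') (Subgroup.inv_mem _ (Subgroup.inv_mem _ hψ))]

end

/-- Let p be an odd prime, F a saturated fusion system over a finite p-group S and P a metacyclic subgroup of S strongly closed in F. Then P is normal in F. -/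
theorem result {Ω : Type*} [Group Ω] {S : Subgroup Ω} [Finite S] (p : ℕ) [Fact p.Prime] (hS : IsPGroup p S) (F : Cfsg.FusionSystem S) (hF : F.IsSaturated p) (P : Subgroup Ω) (hP : F.StronglyClosed P) (hp : p ≠ 2) (hm : Cfsg.IsMetacyclic ↥P) : F.IsNormal P := by
  have := finite_of_le hP.le
  have hPp := hS.to_le hP.le
  by_cases hc : IsCyclic P
  · exact hF.isNormal_of_comm hS hP (isMulCommutative_iff_forall.1 inferInstance)
  obtain ⟨h1, h2⟩ := S0638.result hp hPp hm hc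
  have h3 := h1.map P.subtype
  rw [map_subtype_omegaOne_top] at h3
  rw [card_omegaOne_top] at h2
  have hV : ∀ x, x ∈ omegaOne p P ↔ x ∈ P ∧ x ^ p = 1 := fun x =>
    ⟨fun hx => ⟨omegaOne_le P hx, h3.2 x hx⟩, fun hx => mem_omegaOne hx.1 hx.2⟩
  have hsq : ElemSq p (omegaOne p P) := ⟨fun x y => Subtype.ext (h3.comm x.2 y.2),
    fun x => Subtype.ext (h3.2 x x.2), h2⟩
  refine (S5236.result p hS F hF hp P hP).2 ?_
  generalize omegaOne p P = V at *
  have hVsc : F.StronglyClosed V := stronglyClosed_iff.2 ⟨fun x hx => hP.le ((hV x).1 hx).1,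
    fun Q f hf x hxQ hx => (hV _).2 ⟨hP.mem hf hxQ ((hV x).1 hx).1, by
      rw [← hf.map_pow hxQ, ((hV x).1 hx).2, hf.map_one]⟩⟩
  have := finite_of_le hVsc.le
  by_cases hPV : P ≤ centralizer (V : Set Ω)
  · refine ⟨1, ![⊥, V], rfl, rfl, Fin.monotone_iff_le_succ.2 fun i => ?_, fun i => ?_, fun i => ?_⟩
    · fin_cases i; exact bot_le
    · fin_cases i; exacts [F.stronglyClosed_bot, hVsc]
    · fin_cases i
      exact (commutator_eq_bot_iff_le_centralizer.2 (le_centralizer_iff.1 hPV)).le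
  obtain ⟨y, hy, hyV⟩ := SetLike.not_le_iff_exists.1 hPV
  have hB := isPGroup_autInducedBy hS V
  have hn : ∀ s ∈ S, s ∈ normalizerIn S V := fun s hs => ⟨hs, hVsc.le_normalizer hs⟩
  obtain ⟨a, ha, ha1, -, -, hac⟩ := (invA_top (autInducedBy S V)).exists_step (hS.to_le hVsc.le) hB
    (invA_bot _) (bot_lt_iff_ne_bot.2 fun e => hyV fun v hv => by rw [e] at hv; simp [mem_bot.1 hv])
  have hac' : ∀ s ∈ S, s * a * s⁻¹ = a := fun s hs => by
    have := hac _ (cAut_mem_autInducedBy (hn s hs))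
    rw [totA_cAut (hn s hs).2 ha, mem_bot, inv_mul_eq_one] at this
    exact this.symm
  have hc' : S ≤ centralizer (zpowers a : Set Ω) := fun s hs => mem_centralizer_of_conj_eq (by
    rintro _ ⟨i, rfl⟩; rw [← conj_zpow, hac' s hs])
  refine ⟨2, ![⊥, zpowers a, V], rfl, rfl, Fin.monotone_iff_le_succ.2 fun i => ?_, fun i => ?_,
    fun i => ?_⟩
  · fin_cases i; exacts [bot_le, zpowers_le.2 ha]
  · fin_cases i
    exacts [F.stronglyClosed_bot, closed_zpowers hS hF hp hP hV hVsc hsq ha hc' hy hyV, hVsc]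
  · fin_cases i
    · exact (commutator_eq_bot_iff_le_centralizer.2 (le_centralizer_iff.1 (hP.le.trans hc'))).le
    · refine commutator_le.2 fun x hx s hs => ?_
      have hs' := hn s (hP.le hs)
      obtain ⟨i, hi⟩ := hsq.comm_mem_of_fixed
        (exists_pow_pow_eq_one_of_mem hB (cAut_mem_autInducedBy hs')) (a := ⟨a, ha⟩)
        (fun e => ha1 (congrArg Subtype.val e))
        (Subtype.ext (by rw [coe_cAut hs'.2]; exact hac' s hs'.1)) ⟨x⁻¹, V.inv_mem hx⟩
      refine ⟨i, (congrArg Subtype.val hi).trans ?_⟩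
      rw [coe_mul, coe_cAut hs'.2, commutatorElement_def]
      simp [mul_assoc]

end Cfsg.Agent.S5234
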