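import Mathlib
import Cfsg.Statements.S5242
import Cfsg.Agent.Chk.Easy
import Cfsg.Agent.Chk.Fin1

set_option autoImplicit false
open Cfsg

namespace Cfsg.Agent.S5242

open Cfsg.Agent.Chk Cfsg.Agent.Fus Cfsg.FusionSystem

/-- Let F be a saturated fusion system over a finite p-group S and A a subgroup of S central in F (every map of F extends to a map fixing A elementwise). Then, for every factor system E of F by A, F is exotic (saturated, but not the fusion system of a finite group on one of its Sylow p-subgroups) if and only if E is exotic. -/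
theorem result {Ω : Type*} [Group Ω] {S : Subgroup Ω} [Finite S] (p : ℕ) [Fact p.Prime] (hS : IsPGroup p S) (F : Cfsg.FusionSystem S) (hF : F.IsSaturated p) (A : Subgroup Ω) (hA : F.IsCentral A) {Ω' : Type*} [Group Ω'] {S' : Subgroup Ω'} [Finite S'] (θ : ↥S →* Ω') (E : Cfsg.FusionSystem S') (hE : F.IsFactorSystem A θ E) : F.IsExotic p ↔ E.IsExotic p := by
  refine exotic_iff hS hF hA hE fun h => ?_
  obtain ⟨H, G, _, _, _, _, ρ, T, D, h1, h2, h3, h4, h5, h6, h7, h8, h9⟩ :=
    exists_internal hS hF hA hE h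
  have hO : Over p D ρ := by
    refine ⟨h1, h2, ⟨le_top, h4, by rwa [Subgroup.relIndex_top_right]⟩, h3, h6,
      fun P f hf a ha haP => h7.fix hf haP ha, fun P f hf => ?_, fun g P hk hP hg => ?_⟩
    · obtain ⟨f', hf', e⟩ := h8.push hf
      obtain ⟨-, -, g, hg⟩ := mor_group_iff.1 hf'
      obtain ⟨g, rfl⟩ := h1 g
      exact ⟨g, fun x hx => by rw [← e x hx, hg _ (mem_img_of_mem hx), map_mul, map_mul, map_inv]⟩
    · have hm : (groupFusionSystem (T.map ρ)).Mor (img ρ P) fun y => ρ g * y * (ρ g)⁻¹ :=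
        mor_group_conj (h8.toIsFac.img_le hP) fun y hy => by
          obtain ⟨x, hx, rfl⟩ := (h8.toIsFac.mem_img hP).1 hy
          rw [← map_inv, ← map_mul, ← map_mul]
          exact Subgroup.mem_map_of_mem _ (hg x hx)
      obtain ⟨f, hf, e⟩ := h8.toIsFac.lift hm
      rw [h8.mulOn.pre_img_of_le hP fun x hx => hk (h8.mulOn.mem_pre_bot.1 hx).2] at hf e
      exact ⟨f, hf, fun x hx => by rw [← e x hx, map_mul, map_mul, map_inv]⟩
  obtain ⟨j, hj, e⟩ := main_in hO
  exact h9 (isRealizable_of_top h4 hj (e.symm ▸ h5))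

end Cfsg.Agent.S5242
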