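import Mathlib
import Cfsg.Statements.S5260
import Cfsg.Agent.Fus.SpTwoD
import Cfsg.Agent.Cl.SpOrder

set_option autoImplicit false
open Cfsg

namespace Cfsg.Agent.S5260

open Cfsg.FusionSystem Cfsg.Agent.Fus

open Matrix SU in
/-- The unipotent group inside the symplectic group. -/
def emb (K : Type*) [Field K] : U4 K →* symplecticGroup (Fin 2) K :=
  MonoidHom.mk' (fun x => ⟨fromBlocks !![1, x.t; 0, 1] !![x.c - x.t * x.b, x.b; x.b - x.t * x.a, x.a]
    0 !![1, 0; -x.t, 1], by
      rw [SymplecticGroup.mem_iff, J, fromBlocks_transpose, fromBlocks_multiply, fromBlocks_multiply,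
        fromBlocks_inj]
      refine ⟨?_, ?_, ?_, ?_⟩ <;> ext i j <;> fin_cases i <;> fin_cases j <;>
        simp [vecMul, dotProduct, Fin.sum_univ_two] <;> ring⟩) fun x y => Subtype.ext (by
    change fromBlocks _ _ _ _ = fromBlocks _ _ _ _ * fromBlocks _ _ _ _
    rw [fromBlocks_multiply, fromBlocks_inj]
    refine ⟨?_, ?_, ?_, ?_⟩ <;> ext i j <;> fin_cases i <;> fin_cases j <;>
      simp [mul_apply, Fin.sum_univ_two] <;> ring)

theorem emb_inj (K : Type*) [Field K] : Function.Injective (emb K) :=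
  (injective_iff_map_eq_one _).2 fun x hx => by
    have h := fun i j => congrFun (congrFun (congrArg Subtype.val hx) i) j
    have h1 : x.t = 0 := by simpa [emb] using h (.inl 0) (.inl 1)
    have h2 : x.b = 0 := by simpa [emb] using h (.inl 0) (.inr 1)
    exact SU.U4.ext h1 (by simpa [emb] using h (.inl 1) (.inr 1)) h2
      (by simpa [emb, h1] using h (.inl 0) (.inr 0))

open SU in
/-- In characteristic two. -/
noncomputable def two (K : Type*) [Field K] [Finite K] [CharP K 2] :
    U4 K ≃* U2 (frobeniusEquiv K 2) where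
  toFun x := ⟨x.t, x.a, x.b, x.c⟩
  invFun x := ⟨x.t, x.a, x.b, x.c⟩
  left_inv _ := rfl
  right_inv _ := rfl
  map_mul' x y := by ext <;> simp [frobenius_def, CharTwo.two_eq_zero]

/-- Let p be a prime, K a finite field of characteristic p, and S a finite p-group isomorphic to a Sylow p-subgroup of the symplectic group Sp₄(K). Then every exotic fusion system F over S (saturated but not the fusion system of a finite group on a Sylow p-subgroup) has no nontrivial normal subgroup: O_p(F) = 1. -/
theorem result {Ω : Type*} [Group Ω] {S : Subgroup Ω} [Finite S] (p : ℕ) [Fact p.Prime] (hS : IsPGroup p S) (F : Cfsg.FusionSystem S) (hF : F.IsSaturated p) {K : Type*} [Field K] [Fintype K] [CharP K p] (T : Sylow p ↥(Matrix.symplecticGroup (Fin 2) K)) (e : ↥S ≃* ↥(T : Subgroup ↥(Matrix.symplecticGroup (Fin 2) K))) (hex : F.IsExotic p) : F.core = ⊥ := by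
  by_contra h0
  obtain ⟨n, -, hn⟩ := FiniteField.card K p
  have hp : p.Prime := Fact.out
  have hc : Nat.card (emb K).range = p ^ (n * 4 : ℕ) := by
    rw [← Nat.card_congr (MonoidHom.ofInjective (emb_inj K)).toEquiv,
      Nat.card_congr SU.U4.equivProd]
    simp only [Nat.card_eq_fintype_card, Fintype.card_prod, hn]; ring
  have hi : ¬ p ∣ (emb K).range.index := by
    have h1 := (emb K).range.card_mul_index
    rw [hc, Cl.sp_card_std, Nat.card_eq_fintype_card, hn, ← pow_mul] at h1
    rw [Nat.eq_of_mul_eq_mul_left (pow_pos hp.pos _) h1, hp.prime.dvd_finsetProd_iff]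
    rintro ⟨i, -, h⟩
    have h2 : p ∣ (p ^ (n : ℕ)) ^ (2 * (i + 1)) := dvd_pow (dvd_pow_self p n.ne_zero) (by omega)
    exact hp.one_lt.ne' (Nat.dvd_one.1 ((Nat.dvd_sub_iff_right
      (Nat.one_le_pow _ _ (pow_pos hp.pos _)) h2).1 h))
  let U : Sylow p (Matrix.symplecticGroup (Fin 2) K) := (IsPGroup.of_card hc).toSylow hi
  let e' : S ≃* SU.U4 K := (e.trans (T.equiv U)).trans (MonoidHom.ofInjective (emb_inj K)).symm
  have hcon : ¬ F.IsConstrained p := fun h => by
    obtain ⟨G, _, ι, h⟩ := h.exists_isModel hS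
    exact hex.2 ⟨G, inferInstance, h.1, ι, h.2.1, h.2.2.1⟩
  by_cases h2 : p = 2
  · subst h2
    obtain ⟨E, hE⟩ := F.exists_isIsoVia_equiv (e'.trans (two K))
    obtain ⟨G, _, _, h⟩ := SU.U2.real (F := E) (fun t u ht hu e => mul_left_cancel₀
      (mul_ne_zero ht hu) (by simpa [frobenius_def, sq, mul_assoc, mul_comm, mul_left_comm] using e))
      (hE.isSaturated hF hS) (fun h => h0 (hE.symm.core_eq_bot h))
      fun h => hcon (hE.symm.isConstrained SU.U2.isPGroup h)
    exact hex.2 (SU.isRealizable_of (h.of_iso hE) hS)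
  · obtain ⟨E, hE⟩ := F.exists_isIsoVia_equiv e'
    exact hcon (hE.symm.isConstrained (hE.isPGroup hS) (SU.U4.constrained
      (fun h => h2 ((Nat.prime_dvd_prime_iff_eq hp Nat.prime_two).1
        ((CharP.cast_eq_zero_iff K p 2).1 h))) (hE.isPGroup hS) (hE.isSaturated hF hS)
      fun h => h0 (hE.symm.core_eq_bot h)))

end Cfsg.Agent.S5260
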