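import Mathlib
import Cfsg.Statements.S5264
import Cfsg.Agent.Fus.R3CB
import Cfsg.Agent.Fus.ToTop

set_option autoImplicit false
open Cfsg

namespace Cfsg.Agent.S5264

open Subgroup Cfsg.Agent.GT Cfsg.Agent.Fus Cfsg.Agent.Fus.R3
open Cfsg.FusionSystem hiding inv_mem
open scoped commutatorElement

theorem center_inv {G : Type*} [Group G] [Finite G] {p : ℕ} [hp : Fact p.Prime]
    {F : FusionSystem (⊤ : Subgroup G)} (h5 : Nat.card G = p ^ 5) (hF : F.IsSaturated p)
    {R : Subgroup G} (hR : F.IsEssential p R) (hn : ¬ IsMulCommutative R) :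
    InvA (F.autGroup R) (centralizerIn ⊤ ⊤) := by
  have hG : IsPGroup p G := .of_card h5
  have hT := hG.to_subgroup ⊤
  have h1 : centralizerIn ⊤ ⊤ ≤ centralizerIn R R := fun z hz =>
    ⟨hR.mem_of_comm trivial fun x _ => hz.2 x trivial, fun x _ => hz.2 x trivial⟩
  rcases h1.eq_or_lt with e | h1
  · exact e ▸ invA_center _
  have h0 : Nat.card (centralizerIn (⊤ : Subgroup G) ⊤) ≠ 1 := fun e => by
    have : Nontrivial G := Finite.one_lt_card_iff_nontrivial.1
      (h5 ▸ Nat.one_lt_pow (by norm_num) hp.out.one_lt)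
    obtain ⟨z, -, hz, hz1, -⟩ := PG.exists_mem_center_of_normal hG ⊤ top_ne_bot
    exact hz1 (mem_bot.1 ((eq_bot_of_card_eq _ e).le
      ⟨trivial, fun g _ => mem_center_iff.1 hz g⟩))
  obtain ⟨i, hi⟩ := PG.card_eq_pow_of_isPGroup (hG.to_subgroup (centralizerIn ⊤ ⊤))
  obtain ⟨j, hj⟩ := PG.card_eq_pow_of_isPGroup (hG.to_subgroup (centralizerIn R R))
  obtain ⟨k, hk⟩ := PG.card_eq_pow_of_isPGroup (hG.to_subgroup R)
  have h2 := PG.card_lt_of_lt h1
  have h3 := card_center_le (hG.to_subgroup R) hn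
  have h4 := PG.card_lt_of_lt (hF.lt_of_isEssential hT hR)
  rw [hi, hj, Nat.pow_lt_pow_iff_right hp.out.one_lt] at h2
  rw [hj, hk, ← pow_add, Nat.pow_le_pow_iff_right hp.out.one_lt] at h3
  rw [hk, card_top_eq h5, Nat.pow_lt_pow_iff_right hp.out.one_lt] at h4
  have : i ≠ 0 := fun e => h0 (by rw [hi, e, pow_zero])
  obtain rfl : k = 4 := by omega
  obtain rfl : j = 2 := by omega
  obtain rfl : i = 1 := by omega
  have := normal_of_card hG h5 hk
  have h6 := (card_comm_iff hk).2 hj
  have h7 : ⁅R, R⁆ ≤ centralizerIn ⊤ ⊤ := fun z hz => ⟨trivial, fun g _ => mem_center_iff.1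
    (PG.le_center_of_normal_card_prime hG _ (h6.trans (pow_one p)) hz) g⟩
  rw [← PG.eq_of_le_of_card_le h7 (by rw [hi, h6])]
  exact (invA_top _).commutator (invA_top _)

theorem main {G : Type*} [Group G] [Finite G] {p : ℕ} [hp : Fact p.Prime]
    {F : FusionSystem (⊤ : Subgroup G)} (h5 : Nat.card G = p ^ 5) (hF : F.IsSaturated p)
    (h2 : p ≠ 2) (h7 : p ≠ 7) (hc : F.core = ⊥) (hfoc : F.focalSubgroup = ⊤)
    (NA : ∀ B : Subgroup G, IsMulCommutative B → Nat.card B ≤ p ^ 3) : False := by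
  have hG : IsPGroup p G := .of_card h5
  have hT := hG.to_subgroup ⊤
  have hab : ∀ R, F.IsEssential p R → IsMulCommutative R →
      Nat.card R = p ^ 2 ∨ Nat.card R = p ^ 3 := fun R hR h => by
    obtain ⟨k, hk⟩ := PG.card_eq_pow_of_isPGroup (hG.to_subgroup R)
    have h1 := sq_le_card hF hT hR
    have h3 := NA R h
    rw [hk, Nat.pow_le_pow_iff_right hp.out.one_lt] at h1 h3
    rw [hk]
    interval_cases k <;> simp
  have hch : ∀ R, F.IsEssential p R → Ch p F R := fun R hR => by
    by_cases h : IsMulCommutative R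
    · rcases hab R hR h with e | e
      · exact ch_of_comm hT (e ▸ Nat.le_mul_of_pos_right _ Nat.card_pos)
      · obtain ⟨N, M, A, Z, y, x, t, H⟩ := exists_ca hF h5 hR h e
        exact H.ch
    · have := PG.mul_card_le_of_lt hT (hF.lt_of_isEssential hT hR)
      rw [card_top_eq h5, pow_succ'] at this
      exact ch_of_nonab hT h (Nat.le_of_mul_le_mul_left this hp.out.pos)
  have key : ∀ y ∉ commutator G, (∀ σ : G ≃* G, y⁻¹ * σ y ∈ commutator G) → False :=
    fun y hy h => focal_ne_top hF hT h2 hch hy (fun f hf => by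
      obtain ⟨σ, e⟩ := exists_hom_top hf
      exact e y ▸ h σ) hfoc
  by_cases h : ∃ R, F.IsEssential p R ∧ IsMulCommutative R
  · obtain ⟨R, hR, h⟩ := h
    rcases hab R hR h with e | e
    · obtain ⟨y, hy, h⟩ := fixed_of_pearl hF h5 h2 h7 NA hR e
      exact key y hy h
    · obtain ⟨N, M, A, Z, y, x, t, H⟩ := exists_ca hF h5 hR h e
      exact key y (H.fixed hG h5 h2 NA).1 (H.fixed hG h5 h2 NA).2
  · have h1 : F.IsNormal (centralizerIn ⊤ ⊤) := hF.isNormal_of_alperin hT fun R hR => by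
      have : InvA (F.autGroup R) (centralizerIn ⊤ ⊤) := by
        rcases hR with rfl | hR
        · exact invA_center _
        · exact center_inv h5 hF hR fun k => h ⟨R, hR, k⟩
      exact ⟨this.1, fun g hg x hx => this.iso_mem hg hx⟩
    have : Nontrivial G := Finite.one_lt_card_iff_nontrivial.1
      (h5 ▸ Nat.one_lt_pow (by norm_num) hp.out.one_lt)
    obtain ⟨z, -, hz, hz1, -⟩ := PG.exists_mem_center_of_normal hG ⊤ top_ne_bot
    exact hz1 (mem_bot.1 ((h1.le_core.trans hc.le) ⟨trivial, fun g _ => mem_center_iff.1 hz g⟩))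


/-- Let p be an odd prime other than 7, S a finite p-group of order p^5, and F a saturated fusion system over S with no nontrivial normal subgroup and with hyperfocal subgroup equal to S (so F is its own p-residual subsystem). Then S has an abelian subgroup of index p. -/
theorem result {Ω : Type*} [Group Ω] {S : Subgroup Ω} [Finite S] (p : ℕ) [Fact p.Prime] (hS : IsPGroup p ↥S) (F : Cfsg.FusionSystem S) (hF : F.IsSaturated p) (hp : p ≠ 2) (hp7 : p ≠ 7) (hcard : Nat.card S = p ^ 5) (hcore : F.core = ⊥) (hhyp : F.hyperfocalSubgroup p = S) : ∃ A : Subgroup Ω, A ≤ S ∧ IsMulCommutative ↥A ∧ (A.subgroupOf S).index = p := by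
  obtain ⟨E, hE⟩ := F.exists_toTop
  by_contra hn
  refine main hcard (hE.isSaturated hF hS) hp hp7 (hE.core_eq_bot hcore) (top_le_iff.1 ?_)
    fun B hB => ?_
  · refine le_trans ?_ (E.hyperfocal_le_focal p)
    rw [IsTop.hyperfocal_eq hE, hhyp, subgroupOf_self]
  · by_contra! k
    obtain ⟨j, hj⟩ := PG.card_eq_pow_of_isPGroup (hS.to_subgroup B)
    have hp1 := (Fact.out : p.Prime).one_lt
    rw [hj, Nat.pow_lt_pow_iff_right hp1] at k
    obtain ⟨K, -, hK, cK⟩ := PG.exists_card_eq_pow_between (hS.to_subgroup B) bot_le (k := 4)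
      (by simpa using Nat.one_le_pow _ _ hp1.le) (hj ▸ Nat.pow_le_pow_right hp1.le k)
    have := PG.isMulCommutative_of_le hK hB
    refine hn ⟨K.map S.subtype, map_subtype_le K, inferInstance, ?_⟩
    rw [subgroupOf_map_subtype_self', index_eq_of_card (a := 4) (b := 1) hcard cK, pow_one]

end Cfsg.Agent.S5264
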