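import Cfsg.Statements.S5265
import Mathlib
import Cfsg.Agent.Fus.CommP
import Cfsg.Agent.Fus.EssSmall

set_option autoImplicit false
open Cfsg

namespace Cfsg.Agent.S5265

open Cfsg.FusionSystem Cfsg.Agent.Fus Cfsg.Agent.GT Subgroup
open scoped commutatorElement


/-- Let p be a prime, S a nontrivial finite p-group whose centre has index at most p², and F a saturated fusion system over S with no nontrivial normal subgroup and with hyperfocal subgroup equal to S. Then S is extraspecial of order p³; for odd p it has exponent p, and for p = 2 it is dihedral of order 8. -/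
theorem result {Ω : Type*} [Group Ω] {S : Subgroup Ω} [Finite S] (p : ℕ) [Fact p.Prime] (hS : IsPGroup p ↥S) (F : Cfsg.FusionSystem S) (hF : F.IsSaturated p) (hS1 : S ≠ ⊥) (hcore : F.core = ⊥) (hhyp : F.hyperfocalSubgroup p = S) (hZ : (Subgroup.center ↥S).index ≤ p ^ 2) : Cfsg.IsExtraspecial p ↥S ∧ Nat.card S = p ^ 3 ∧ (p ≠ 2 → Monoid.exponent ↥S = p) ∧ (p = 2 → Nonempty (↥S ≃* DihedralGroup 4)) := by
  have hp1 : p.Prime := Fact.out
  obtain ⟨E, hE⟩ := exists_essential hF hS hS1 hcore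
  have hna : ¬ IsMulCommutative S := fun h =>
    no_essential_of_comm hF hS (PG.isMulCommutative_iff_forall.1 h) E hE
  have hi : (centralizerIn S S).relIndex S = p ^ 2 := by
    have h1 : (center S).index = p ^ 2 :=
      le_antisymm hZ (Nat.le_of_dvd (Nat.pos_of_ne_zero index_ne_zero_of_finite)
        (PG.sq_dvd_index_center hS hna))
    rw [← h1, ← relIndex_map_subtype_top, PG.map_center_subtype']
    rfl
  obtain ⟨b, hb, hbZ, hbp⟩ : ∃ b ∈ S, b ∉ centralizerIn S S ∧ b ^ p ∈ centralizerIn S S := by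
    obtain ⟨x, hx, hxZ⟩ : ∃ x ∈ S, x ∉ centralizerIn S S := SetLike.not_le_iff_exists.1 fun h => by
      rw [relIndex_eq_one.2 h] at hi
      exact (Nat.one_lt_pow two_ne_zero hp1.one_lt).ne hi
    obtain ⟨k, hk⟩ := PG.exists_pow_pow_eq_one_of_mem hS hx
    obtain ⟨j, h1, h2⟩ := PG.exists_pow_notMem_pow_mem hxZ ⟨k, hk ▸ one_mem _⟩
    exact ⟨_, pow_mem hx _, h1, h2⟩
  have hA1 := PG.relIndex_sup_zpowers hp1 (le_normalizer_center hb) hbZ hbp
  have hAS : centralizerIn S S ⊔ zpowers b ≤ S := sup_le centralizerIn_le (zpowers_le.2 hb)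
  have h : AbIdx p S (centralizerIn S S ⊔ zpowers b) := by
    refine ⟨hS, hAS, fun x hx y hy => comm_of_mem_sup_zpowers (fun z hz =>
      ((mem_centralizerIn.1 hz).2 y (hAS hy)).symm) (comm_of_mem_sup_zpowers
        (fun z hz => ((mem_centralizerIn.1 hz).2 b hb).symm) rfl hy).symm hx, ?_, hna⟩
    have h1 := relIndex_mul_relIndex _ _ _ le_sup_left hAS
    rw [hA1, hi, pow_two] at h1
    exact Nat.eq_of_mul_eq_mul_left hp1.pos h1
  have hc : Nat.card (⁅S, S⁆ : Subgroup Ω) = p := by
    obtain ⟨x, hx, hxA⟩ := h.exists_notMem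
    rw [← hA1, h.relIndex_center hx hxA le_rfl]
    congr 2
    ext y; rw [(h.mulOn hx).mem_img, h.mem_commutator_iff hx hxA]
  obtain ⟨a, ha, ha1, hap⟩ := PG.exists_mem_ne_one_pow_eq_one
    (hS.to_le (h.commutator_le.trans h.le)) (fun e => by
      rw [e, card_bot] at hc; exact hp1.one_lt.ne hc)
  have hca := PG.sup_zpowers_eq_of_relIndex_prime hp1 bot_le (by rw [relIndex_bot_left, hc]) ha
    (fun e => ha1 (mem_bot.1 e))
  rw [bot_sup_eq] at hca
  have haZ : a ∈ centralizerIn S S := ⟨h.le (h.commutator_le ha), le_centralizer_iff.1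
    (le_centralizer_of_card_eq_prime hc hS
      (le_normalizer_of_comm_le le_rfl le_rfl (h.commutator_le.trans h.le))) ha⟩
  by_cases hp : p = 2
  · subst hp
    have hZ' := center_le_of_commutator_two hF hS hcore (hhyp.ge.trans (F.hyperfocal_le_focal 2))
      haZ hap ha1 hca.ge
    obtain ⟨s, hs, hsE⟩ := hE.exists_notMem hF hS
    obtain ⟨h1, c, ht⟩ := card_eq_of_center_le hF hS haZ hap hca.ge hZ' hE hs.1 hsE
    refine ⟨isExtraspecial_of_card_cube h1 hna, h1, fun h => absurd rfl h, fun _ => ?_⟩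
    obtain ⟨u, v, hm⟩ := dihedral_or_quaternion_of_card_eight hna h1
    rcases hm.cases with h2 | ⟨⟨e⟩⟩ | h2
    · exact h2
    · exfalso
      have := finite_of_le hE.le
      refine ht.sec.not_mem_secStab (mem_secStab_of le_rfl bot_le fun x hx => ?_)
      have h3 : ∀ y z : QuaternionGroup (2 ^ 1), y ^ 2 = 1 → z * y = y * z := by decide
      have h4 := h3 (e ⟨x, hE.le hx⟩) (e ⟨s, hs.1⟩) (by
        rw [← map_pow, map_eq_one_iff _ e.injective]
        exact Subtype.ext (mem_bot.1 (ht.sec.pow_mem' hx)))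
      rw [← map_mul, ← map_mul, e.apply_eq_iff_eq, Subtype.ext_iff] at h4
      rw [totA_cAut hs.2 hx, show s * x = x * s from h4, mem_bot]; group
    · omega
  · obtain ⟨h1, h2⟩ := card_cube_of_commutator hF hS hp hcore haZ hap ha1 hca.symm
    refine ⟨isExtraspecial_of_card_cube h1 hna, h1, fun _ => ?_, fun h => absurd h hp⟩
    have : Nontrivial S := (nontrivial_iff_ne_bot S).2 hS1
    exact (Monoid.exponent_eq_prime_iff hp1).2 fun g hg =>
      orderOf_eq_prime (Subtype.ext (h2 g g.2)) hg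

end Cfsg.Agent.S5265
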