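import Cfsg.Statements.S5267
import Cfsg.Agent.MxD.Main
import Cfsg.Agent.Fus.ToTop
import Cfsg.Agent.GT.PGroupExtraspecial

set_option autoImplicit false
open Cfsg

namespace Cfsg.Agent.S5267

/-- Let p be a prime and S a finite p-group of maximal class of order p^n with n ≥ 4 (nilpotency class n − 1: the term γ_{n−1}(S) of its lower central series, reached from S after n − 2 commutator steps, is nontrivial), F a saturated fusion system over S and E an F-essential subgroup. Write Γ₁ for the two-step centralizer C_S([S,S]/γ₄(S)) (the elements of S whose commutators with [S,S] lie in the fourth term γ₄(S) of the lower central series) and Z₂(S) for the second centre. Then E is a pearl — elementary abelian of order p², or extraspecial of order p³ of exponent p (p odd) or quaternion of order 8 (p = 2) — or E = Γ₁, or E = C_S(Z₂(S)). Moreover, if Γ₁ ≠ C_S(Z₂(S)) then every pearl of F is elementary abelian of order p². -/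
theorem result {Ω : Type*} [Group Ω] {S : Subgroup Ω} [Finite S] (p : ℕ) [Fact p.Prime] (hS : IsPGroup p ↥S) (n : ℕ) (hn : Nat.card S = p ^ n) (h4 : 4 ≤ n) (hmax : Subgroup.lowerCentralSeries S (n - 2) ≠ ⊥) (F : Cfsg.FusionSystem S) (hF : F.IsSaturated p) (Γ₁ : Subgroup Ω) (hΓ₁ : ∀ x : Ω, x ∈ Γ₁ ↔ x ∈ S ∧ ∀ y ∈ Subgroup.lowerCentralSeries S 1, x * y * x⁻¹ * y⁻¹ ∈ Subgroup.lowerCentralSeries S 3) : (∀ E : Subgroup Ω, F.IsEssential p E → (Nat.card ↥E = p ^ 2 ∧ Cfsg.IsElementaryAbelian p E) ∨ (Nat.card ↥E = p ^ 3 ∧ Cfsg.IsExtraspecial p ↥E ∧ (p ≠ 2 → Monoid.exponent ↥E = p) ∧ (p = 2 → Nonempty (↥E ≃* QuaternionGroup 2))) ∨ E = Γ₁ ∨ E = (S ⊓ Subgroup.centralizer (((Subgroup.upperCentralSeries ↥S 2).map S.subtype) : Set Ω))) ∧ (Γ₁ ≠ (S ⊓ Subgroup.centralizer (((Subgroup.upperCentralSeries ↥S 2).map S.subtype) : Set Ω)) → ∀ E : Subgroup Ω, F.IsEssential p E → (Nat.card ↥E = p ^ 3 ∧ Cfsg.IsExtraspecial p ↥E ∧ (p ≠ 2 → Monoid.exponent ↥E = p) ∧ (p = 2 → Nonempty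 (↥E ≃* QuaternionGroup 2))) → False) := by
  obtain ⟨m, rfl, hc, hcl⟩ := FG.MxC.nilpotencyClass_of_lcs hn (by omega) hmax
  have h1 : 1 ≤ m := by omega
  have h : MxD.MC p S m := ⟨hc, hcl, h1⟩
  obtain ⟨D, hD⟩ := F.exists_toTop
  have hD' : D.IsSaturated p := hD.isSaturated hF hS
  rw [MxE.eq_map_C_one hΓ₁, MxE.eq_map_C_last hc hcl h1]
  refine ⟨fun E hE => ?_, fun hne E hE hc3 => ?_⟩
  · have hle : E ≤ S := hE.isCentric.le
    have hE' := FusionSystem.IsTop.essential hD hE
    have e : E.subgroupOf S ≃* E := Subgroup.subgroupOfEquivOfLe hle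
    have hcard : Nat.card E = Nat.card (E.subgroupOf S) := (Nat.card_congr e.toEquiv).symm
    have hmap : (E.subgroupOf S).map S.subtype = E := Subgroup.map_subgroupOf_eq_of_le hle
    rcases h.unif_or hD' hE' with ⟨s, hs, hu⟩ | h2 | h2
    · rcases h.pearl hD' hE' hs hu with ⟨h2, h3, h4⟩ | ⟨h2, h3, h4, h5⟩
      · refine Or.inl ⟨hcard.trans h2, ⟨⟨fun a b => ?_⟩⟩, fun a ha => ?_⟩
        · have := h3.is_comm.comm (e.symm a) (e.symm b)
          simpa using congrArg e this
        · exact congrArg Subtype.val (h4 ⟨a, hle ha⟩ ha)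
      · have : Finite E := Finite.of_equiv _ e.toEquiv
        refine Or.inr (Or.inl ⟨hcard.trans h2, h3.of_mulEquiv e, fun hp => ?_, fun hp => ?_⟩)
        · rw [← Monoid.exponent_eq_of_mulEquiv e]; exact h4 hp
        · obtain ⟨f⟩ := h5 hp
          exact ⟨e.symm.trans f⟩
    · exact Or.inr (Or.inr (Or.inl (by rw [← h2, hmap])))
    · exact Or.inr (Or.inr (Or.inr (by rw [← h2, hmap])))
  · have hle : E ≤ S := hE.isCentric.le
    have hE' := FusionSystem.IsTop.essential hD hE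
    have e : E.subgroupOf S ≃* E := Subgroup.subgroupOfEquivOfLe hle
    exact h.not_cube (fun e => hne (by rw [e])) hD' hE' ((Nat.card_congr e.toEquiv).trans hc3.1)

end Cfsg.Agent.S5267
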