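import Cfsg.Statements.S5270
import Cfsg.Agent.Fus.Pearl

set_option autoImplicit false
open Cfsg

namespace Cfsg.Agent.S5270

open Cfsg.FusionSystem Cfsg.Agent.Fus Cfsg.Agent.GT Subgroup
open scoped commutatorElement


/-- Let p ≥ 5 be a prime, S a finite p-group of maximal class of order p^n with n ≥ 4, and F a saturated fusion system over S. If some map of F defined on the second centre Z₂(S) with image Z₂(S) does not carry Z(S) into itself, then the centralizer C_S(Z₂(S)) is an F-essential subgroup. -/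
theorem result {Ω : Type*} [Group Ω] {S : Subgroup Ω} [Finite S] (p : ℕ) [Fact p.Prime] (hS : IsPGroup p ↥S) (n : ℕ) (hn : Nat.card S = p ^ n) (h4 : 4 ≤ n) (hmax : Subgroup.lowerCentralSeries S (n - 2) ≠ ⊥) (F : Cfsg.FusionSystem S) (hF : F.IsSaturated p) (hp : 5 ≤ p) (φ : ↥((Subgroup.upperCentralSeries ↥S 2).map S.subtype) →* Ω) (hφ : φ ∈ F.Hom ((Subgroup.upperCentralSeries ↥S 2).map S.subtype)) (hφZ : φ.range = ((Subgroup.upperCentralSeries ↥S 2).map S.subtype)) (hmove : ∃ (z : Ω) (hz : z ∈ ((Subgroup.upperCentralSeries ↥S 2).map S.subtype)), z ∈ ((Subgroup.center ↥S).map S.subtype) ∧ φ ⟨z, hz⟩ ∉ ((Subgroup.center ↥S).map S.subtype)) : F.IsEssential p (S ⊓ Subgroup.centralizer (((Subgroup.upperCentralSeries ↥S 2).map S.subtype) : Set Ω)) := by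
  have hp1 : p.Prime := Fact.out
  obtain ⟨m, rfl, hn', hc⟩ := FG.MxC.nilpotencyClass_of_lcs hn (by omega) hmax
  obtain ⟨z, hz, hzZ, hφz⟩ := hmove
  rw [PG.map_center_subtype'] at hzZ hφz
  change z ∈ centralizerIn S S at hzZ
  change _ ∉ centralizerIn S S at hφz
  change F.IsEssential p (centralizerIn S (cent2 S))
  set C := centralizerIn S (cent2 S) with hC
  have hi : C.relIndex S = p := by
    rw [← FG.MxC.index_C hn' hc (show 1 ≤ m by omega) le_rfl, ← FG.MxC.centralizer_γ_eq hn' hc,
      ← FG.MxC.ucs_two_eq hn' hc (by omega)]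
    refine congrArg Subgroup.index (Subgroup.ext fun x => ⟨fun h y hy => Subtype.ext
      ((mem_centralizerIn.1 h).2 y ⟨y, hy, rfl⟩), fun h => mem_centralizerIn.2 ⟨x.2, ?_⟩⟩)
    rintro _ ⟨y, hy, rfl⟩
    exact congrArg Subtype.val (h y hy)
  have hCS : C < S := lt_of_le_of_ne centralizerIn_le fun e => by
    rw [e, relIndex_self] at hi
    exact hp1.one_lt.ne hi
  have hn2 : S ≤ normalizer (cent2 S : Set Ω) := by
    have := (Subgroup.upperCentralSeries S 2).le_normalizer_map S.subtype
    rwa [normalizer_eq_top, ← MonoidHom.range_eq_map, range_subtype] at this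
  have hiso : F.Iso (cent2 S) (cent2 S) (tot φ) :=
    (mor_tot hφ).iso_of_img_eq ((img_eq_range φ fun x => (tot_coe φ x).symm).trans hφZ)
  obtain ⟨g, hg, eg⟩ := hF.extend_centralizerIn hS (hF.fullyCentralized hS
    (F.isFullyNormalized_of_le_normalizer cent2_le hn2)) hiso
  have hgC : ∀ x ∈ C, g x ∈ C := fun x hx => by
    have := hg.maps_centralizerIn le_sup_left (mem_sup_right hx) hx
    rwa [(hiso.congr fun y hy => (eg y hy).symm).img_eq] at this
  obtain ⟨α, hα, eα⟩ := ((hg.mono le_sup_right).iso_self hgC).exists_aut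
  have hZC : centralizerIn S S ≤ C := centralizerIn_anti cent2_le
  refine (hF.isEssential_iff_extAut hS hCS (F.isFullyNormalized_of_le_normalizer hCS.le
    (le_normalizer_of_relIndex hS hCS.le hi))).2 fun e => hφz ?_
  have hI : InvA (F.extAut C) (centralizerIn S S) := invA_closure_aut hZC (by
    rintro β ⟨Q, k, hQ, hk, ek⟩ x hx
    obtain rfl := (PG.eq_or_eq_of_relIndex_prime hp1 hQ.le hk.le hi).resolve_left hQ.ne'
    rw [← ek x (hZC hx)]
    exact hk.iso_top.iso_center.maps x hx)
  have := hI.mem (e ▸ hα) hzZ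
  rwa [eα z (hZC hzZ), eg z hz, tot_apply φ hz] at this

end Cfsg.Agent.S5270
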