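import Mathlib
import Cfsg.Statements.S5296
import Cfsg.Agent.Fus.BGH

set_option autoImplicit false
set_option linter.unusedVariables false
universe u
open Cfsg

namespace Cfsg.Agent.S5296

open Cfsg.FusionSystem Cfsg.Agent.Fus Subgroup Cfsg.Agent.GT.PG

/-- Small-exponent abelian subgroups of the hyperfocal subgroup control fusion. Let E and F be saturated fusion systems over the same finite p-group S with E contained in F. Suppose that E and F have the same maps between A and B for all subgroups A, B of the hyperfocal subgroup of F that are elementary abelian when p is odd, respectively abelian of exponent dividing 4 when p = 2. Then E = F. -/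
theorem result {Ω : Type u} [Group Ω] {S : Subgroup Ω} [Finite S] (p : ℕ) [Fact p.Prime] (hS : IsPGroup p S)
    (E F : Cfsg.FusionSystem S) (hE : E.IsSaturated p) (hF : F.IsSaturated p) (hEF : E.IsSubsystemOf F)
    (hodd : p ≠ 2 → ∀ A B : Subgroup Ω, A ≤ (F.hyperfocalSubgroup p) → B ≤ (F.hyperfocalSubgroup p) →
      Cfsg.IsElementaryAbelian p A → Cfsg.IsElementaryAbelian p B → E.homSet A B = F.homSet A B)
    (htwo : p = 2 → ∀ A B : Subgroup Ω, A ≤ (F.hyperfocalSubgroup p) → B ≤ (F.hyperfocalSubgroup p) →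
      IsMulCommutative ↥A → IsMulCommutative ↥B → (∀ a ∈ A, a ^ 4 = 1) → (∀ b ∈ B, b ^ 4 = 1) → E.homSet A B = F.homSet A B) :
    ∀ P : Subgroup Ω, E.Hom P = F.Hom P := by
  intro P
  refine hom_eq_iff_mor.2 fun f => ⟨hEF.mor, hF.mor_of_small hE hS hEF fun A g hA hc hs hg => ?_⟩
  obtain ⟨hc', hs'⟩ := hg.small hc hs
  have hB := (hF.stronglyClosed_hyp hS).img_le hg hA
  have key : E.homSet A (img g A) = F.homSet A (img g A) := by
    by_cases h2 : p = 2
    · have h4 : ∀ x : Ω, SmallElt p x → x ^ 4 = 1 := fun x hx => hx.elim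
        (fun h => by rw [h2] at h; rw [show 4 = 2 * 2 from rfl, pow_mul, h, one_pow]) And.right
      exact htwo h2 _ _ hA hB hc hc' (fun a ha => h4 a (hs a ha)) fun a ha => h4 a (hs' a ha)
    · exact hodd h2 _ _ hA hB ⟨hc, fun a ha => (hs a ha).resolve_right fun h => h2 h.1⟩
        ⟨hc', fun a ha => (hs' a ha).resolve_right fun h => h2 h.1⟩
  have : hg.mulOn.hom ∈ E.homSet A (img g A) :=
    key ▸ ⟨hg.hom_mem, fun x => mem_img_of_mem x.2⟩
  exact mor_of_mem this.1 fun _ => rfl

end Cfsg.Agent.S5296
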