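import Mathlib
import Cfsg.Statements.S5276
import Cfsg.Agent.Fus.EssLocal
import Cfsg.Agent.S5224
import Cfsg.Agent.S5096

set_option autoImplicit false
set_option linter.unusedVariables false
open Cfsg

namespace Cfsg.Agent.S5276

open Cfsg.FusionSystem Cfsg.Agent.Fus Subgroup

/-- Let p be a prime and F a saturated fusion system over a finite p-group S. Then F is the inner fusion system of S if and only if the normalizer fusion system of S itself in F is the inner fusion system (equivalently, Aut_F(S) is induced by S) and the Frattini subgroup Φ(S) is strongly closed in F. -/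
theorem result {Ω : Type*} [Group Ω] {S : Subgroup Ω} [Finite S] (p : ℕ) [Fact p.Prime] (hS : IsPGroup p ↥S) (F : Cfsg.FusionSystem S) (hF : F.IsSaturated p) : (∀ P : Subgroup Ω, F.Hom P = (Cfsg.innerFusionSystem S).Hom P) ↔ (∀ N : Cfsg.FusionSystem (Cfsg.FusionSystem.normalizerIn S S), F.IsNormalizerSystem S N → ∀ P : Subgroup Ω, N.Hom P = (Cfsg.innerFusionSystem (Cfsg.FusionSystem.normalizerIn S S)).Hom P) ∧ F.StronglyClosed ((frattini ↥S).map S.subtype) := by
  have hΦ : InvA (F.autGroup S) ((frattini S).map S.subtype) := invA_map_of_characteristic _ _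
  constructor
  · intro h
    rw [hom_eq_inner_iff'] at h
    refine ⟨fun N hN => hom_eq_inner_iff'.2 fun P f hf => ?_, stronglyClosed_iff.2
      ⟨hΦ.le, fun P f hf x hx hx' => ?_⟩⟩
    · rw [normalizerIn_self]
      exact h P f ((ns_sub hN).mor hf)
    · obtain ⟨s, hs, e⟩ := h P f hf
      rw [e x hx]
      exact hΦ.conj_mem le_rfl ⟨hs, le_normalizer hs⟩ hx'
  rintro ⟨h1, h2⟩
  obtain ⟨N, hN⟩ := S5096.result F S le_rfl
  have h3 : ∀ g, F.Mor S g → ∃ s ∈ S, ∀ x ∈ S, g x = s * x * s⁻¹ := fun g hg => by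
    have := hom_eq_inner_iff'.1 (h1 N hN) S g
      (ns_mor_of hN hg le_rfl hg.iso_top.img_eq le_rfl normalizerIn_self.ge)
    rwa [normalizerIn_self] at this
  let π := QuotientGroup.mk' (frattini S)
  have hπ := mulOn_tot π
  have hker : pre (tot π) S ⊥ = (frattini S).map S.subtype := by
    rw [← ker_map_eq_pre, QuotientGroup.ker_mk']
  have himg : img (tot π) S = ⊤ := by
    rw [← range_eq_img_tot, MonoidHom.range_eq_top.2 (QuotientGroup.mk'_surjective _)]
  obtain ⟨E, hE⟩ := hF.exists_isQuot hS hπ himg (hker ▸ h2)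
  have hEs := hE.isSaturated hF hS
  have hE' := hE.isPGroup hS
  have hab : ∀ x ∈ (⊤ : Subgroup (S ⧸ frattini S)), ∀ y ∈ (⊤ : Subgroup (S ⧸ frattini S)),
      x * y = y * x := by
    intro x _ y _
    obtain ⟨x, rfl⟩ := QuotientGroup.mk'_surjective _ x
    obtain ⟨y, rfl⟩ := QuotientGroup.mk'_surjective _ y
    rw [← commutatorElement_eq_one_iff_mul_comm, ← map_commutatorElement, QuotientGroup.mk'_apply,
      QuotientGroup.eq_one_iff]
    exact GT.PG.commutator_le_frattini hS (commutator_mem_commutator (mem_top _) (mem_top _))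
  have h4 : F.focalSubgroup ≤ (frattini S).map S.subtype := by
    refine focal_le_iff.2 fun P f hf x hx => ?_
    obtain ⟨f', hf', e⟩ := hE.push hf
    obtain ⟨g', hg', e'⟩ := hEs.extend_top_of_not_le_essential hE'
      (fun _ R _ hR _ => no_essential_of_comm hEs hE' hab R hR) hf'
    obtain ⟨g, hg, e''⟩ := hE.lift hg'.mor
    have hp : pre (tot π) S ⊤ = S := le_antisymm (pre_le _ _ _) fun y hy => mem_pre_of hy trivial
    rw [hp] at hg e''
    obtain ⟨s, hs, es⟩ := h3 g hg
    have hxS := hf.le hx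
    rw [← hker, ← hπ.eq_iff_mem_pre_bot hxS (hf.mem hx), ← e x hx, ← e' _ (mem_img_of_mem hx),
      e'' x hxS, es x hxS, hπ.map_conj hs hxS, hab (tot π s) trivial, mul_inv_cancel_right]
    trivial
  have h5 := S5224.result p hS F hF _ (innerSaturated hS) F.inner_le
  have h6 : (innerFusionSystem S).focalSubgroup ≤ F.focalSubgroup :=
    focal_le_iff.2 fun P f hf x hx => (le_iff_mor.1 F.inner_le _ _ hf).mem_focal hx
  have h7 := h5.2.1 (h5.1.1 (by rw [sup_eq_left.2 h4, sup_eq_left.2 (h6.trans h4)]))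
  rw [hyperfocal_eq_bot_of_isPGroup (F := innerFusionSystem S) fun P hP => by
    rw [autGroup_inner hP]; exact isPGroup_autInducedBy hS P] at h7
  exact hom_eq_inner_iff.2 (eq_inner_of_isPGroup hF hS fun P hP =>
    isPGroup_of_hyperfocal_eq_bot h7 hP)

end Cfsg.Agent.S5276
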