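import Mathlib
import Cfsg.Statements.S5287
import Cfsg.Agent.Fus.MxMain
import Cfsg.Agent.Fus.Meta
import Cfsg.Agent.Fus.HypGroup
import Cfsg.Agent.S5283
import Cfsg.Agent.S5284
import Cfsg.Agent.S5234
import Cfsg.Agent.S5235

set_option autoImplicit false
set_option linter.unusedVariables false
open Cfsg

namespace Cfsg.Agent.S5287

open Cfsg.FusionSystem Cfsg.Agent.Fus Subgroup Cfsg.Agent.GT.PG Cfsg.Agent.FG.TM Cfsg.Agent.Inv.Fz
  Cfsg.Agent.Fus.MG

theorem not_inner {Ω G : Type*} [Group Ω] [Group G] [Finite G] {S : Subgroup Ω} [Finite S]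
    [Fact (Nat.Prime 2)] {T : Sylow 2 G} {t : ℕ} {k m : R2 t} {r s : R2 t → Ω} {r' s' : R2 t → G}
    (H : Mc S t k m r s) (H' : Mc (T : Subgroup G) t k m r' s') (hG : commutator G = ⊤)
    (h : ∀ F : FusionSystem S, F.IsSaturated 2 → F = innerFusionSystem S) : False := by
  obtain ⟨θ, η, E, hE, -⟩ := mc_coord (groupFusionSystem (T : Subgroup G)) H' H
  have h1 := hyperfocal_group T.isPGroup' T.not_dvd_index
  rw [hE.symm.eq_inner (h E (hE.isSaturated (isSaturated_sylow T) T.isPGroup')),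
    hyp_inner T.isPGroup', pResidual_eq_top_of_perfect hG, inf_top_eq] at h1
  exact H'.s_ne_one 0 (mem_bot.1 (h1.ge (H'.s_mem 0)))

/-- Let S be a finite metacyclic p-group (an extension of a cyclic group by a cyclic group). Every saturated fusion system over S is supersoluble (S has a chain of F-strongly closed subgroups from 1 to S with cyclic steps) if and only if S is not homocyclic of rank two (isomorphic to Z/p^n × Z/p^n with n ≥ 1) and, when p = 2, S is not dihedral of order at least 4, not quasi-dihedral (semidihedral) and not generalized quaternion of order at least 8. -/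
theorem result {Ω : Type*} [Group Ω] {S : Subgroup Ω} [Finite S] (p : ℕ) [Fact p.Prime] (hS : IsPGroup p ↥S) (hm : Cfsg.IsMetacyclic ↥S) : (∀ F : Cfsg.FusionSystem S, F.IsSaturated p → (∃ (m : ℕ) (c : Fin (m + 1) → Subgroup Ω), c 0 = ⊥ ∧ c (Fin.last m) = S ∧ (∀ i : Fin (m + 1), F.StronglyClosed (c i)) ∧ ∀ i : Fin m, c i.castSucc ≤ c i.succ ∧ ∃ x ∈ S, c i.succ = c i.castSucc ⊔ Subgroup.zpowers x)) ↔ ¬ ((∃ n : ℕ, 0 < n ∧ Nonempty (↥S ≃* Multiplicative (ZMod (p ^ n)) × Multiplicative (ZMod (p ^ n)))) ∨ (p = 2 ∧ ((∃ n : ℕ, 2 ≤ n ∧ Nonempty (↥S ≃* DihedralGroup n)) ∨ Cfsg.IsQuasiDihedral ↥S ∨ (∃ n : ℕ, 2 ≤ n ∧ Nonempty (↥S ≃* QuaternionGroup n))))) := by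
  constructor
  · rintro h (⟨n, hn, ⟨e⟩⟩ | ⟨rfl, h'⟩)
    · exact (S5284.result p hS ⟨⟨fun x y => e.injective (by rw [map_mul, map_mul, mul_comm])⟩⟩).1 h
        ⟨n, Unit, inferInstance, hn, ⟨e.trans MulEquiv.prodUnique.symm⟩⟩
    obtain ⟨h1, h2⟩ := (S5283.result 2 hS).1 h
    have key : ∀ F : FusionSystem S, F.IsSaturated 2 → F = innerFusionSystem S := fun F hF =>
      eq_inner_of_no_essential hF hS ((hF.isNormal_top_iff hS).1 (h1 F hF))
        ((isPGroup_mulAut_of_odd fun a ha => (pow_one a).symm.trans ((h2 _ (coprime_card_zpowers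
          (Nat.coprime_two_right.2 ha))).2 a (mem_zpowers a))).to_subgroup _)
    rcases h' with ⟨n, hn, ⟨e⟩⟩ | h' | ⟨n, hn, ⟨e⟩⟩
    · obtain ⟨t, rfl⟩ := exists_eq_two_pow_of_dihedral hS hn e
      obtain ⟨r, s, H⟩ := exists_mc_of_dihedral e
      obtain ⟨K, _, _, m, hK⟩ := exists_field_one (e := t + 2) (by omega)
      obtain ⟨T, r', s', H'⟩ := psl2_mx hK
      exact not_inner H H'.toMc (Cl.psl_commutator_eq_top (Or.inr (exists_sq_ne_one hK))) key
    · obtain ⟨t, ht, r, s, H⟩ := exists_mx_of_qd h'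
      obtain ⟨K, _, _, m, hK⟩ := exists_field_neg (e := t) (by omega)
      obtain ⟨T, r', s', H'⟩ := psl3_qd ht hK
      exact not_inner H.toMc H'.toMc (Cl.psl_commutator_eq_top (Or.inl (by simp))) key
    · have : NeZero n := ⟨by omega⟩
      obtain ⟨k, hk⟩ := hS.exists_card_eq
      rw [Nat.card_congr e.toEquiv, Nat.card_eq_fintype_card, QuaternionGroup.card] at hk
      obtain ⟨t, -, rfl⟩ := (Nat.dvd_prime_pow Nat.prime_two).1 (Dvd.intro_left _ hk)
      obtain ⟨t, rfl⟩ : ∃ t', t = t' + 1 := ⟨t - 1, by rcases t with _ | t <;> simp at hn ⊢⟩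
      obtain ⟨r, s, H⟩ := exists_mc_of_quaternion e
      obtain ⟨K, _, _, m, hK⟩ := exists_field_one (e := t + 2) (by omega)
      obtain ⟨T⟩ : Nonempty (Sylow 2 (Matrix.SpecialLinearGroup (Fin 2) K)) := inferInstance
      obtain ⟨r', s', H'⟩ := sl_mx (t := t + 1) (by omega) hK T
      exact not_inner H H'.toMc (Cl.sl_commutator_eq_top (Or.inr (exists_sq_ne_one hK))) key
  intro h
  refine (S5283.result p hS).2 ⟨fun F hF => ?_, fun H hH => ?_⟩
  · by_cases hc : IsMulCommutative S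
    · exact (hF.isNormal_top_iff hS).2 (no_essential_of_comm hF hS (isMulCommutative_iff_forall.1 hc))
    have hc' : ¬ IsCyclic S := fun _ => hc inferInstance
    by_cases hp : p = 2
    swap
    · exact S5234.result p hS F hF S F.stronglyClosed_top hp hm
    have h0 : ∀ e : S ≃* DihedralGroup 0, False := fun e => by
      have := Nat.card_pos (α := S)
      rw [Nat.card_congr e.toEquiv, DihedralGroup.nat_card] at this
      omega
    refine S5235.result p hS F hF S F.stronglyClosed_top hp hm ?_ ?_ fun h' =>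
      h (Or.inr ⟨hp, Or.inr (Or.inl h')⟩)
    · rintro ⟨_ | _ | m, ⟨e⟩⟩
      · exact h0 e
      · exact hc' (isCyclic_of_prime_card (p := 2)
          ((Nat.card_congr e.toEquiv).trans DihedralGroup.nat_card))
      · exact h (Or.inr ⟨hp, Or.inl ⟨_, by omega, ⟨e⟩⟩⟩)
    · rintro ⟨_ | _ | m, ⟨e⟩⟩
      · exact h0 (e.trans QuaternionGroup.quaternionGroupZeroEquivDihedralGroupZero)
      · exact hc' (e.isCyclic.2 QuaternionGroup.quaternionGroup_one_isCyclic)
      · exact h (Or.inr ⟨hp, Or.inr (Or.inr ⟨_, by omega, ⟨e⟩⟩)⟩)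
  refine comm_of_coprime_of_not_noChain hS (fun hN => h ?_) hH
  by_cases hc : IsMulCommutative S
  · obtain ⟨x, y, k, hx, hy, h1, h2⟩ := hN.homocyclic hS hc (index_frattini_le_of_isMetacyclic hS hm)
    obtain ⟨e⟩ := nonempty_equiv_zmod_prod hx hy (hc.is_comm.comm x y) h1
    exact Or.inl ⟨k + 1, k.succ_pos, ⟨(topEquiv.symm.trans (MulEquiv.subgroupCongr h2.symm)).trans e⟩⟩
  · obtain ⟨h1, -, h2⟩ := hN.quaternion_of_metacyclic hS hm hc
    exact Or.inr ⟨h1, Or.inr (Or.inr ⟨2, le_rfl, h2⟩)⟩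

end Cfsg.Agent.S5287
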