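import Cfsg.Statements.S5289
import Cfsg.Agent.Fus.EssOmega
import Cfsg.Agent.Fus.ToTop
import Cfsg.Agent.Fus.EssMisc
import Cfsg.Agent.Fus.EssSmall
import Cfsg.Agent.Fus.EssTools

set_option autoImplicit false
open Cfsg

namespace Cfsg.Agent.S5289

open Cfsg.FusionSystem Cfsg.Agent.Fus Cfsg.Agent.GT Subgroup
open scoped commutatorElement

open Matrix

variable {Ω : Type*} [Group Ω] {S E : Subgroup Ω} {p : ℕ} [Fact p.Prime] {F : FusionSystem S}

theorem mem_of_pow_mem (hS : IsPGroup p S) {H : Subgroup Ω} {s : Ω} (hs : s ∈ S) {k : ℕ}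
    (hk : k.Coprime p) (h : s ^ k ∈ H) : s ∈ H := by
  obtain ⟨n, hn⟩ := IsPGroup.iff_orderOf.1 hS ⟨s, hs⟩
  refine zpowers_le.2 h (mem_zpowers_pow_iff.2 ?_)
  rw [orderOf_mk] at hn
  rw [hn]
  exact hk.pow_right n

theorem val_four (hp : 5 ≤ p) : ((2 : ZMod p) ^ 2).val = 4 := by
  rw [show (2 : ZMod p) ^ 2 = ((4 : ℕ) : ZMod p) by norm_num, ZMod.val_cast_of_lt (by omega)]

theorem two_ne (hp : 5 ≤ p) : (2 : ZMod p) ≠ 0 := fun h => by
  have := Nat.le_of_dvd two_pos ((ZMod.natCast_eq_zero_iff 2 p).1 (by exact_mod_cast h))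
  omega

omit [Fact p.Prime] in
theorem invA_omega (hES : E ≤ S) (h1 : ∀ x ∈ omegaOne p S, x ^ p = 1) (A : Subgroup (MulAut E)) :
    InvA A (omegaOne p S ⊓ E) :=
  ⟨inf_le_right, fun α _ x hx => ⟨PG.mem_omegaOne (hES (totA_mem α hx.2)) (by
    rw [← (mulOn_totA α).map_pow hx.2, h1 x hx.1, (mulOn_totA α).map_one]), totA_mem α hx.2⟩⟩

variable [Finite Ω]

theorem esz (hr : PRankLE p 2 S) (h1 : ∀ x ∈ omegaOne p S, x ^ p = 1)
    (hc : Nat.card (omegaOne p S) = p ^ 3) :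
    ∃ z, PG.ESZ p (omegaOne p S) z ∧ ⁅omegaOne p S, omegaOne p S⁆ = zpowers z ∧
      omegaOne p S ≠ zpowers z ∧ (zpowers z).relIndex (omegaOne p S) = p ^ 2 := by
  have hp1 : p.Prime := Fact.out
  obtain ⟨z, hz, hW⟩ := exists_esz' (isExtraspecial_of_card_cube hc fun h => by
    have := hr.card_le_of_le (PG.omegaOne_le S) ⟨h, h1⟩
    rw [hc, Nat.pow_le_pow_iff_right hp1.one_lt] at this
    omega)
  have h2 := PG.relIndex_mul_card hz.zpowers_le
  rw [hz.card_zpowers, hc, pow_succ, Nat.mul_left_inj hp1.ne_zero] at h2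
  refine ⟨z, hz, hW, fun e => ?_, h2⟩
  rw [e, relIndex_self] at h2
  exact (Nat.one_lt_pow two_ne_zero hp1.one_lt).ne h2

theorem caseB (hF : F.IsSaturated p) (hS : IsPGroup p S) (hp : 5 ≤ p) (hr : PRankLE p 2 S)
    (hE : F.IsEssential p E) (hO : omegaOne p S ≤ E) (hc : Nat.card (omegaOne p S) = p ^ 3) :
    False := by
  have hp1 : p.Prime := Fact.out
  have hp2 : p ≠ 2 := by omega
  have hES : E ≤ S := (hE.essData hF hS).le_top
  have hEp := hS.to_le hES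
  have hD1 := FT.exponent_Ohm1_rank2 hS hr (by omega)
  obtain ⟨z, hz, hW, hne, hi⟩ := esz hr hD1 hc
  have hXI : ∀ A : Subgroup (MulAut E), InvA A (omegaOne p S) := fun A =>
    inf_eq_left.2 hO ▸ invA_omega hES hD1 A
  set D := omegaOne p S with hD
  have hDm : ∀ x ∈ S, x ^ p = 1 → x ∈ D := fun x hx e => PG.mem_omegaOne hx e
  have hDn : S ≤ normalizer (D : Set Ω) :=
    le_normalizer.trans (PG.normalizer_le_normalizer_omegaOne S)
  have hWI : ∀ A : Subgroup (MulAut E), InvA A (zpowers z) := fun A =>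
    hW ▸ (hXI A).commutator (hXI A)
  have hzc : S ≤ centralizer ((zpowers z : Subgroup Ω) : Set Ω) :=
    le_centralizer_of_card_eq_prime hz.card_zpowers hS (hW ▸ le_normalizer_commutator hDn hDn)
  obtain ⟨s, hs, hsE⟩ := hE.exists_notMem hF hS
  obtain ⟨⟨c, h⟩, -, hsp⟩ := hE.exists_sl2Sec hF hS (K := secStab E (zpowers z) ⊥)
    (fun l _ α hα => conj_mem_secStab hα ((hWI ⊤).le_stabA (mem_top l))
      ((invA_bot ⊤).le_stabA (mem_top l))) (hXI _) (hWI _) hz.zpowers_le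
    (hz.le_normalizer_of_zpowers_le le_rfl hz.zpowers_le) hi.dvd
    (fun α _ _ hco h => eq_one_of_fix_omegaOne hp2 hEp hco fun x hx e =>
      (mem_fixA_zpowers.1 (le_fixA_of_commA_le_frattini hEp (coprime_card_zpowers hco) hO
        ((commA_zpowers_le hO (fun y hy => (hXI ⊤).mem (mem_top α) hy) h).trans
          (hW.ge.trans le_sup_left)) (hDm x (hES hx) e))).2) hs hsE
    (mem_secStab_of (hz.zpowers_le.trans hO) bot_le fun x hx => by
      rw [totA_cAut hs.2 (hO (hz.zpowers_le hx)), conj_eq_of_mem_centralizer (hzc hs.1) hx,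
        inv_mul_cancel]
      exact one_mem _)
  set C := E ⊓ centralizer (D : Set Ω) with hC
  have hCz : ∀ x ∈ C, x ^ p = 1 → x ∈ zpowers z := fun x hx e =>
    hz.center_eq.le ⟨hDm x (hES hx.1) e, hx.2⟩
  obtain ⟨n, hn⟩ := IsPGroup.iff_card.1 (hEp.to_le (inf_le_left : C ≤ E))
  have hcyc : IsCyclic C := FT.odd_pgroup_cyclic_of_Ohm1_le (hEp.to_le inf_le_left)
    (hn ▸ (hp1.odd_of_ne_two hp2).pow) hz.card_zpowers.le hCz
  have hcC : IsMulCommutative C := inferInstance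
  have hdec : ∀ e ∈ E, ∃ d ∈ D, ∃ x ∈ C, d * x = e := fun e he => by
    obtain ⟨d, hd, x, hx, rfl⟩ := (mem_sup_of_le_normalizer' (PG.centralizer_le_normalizer' D)).1
      (hz.mem_sup_centralizer (hzc (hES he) z (mem_zpowers z)).symm fun q hq => by
        have := h.conj_mem hEp (hXI _) (hWI _) he (D.inv_mem hq)
        rw [comm_mem_iff_conj, inv_inv] at this
        simpa using (zpowers z).inv_mem this)
    exact ⟨d, hd, x, ⟨(E.mul_mem_cancel_left (hO hd)).1 he, hx⟩, rfl⟩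
  obtain ⟨γ, -, hγ, hco, -, β, -, -, eβ, hβs⟩ := h.exists_torus_ext (hE.receptive hF hS)
    hE.isCentric inf_le_right hs (K := ⊤) (fun _ _ => mem_top _) (two_ne hp)
  rw [val_four hp] at hβs
  have hsR : s ∈ E ⊔ zpowers s := mem_sup_right (mem_zpowers s)
  have hβ := mulOn_totA β
  have hfix : ∀ x ∈ C, totA β x = x := fun x hx => by
    rw [eβ x hx.1]
    refine (mem_fixA_zpowers.1 (((invA_top _).inf_centralizer (hXI _)).le_fixA_of_odd hp2 hEp
      (coprime_card_zpowers hco) (fun y hy e => mem_fixA_zpowers.2 ⟨hy.1, ?_⟩) hx)).2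
    have := (mem_secStab.1 hγ.1).2 y (hCz y hy e) hy.1
    rw [mem_bot, inv_mul_eq_one] at this
    exact this.symm
  set e := totA β s * (s ^ 4)⁻¹ with he
  have hβs' : totA β s = e * s ^ 3 * s := by rw [he]; group
  have hsC : s ∈ centralizer (C : Set Ω) := by
    refine mem_of_pow_mem hS hs.1 (k := 3)
      ((Nat.coprime_primes Nat.prime_three hp1).2 (by omega)) fun x hx => ?_
    have hx' : s * x * s⁻¹ ∈ C := (mem_normalizer_iff.1 (mem_normalizer_inf hs.2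
      (PG.le_normalizer_centralizer hDn hs.1)) x).1 hx
    have h1 := hβ.map_mul (mul_mem hsR (mem_sup_left hx.1)) (inv_mem hsR)
    rw [hβ.map_mul hsR (mem_sup_left hx.1), hβ.map_inv hsR, hfix _ hx, hfix _ hx', hβs'] at h1
    obtain ⟨d, hd, y, hy, hdy⟩ := hdec e hβs
    have h2 : e * (s * x * s⁻¹) = s * x * s⁻¹ * e := by
      rw [← hdy, mul_assoc d, PG.isMulCommutative_iff_forall.1 hcC y hy _ hx', ← mul_assoc d,
        hx'.2 d hd, mul_assoc _ d]
    calc x * s ^ 3 = s⁻¹ * e⁻¹ * (s * x * s⁻¹ * e) * s ^ 3 * s := by rw [← h2]; group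
      _ = s ^ 3 * x := by rw [h1]; group
  have hA : IsMulCommutative (C ⊔ zpowers s : Subgroup Ω) := PG.isMulCommutative_sup_zpowers hcC hsC
  have hAS : C ⊔ zpowers s ≤ S := sup_le (inf_le_left.trans hES) (zpowers_le.2 hs.1)
  have hmul := mul_pow_of_card_cube (by omega) hc hD1 hA
    (hS.to_le (sup_le (PG.omegaOne_le S) hAS)) (hAS.trans hDn)
  have hsT : s ∈ D ⊔ (C ⊔ zpowers s) := mem_sup_right (mem_sup_right (mem_zpowers s))
  have hspC : s ^ p ∈ C := ⟨hsp, fun d hd => by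
    have h1 : ⁅d, s⁆ ∈ D := le_normalizer_iff_commutator_le_left.1 hDn
      (commutator_mem_commutator hd hs.1)
    have h2 := hmul _ (mem_sup_left h1) s hsT
    rw [hD1 _ h1, one_mul, commutatorElement_def, inv_mul_cancel_right, conj_pow] at h2
    rw [← h2, inv_mul_cancel_right, h2]⟩
  obtain ⟨d, hd, x, hx, hdx⟩ := hdec e hβs
  have h1 : e * s ^ 3 ∈ D ⊔ (C ⊔ zpowers s) :=
    mul_mem (hdx ▸ mul_mem (mem_sup_left hd) (mem_sup_right (mem_sup_left hx))) (pow_mem hsT 3)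
  have h2 := hmul _ h1 s hsT
  rw [← hβs', ← hβ.map_pow hsR, hfix _ hspC, right_eq_mul] at h2
  exact hsE (mem_of_pow_mem hS hs.1 ((Nat.coprime_primes Nat.prime_three hp1).2 (by omega))
    ((E.mul_mem_cancel_left hβs).1 (hO (hDm _ (mul_mem (hES hβs) (pow_mem hs.1 3)) h2))))

theorem sec (hF : F.IsSaturated p) (hS : IsPGroup p S) (hp : 5 ≤ p) (hr : PRankLE p 2 S)
    (hE : F.IsEssential p E) {s : Ω} (hs : s ∈ normalizerIn S E) (hsE : s ∉ E) :
    (∃ c : Ω → Fin 2 → ZMod p, SL2Sec (⊤ ⊓ F.autGroup E) (cAut E s) (omegaOne p S ⊓ E) ⊥ c) ∧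
      normalizerIn S E = E ⊔ zpowers s ∧ s ^ p ∈ E := by
  have hp1 : p.Prime := Fact.out
  have hES : E ≤ S := (hE.essData hF hS).le_top
  have hD1 := FT.exponent_Ohm1_rank2 hS hr (by omega)
  have hD3 := FT.b4_card_Ohm1_rank2 hS hr (by omega)
  refine hE.exists_sl2Sec hF hS (fun _ _ _ _ => mem_top _) (invA_omega hES hD1 _) (invA_bot _) bot_le
    (by rw [normalizer_eq_top]; exact le_top) ?_ (fun α _ _ hco h =>
      eq_one_of_fix_omegaOne (by omega) (hS.to_le hES) hco fun x hx e =>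
        (inv_mul_eq_one.1 (mem_bot.1 (h x ⟨PG.mem_omegaOne (hES hx) e, hx⟩))).symm) hs hsE (mem_top _)
  obtain ⟨n, hn⟩ := IsPGroup.iff_card.1 (hS.to_le (inf_le_right.trans hES : omegaOne p S ⊓ E ≤ S))
  rw [relIndex_bot_left, hn]
  refine pow_dvd_pow p (le_of_not_gt fun h => ?_)
  have h1 : p ^ 3 ≤ Nat.card (omegaOne p S ⊓ E : Subgroup Ω) := hn ▸ Nat.pow_le_pow_right hp1.pos h
  have h2 := PG.eq_of_le_of_card_le inf_le_left (hD3.trans h1)
  exact caseB hF hS hp hr hE (h2.ge.trans inf_le_right) (le_antisymm hD3 (h2 ▸ h1))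

theorem stepA (hF : F.IsSaturated p) (hS : IsPGroup p S) (hp : 5 ≤ p) (hr : PRankLE p 2 S)
    (hE : F.IsEssential p E) : E ≤ omegaOne p S ∧ Nat.card (omegaOne p S) = p ^ 3 ∧
      normalizerIn S E = omegaOne p S := by
  have hp1 : p.Prime := Fact.out
  have hp2 : p ≠ 2 := by omega
  have hES : E ≤ S := (hE.essData hF hS).le_top
  have hEp := hS.to_le hES
  have hD1 := FT.exponent_Ohm1_rank2 hS hr (by omega)
  have hD3 := FT.b4_card_Ohm1_rank2 hS hr (by omega)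
  have hXI := invA_omega hES hD1
  have hsec := fun s => sec hF hS hp hr hE (s := s)
  set O := omegaOne p S with hO
  have hDm : ∀ x ∈ S, x ^ p = 1 → x ∈ O := fun x hx e => PG.mem_omegaOne hx e
  have hOn : S ≤ normalizer (O : Set Ω) :=
    le_normalizer.trans (PG.normalizer_le_normalizer_omegaOne S)
  have hbot : ∀ H ≤ E, O ⊓ E ⊓ H = ⊥ → H = ⊥ := fun H hH h => by
    by_contra h1
    exact PG.omegaOne_ne_bot (hEp.to_le hH) h1 (le_bot_iff.1 (h ▸ le_inf (le_inf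
      (PG.omegaOne_mono (hH.trans hES)) ((PG.omegaOne_le H).trans hH)) (PG.omegaOne_le H)))
  obtain ⟨s₀, hs₀, hs₀E⟩ := hE.exists_notMem hF hS
  obtain ⟨⟨c, h⟩, hN₀, -⟩ := hsec s₀ hs₀ hs₀E
  obtain ⟨γ, -, hγ, hco, hact, β, -, hcoβ, eβ, hβs⟩ := h.exists_torus_ext (hE.receptive hF hS)
    hE.isCentric inf_le_right hs₀ (K := ⊤) (fun _ _ => mem_top _) (l := -1) (by simp)
  have : Fact (1 < p) := ⟨hp1.one_lt⟩
  rw [neg_one_sq, ZMod.val_one, pow_one] at hβs
  have hinv : ∀ x ∈ O ⊓ E, totA γ x = x⁻¹ := fun x hx => by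
    have h1 := (h.eq_iff (h.invX.mem hγ hx) (inv_mem hx)).1 (by
      rw [hact x hx, h.toCoord.map_inv hx]
      ext i; fin_cases i <;> simp [mulVec, dotProduct])
    rwa [mem_bot, inv_mul_eq_one] at h1
  have hfpf : ∀ x ∈ E, totA γ x = x → x = 1 := fun x hx e => by
    refine mem_bot.1 ((hbot (fixA (zpowers γ)) fixA_le (le_bot_iff.1 fun y hy => ?_)).le
      (mem_fixA_zpowers.2 ⟨hx, e⟩))
    exact eq_one_of_eq_inv hp2 hEp hy.1.2 ((mem_fixA_zpowers.1 hy.2).2.symm.trans (hinv y hy.1))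
  have hγ2 : γ ^ 2 = 1 := eq_one_of_fix_omegaOne hp2 hEp
    (Nat.Coprime.coprime_dvd_left (orderOf_pow_dvd 2) hco) fun x hx e => by
      have h1 : x ∈ O ⊓ E := ⟨hDm x (hES hx) e, hx⟩
      rw [pow_two, totA_mul _ _ hx, hinv x h1, hinv _ (inv_mem h1), inv_inv]
  have hcE : ∀ x ∈ E, ∀ y ∈ E, x * y = y * x := fun x hx y hy =>
    congrArg Subtype.val (MonoidHom.FixedPointFree.commute_all_of_involutive (φ := γ)
      (fun g hg => Subtype.ext (hfpf g g.2 (by rw [totA_coe, hg])))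
      (fun g => by rw [← MulAut.mul_apply, ← pow_two, hγ2, MulAut.one_apply]) ⟨x, hx⟩ ⟨y, hy⟩)
  have hRn : E ⊔ zpowers s₀ ≤ normalizer (E : Set Ω) := hN₀.ge.trans inf_le_right
  have hsR : s₀ ∈ E ⊔ zpowers s₀ := mem_sup_right (mem_zpowers _)
  have hax : E ⊔ zpowers s₀ ≤ axis β E hRn := sup_le
    (fun x hx => ⟨mem_sup_left hx, E.mul_mem (E.inv_mem hx) (eβ x hx ▸ totA_mem γ hx)⟩)
    (zpowers_le.2 ⟨hsR, by
      have := (mem_normalizer_iff.1 (inv_mem hs₀.2) _).1 hβs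
      rwa [inv_inv, mul_assoc, inv_mul_cancel_right] at this⟩)
  obtain ⟨s, hsf, d, hd, hsd⟩ := (invA_top (zpowers β)).exists_fixed_mul_commA
    (hS.to_le (hN₀.ge.trans inf_le_left)) (coprime_card_zpowers hcoβ) hsR
  have hdE : d ∈ E := commA_zpowers_le le_rfl (fun x hx => totA_mem β hx) (fun x hx => (hax hx).2) hd
  have hs : s ∈ normalizerIn S E := hN₀.ge hsf.1
  have hsE : s ∉ E := fun h => hs₀E (hsd ▸ E.mul_mem h hdE)
  obtain ⟨⟨c', h'⟩, hN, hsp⟩ := hsec s hs hsE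
  have hs1 : s ^ p = 1 := hfpf _ hsp (by
    rw [← eβ _ hsp, (mulOn_totA β).map_pow hsf.1, (mem_fixA_zpowers.1 hsf.2).2])
  have hsO := hDm s hs.1 hs1
  have hcard : Nat.card (O ⊓ E : Subgroup Ω) = p ^ 2 := by
    rw [← h.toCoord.relIndex_eq, relIndex_bot_left]
  have hEO : E ≤ O := by
    have h1 : powerClosure p 1 E ≤ centralizer {s} := PG.powerClosure_one_le_iff.2 fun x hx => by
      have h2 : s * x * s⁻¹ ∈ E := conj_mem_of_mem_normalizerIn hs hx
      have h3 : x⁻¹ * (s * x * s⁻¹) ∈ O := le_normalizer_iff_commutator_le_right.1 hOn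
        (conj_comm_mem_commutator (hES hx) hsO)
      have h4 := hD1 _ h3
      rw [Commute.mul_pow (hcE _ (E.inv_mem hx) _ h2), conj_pow, inv_pow, inv_mul_eq_one,
        eq_mul_inv_iff_mul_eq] at h4
      exact mem_centralizer_singleton_iff.2 h4
    have h2 := hbot _ (PG.powerClosure_le 1 E) (le_bot_iff.1 fun x hx => by
      by_contra h3
      have h4 := h'.le_sup_of_inv (L := powerClosure p 1 E) (fun g hg y hy _ =>
        ((invA_top _).powerClosure p 1).mem hg hy) hx.2 hx.1 h3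
      refine h'.not_mem_secStab (mem_secStab_of inf_le_right bot_le fun y hy => ?_)
      rw [totA_cAut hs.2 hy.2, ← mem_centralizer_singleton_iff.1 (h1 ((h4.trans (sup_bot_eq _).le) hy))]
      simp)
    exact fun x hx => hDm x (hES hx) (mem_bot.1 (h2.le (PG.pow_mem_powerClosure_one hx)))
  rw [inf_eq_right.2 hEO] at hcard
  have h1 := PG.card_sup_zpowers hp1 hs.2 hsE hsp
  rw [hcard, ← pow_succ'] at h1
  have h2 := PG.eq_of_le_of_card_le (sup_le hEO (zpowers_le.2 hsO)) (h1 ▸ hD3)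
  exact ⟨hEO, h2 ▸ h1, hN.trans h2⟩

theorem caseA (hF : F.IsSaturated p) (hS : IsPGroup p S) (hp : 5 ≤ p) (hr : PRankLE p 2 S)
    (hn : ¬ S ≤ omegaOne p S) (hE : F.IsEssential p E) : False := by
  have hp1 : p.Prime := Fact.out
  have hES : E ≤ S := (hE.essData hF hS).le_top
  have hD1 := FT.exponent_Ohm1_rank2 hS hr (by omega)
  obtain ⟨hEO, hc, hN⟩ := stepA hF hS hp hr hE
  obtain ⟨z, hz, hW, hne, hi⟩ := esz hr hD1 hc
  have hsec := fun s => sec hF hS hp hr hE (s := s)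
  have hB := fun R (hR : F.IsEssential p R) h => caseB hF hS hp hr hR h hc
  rw [inf_eq_right.2 hEO] at hsec
  set O := omegaOne p S with hO
  set Z := zpowers z with hZ
  have hOS : O ≤ S := PG.omegaOne_le S
  have hZO : Z ≤ O := hz.zpowers_le
  have hDm : ∀ x ∈ S, x ^ p = 1 → x ∈ O := fun x hx e => PG.mem_omegaOne hx e
  have hOn : S ≤ normalizer (O : Set Ω) :=
    le_normalizer.trans (PG.normalizer_le_normalizer_omegaOne S)
  have hZn : S ≤ normalizer (Z : Set Ω) := hW ▸ le_normalizer_commutator hOn hOn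
  have hzc : S ≤ centralizer (Z : Set Ω) := le_centralizer_of_card_eq_prime hz.card_zpowers hS hZn
  have hZE : Z ≤ E := fun w hw => hE.mem_of_comm (hOS (hZO hw)) fun x hx => (hzc (hES hx) w hw).symm
  have hZI : InvA (autInducedBy S O) Z := hW ▸ (invA_top _).commutator (invA_top _)
  have hBp := isPGroup_autInducedBy hS O
  obtain ⟨s, hsO, hsZ, hsp, hsn, hsB⟩ := (invA_top _).exists_step (hS.to_le hOS) hBp hZI
    (lt_of_le_of_ne hZO hne.symm)
  set M := Z ⊔ zpowers s with hM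
  have hMO : M ≤ O := sup_le hZO (zpowers_le.2 hsO)
  have hMi : M.relIndex O ∣ p := by
    have := relIndex_mul_relIndex Z M O le_sup_left hMO
    rw [PG.relIndex_sup_zpowers hp1 hsn hsZ hsp, hi, pow_two, Nat.mul_right_inj hp1.ne_zero] at this
    exact this.dvd
  have hOM : ∀ h ∈ S, ∀ x ∈ O, x⁻¹ * (h * x * h⁻¹) ∈ M := fun h hh x hx => by
    rw [← totA_cAut (hOn hh) hx]
    exact InvA.comm_mem_of_relIndex_dvd (hS.to_le hOS) hBp (invA_top _) (hZI.sup_zpowers' hsO hsB) hMO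
      hMi (cAut_mem_autInducedBy ⟨hh, hOn hh⟩) hx
  have hnorm : ∀ h ∈ S, (∀ x ∈ E, x⁻¹ * (h * x * h⁻¹) ∈ E) → h ∈ O := fun h hh h1 =>
    hN.le ⟨hh, mem_normalizer_fintype fun x hx => (E.mul_mem_cancel_left (E.inv_mem hx)).1 (h1 x hx)⟩
  have hsE : s ∉ E := fun h1 => hn fun h hh => hnorm h hh fun x hx =>
    sup_le hZE (zpowers_le.2 h1) (hOM h hh x (hEO hx))
  have hs : s ∈ normalizerIn S E := hN.ge hsO
  obtain ⟨⟨c, h⟩, hN', -⟩ := hsec s hs hsE
  obtain ⟨a, ha, b, hb, ea, eb, hab⟩ := h.exists_basis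
  obtain ⟨γ, -, hγ, -, hact, β, hβ, -, eβ, hβs⟩ := h.exists_torus_ext (hE.receptive hF hS)
    hE.isCentric inf_le_right hs (K := ⊤) (fun _ _ => mem_top _) (two_ne hp)
  rw [val_four hp] at hβs
  have hR : E ⊔ zpowers s = O := hN'.symm.trans hN
  have hβ' : F.Mor O (totA β) := (mor_totA (hR.le.trans hOS) hβ).mono hR.ge
  obtain ⟨g, hg, eg⟩ := hF.extend_top_of_not_le_essential hS (fun k R hk hR h1 => hB R hR fun x hx => by
    obtain ⟨y, hy, rfl⟩ := (hk.iso_self fun y hy => hDm _ (hk.mem hy) (by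
      rw [← hk.map_pow hy, hD1 y hy, hk.map_one])).surj x hx
    exact h1 y hy) hβ'
  have hg' := hg.mor
  have egE : ∀ x ∈ E, g x = totA γ x := fun x hx => (eg x (hEO hx)).trans (eβ x hx)
  have hga : g a = a ^ 2 := by
    have h1 := (h.eq_iff (totA_mem γ ha) (pow_mem ha 2)).1 (by
      rw [hact a ha, h.toCoord.map_pow ha, ea]
      ext i; fin_cases i <;> simp [mulVec, dotProduct])
    rwa [mem_bot, inv_mul_eq_one, ← egE a ha] at h1
  have hgb : g b ^ 2 = b := by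
    have h1 := (h.eq_iff (pow_mem (totA_mem γ hb) 2) hb).1 (by
      rw [h.toCoord.map_pow (totA_mem γ hb), hact b hb, eb]
      ext i; fin_cases i <;> simp [two_ne hp])
    rwa [mem_bot, inv_mul_eq_one, ← egE b hb] at h1
  have haZ : a ∈ Z := by
    rw [hab, totA_cAut hs.2 hb, ← hW]
    exact conj_comm_mem_commutator (hEO hb) hsO
  have ha1 : a ≠ 1 := fun e => by
    have := congrFun ea 0
    rw [e, h.toCoord.map_one] at this
    simp at this
  have hgZ : ∀ w ∈ Z, g w = w ^ 2 := fun w hw => by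
    obtain ⟨i, rfl⟩ := zpowers_le.2 (zpowers_le_of_mem hz.z_pow haZ ha1) hw
    beta_reduce
    rw [hg'.map_zpow (hES ha), hga, ← zpow_natCast, ← zpow_natCast, ← _root_.zpow_mul,
      ← _root_.zpow_mul, mul_comm]
  obtain ⟨Q, _, θ, hθ⟩ := exists_isSec (hZO.trans hOS) hZn
  have hsS := hOS hsO
  have hcen : ∀ m ∈ M, ∀ h ∈ S, θ (h * m * h⁻¹) = θ m := fun m hm h hh => by
    obtain ⟨w, hw, i, rfl⟩ := (PG.mem_sup_zpowers_of_mem_normalizer hsn).1 hm
    have h1 := hsB _ (cAut_mem_autInducedBy ⟨hh, hOn hh⟩)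
    have h2 := mul_mem (mul_mem hh hsS) (inv_mem hh)
    rw [totA_cAut (hOn hh) hsO, ← hθ.eq_iff hsS h2] at h1
    rw [show h * (w * s ^ i) * h⁻¹ = h * w * h⁻¹ * (h * s * h⁻¹) ^ i by rw [conj_zpow]; group,
      conj_eq_of_mem_centralizer (hzc hh) hw, hθ.map_mul (hθ.le hw) (zpow_mem h2 i),
      hθ.map_mul (hθ.le hw) (zpow_mem hsS i), hθ.map_zpow h2, hθ.map_zpow hsS, h1]
  have hMS := hMO.trans hOS
  have hκ : MulOn S fun h => θ (b⁻¹ * (h * b * h⁻¹)) := fun h hh k hk => by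
    have h1 := hOM h hh b (hEO hb)
    have h2 := hOM k hk b (hEO hb)
    beta_reduce
    rw [← hcen _ h2 h hh, ← hθ.map_mul (hMS h1) (mul_mem (mul_mem hh (hMS h2)) (inv_mem hh))]
    congr 1; group
  have hker : ∀ k ∈ S, θ (b⁻¹ * (k * b * k⁻¹)) = 1 → k ∈ O := fun k hk h1 => by
    rw [hθ.ker _ (hMS (hOM k hk b (hEO hb)))] at h1
    have h2 : k * b * k⁻¹ ∈ E := (E.mul_mem_cancel_left (E.inv_mem hb)).1 (hZE h1)
    refine hnorm k hk fun x hx => E.mul_mem (E.inv_mem hx) ?_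
    obtain ⟨w, hw, e⟩ := h.toCoord.exists_eq ha hb ea eb hx
    rw [e, mem_bot.1 hw, mul_one, ← conj_mul, ← conj_pow, ← conj_pow,
      conj_eq_of_mem_centralizer (hzc hk) haZ]
    exact mul_mem (pow_mem ha _) (pow_mem h2 _)
  obtain ⟨k, hk, hkO⟩ := SetLike.not_le_iff_exists.1 hn
  have hgbO : g b ∈ O := hEO (egE b hb ▸ totA_mem γ hb)
  have hy := hOM k hk b (hEO hb)
  have hgy := hOM _ (hg'.mem hk) _ hgbO
  have egy : g (b⁻¹ * (k * b * k⁻¹)) = (g b)⁻¹ * (g k * g b * (g k)⁻¹) := by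
    rw [hg'.map_mul (inv_mem (hES hb)) (mul_mem (mul_mem hk (hES hb)) (inv_mem hk)),
      hg'.map_inv (hES hb), hg'.map_conj hk (hES hb)]
  have h4 : θ ((g b)⁻¹ * (g k * g b * (g k)⁻¹)) = θ (b⁻¹ * (k * b * k⁻¹)) ^ 4 := by
    obtain ⟨w, hw, i, e⟩ := (PG.mem_sup_zpowers_of_mem_normalizer hsn).1 hy
    have e' : (g b)⁻¹ * (g k * g b * (g k)⁻¹) = w ^ 2 * g s ^ i := by
      rw [← egy, ← e, hg'.map_mul (hθ.le hw) (zpow_mem hsS i), hg'.map_zpow hsS, hgZ w hw]
    rw [e'] at hgy ⊢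
    have hgs : g s ∈ M := by
      by_contra h1
      obtain ⟨j, rfl⟩ := (PG.zpow_mem_iff_of_pow_prime_mem hp1 h1 (by
        rw [← hg'.map_pow hsS, hD1 s hsO, hg'.map_one]; exact one_mem _) i).1
        ((M.mul_mem_cancel_left (mem_sup_left (pow_mem hw 2))).1 hgy)
      refine hkO (hker k hk ?_)
      rw [← e, _root_.zpow_mul, zpow_natCast, hD1 s hsO, _root_.one_zpow, mul_one, hθ.eq_one hw]
    have h1 : g s * (s ^ 4)⁻¹ ∈ Z := mem_of_mem_sup_zpowers hsn hsp hZE hsE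
      (mul_mem hgs (inv_mem (pow_mem (mem_sup_right (mem_zpowers s)) 4))) (eg s hsO ▸ hβs)
    have h2 := hθ.eq_one h1
    rw [hθ.map_mul (hg'.mem hsS) (inv_mem (pow_mem hsS 4)), hθ.map_inv (pow_mem hsS 4),
      mul_inv_eq_one, hθ.map_pow hsS] at h2
    rw [← e, hθ.map_mul (hθ.le (pow_mem hw 2)) (zpow_mem (hg'.mem hsS) i), hθ.eq_one (pow_mem hw 2),
      hθ.map_mul (hθ.le hw) (zpow_mem hsS i), hθ.eq_one hw, hθ.map_zpow (hg'.mem hsS),
      hθ.map_zpow hsS, h2, one_mul, one_mul, ← zpow_natCast, ← zpow_natCast, ← _root_.zpow_mul,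
      ← _root_.zpow_mul, mul_comm]
  have h8 : θ (b⁻¹ * (g k * b * (g k)⁻¹)) = θ (b⁻¹ * (k * b * k⁻¹)) ^ 8 := by
    have h1 := inv_mem (hOS hgbO)
    rw [show 8 = 4 + 4 from rfl, pow_add, ← h4]
    nth_rewrite 1 [← hcen _ hgy _ h1]
    rw [← hθ.map_mul (mul_mem (mul_mem h1 (hMS hgy)) (inv_mem h1)) (hMS hgy)]
    nth_rewrite 1 2 [← hgb]
    congr 1
    rw [pow_two]; group
  have hr8 : (k ^ 8)⁻¹ * g k ∈ O := hker _ (mul_mem (inv_mem (pow_mem hk 8)) (hg'.mem hk)) (by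
    have h1 := hκ.map_mul (inv_mem (pow_mem hk 8)) (hg'.mem hk)
    rw [hκ.map_inv (pow_mem hk 8), hκ.map_pow hk] at h1
    beta_reduce at h1
    rw [h1, h8, inv_mul_cancel])
  have hkp : k ^ p ∈ O := hker _ (pow_mem hk p) (by
    have h1 := hκ.map_pow hk p
    beta_reduce at h1
    rw [h1, ← hθ.map_pow (hMS hy), hD1 _ (hMO hy), hθ.map_one])
  have hmul := mul_pow_of_card_cube (A := zpowers k) (by omega) hc hD1 inferInstance
    (hS.to_le (sup_le hOS (zpowers_le.2 hk))) ((zpowers_le.2 hk).trans hOn)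
  have hkT : k ∈ O ⊔ zpowers k := mem_sup_right (mem_zpowers k)
  have hkZ : k ^ p ∈ Z := hz.center_eq.le ⟨hkp, fun d hd => by
    have h1 : ⁅d, k⁆ ∈ O := le_normalizer_iff_commutator_le_left.1 hOn
      (commutator_mem_commutator hd hk)
    have h2 := hmul _ (mem_sup_left h1) k hkT
    rw [hD1 _ h1, one_mul, commutatorElement_def, inv_mul_cancel_right, conj_pow] at h2
    rw [← h2, inv_mul_cancel_right, h2]⟩
  have h1 := hmul _ (pow_mem hkT 8) _ (mem_sup_left hr8)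
  rw [hD1 _ hr8, mul_one, mul_inv_cancel_left, ← hg'.map_pow hk, hgZ _ hkZ, ← pow_mul k 8,
    mul_comm 8, pow_mul, show 8 = 2 + 6 from rfl, pow_add, left_eq_mul] at h1
  refine hkO (hDm k hk (mem_bot.1 (mem_of_pow_mem hS (pow_mem hk p) (k := 6) ?_ (mem_bot.2 h1))))
  exact Nat.Coprime.mul_left (m := 2) (n := 3) ((Nat.coprime_primes Nat.prime_two hp1).2 (by omega))
    ((Nat.coprime_primes Nat.prime_three hp1).2 (by omega))

/-- Let p ≥ 5 be a prime and S a finite p-group of p-rank two (it has an elementary abelian subgroup of order p² and none of order p³) which is not the extraspecial group of order p³ and exponent p. Then S is resistant: for every saturated fusion system F over S, S is normal in F, that is, every map of F extends to an F-automorphism of S. -/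
theorem result {Ω : Type*} [Group Ω] {S : Subgroup Ω} [Finite S] (p : ℕ) [Fact p.Prime] (hS : IsPGroup p S)
    (F : Cfsg.FusionSystem S) (hF : F.IsSaturated p)
    (hp : 5 ≤ p)
    (hrank2 : ∃ E : Subgroup Ω, E ≤ S ∧ Cfsg.IsElementaryAbelian p E ∧ Nat.card E = p ^ 2)
    (hrank3 : ∀ E : Subgroup Ω, E ≤ S → Cfsg.IsElementaryAbelian p E → Nat.card E ≤ p ^ 2)
    (hnotE : ¬ (Nat.card S = p ^ 3 ∧ Monoid.exponent ↥S = p)) : F.IsNormal S := by
  have hp1 : p.Prime := Fact.out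
  refine (hF.isNormal_top_iff hS).2 fun R hR => ?_
  obtain ⟨F', h⟩ := F.exists_toTop
  have hr : PRankLE p 2 (⊤ : Subgroup S) := PRankLE.top_iff.2 (PG.pRankLE_subgroup_iff.2 hrank3)
  have hS' := h.isPGroup hS
  refine caseA (h.isSaturated hF hS) hS' hp hr (fun h1 => hnotE ?_) (IsTop.essential h hR)
  have h2 := (stepA (h.isSaturated hF hS) hS' hp hr (IsTop.essential h hR)).2.1
  rw [top_le_iff.1 h1, card_top] at h2
  have : Nontrivial S := Finite.one_lt_card_iff_nontrivial.1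
    (h2 ▸ Nat.one_lt_pow three_ne_zero hp1.one_lt)
  exact ⟨h2, (Monoid.exponent_eq_prime_iff hp1).2 fun g hg => orderOf_eq_prime
    (FT.exponent_Ohm1_rank2 hS' hr (by omega) g (h1 (mem_top g))) hg⟩

end Cfsg.Agent.S5289
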