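import Mathlib
import Cfsg.Statements.S5295
import Cfsg.Agent.Fus.EssLocal
import Cfsg.Agent.S5294
import Cfsg.Agent.S5193
import Cfsg.Agent.S5096
import Cfsg.Agent.S5098
import Cfsg.Agent.GT.Thompson

set_option autoImplicit false
set_option linter.unusedVariables false
universe u
open Cfsg

namespace Cfsg.Agent.S5295

open Cfsg.FusionSystem Cfsg.Agent.Fus Subgroup

/-- Let F be a saturated fusion system over a finite p-group S with p odd. Then the centre Z(F) of F is a direct factor of Z(S): there is a subgroup K of Z(S) with Z(F) ∩ K = 1 and Z(F)K = Z(S). (At the prime 2 this can fail.) -/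
theorem result {Ω : Type u} [Group Ω] {S : Subgroup Ω} [Finite S] (p : ℕ) [Fact p.Prime] (hp : p ≠ 2) (hS : IsPGroup p S)
    (F : Cfsg.FusionSystem S) (hF : F.IsSaturated p) :
    ∃ K : Subgroup Ω, K ≤ (S ⊓ Subgroup.centralizer (S : Set Ω)) ∧ F.center ⊓ K = ⊥ ∧ F.center ⊔ K = (S ⊓ Subgroup.centralizer (S : Set Ω)) := by
  set J := thompsonSubgroupAOf S with hJ
  have hJS : J ≤ S := map_subtype_le _
  have hn : S ≤ normalizer (J : Set Ω) := by
    rw [hJ, GT.thompsonSubgroupAOf_eq]; exact GT.le_normalizer_thJ 0 S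
  have hNS : normalizerIn S J = S := normalizerIn_eq_of_le hn
  obtain ⟨N, hN⟩ := S5096.result F J hJS
  have hNs := S5098.result p hS F hF J (F.isFullyNormalized_of_le_normalizer hJS hn) N hN
  have h1 := (S5193.result p hS F hF N hN).2 (Or.inl hp)
  have hZ : S ⊓ centralizer (S : Set Ω) ≤ J := fun z hz => by
    refine ⟨⟨z, hz.1⟩, ?_, rfl⟩
    rw [GT.thompsonSubgroupA_eq]
    exact GT.thZ_le_thJ 0 ⊤ (GT.center_le_thZ_zero ⊤ ⟨trivial, fun s _ =>
      Subtype.ext (hz.2 s s.2)⟩)
  have h2 := S5294.result p (hS.to_le normalizerIn_le) N hNs (by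
    rw [show normalizerIn S J ⊓ centralizer (normalizerIn S J : Set Ω) =
      S ⊓ centralizer (S : Set Ω) by rw [hNS]]
    exact hZ.trans (ns_isNormal hN hJS).le_core)
  rwa [h1, hNS] at h2

end Cfsg.Agent.S5295
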