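import Mathlib
import Cfsg.Statements.S5299

set_option autoImplicit false
open Cfsg

universe u

namespace Cfsg.Agent.S5299

open scoped Pointwise

theorem involves_of_inj_surj {A S Q : Type*} [Group A] [Group S] [Group Q] (j : A →* S)
    (hj : Function.Injective j) (f : A →* Q) (hf : Function.Surjective f) : Involves Q S := by
  let e : A ≃* j.range := MonoidHom.ofInjective hj
  let g : j.range →* Q := f.comp e.symm.toMonoidHom
  have hg : Function.Surjective g := hf.comp e.symm.surjective
  have hR : (g.ker.map j.range.subtype).subgroupOf j.range = g.ker :=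
    Subgroup.comap_map_eq_self_of_injective Subtype.val_injective _
  haveI hn : ((g.ker.map j.range.subtype).subgroupOf j.range).Normal := hR.symm ▸ inferInstance
  refine ⟨j.range, g.ker.map j.range.subtype, hn, ⟨?_⟩⟩
  exact (QuotientGroup.quotientMulEquivOfEq hR).trans (QuotientGroup.quotientKerEquivOfSurjective g hg)

theorem result {Ω : Type u} [Group Ω] {S : Subgroup Ω} [Finite S] (p : ℕ) [Fact p.Prime] (hS : IsPGroup p S)
    (F : Cfsg.FusionSystem S) (hF : F.IsSaturated p) (H : Type*) [Group H] [Finite H] (Q : Subgroup H) (hQ : IsPGroup p Q)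
    (hfree : ¬ Cfsg.Involves (↥Q) (↥S)) : F.IsSectionFree p H := by
  intro Q0 _ _ N _ L _ ι hM
  rintro ⟨K, R, hn, ⟨e⟩⟩
  obtain ⟨hfin, hreal, ⟨T, hT⟩, -⟩ := hM
  apply hfree
  let f : K →* H := e.toMonoidHom.comp (QuotientGroup.mk' (R.subgroupOf K))
  have hf : Function.Surjective f := e.surjective.comp (QuotientGroup.mk'_surjective _)
  let Q' : Subgroup K := Q.comap f
  let f' : Q' →* Q := (f.comp Q'.subtype).codRestrict Q (fun x => x.2)
  have hf' : Function.Surjective f' := by
    rintro ⟨q, hq⟩
    obtain ⟨k, rfl⟩ := hf q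
    exact ⟨⟨k, hq⟩, rfl⟩
  obtain ⟨P⟩ : Nonempty (Sylow p Q') := inferInstance
  have hPtop : (P : Subgroup Q').map f' = ⊤ := by
    have h1 := (P.mapSurjective hf').3 (Q := ⊤) (hQ.to_subgroup ⊤) le_top
    rw [← Sylow.coe_mapSurjective hf' P]
    exact h1.symm
  let j0 : (P : Subgroup Q') →* L := (K.subtype.comp Q'.subtype).comp (P : Subgroup Q').subtype
  have hj0 : Function.Injective j0 :=
    (Subtype.val_injective.comp Subtype.val_injective).comp Subtype.val_injective
  have hp : IsPGroup p j0.range := P.isPGroup'.of_surjective _ j0.rangeRestrict_surjective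
  obtain ⟨T', hT'⟩ := hp.exists_le_sylow
  obtain ⟨k, hk⟩ := MulAction.exists_smul_eq L T' T
  have hkT : ∀ x, (MulAut.conj k).toMonoidHom.comp j0 x ∈ ι.range := by
    intro x
    rw [← hT, ← hk, Sylow.coe_subgroup_smul]
    exact Subgroup.smul_mem_pointwise_smul _ (MulAut.conj k) _ (hT' ⟨x, rfl⟩)
  let j1 := ((MulAut.conj k).toMonoidHom.comp j0).codRestrict ι.range hkT
  have hj1 : Function.Injective j1 := by
    intro a b hab
    exact hj0 ((MulAut.conj k).injective (congrArg Subtype.val hab))
  let j : (P : Subgroup Q') →* S :=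
    (Subgroup.inclusion (inf_le_left : FusionSystem.normalizerIn S Q0 ≤ S)).comp
      ((MonoidHom.ofInjective hreal.1).symm.toMonoidHom.comp j1)
  have hj : Function.Injective j :=
    (Subgroup.inclusion_injective (inf_le_left : FusionSystem.normalizerIn S Q0 ≤ S)).comp
      ((MonoidHom.ofInjective hreal.1).symm.injective.comp hj1)
  refine involves_of_inj_surj j hj (f'.comp (P : Subgroup Q').subtype) ?_
  intro q
  have : q ∈ (P : Subgroup Q').map f' := hPtop ▸ Subgroup.mem_top q
  obtain ⟨x, hx, rfl⟩ := this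
  exact ⟨⟨x, hx⟩, rfl⟩

end Cfsg.Agent.S5299
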