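import Mathlib
import Cfsg.Statements.S5316
import Cfsg.Agent.Fus.R3MaxB

set_option autoImplicit false
open Cfsg

namespace Cfsg.Agent.S5316

open Cfsg.FusionSystem Cfsg.Agent.Fus Cfsg.Agent.GT Subgroup

/-- Let p ≥ 5 be a prime, S a finite p-group of maximal class of order p^n with n ≥ 5 (nilpotency class n − 1), F a saturated fusion system over S, and E an F-essential subgroup that is not a pearl (not elementary abelian of order p² and not extraspecial of order p³ and exponent p). Then E has order at least p⁴. -/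
theorem result {Ω : Type*} [Group Ω] {S : Subgroup Ω} [Finite S] (p : ℕ) [Fact p.Prime] (hp : 5 ≤ p) (hS : IsPGroup p ↥S) (n : ℕ) (hn : Nat.card S = p ^ n) (h5 : 5 ≤ n)
    (hmax : Subgroup.lowerCentralSeries S (n - 2) ≠ ⊥) (F : Cfsg.FusionSystem S) (hF : F.IsSaturated p)
    (E : Subgroup Ω) (hE : F.IsEssential p E)
    (hnp : ¬ ((Nat.card ↥E = p ^ 2 ∧ Cfsg.IsElementaryAbelian p E) ∨ (Nat.card ↥E = p ^ 3 ∧ Cfsg.IsExtraspecial p ↥E ∧ Monoid.exponent ↥E = p))) :
    p ^ 4 ≤ Nat.card ↥E := by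
  have hp' : p.Prime := Fact.out
  have := finite_of_le hE.le
  have hP := hS.to_le hE.le
  have nc := hE.noChain hF hS
  obtain ⟨m, hm⟩ := hP.exists_card_eq
  by_contra hlt
  rw [hm, Nat.pow_le_pow_iff_right hp'.one_lt] at hlt
  obtain rfl | rfl | rfl | rfl : m = 0 ∨ m = 1 ∨ m = 2 ∨ m = 3 := by omega
  · exact nc.not_isCyclic hP (isCyclic_of_card_dvd_prime (p := p) (by rw [hm]; simp))
  · exact nc.not_isCyclic hP (isCyclic_of_card_dvd_prime (p := p) (by rw [hm]; simp))
  · exact hnp (.inl ⟨hm, IsElementaryAbelian.of_card_sq hm (nc.not_isCyclic hP)⟩)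
  rcases nc.of_card_cube hm with h | h | h
  · obtain ⟨k, rfl, h1, h2⟩ := FG.MxC.nilpotencyClass_of_lcs hn (by omega) hmax
    obtain ⟨F₁, t⟩ := F.exists_toTop
    have : Fact (IsPGroup p S) := ⟨hS⟩
    have e := subgroupOfEquivOfLe hE.le
    refine R3.not_ess_cube (t.isSaturated hF hS) (by omega) h1 h2 (by omega) (IsTop.essential t hE)
      ((Nat.card_congr e.toEquiv).trans hm) ⟨⟨fun a b => e.injective ?_⟩⟩ fun x hx =>
        Subtype.ext (congrArg Subtype.val (h.2 ⟨x, hx⟩) :)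
    rw [map_mul, map_mul, h.1.is_comm.comm]
  · refine hnp (.inr ⟨hm, h.2.1, ?_⟩)
    have : Nontrivial E := Finite.one_lt_card_iff_nontrivial.1
      (hm ▸ Nat.one_lt_pow (by omega) hp'.one_lt)
    exact (Monoid.exponent_eq_prime_iff hp').2 fun g hg => orderOf_eq_prime (h.2.2 g) hg
  · omega

end Cfsg.Agent.S5316
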