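import Mathlib
import Cfsg.Statements.S5332
import Cfsg.Agent.Fus.EssLocal
import Cfsg.Agent.S5221

set_option autoImplicit false
set_option linter.unusedVariables false
open Cfsg

namespace Cfsg.Agent.S5332

open Cfsg.FusionSystem Cfsg.Agent.Fus Subgroup

/-- Let p be odd and F a saturated fusion system over a finite p-group S that is not the inner system of S. Then F contains a saturated constrained subsystem over S that is itself not the inner system. -/
theorem result {Ω : Type*} [Group Ω] {S : Subgroup Ω} [Finite S] (p : ℕ) [Fact p.Prime] (hS : IsPGroup p S) (F : Cfsg.FusionSystem S) (hF : F.IsSaturated p) (hp : p ≠ 2) (hne : ∃ P : Subgroup Ω, F.Hom P ≠ (Cfsg.innerFusionSystem S).Hom P) : ∃ E : Cfsg.FusionSystem S, E ≤ F ∧ E.IsConstrained p ∧ ∃ P : Subgroup Ω, E.Hom P ≠ (Cfsg.innerFusionSystem S).Hom P := by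
  obtain ⟨E, ⟨h1, h2⟩, h3, h4⟩ := exists_minimal_fs
    (M := fun E => E.IsSaturated p ∧ E ≠ innerFusionSystem S) (F := F) ⟨hF, by
      rintro rfl
      obtain ⟨P, hP⟩ := hne
      exact hP rfl⟩
  refine ⟨E, h3, S5221.result p hS E h1 ⟨fun h => h2 (ext_hom h), fun D hD hDE => ?_⟩ (Or.inl hp), ?_⟩
  · by_cases e : D = innerFusionSystem S
    · exact Or.inr fun P => by rw [e]
    · exact Or.inl fun P => by rw [h4 D ⟨hD, e⟩ hDE]
  · by_contra h
    push Not at h
    exact h2 (ext_hom h)

end Cfsg.Agent.S5332
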