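import Mathlib
import Cfsg.Statements.S5343
import Cfsg.Agent.Fus.InvGroup

set_option autoImplicit false
set_option linter.unusedVariables false
universe u
open Cfsg

namespace Cfsg.Agent.S5343

open Cfsg.FusionSystem Cfsg.Agent.Fus Subgroup
theorem aux.{v} {Ω : Type*} [Group Ω] {S : Subgroup Ω} [Finite S] (p : ℕ) [Fact p.Prime]
    (hS : IsPGroup p S) (F : Cfsg.FusionSystem S) (hsimple : F.IsSimple p) (n : ℕ) :
    ∀ (G : Type v) [Group G] [Finite G] (j : Ω → G), Nat.card G = n → F.Realizes j ⊤ →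
      ¬ p ∣ (img j S).index → ∃ (G : Type v) (_ : Group G) (_ : Finite G) (_ : IsSimpleGroup G)
        (ι : ↥S →* G), F.IsRealizedBy ι ∧ ∃ T : Sylow p G, (T : Subgroup G) = ι.range := by
  induction n using Nat.strong_induction_on with
  | _ n ih =>
  intro G _ _ j hn h hi
  by_cases hG : IsSimpleGroup G
  · exact ⟨G, inferInstance, inferInstance, hG, _, h.isRealizedBy, h.exists_sylow hS hi⟩
  obtain ⟨η, hη⟩ := h.exists_isIsoVia rfl le_top
  have hs := hη.isSimple hS hsimple
  have hT := isPGroup_img h.mulOn hS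
  have : Nontrivial G := by
    by_contra h
    have := not_nontrivial_iff_subsingleton.1 h
    exact hs.2.1 (Subsingleton.elim _ _)
  obtain ⟨N, hN, h1, h2⟩ : ∃ N : Subgroup G, N.Normal ∧ N ≠ ⊥ ∧ N ≠ ⊤ := by
    by_contra hc
    push Not at hc
    exact hG ⟨fun N hN => or_iff_not_imp_left.2 (hc N hN)⟩
  have hi' : ¬ p ∣ (img j S).relIndex ⊤ := by rwa [relIndex_top_right]
  rcases hs.2.2 _ _ (isNormalIn_ofSubgroup le_top hT hi' le_top (normalizer_eq_top N).ge) with
    h3 | ⟨h3, h4⟩
  · refine ih _ ?_ (G ⧸ N) _ rfl (h.quot hS hi (QuotientGroup.mk' N)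
      (QuotientGroup.mk'_surjective N) (by rwa [QuotientGroup.ker_mk'])) ?_
    · rw [← hn, ← N.index_eq_card, ← N.card_mul_index]
      have := (N.one_lt_card_iff_ne_bot).2 h1
      have := N.index_ne_zero_of_finite
      nlinarith [Nat.pos_of_ne_zero this]
    · rw [h.img_comp_hom]
      exact fun hd => hi (hd.trans (index_map_dvd _ (QuotientGroup.mk'_surjective N)))
  · have hle : img j S ≤ N := h3 ▸ inf_le_right
    have hR : F.Realizes j N := by
      refine ⟨h.mulOn, h.inj, fun x hx => hle (mem_img_of_mem hx), fun {P f} => ?_⟩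
      refine ⟨fun hf => ⟨hf.le, fun x hx => hf.mem hx, ?_⟩, fun ⟨h5, h6, g, _, e⟩ =>
        h.mor_iff.2 ⟨h5, h6, g, trivial, e⟩⟩
      obtain ⟨-, -, g, hg, e⟩ := mor_ofSubgroup_iff.1 ((hom_eq_iff_mor.1 (h4 _) _).2 (hη.push hf))
      refine ⟨g, hg, fun x hx => ?_⟩
      rw [← e _ (mem_img_of_mem hx), hη.left x (hf.le hx)]
    refine ih _ ?_ N _ rfl hR.toSub ?_
    · rw [← hn, ← card_top (G := G)]
      exact GT.Tr.card_lt_of_lt (lt_top_iff_ne_top.2 h2)
    · rw [hR.img_toSub]
      exact fun hd => hi (hd.trans (relIndex_dvd_index_of_le hle))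

/-- Let F be a simple saturated fusion system over a finite p-group S that is realized by some finite group on a Sylow p-subgroup. Then F is realized by a finite simple group on a Sylow p-subgroup. -/
theorem result {Ω : Type u} [Group Ω] {S : Subgroup Ω} [Finite S] (p : ℕ) [Fact p.Prime] (hS : IsPGroup p S) (F : Cfsg.FusionSystem S) (hsimple : F.IsSimple p) (hreal : F.IsRealizable p) : ∃ (G : Type u) (_ : Group G) (_ : Finite G) (_ : IsSimpleGroup G) (ι : ↥S →* G), F.IsRealizedBy ι ∧ ∃ T : Sylow p G, (T : Subgroup G) = ι.range := by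
  obtain ⟨G, _, _, ι, hι, T, hT⟩ := hreal
  exact aux p hS F hsimple _ G _ rfl hι.realizes (IsRealizedBy.not_dvd_index hT)

end Cfsg.Agent.S5343
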