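import Mathlib
-- Template for statement S5472 (row 5472; see /opt/grader/pristine/manifest.json for weights).
-- Copy to Cfsg/Agent/S5472.lean and replace the sorry. The statement below is byte-identical to the frozen
-- statement Cfsg.CfsgFrozen.S5472 (Cfsg/Statements/S5472.lean; the theorem Cfsg.spor2_type_m22_outer_involution_representatives_and_centralizers);
-- the grader kernel-checks Cfsg.Agent.S5472.result against that frozen type. Keep the theorem IN THIS FILE
-- (a `result` declared elsewhere and merely imported here is not credited); helpers may live anywhere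
-- under Cfsg/Agent/.
import Cfsg.Statements.S5472
import Cfsg.Agent.Spor.FiIso22
import Cfsg.Agent.Spor.F22.A2
import Cfsg.Agent.Spor.F22.AC
import Cfsg.Agent.Spor.F22.AK
import Cfsg.Agent.Spor.F22.I8

set_option autoImplicit false
open Cfsg

namespace Cfsg.Agent.S5472

/-- Let G be a finite group with trivial centre generated by a conjugation-invariant set D of 3-transpositions on which it acts primitively, such that for some d in D the subgroup generated by the members of D other than d commuting with d has central largest normal 2- and 3-subgroups, and suppose G with D is of type M(22). Then G has a non-inner automorphism s of order 2 whose fixed-point subgroup is isomorphic to the full automorphism group of Ω⁺(8, 2) (the commutator subgroup of the isometry group of the hyperbolic quadratic form in dimension 8 over the field with two elements), together with distinct commuting members a, b of D fixed by s such that: s, s composed with conjugation by a, and s composed with conjugation by a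 b represent the three classes (under the automorphism group) of non-inner automorphisms of order 2; the elements fixed by the automorphism s composed with conjugation by a are exactly those fixed by s and commuting with a, and they form a group isomorphic to the direct product of a group of order 2 and the symplectic group of dimension 6 over the field with two elements; and the elements fixed by the automorphism s composed with conjugation by a b form a group whose largest normal 2-subgroup is elementary abelian of order 64 with quotient isomorphic to the full isometry group of the elliptic quadratic form in dimension 6 over the field with two elements. -/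
theorem result {G : Type*} [Group G] [Finite G] {D : Set G} (hD : Cfsg.IsThreeTranspositionGroup D) (hprim : Cfsg.IsPrimitiveUnderConj D) (d₀ : G) (hd₀ : d₀ ∈ D) (h3 : Cfsg.pCore 3 ↥(Subgroup.closure {y : G | y ∈ D ∧ y ≠ d₀ ∧ Commute d₀ y}) ≤ Subgroup.center ↥(Subgroup.closure {y : G | y ∈ D ∧ y ≠ d₀ ∧ Commute d₀ y})) (h2 : Cfsg.pCore 2 ↥(Subgroup.closure {y : G | y ∈ D ∧ y ≠ d₀ ∧ Commute d₀ y}) ≤ Subgroup.center ↥(Subgroup.closure {y : G | y ∈ D ∧ y ≠ d₀ ∧ Commute d₀ y})) (h22 : Cfsg.IsOfTypeM22 G D) : ∃ (s : MulAut G) (a b : G) (Cs : Subgroup G), orderOf s = 2 ∧ s ∉ (MulAut.conj : G →* MulAut G).range ∧ (∀ g : G, g ∈ Cs ↔ s g = g) ∧ Nonempty (↥Cs ≃* MulAut (Cfsg.Omega (ZMod 2) (Cfsg.quadFormPlus 4 (ZMod 2)))) ∧ a ∈ D ∧ b ∈ D ∧ a ≠ b ∧ Commute a b ∧ s a = a ∧ s b = b ∧ (∀ t : MulAut G, orderOf t = 2 → t ∉ (MulAut.conj : G →* MulAut G).range → (IsConj t s ∨ IsConj t (s * MulAut.conj a) ∨ IsConj t (s * MulAut.conj (a * b)))) ∧ ¬ IsConj s (s * MulAut.conj a) ∧ ¬ IsConj s (s * MulAut.conj (a * b))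 ∧ ¬ IsConj (s * MulAut.conj a) (s * MulAut.conj (a * b)) ∧ (∀ g : G, (s * MulAut.conj a) g = g ↔ g ∈ Cs ⊓ Subgroup.centralizer ({a} : Set G)) ∧ Nonempty (↥(Cs ⊓ Subgroup.centralizer ({a} : Set G)) ≃* Multiplicative (ZMod 2) × Cfsg.PSp 3 (ZMod 2)) ∧ ∃ Csab O : Subgroup G, (∀ g : G, g ∈ Csab ↔ (s * MulAut.conj (a * b)) g = g) ∧ O = (Cfsg.pCore 2 ↥Csab).map Csab.subtype ∧ Cfsg.IsElementaryAbelian 2 O ∧ Nat.card O = 64 ∧ ∃ _ : (O.subgroupOf Csab).Normal, Nonempty (↥Csab ⧸ O.subgroupOf Csab ≃* Cfsg.isometryGroup (ZMod 2) (Cfsg.quadFormMinus 2 (ZMod 2) 1 1)) := by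
  obtain ⟨e, he⟩ := Spor.Fi.typeM22_iso hD hprim h22
  obtain ⟨M, hM, rfl⟩ := Spor.F22.exists_mod e he
  obtain ⟨N, hN, h4, h5, h6⟩ := Spor.F22A.exists_mod M hM
  have hz := M.center_eq_bot
  have ea : M.x 3524 = M.x 0 := by simpa [Spor.evalW] using M.eq (v := [3524]) (w := [0]) (by decide +kernel)
  have eb : M.x 3517 = M.x 12 := by simpa [Spor.evalW] using M.eq (v := [3517]) (w := [12]) (by decide +kernel)
  have e0 : N.w [3525] = N.x 3525 := mul_one _
  have e1 : N.w [3525, 3524] = N.x 3525 * MulAut.conj (M.x 0) := by simp [Spor.evalW, h6, ea]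
  have e2 : N.w [3525, 3524, 3517] = N.x 3525 * MulAut.conj (M.x 0 * M.x 12) := by simp [Spor.evalW, h6, ea, eb]
  have f0 : N.wl Spor.F22A.cs_f 0 = N.x 3525 := (N.eq (by decide +kernel)).trans e0
  have f1 : N.wl Spor.F22A.ca_f 0 = _ := (N.eq (by decide +kernel)).trans e1
  have f2 : N.wl Spor.F22A.cb_f 0 = _ := (N.eq (by decide +kernel)).trans e2
  have o1 : ∀ y : G, N.x 3525 * MulAut.conj y ∉ Inn G := fun y h => h4 (((Inn G).mul_mem_cancel_right ⟨y, rfl⟩).1 h)
  have k0 := Spor.FL.fix_eq_of_card hz h4 (e0 ▸ M.fix_of_comm N h6 Spor.F22.i8_hg (r := 9) (t := [3525]) (by decide +kernel))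
    (f0 ▸ Spor.F22A.cs_card N hN) (Spor.F22.i8_c M)
  have k1 := Spor.FL.fix_eq_of_card hz (o1 _)
    (e1 ▸ M.fix_of_comm N h6 Spor.F22.ka_hg (r := 9) (t := [3525, 3524]) (by decide +kernel))
    (f1 ▸ Spor.F22A.ca_card N hN) (Spor.F22.ka_ge M)
  have k2 := Spor.FL.fix_eq_of_card hz (o1 _)
    (e2 ▸ M.fix_of_comm N h6 Spor.F22.kb_hg (r := 12) (t := [3525, 3524, 3517]) (by decide +kernel))
    (f2 ▸ Spor.F22A.cb_card N hN) (Spor.F22.kb_ge M)
  have k3 : Spor.genLt (M.wl Spor.F22.i8_g) 9 ⊓ Subgroup.centralizer {M.x 0} = Spor.genLt (M.wl Spor.F22.ka_g) 9 := by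
    refine le_antisymm (fun y hy => (k1.1 y).2 ?_) (le_inf (fun y hy => (k0.1 y).2 ?_) ?_)
    · rw [MulAut.mul_apply, MulAut.conj_apply, ← Subgroup.mem_centralizer_singleton_iff.1 hy.2, mul_inv_cancel_right,
        (k0.1 y).1 hy.1]
    · exact e0 ▸ M.fix_of_comm N h6 Spor.F22.ka_hg (r := 9) (t := [3525]) (by decide +kernel) y hy
    · exact mul_one (M.x 0) ▸ M.genLt_le_centralizer (x := [0]) (by decide +kernel)
  have nc : ∀ {f f' : ℕ → MulAut G}, IsConj (f 0) (f' 0) → _ :=
    Spor.FL.ncard_eq_of_isConj (D := N.D) fun g _ hd => N.conj_mem hd g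
  have fx : ∀ p, p ∈ [0, 12] → N.x 3525 (M.x p) = M.x p := fun p hp => (Spor.FL.fix_iff hz).2 (by
    simp only [List.mem_cons, List.not_mem_nil, or_false] at hp
    rcases hp with rfl | rfl <;> rw [← h6 _ (by decide)] <;>
      exact (N.commute_x_iff (by decide) (by decide)).2 (by decide +kernel))
  refine ⟨N.x 3525, M.x 0, M.x 12, _, e0 ▸ N.orderOf_prime (by decide +kernel) (by decide +kernel), h4, k0.1,
    Spor.F22.i8_equiv M hM, M.mem_D (by decide), M.mem_D (by decide), M.x_ne (by decide) (by decide) (by decide),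
    (M.commute_x_iff (by decide) (by decide)).2 (by decide +kernel), fx 0 (by simp), fx 12 (by simp), fun t ht h => ?_,
    fun h => ?_, fun h => ?_, fun h => ?_, fun y => by rw [k3, k1.1], k3 ▸ Spor.F22.ka_equiv M k1.2, _, _, k2.1,
    (Spor.F22.kb_quot M k2.2).1.symm, (Spor.F22.kb_v_ab M).isElemAb, Spor.F22.kb_cardO M, (Spor.F22.kb_quot M k2.2).2⟩
  · obtain ⟨i, hi, u, hu⟩ := Spor.F22A.r2_cls N hN t ht
    have h7 : ∀ w, Spor.lettersLt 3525 w = true → u * t * u⁻¹ ≠ N.w w := fun w hw e => h (by
      rw [show t = u⁻¹ * (u * t * u⁻¹) * u⁻¹⁻¹ by group, e, M.ext_w N h6 hw]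
      exact (Cfsg.innNormal G).conj_mem _ ⟨_, rfl⟩ _)
    interval_cases i
    · exact .inl (isConj_iff.2 ⟨u, hu.trans ((N.eq (by decide +kernel)).trans e0)⟩)
    · exact .inr (.inl (isConj_iff.2 ⟨u, hu.trans ((N.eq (by decide +kernel)).trans e1)⟩))
    · exact .inr (.inr (isConj_iff.2 ⟨u, hu.trans ((N.eq (by decide +kernel)).trans e2)⟩))
    all_goals exact absurd hu (h7 _ (by decide +kernel))
  · rw [← f1, ← f0] at h
    exact absurd ((Spor.F22A.cs_fix N).symm.trans ((nc h).trans (Spor.F22A.ca_fix N))) (by decide)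
  · rw [← f2, ← f0] at h
    exact absurd ((Spor.F22A.cs_fix N).symm.trans ((nc h).trans (Spor.F22A.cb_fix N))) (by decide)
  · rw [← f2, ← f1] at h
    exact absurd ((Spor.F22A.ca_fix N).symm.trans ((nc h).trans (Spor.F22A.cb_fix N))) (by decide)

end Cfsg.Agent.S5472
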