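import Mathlib
import Cfsg.Statements.S5522
import Cfsg.Agent.Spor.M12Mixed
-- import your own Cfsg.Agent.* helpers here

set_option autoImplicit false
open Cfsg

namespace Cfsg.Agent.S5522

open Cfsg.Agent.Spor Cfsg.Agent.Spor.MB Cfsg.Agent.Spor.Dod MulAction

/-- A fixed point outside the dodecad, or order 4 or 8. -/
noncomputable def test (c : ℕ) : Bool :=
  Bool.or (anyL (fun i => Nat.beq (ap c i) i) [5, 7, 10, 11, 14, 15, 17, 19, 20, 21, 22, 23])
    (force (mul c c) fun c2 => force (mul c2 c2) fun c4 =>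
      Bool.and (Bool.not (Nat.beq c2 idc)) (Nat.beq (mul c4 c4) idc))

theorem check : chainAll [T1, T2, T3, T4] test idc = true := by decide +kernel


/-- The Mathieu group M₁₁, realised as the stabiliser of one point of the dodecad of squares inside the stabiliser M₁₂ of that dodecad in M₂₄, acts on the twelve coordinate positions outside the dodecad of squares (its 3-transitive action of degree 12); in this action every element of prime order fixes a point, i.e. the action is elusive. -/
theorem result (g : Equiv.Perm Cfsg.GolayPt) (hg : g ∈ Cfsg.Spor.M11) (hord : (orderOf g).Prime) :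
    ∃ x : Cfsg.GolayPt, x ∉ Cfsg.Spor.squareDodecad ∧ g x = x := by
  have hg' : g ∈ Fx D0 ([0].map pt) := by
    obtain ⟨⟨h1, h2⟩, h3⟩ := mem_M11.1 hg
    rw [squareDodecad_eq] at h2
    exact ⟨h1, h2, by simpa [pt] using h3⟩
  have h := enumC_M11.forall check g hg'
  rw [test, Bool.or_eq_true, anyL_iff] at h
  rcases h with ⟨i, hi, h⟩ | h
  · have hi' : i < 24 ∧ pt i ∉ D0 := by
      revert i
      have : ∀ i ∈ [5, 7, 10, 11, 14, 15, 17, 19, 20, 21, 22, 23], i < 24 ∧ pt i ∉ D0 := by
        decide +kernel
      exact fun i hi _ => this i hi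
    exact ⟨pt i, squareDodecad_eq ▸ hi'.2, (apply_pt_eq_iff hi'.1 hi'.1).2 (Nat.eq_of_beq_eq_true h)⟩
  · exfalso
    simp only [force_eq, ← code_mul, Bool.and_eq_true, Bool.not_eq_true', Nat.beq_eq,
      ← eq_one_iff_code] at h
    have h8 : orderOf g ∣ 2 ^ 3 := orderOf_dvd_of_pow_eq_one (by
      rw [← h.2]; simp only [pow_succ, pow_zero, one_mul, mul_assoc, Nat.reduceMul])
    have h2 := (Nat.prime_dvd_prime_iff_eq hord Nat.prime_two).1 (hord.dvd_of_dvd_pow h8)
    have h3 : g * g = 1 := by rw [← sq, ← h2, pow_orderOf_eq_one]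
    have h4 := h.1
    rw [h3, code_one] at h4
    exact absurd h4 (by decide +kernel)

end Cfsg.Agent.S5522
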