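import Mathlib
import Cfsg.Statements.S5528
import Cfsg.Agent.Gr.MinE
import Cfsg.Agent.Gr.MIso

set_option autoImplicit false
set_option linter.style.haveILetI false
set_option linter.unusedVariables false
open Cfsg

namespace Cfsg.Agent.S5528

/-- Every faithful complex matrix representation of the Monster (the finitely presented group of the definitions) has degree at least 196883: an injective homomorphism from the Monster into GL_n(ℂ) forces n ≥ 196883. -/
theorem result (n : ℕ) (ρ : Cfsg.Spor.Monster →* GL (Fin n) ℂ) (hρ : Function.Injective ρ) : 196883 ≤ n := by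
  obtain ⟨e⟩ := Gr.isoMK
  let σ : Gr.K →* Module.End ℂ (Fin n → ℂ) :=
    (Matrix.toLinAlgEquiv'.toMulEquiv.toMonoidHom.comp (Units.coeHom _)).comp
      (ρ.comp e.symm.toMonoidHom)
  have := Gr.MinD.min_degree σ fun h => Gr.zz_ne_one (e.symm.injective (hρ (Units.ext
    (Matrix.toLinAlgEquiv'.injective (h.trans (by rw [map_one, map_one]; exact (map_one _).symm))))))
  rwa [Module.finrank_fin_fun] at this

end Cfsg.Agent.S5528
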