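import Mathlib
-- Template for statement S5532 (row 5532; see /opt/grader/pristine/manifest.json for weights).
-- Copy to Cfsg/Agent/S5532.lean and replace the sorry. The statement below is byte-identical to the frozen
-- statement Cfsg.CfsgFrozen.S5532 (Cfsg/Statements/S5532.lean; the theorem Cfsg.mon19_monster_rank_ten_normalizer_orthogonal_shape);
-- the grader kernel-checks Cfsg.Agent.S5532.result against that frozen type. Keep the theorem IN THIS FILE
-- (a `result` declared elsewhere and merely imported here is not credited); helpers may live anywhere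
-- under Cfsg/Agent/.
import Cfsg.Statements.S5532
import Cfsg.Agent.Gr.MIso
import Cfsg.Agent.Gr.MTr
import Cfsg.Agent.Gr.L2.Ten

set_option autoImplicit false
open Cfsg

namespace Cfsg.Agent.S5532

/-- The Monster (realised inside the presented Bimonster) has an elementary abelian subgroup E of order 2^10 whose normalizer N satisfies: the largest normal 2-subgroup O of N is a special 2-group of order 2^26 whose centre is exactly E, O is the centralizer of E in N, and N/O is isomorphic to the commutator subgroup of the isometry group of the hyperbolic quadratic form Σ xᵢyᵢ in ten variables over the field with two elements (the simple orthogonal group of plus type in dimension 10 over that field). -/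
theorem result : ∃ (E N : Subgroup Cfsg.Spor.Monster) (O : Subgroup ↥N), Cfsg.IsElementaryAbelian 2 E ∧ Nat.card ↥E = 2 ^ 10 ∧ N = Subgroup.normalizer (E : Set Cfsg.Spor.Monster) ∧ O = Cfsg.pCore 2 ↥N ∧ Cfsg.IsSpecial 2 ↥O ∧ Nat.card ↥O = 2 ^ 26 ∧ (Subgroup.center ↥O).map O.subtype = E.subgroupOf N ∧ O = Subgroup.centralizer (E.subgroupOf N : Set ↥N) ∧ ∃ _ : O.Normal, Nonempty (↥N ⧸ O ≃* ↥(Cfsg.Omega (ZMod 2) (Cfsg.quadFormPlus 5 (ZMod 2)))) := by
  obtain ⟨e⟩ := Gr.isoMK
  have : Finite Cfsg.Spor.Monster := Finite.of_equiv _ e.symm.toEquiv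
  obtain ⟨Q, z, π, r, a, h, h1, h2⟩ := Gr.MTr.exists_mdata e
  exact Gr.L2.ten h h1 h2

end Cfsg.Agent.S5532
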