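import Mathlib
import Cfsg.Statements.S5533
import Cfsg.Agent.Gr.MIso
import Cfsg.Agent.Gr.E6
import Cfsg.Agent.Inv.Classes

set_option autoImplicit false
open Cfsg

namespace Cfsg.Agent.S5533

theorem perf_of {A B : Type*} [Group A] [Group B] (e : A ≃* B) (h : commutator A = ⊤) :
    commutator B = ⊤ := by
  have := map_commutator_eq A e.toMonoidHom
  rw [h, ← MonoidHom.range_eq_map, MonoidHom.range_eq_top.2 e.surjective] at this
  exact this.symm

open Subgroup in open scoped commutatorElement in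
theorem shape {G T : Type*} [Group G] [Finite G] [Group T] {t s a b : G} {C : Subgroup G}
    (hC : ∀ g, g ∈ C ↔ g * t = t * g ∧ g * s = s * g) (ht : t * t = 1) (hs : s * s = 1) (hc : t * s = s * t)
    (nd : [1, t, s, t * s].Nodup) (ψ : C →* T) (h1 : Function.Surjective ψ)
    (h2 : ∀ x, ψ x = 1 ↔ x.1 = 1 ∨ x.1 = t ∨ x.1 = s ∨ x.1 = t * s) (h3 : commutator C = ⊤)
    (a1 : a * t * a⁻¹ = s) (a2 : a * s * a⁻¹ = t) (b1 : b * t * b⁻¹ = t) (b2 : b * s * b⁻¹ = t * s) :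
    ∃ (E N : Subgroup G) (K : Subgroup N), IsKleinFour E ∧ N = normalizer (E : Set G) ∧ E.subgroupOf N ≤ K ∧
      (∃ _ : ((E.subgroupOf N).subgroupOf K).Normal, Nonempty (K ⧸ (E.subgroupOf N).subgroupOf K ≃* T)) ∧
      (∃ _ : K.Normal, Nonempty (N ⧸ K ≃* Equiv.Perm (Fin 3))) ∧
      ∀ L : Subgroup K, ¬ ((E.subgroupOf N).subgroupOf K).IsComplement' L := by
  classical
  have tC : t ∈ C := (hC t).2 ⟨rfl, hc⟩
  have sC : s ∈ C := (hC s).2 ⟨hc.symm, rfl⟩
  obtain ⟨E, hE⟩ : ∃ E : Subgroup G, ∀ x, x ∈ E ↔ x = 1 ∨ x = t ∨ x = s ∨ x = t * s :=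
    ⟨ψ.ker.map C.subtype, fun x => ⟨fun ⟨y, hy, e⟩ => e ▸ (h2 y).1 hy, fun h => ⟨⟨x, by
      rcases h with rfl | rfl | rfl | rfl
      exacts [one_mem _, tC, sC, mul_mem tC sC]⟩, (h2 _).2 h, rfl⟩⟩⟩
  have cen : ∀ g ∈ C, ∀ x ∈ E, g * x * g⁻¹ = x := fun g hg x hx => by
    obtain ⟨k1, k2⟩ := (hC g).1 hg
    rw [mul_inv_eq_iff_eq_mul]
    rcases (hE x).1 hx with rfl | rfl | rfl | rfl
    exacts [by simp, k1, k2, (Commute.mul_right k1 k2).eq]
  have nm : ∀ g : G, g * t * g⁻¹ ∈ E → g * s * g⁻¹ ∈ E → g ∈ normalizer (E : Set G) := fun g k1 k2 =>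
    mem_normalizer_fintype fun x hx => by
      rcases (hE x).1 hx with rfl | rfl | rfl | rfl
      exacts [by simp, k1, k2, (by group : g * t * g⁻¹ * (g * s * g⁻¹) = g * (t * s) * g⁻¹) ▸ mul_mem k1 k2]
  have tE : t ∈ E := (hE t).2 (.inr (.inl rfl))
  have sE : s ∈ E := (hE s).2 (.inr (.inr (.inl rfl)))
  have CN : C ≤ normalizer (E : Set G) := fun g hg =>
    nm g ((cen g hg t tE).symm ▸ tE) ((cen g hg s sE).symm ▸ sE)
  have EC : E ≤ C := fun x hx => by
    rcases (hE x).1 hx with rfl | rfl | rfl | rfl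
    exacts [one_mem _, tC, sC, mul_mem tC sC]
  let f : Fin 3 → G := ![t, s, t * s]
  have fi : Function.Injective f := List.nodup_ofFn.1 nd.of_cons
  have fm : ∀ x, (∃ j, x = f j) ↔ x ∈ E ∧ x ≠ 1 := fun x => by
    have := (List.nodup_cons.1 nd).1
    simp only [List.mem_cons, List.not_mem_nil, or_false, not_or] at this
    rw [hE, Fin.exists_fin_succ, Fin.exists_fin_two]
    refine ⟨fun h => ⟨.inr h, ?_⟩, fun h => h.1.resolve_left h.2⟩
    rintro rfl
    exact h.elim this.1 fun h => h.elim this.2.1 this.2.2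
  have ex : ∀ (n : normalizer (E : Set G)) (i : Fin 3), ∃ j, n.1 * f i * n.1⁻¹ = f j := fun n i =>
    (fm _).2 ⟨(mem_normalizer_iff.1 n.2 _).1 ((fm _).1 ⟨i, rfl⟩).1, by
      simpa using ((fm _).1 ⟨i, rfl⟩).2⟩
  choose φ hφ using ex
  have u1 : ∀ i, φ 1 i = i := fun i => fi (by rw [← hφ 1 i]; simp)
  have u2 : ∀ x y i, φ (x * y) i = φ x (φ y i) := fun x y i =>
    fi (by rw [← hφ, ← hφ, ← hφ, coe_mul]; group)
  let _ : MulAction (normalizer (E : Set G)) (Fin 3) := { smul := φ, one_smul := u1, mul_smul := u2 }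
  let ρ := MulAction.toPermHom (normalizer (E : Set G)) (Fin 3)
  have hρ : ∀ n σ, (∀ i, n.1 * f i * n.1⁻¹ = f (σ i)) → ρ n = σ := fun n σ h =>
    Equiv.ext fun i => fi ((hφ n i).symm.trans (h i))
  have kρ : ρ.ker = C.subgroupOf _ := Subgroup.ext fun n => ⟨fun h => (hC _).2
    ⟨mul_inv_eq_iff_eq_mul.1 ((hφ n 0).trans (congrArg f (Equiv.congr_fun h 0))),
      mul_inv_eq_iff_eq_mul.1 ((hφ n 1).trans (congrArg f (Equiv.congr_fun h 1)))⟩,
    fun h => hρ n 1 fun i => cen _ h _ ((fm _).1 ⟨i, rfl⟩).1⟩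
  have sρ : Function.Surjective ρ := fun σ => by
    have c1 : ρ ⟨a, nm a (a1 ▸ sE) (a2 ▸ tE)⟩ = Equiv.swap 0 1 := hρ _ _ fun i => by
      fin_cases i
      exacts [a1, a2, (by group : a * (t * s) * a⁻¹ = a * t * a⁻¹ * (a * s * a⁻¹)).trans (by rw [a1, a2]; exact hc.symm)]
    have c2 : ρ ⟨b, nm b (b1.symm ▸ tE) (b2 ▸ mul_mem tE sE)⟩ = Equiv.swap 1 2 := hρ _ _ fun i => by
      fin_cases i
      exacts [b1, b2, (by group : b * (t * s) * b⁻¹ = b * t * b⁻¹ * (b * s * b⁻¹)).trans (by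
        rw [b1, b2, ← mul_assoc, ht, one_mul]; rfl)]
    have m1 : Equiv.swap 0 1 ∈ ρ.range := ⟨_, c1⟩
    have m2 : Equiv.swap 1 2 ∈ ρ.range := ⟨_, c2⟩
    rcases (by decide : ∀ σ : Equiv.Perm (Fin 3), σ = 1 ∨ σ = Equiv.swap 0 1 ∨ σ = Equiv.swap 1 2 ∨
      σ = Equiv.swap 0 1 * Equiv.swap 1 2 ∨ σ = Equiv.swap 1 2 * Equiv.swap 0 1 ∨
      σ = Equiv.swap 0 1 * (Equiv.swap 1 2 * Equiv.swap 0 1)) σ with rfl | rfl | rfl | rfl | rfl | rfl
    exacts [ρ.range.one_mem, m1, m2, mul_mem m1 m2, mul_mem m2 m1, mul_mem m1 (mul_mem m2 m1)]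
  let e := subgroupOfEquivOfLe CN
  have nρ : (C.subgroupOf (normalizer (E : Set G))).Normal := kρ ▸ MonoidHom.normal_ker _
  have kφ : (ψ.comp e.toMonoidHom).ker = (E.subgroupOf _).subgroupOf (C.subgroupOf _) :=
    Subgroup.ext fun x => (h2 _).trans (hE _).symm
  refine ⟨E, _, C.subgroupOf _, Inv.isKleinFour_of_card_of_sq ?_ fun x hx => ?_, rfl, fun x hx => EC hx,
    ⟨kφ ▸ MonoidHom.normal_ker _, ⟨(QuotientGroup.quotientMulEquivOfEq kφ.symm).trans
      (QuotientGroup.quotientKerEquivOfSurjective _ (h1.comp e.surjective))⟩⟩,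
    ⟨nρ, ⟨(QuotientGroup.quotientMulEquivOfEq kρ.symm).trans
      (QuotientGroup.quotientKerEquivOfSurjective _ sρ)⟩⟩, fun L hL => ?_⟩
  · rw [show 4 = [1, t, s, t * s].toFinset.card from (List.toFinset_card_of_nodup nd).symm,
      ← Set.ncard_coe_finset, ← Nat.card_coe_set_eq]
    exact Nat.card_congr (Equiv.setCongr (Set.ext fun x => (hE x).trans (by simp)))
  · rcases (hE x).1 hx with rfl | rfl | rfl | rfl
    exacts [mul_one 1, ht, hs, by rw [mul_assoc, ← mul_assoc s, ← hc, mul_assoc, hs, mul_one, ht]]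
  · have p : commutator (C.subgroupOf (normalizer (E : Set G))) = ⊤ := perf_of e.symm h3
    have q : commutator (C.subgroupOf (normalizer (E : Set G))) ≤ L := commutator_le.2 fun x _ y _ => by
      obtain ⟨⟨x1, x2⟩, rfl⟩ := hL.2 x
      obtain ⟨⟨y1, y2⟩, rfl⟩ := hL.2 y
      have z : ∀ (u : (E.subgroupOf _).subgroupOf (C.subgroupOf (normalizer (E : Set G)))) v,
          Commute u.1 v := fun u v => Subtype.ext (Subtype.ext
            (mul_inv_eq_iff_eq_mul.1 (cen _ v.2 _ u.2)).symm)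
      have : ⁅x1.1 * x2.1, y1.1 * y2.1⁆ = ⁅x2.1, y2.1⁆ := by
        rw [commutatorElement_def, commutatorElement_def, mul_assoc x1.1, (z x1 _).eq, (z y1 _).eq,
          ← mul_assoc x2.1, mul_assoc _ y1.1, mul_assoc _ (y1.1 * _), mul_assoc y1.1, (z y1 _).eq, (z x1 x2.1).eq]
        group
      exact this ▸ commutator_le_self L (commutator_mem_commutator x2.2 y2.2)
    have := disjoint_def.1 hL.disjoint (x := ⟨⟨t, CN tC⟩, tC⟩) tE (q (p ▸ mem_top _))
    exact (List.nodup_cons.1 nd).1 (by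
      rw [← show t = 1 from congrArg (fun x => x.1.1) this]; simp)

/-- The Monster (realised inside the presented Bimonster) has a Klein four-subgroup E whose normalizer N has a normal subgroup K containing E such that K/E is isomorphic to the twisted group ²E₆(2) (realised over the field with four elements, as in the definitions), N/K is isomorphic to the symmetric group of degree 3, and E has no complement in K. -/
theorem result : ∃ (E N : Subgroup Cfsg.Spor.Monster) (K : Subgroup ↥N), IsKleinFour ↥E ∧ N = Subgroup.normalizer (E : Set Cfsg.Spor.Monster) ∧ E.subgroupOf N ≤ K ∧ (∃ (F : Type) (_ : Field F) (_ : Fintype F), Fintype.card F = 4 ∧ ∃ _ : ((E.subgroupOf N).subgroupOf K).Normal, Nonempty (↥K ⧸ (E.subgroupOf N).subgroupOf K ≃* ↥(Cfsg.Lie.twistedE6 F 2))) ∧ (∃ _ : K.Normal, Nonempty (↥N ⧸ K ≃* Equiv.Perm (Fin 3))) ∧ ∀ L : Subgroup ↥K, ¬ ((E.subgroupOf N).subgroupOf K).IsComplement' L := by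
  open Gr in
  obtain ⟨e⟩ := isoMK
  have : Finite Cfsg.Spor.Monster := Finite.of_equiv _ e.symm.toEquiv
  have : Fact (Nat.Prime 2) := ⟨Nat.prime_two⟩
  let _ : Fintype (GaloisField 2 2) := Fintype.ofFinite _
  have hF : Fintype.card (GaloisField 2 2) = 4 := by
    rw [← Nat.card_eq_fintype_card, GaloisField.card 2 2 two_ne_zero]; rfl
  obtain ⟨ψ, h1, h2⟩ := exists_twE6 hF
  obtain ⟨a, a1, a2⟩ := O1_std0 s0_mem.1 (O1_symm t0_mem s0_mem)
  obtain ⟨b, b1, b2⟩ := O1_trans t0_mem s0_mem (O1_mul t0_mem s0_mem)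
  have i : ∀ {x y : K}, x = y → e.symm x = e.symm y := congrArg _
  have j : ∀ {x : Cfsg.Spor.Monster} {y : K}, e x = y ↔ x = e.symm y := e.eq_symm_apply.symm
  let f := e.toMonoidHom.subgroupComap CE
  have hf : Function.Bijective f := ⟨fun x y h => Subtype.ext (e.injective (congrArg Subtype.val h)),
    e.toMonoidHom.subgroupComap_surjective_of_surjective _ e.surjective⟩
  obtain ⟨E, N, L, k1, k2, k3, k4, k5⟩ := shape (t := e.symm t0) (s := e.symm s0) (a := e.symm a)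
    (b := e.symm b) (C := CE.comap e.toMonoidHom) (fun g => by
      rw [Subgroup.mem_comap, GenH.mem_cent2, ← e.injective.eq_iff, ← e.injective.eq_iff]; simp)
    (by simpa using i (DD_mul_self t0_mem)) (by simpa using i (DD_mul_self s0_mem.1))
    (by simpa using i (O1_comm t0_mem s0_mem))
    (by simpa [tE, sE] using four_nodup.map (e.symm.injective.comp CE.subtype_injective)) (ψ.comp f) (h1.comp hf.2)
    (fun x => by
      rw [MonoidHom.comp_apply, h2, ← map_mul, ← j, ← j, ← j, ← e.map_eq_one_iff]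
      simp only [Subtype.ext_iff]
      rfl)
    (perf_of (MulEquiv.ofBijective f hf).symm CE_perfect)
    (by simpa using i a2) (by simpa using i a1) (by simpa using i (conj_eq_of_comm b1)) (by simpa using i b2)
  exact ⟨E, N, L, k1, k2, k3, ⟨_, inferInstance, inferInstance, hF, k4⟩, k5⟩

end Cfsg.Agent.S5533
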