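import Mathlib
import Cfsg.Statements.S5534
import Cfsg.Agent.Gr.MIso
import Cfsg.Agent.Gr.BIso
import Cfsg.Agent.Gr.Baby2
import Cfsg.Agent.Spor.Comp.Iso

set_option autoImplicit false
open Cfsg

namespace Cfsg.Agent.S5534

/-- The Monster (realised inside the presented Bimonster) has an involution whose centralizer is a non-split double cover of the Baby Monster (the finitely presented group of the definitions): the centralizer has centre of order 2, its central quotient is isomorphic to the Baby Monster, and the centre has no complement. -/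
theorem result : ∃ y : Cfsg.Spor.Monster, orderOf y = 2 ∧ Cfsg.IsNonsplitDoubleCover ↥(Subgroup.centralizer ({y} : Set Cfsg.Spor.Monster)) Cfsg.Spor.BabyMonster := by
  obtain ⟨e⟩ := Gr.isoMK
  obtain ⟨f⟩ := Gr.isoBBm
  refine ⟨e.symm Gr.t0, by rw [MulEquiv.orderOf_eq]; exact Spor.orderOf_eq_two_iff'.2 ⟨Gr.DD_ne_one Gr.t0_mem,
    Gr.DD_mul_self Gr.t0_mem⟩, ?_⟩
  have h : (Subgroup.centralizer {Gr.t0}).map (e.symm : Gr.K →* Cfsg.Spor.Monster) = Subgroup.centralizer {e.symm Gr.t0} := by
    ext x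
    obtain ⟨x, rfl⟩ := e.symm.surjective x
    refine (Subgroup.mem_map_iff_mem (f := (e.symm : Gr.K →* Cfsg.Spor.Monster)) e.symm.injective).trans ?_
    simp only [Subgroup.mem_centralizer_singleton_iff, ← map_mul, e.symm.injective.eq_iff]
  obtain ⟨h1, ⟨ψ⟩, h2⟩ := Spor.IsNonsplitDoubleCover.of_equiv (Gr.nonsplit_DD Gr.t0_mem)
    ((e.symm.subgroupMap _).trans (MulEquiv.subgroupCongr h))
  exact ⟨h1, ⟨ψ.trans f.symm⟩, h2⟩

end Cfsg.Agent.S5534
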