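import Mathlib
import Cfsg.Statements.S5535
import Cfsg.Agent.Gr.MIso
import Cfsg.Agent.Gr.MTr
import Cfsg.Agent.S5461

set_option autoImplicit false
open Cfsg

namespace Cfsg.Agent.S5535

open Cfsg.Agent.F24T Cfsg.Agent.Spor Cfsg.Agent.Spor.MT Cfsg.Agent.Spor.Leech Cfsg.Agent.Loc.Mss Subgroup in
theorem three {G : Type*} [Group G] [Finite G] {z : G} {Q : Subgroup (centralizer ({z} : Set G))} [Q.Normal]
    (hM : Cfsg.IsOfMonsterType z Q) : ∃ (X N : Subgroup G), Nat.card X = 3 ∧ N = normalizer (X : Set G) ∧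
      (∃ _ : (X.subgroupOf N).Normal, Nonempty (N ⧸ X.subgroupOf N ≃* Cfsg.Spor.Fi24)) ∧
        ∀ L : Subgroup N, ¬ (X.subgroupOf N).IsComplement' L := by
  have : Fact (Nat.Prime 3) := ⟨Nat.prime_three⟩
  obtain ⟨a, hsQ, hs1⟩ := hM.1.2.2.2.2
  have hs : IsConj z (a * z * a⁻¹) := isConj_iff.2 ⟨a, rfl⟩
  generalize a * z * a⁻¹ = s at hsQ hs1 hs
  obtain ⟨Q', R, π, r, h, hp⟩ := exists_pair hM hsQ hs hs1
  obtain ⟨P⟩ : Nonempty (Sylow 3 (centralizer ({z, s} : Set G))) := inferInstance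
  have hP : Nontrivial P := by
    rw [← Finite.one_lt_card_iff_nontrivial, P.card_eq_multiplicity, h.card_joint hp]
    exact Nat.one_lt_pow (Nat.prime_three.factorization_pos_of_dvd (by norm_num) (by norm_num)).ne' (by norm_num)
  have := P.isPGroup'.center_nontrivial
  obtain ⟨y, hy⟩ := exists_prime_orderOf_dvd_card' (G := center P) 3
    (((P.isPGroup'.to_subgroup (center P)).card_eq_or_dvd).resolve_left Finite.one_lt_card.ne')
  let y' : G := ((y : P) : centralizer ({z, s} : Set G))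
  have hY : zpowers y' ≤ centralizer {z, s} := zpowers_le.2 (y : P).1.2
  have hY3 : Nat.card (zpowers y') = 3 := by
    rw [Nat.card_zpowers, orderOf_coe, orderOf_coe, orderOf_coe, hy]
  have hc : ∃ P : Sylow 3 (centralizer ({z, s} : Set G)), (zpowers y').subgroupOf (centralizer {z, s}) ≤
      (center (P : Subgroup (centralizer ({z, s} : Set G)))).map (Subgroup.subtype _) :=
    ⟨P, fun x ⟨k, hk⟩ => ⟨_, (y ^ k).2, Subtype.ext (by simpa using hk)⟩⟩
  generalize zpowers y' = Y at hY hY3 hc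
  have hn : (Y.subgroupOf 𝐂[Y]).Normal := ⟨fun x hx g => by
    rw [mem_subgroupOf, coe_mul, coe_mul, ← g.2 x hx]; simpa using mem_subgroupOf.1 hx⟩
  have hn' : (Y.subgroupOf 𝐍[Y]).Normal := normal_in_normalizer
  obtain ⟨-, ⟨ε⟩, E, -, hZ, -⟩ := S5461.result z Q hM s hsQ hs hs1 Y hY hY3 hc
  obtain ⟨σ, hσ, π', r', h', hs', b, rfl, hbs, hbo, hβ⟩ := h.exists_std hp hY (by norm_num) (by norm_num)
    hY3 (P := fun σ => σ = sA ∨ σ = sB) fun τ hτ => by
      rcases MB.three_classes τ.2 (by rw [orderOf_coe, hτ]) with ⟨k, hk, e⟩ | ⟨k, hk, e⟩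
      · refine ⟨_, Or.inl rfl, orderOf_sA, ⟨k, hk⟩⁻¹, 1, Subtype.ext ?_⟩
        change MB.tA ^ (1 : ℤ) = k⁻¹ * τ * k⁻¹⁻¹
        rw [← e]; group
      · refine ⟨_, Or.inr rfl, orderOf_sB, ⟨k, hk⟩⁻¹, 1, Subtype.ext ?_⟩
        change MB.tB ^ (1 : ℤ) = k⁻¹ * τ * k⁻¹⁻¹
        rw [← e]; group
  obtain rfl : σ = sA := hσ.resolve_right (by
    rintro rfl
    have := (h'.three_central_iff hp hs' hbs hbo (by rw [cB_ord]; decide) hβ).1 hc
    rw [cdataB.1] at this
    exact absurd this (by norm_num))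
  obtain ⟨f1, k, k1, k2⟩ := S5461.facts h' hbo hβ
  replace f1 := zpowers_le.2 f1
  have hcy : IsCyclic (zpowers (b : G)) := inferInstance
  generalize zpowers (b : G) = Y at *
  refine ⟨Y, _, hY3, rfl, ⟨hn', ?_⟩, fun L hL => ?_⟩
  · let g := (QuotientGroup.mk' (Y.subgroupOf 𝐍[Y])).comp (inclusion (cent_le_norm Y))
    have g1 : g.range = (𝐂[Y].subgroupOf 𝐍[Y]).map (QuotientGroup.mk' _) := by
      rw [MonoidHom.range_comp, inclusion_range]
    have g2 : g.ker = Y.subgroupOf 𝐂[Y] := by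
      ext x; exact ker_mk_subgroupOf _
    obtain ⟨D, hD, -⟩ := Aut.exists_g24 (G₀ := g.range) (by
        rw [g1, index_map_eq _ (QuotientGroup.mk'_surjective _) (by
          rw [QuotientGroup.ker_mk']; exact comap_mono (f1.trans (commutator_le_self _)))]
        refine ((Nat.dvd_prime Nat.prime_two).1 ?_).resolve_left fun e => k2 (relIndex_eq_one.1 e k1)
        rw [← normalizerMonoidHom_ker, index_ker]
        refine (card_subgroup_dvd_card _).trans (dvd_of_eq ?_)
        rw [IsCyclic.card_mulAut, hY3]; rfl)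
      (((QuotientGroup.quotientKerEquivRange g).symm.trans (QuotientGroup.quotientMulEquivOfEq g2)).trans ε)
      (hZ.le.trans bot_le)
    obtain ⟨e, -⟩ := hD.iso
    exact ⟨e⟩
  · have hYC : Y ≤ 𝐂[Y] := f1.trans (commutator_le_self _)
    have d : ∀ c ∈ 𝐂[Y], ∃ y ∈ Y, ∃ l ∈ L.map (Subgroup.subtype _), l ∈ 𝐂[Y] ∧ c = y * l := fun c hc => by
      obtain ⟨⟨y, l⟩, e⟩ := hL.2 ⟨c, cent_le_norm Y hc⟩
      have e' : c = (y : 𝐍[Y]) * (l : 𝐍[Y]) := (congrArg Subtype.val e).symm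
      exact ⟨_, y.2, _, ⟨_, l.2, rfl⟩, (mul_mem_cancel_left (hYC y.2)).1 (e' ▸ hc), e'⟩
    have h1 : Y ≤ L.map (Subgroup.subtype _) := f1.trans (commutator_le.2 fun c hc c' hc' => by
      obtain ⟨y, hy, l, hl, hl', rfl⟩ := d c hc
      obtain ⟨y', hy', l', hl2, hl2', rfl⟩ := d c' hc'
      have e1 : Commute y (y' * l') := hc' y hy
      have e2 : Commute y' l := hl' y' hy'
      have e3 : Commute y l := hl' y hy
      have : y * l * (y' * l') * (y * l)⁻¹ * (y' * l')⁻¹ = l * l' * l⁻¹ * l'⁻¹ := by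
        calc _ = y * (l * (y' * l') * l⁻¹) * y⁻¹ * (y' * l')⁻¹ := by group
          _ = l * y' * l' * l⁻¹ * (y' * l')⁻¹ := by
            rw [((e3.mul_right e1).mul_right e3.inv_right).eq]; group
          _ = y' * (l * l' * l⁻¹ * l'⁻¹) * y'⁻¹ := by rw [← e2.eq]; group
          _ = _ := by
            have e4 : Commute y' l' := hl2' y' hy'
            rw [(((e2.mul_right e4).mul_right e2.inv_right).mul_right e4.inv_right).eq]; group
      rw [commutatorElement_def, this]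
      exact mul_mem (mul_mem (mul_mem hl hl2) (inv_mem hl)) (inv_mem hl2))
    have h2 : Y = ⊥ := eq_bot_iff.2 fun y hy => by
      obtain ⟨l, hl, rfl⟩ := h1 hy
      exact congrArg Subtype.val (disjoint_def.1 hL.disjoint hy hl)
    rw [h2, card_bot] at hY3
    omega

/-- The Monster (realised inside the presented Bimonster) has a subgroup X of order 3 whose normalizer N satisfies: N/X is isomorphic to the Fischer group Fi₂₄ (the full 3-transposition group presented in the definitions, whose commutator subgroup of index 2 is the simple group Fi₂₄′), and X has no complement in N. -/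
theorem result : ∃ (X N : Subgroup Cfsg.Spor.Monster), Nat.card ↥X = 3 ∧ N = Subgroup.normalizer (X : Set Cfsg.Spor.Monster) ∧ (∃ _ : (X.subgroupOf N).Normal, Nonempty (↥N ⧸ X.subgroupOf N ≃* Cfsg.Spor.Fi24)) ∧ ∀ L : Subgroup ↥N, ¬ (X.subgroupOf N).IsComplement' L := by
  obtain ⟨e⟩ := Gr.isoMK
  have : Finite Cfsg.Spor.Monster := Finite.of_equiv _ e.symm.toEquiv
  obtain ⟨z, Q, _, h⟩ := Gr.MTr.monsterType e
  exact three h

end Cfsg.Agent.S5535
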