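import Mathlib
import Cfsg.Statements.S5579
import Cfsg.Agent.J4T.ClsE

set_option autoImplicit false
open Cfsg

namespace Cfsg.Agent.S5579

/-- Let G be a finite non-abelian simple group of Janko-four type (an involution z whose centralizer H has an extraspecial largest normal 2-subgroup E of order 2^13 containing its centralizer in H, a normal subgroup N ≥ E of H with N/E of order 3 and H/N the automorphism group of M₂₂, and a subgroup P ≤ N of order 3 with C_E(P) = ⟨z⟩, N_H(P) ≠ C_H(P) and P ≤ C_H(P)′). Then G has exactly 62 conjugacy classes. -/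
theorem result {G : Type*} [Group G] [Finite G] [IsSimpleGroup G] (hG : ¬ IsMulCommutative G) (hJ : Cfsg.IsOfJankoFourType G) :
    Nat.card (ConjClasses G) = 62 := by
  obtain ⟨z, π, g, l, ψ, s⟩ := J4T.exists_stJ_of_type hJ
  obtain ⟨h0, h1, h2, h3, h4⟩ := s.kk_bigs
  simp only [J4T.Cls.card_eq_sum J4T.Cls.ty J4T.Cls.ty_lt, Finset.sum_range_succ, Finset.sum_range_zero, h0, h1, h2, h3,
    h4, s.kk_eleven, s.kk_seven, s.kk_five, s.kk_three, s.kk_two]

end Cfsg.Agent.S5579
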