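import Mathlib
import Cfsg.Statements.S5587
import Cfsg.Agent.Gr.R4.Ex
import Cfsg.Agent.Gr.BIso

set_option autoImplicit false
open Cfsg

namespace Cfsg.Agent.S5587

/-- Over any field F whose characteristic is not 2, the Baby Monster (the finitely presented group of the definitions) has a faithful linear representation of degree 4371; every such representation is irreducible over F, and any two are equivalent. -/
theorem result (F : Type*) [Field F] (hF : ringChar F ≠ 2) :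
    (∃ ρ : Cfsg.Spor.BabyMonster →* GL (Fin 4371) F, Function.Injective ρ) ∧
    ∀ ρ : Cfsg.Spor.BabyMonster →* GL (Fin 4371) F, Function.Injective ρ →
      (∀ W : Submodule F (Fin 4371 → F), (∀ g : Cfsg.Spor.BabyMonster, ∀ v ∈ W, (ρ g : Matrix (Fin 4371) (Fin 4371) F).mulVec v ∈ W) → W = ⊥ ∨ W = ⊤) ∧
      ∀ ρ' : Cfsg.Spor.BabyMonster →* GL (Fin 4371) F, Function.Injective ρ' →
        ∃ P : GL (Fin 4371) F, ∀ g : Cfsg.Spor.BabyMonster, ρ' g = P * ρ g * P⁻¹ := by
  have h2 : (2 : F) ≠ 0 := Ring.two_ne_zero hF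
  obtain ⟨e⟩ := Gr.isoBBm
  let L : (Cfsg.Spor.BabyMonster →* GL (Fin 4371) F) → Gr.Bm →* Module.End F (Fin 4371 → F) :=
    fun ρ => (Matrix.toLinAlgEquiv' (R := F) (n := Fin 4371)).toMonoidHom.comp
      ((Units.coeHom _).comp (ρ.comp e.symm.toMonoidHom))
  have hL : ∀ ρ g u, L ρ (e g) u = (ρ g : Matrix (Fin 4371) (Fin 4371) F).mulVec u := by
    intro ρ g u
    simp [L, Matrix.toLinAlgEquiv'_apply]
  have hz : ∀ ρ : Cfsg.Spor.BabyMonster →* GL (Fin 4371) F, Function.Injective ρ → L ρ Gr.R4.zB ≠ 1 := by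
    intro ρ hρ q
    have h1 : (ρ (e.symm Gr.R4.zB) : Matrix (Fin 4371) (Fin 4371) F) = 1 :=
      (map_eq_one_iff _ (Matrix.toLinAlgEquiv' (R := F) (n := Fin 4371)).injective).1 q
    rw [Units.val_eq_one, map_eq_one_iff _ hρ, map_eq_one_iff _ e.symm.injective] at h1
    exact Gr.R4.zB_ne h1
  have hd : Module.finrank F (Fin 4371 → F) ≤ 4371 := (Module.finrank_fin_fun F).le
  refine ⟨?_, fun ρ hρ => ⟨fun W hW => ?_, fun ρ' hρ' => ?_⟩⟩
  · obtain ⟨ρ, hρ⟩ := Gr.R4.exists_rep h2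
    exact ⟨ρ.comp e.toMonoidHom, hρ.comp e.injective⟩
  · refine Gr.R4.irred h2 (L ρ) (hz ρ hρ) hd W fun g u hu => ?_
    obtain ⟨g, rfl⟩ := e.surjective g
    rw [hL]
    exact hW g u hu
  · obtain ⟨P, hP⟩ := Gr.R4.uniq h2 (L ρ) (L ρ') (hz ρ hρ) (hz ρ' hρ') hd
    refine ⟨⟨LinearMap.toMatrix' P.toLinearMap, LinearMap.toMatrix' P.symm.toLinearMap, ?_, ?_⟩,
      fun g => ?_⟩
    · rw [← LinearMap.toMatrix'_comp, LinearEquiv.comp_symm, LinearMap.toMatrix'_id]
    · rw [← LinearMap.toMatrix'_comp, LinearEquiv.symm_comp, LinearMap.toMatrix'_id]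
    · rw [eq_mul_inv_iff_mul_eq]
      refine Units.ext (Matrix.toLin'.injective (LinearMap.ext fun u => ?_))
      have := hP (e g) u
      rw [hL, hL] at this
      simp only [Units.val_mul, Matrix.toLin'_mul, Matrix.toLin'_toMatrix', LinearMap.comp_apply,
        Matrix.toLin'_apply]
      exact this.symm

end Cfsg.Agent.S5587
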