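import Mathlib
-- Template for statement S5589 (row 5589; see /opt/grader/pristine/manifest.json for weights).
-- Copy to Cfsg/Agent/S5589.lean and replace the sorry. The statement below is byte-identical to the frozen
-- statement Cfsg.CfsgFrozen.S5589 (Cfsg/Statements/S5589.lean; the theorem Cfsg.spg18_bimonster_is_monster_wreath_two);
-- the grader kernel-checks Cfsg.Agent.S5589.result against that frozen type. Keep the theorem IN THIS FILE
-- (a `result` declared elsewhere and merely imported here is not credited); helpers may live anywhere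
-- under Cfsg/Agent/.
import Cfsg.Statements.S5589
import Cfsg.Agent.Gr.MIso

set_option autoImplicit false
set_option linter.style.haveILetI false
set_option linter.unusedVariables false
open Cfsg

namespace Cfsg.Agent.S5589


/-- The presented Bimonster is the wreath product of the Monster by a group of order 2: its commutator subgroup has index 2 and is isomorphic to the direct product of two copies of the Monster (the Monster being realised as in the definitions inside that commutator subgroup), and the Bimonster has trivial centre. -/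
theorem result :
    (commutator Cfsg.Spor.Bimonster).index = 2 ∧ Subgroup.center Cfsg.Spor.Bimonster = ⊥ ∧
    Nonempty (↥(commutator Cfsg.Spor.Bimonster) ≃* Cfsg.Spor.Monster × Cfsg.Spor.Monster) := by
  obtain ⟨n, e, -⟩ := Gr.exists_isoW
  obtain ⟨f⟩ := Gr.isoMK
  have := Gr.simple_K
  have nc : ¬ ∀ x y : Gr.K, x * y = y * x := fun h => Gr.O1_ne Gr.t0_mem Gr.s0_mem (by
    obtain ⟨g, hg⟩ := Gr.exists_conj_DD Gr.t0_mem Gr.s0_mem.1
    rw [← hg, h g, mul_inv_cancel_right])
  have hz : Subgroup.center Gr.K = ⊥ := (Subgroup.Normal.eq_bot_or_eq_top inferInstance).resolve_right fun h =>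
    nc fun x y => Subgroup.mem_center_iff.1 (h ▸ Subgroup.mem_top y) x
  have hp : commutator Gr.K = ⊤ := (Subgroup.Normal.eq_bot_or_eq_top inferInstance).resolve_left fun h =>
    nc fun x y => commutatorElement_eq_one_iff_mul_comm.1 (Subgroup.mem_bot.1
      (h ▸ Subgroup.commutator_mem_commutator (Subgroup.mem_top x) (Subgroup.mem_top y)))
  let φ : Cfsg.Spor.Bimonster →* ℤˣ := SemidirectProduct.rightHom.comp e.toMonoidHom
  let ψ : Gr.K × Gr.K →* Cfsg.Spor.Bimonster := e.symm.toMonoidHom.comp SemidirectProduct.inl
  have h1 : ψ.range = commutator Cfsg.Spor.Bimonster := by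
    refine le_antisymm ?_ fun x hx => ⟨(e x).left, e.symm_apply_eq.2
      (SemidirectProduct.ext rfl (Abelianization.commutator_subset_ker φ hx).symm)⟩
    have : ∀ χ : Gr.K →* Cfsg.Spor.Bimonster, ∀ x, χ x ∈ commutator Cfsg.Spor.Bimonster := fun χ x => by
      have := Subgroup.mem_map_of_mem χ (hp ▸ Subgroup.mem_top x : x ∈ commutator Gr.K)
      rw [commutator_def, Subgroup.map_commutator] at this
      exact Subgroup.commutator_mono le_top le_top this
    rintro _ ⟨⟨x, y⟩, rfl⟩
    rw [show (x, y) = MonoidHom.inl _ _ x * MonoidHom.inr _ _ y by simp, map_mul]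
    exact mul_mem (this (ψ.comp (MonoidHom.inl _ _)) x) (this (ψ.comp (MonoidHom.inr _ _)) y)
  have h2 : φ.ker = ψ.range := by
    ext x
    exact ⟨fun hx => ⟨(e x).left, e.symm_apply_eq.2 (SemidirectProduct.ext rfl (Eq.symm hx))⟩, by
      rintro ⟨y, rfl⟩
      simp [φ, ψ]⟩
  refine ⟨?_, eq_bot_iff.2 fun z hz' => Subgroup.mem_bot.2 (e.injective ?_), ⟨?_⟩⟩
  · rw [← h1, ← h2, Subgroup.index_ker, (MonoidHom.range_eq_top (f := φ)).2
      (SemidirectProduct.rightHom_surjective.comp e.surjective), Subgroup.card_top, Nat.card_eq_fintype_card]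
    rfl
  · have c : ∀ k : Gr.K × Gr.K, k * (e z).left = (e z).left * Gr.YW.sw _ (e z).right k := fun k => by
      have := congrArg (fun y => (e y).left) (Subgroup.mem_center_iff.1 hz' (ψ k))
      simpa [ψ] using this
    rcases Int.units_eq_one_or (e z).right with h | h
    · simp only [h, map_one, MulAut.one_apply] at c
      refine (SemidirectProduct.ext (Prod.ext ?_ ?_) h).trans (map_one e).symm
      · exact Subgroup.mem_bot.1 (hz ▸ Subgroup.mem_center_iff.2 fun k => congrArg Prod.fst (c (k, 1)))
      · exact Subgroup.mem_bot.1 (hz ▸ Subgroup.mem_center_iff.2 fun k => congrArg Prod.snd (c (1, k)))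
    · refine absurd (fun x y => ?_) nc
      have := congrArg Prod.fst (c (x, 1))
      rw [h, Gr.YW.sw_neg] at this
      obtain rfl : x = 1 := by simpa using this
      simp
  · exact ((MulEquiv.subgroupCongr h1.symm).trans (ψ.ofInjective
      (e.symm.injective.comp SemidirectProduct.inl_injective)).symm).trans (f.symm.prodCongr f.symm)

end Cfsg.Agent.S5589
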