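import Mathlib
import Cfsg.Statements.S5590
import Cfsg.Agent.B43.Top
import Cfsg.Agent.Gr.BIso

set_option autoImplicit false
open Cfsg

namespace Cfsg.Agent.S5590

/-- Let F be a field of characteristic neither 2 nor 3 and ρ a faithful linear representation of the Baby Monster of degree 4371 over F. Then every extension of the Baby Monster by the corresponding module splits: if E is a group with an abelian normal subgroup A, an identification of E/A with the Baby Monster, and an additive identification of A with F^4371 under which conjugation by g ∈ E acts as ρ of the image of g, then A has a complement in E. -/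
theorem result (F : Type*) [Field F] (hF2 : ringChar F ≠ 2) (hF3 : ringChar F ≠ 3) (ρ : Cfsg.Spor.BabyMonster →* GL (Fin 4371) F) (hρ : Function.Injective ρ)
    (E : Type*) [Group E] (A : Subgroup E) [A.Normal] (e : E ⧸ A ≃* Cfsg.Spor.BabyMonster)
    (φ : Additive ↥A ≃+ (Fin 4371 → F))
    (hφ : ∀ (g : E) (a b : ↥A), (b : E) = g * a * g⁻¹ → φ (Additive.ofMul b) =
      (ρ (e (QuotientGroup.mk g)) : Matrix (Fin 4371) (Fin 4371) F).mulVec (φ (Additive.ofMul a))) :
    ∃ K : Subgroup E, A.IsComplement' K := by
  have h2 : (2 : F) ≠ 0 := Ring.two_ne_zero hF2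
  have h3 : (3 : F) ≠ 0 := fun q => by
    rcases (Nat.dvd_prime Nat.prime_three).1 ((ringChar.spec F 3).1 (by exact_mod_cast q)) with r | r
    exacts [CharP.ringChar_ne_one r, hF3 r]
  obtain ⟨b⟩ := Gr.isoBBm
  let _ : DistribMulAction Cfsg.Spor.BabyMonster (Fin 4371 → F) :=
    { smul := fun g v => (ρ g : Matrix (Fin 4371) (Fin 4371) F).mulVec v
      one_smul := fun v => by
        change Matrix.mulVec _ _ = _
        rw [map_one, Units.val_one, Matrix.one_mulVec]
      mul_smul := fun g h v => by
        change Matrix.mulVec _ _ = Matrix.mulVec _ (Matrix.mulVec _ _)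
        rw [map_mul, Units.val_mul, Matrix.mulVec_mulVec]
      smul_zero := fun g => Matrix.mulVec_zero _
      smul_add := fun g => Matrix.mulVec_add _ }
  have sm : ∀ (g : Cfsg.Spor.BabyMonster) (v : Fin 4371 → F),
      g • v = (ρ g : Matrix (Fin 4371) (Fin 4371) F).mulVec v := fun _ _ => rfl
  have sp := B43.splits_quot (F := F) (V := Fin 4371 → F) (b.symm.toMonoidHom.comp Gr.toBm)
    (b.symm.surjective.comp Gr.toBm_surjective)
    (fun g => (map_eq_one_iff _ b.symm.injective).trans (Gr.toBm_eq_one g)) h2 h3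
    (fun g a v => by rw [sm, sm, Matrix.mulVec_smul]) (Module.finrank_fin_fun F) fun g h => by
      rw [← map_eq_one_iff _ hρ, ← Units.val_eq_one]
      refine Matrix.toLin'.injective (LinearMap.ext fun v => ?_)
      rw [Matrix.toLin'_apply, Matrix.toLin'_one]; exact h v
  let X : B43.Ext Cfsg.Spor.BabyMonster (Fin 4371 → F) E :=
    { π := e.toMonoidHom.comp (QuotientGroup.mk' A)
      ι := A.subtype.comp (AddMonoidHom.toMultiplicativeLeft φ.symm.toAddMonoidHom)
      surj := e.surjective.comp (QuotientGroup.mk'_surjective A)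
      inj := A.subtype_injective.comp φ.symm.injective
      ker := fun x => ((map_eq_one_iff _ e.injective).trans (QuotientGroup.eq_one_iff x)).trans
        ⟨fun h => ⟨φ (Additive.ofMul ⟨x, h⟩), congrArg (fun a => ((Additive.toMul a : A) : E)) (φ.symm_apply_apply _)⟩,
          fun ⟨v, h⟩ => h ▸ (Additive.toMul (φ.symm v)).2⟩
      conj := fun x v => by
        have := hφ x (Additive.toMul (φ.symm v)) ⟨_, ‹A.Normal›.conj_mem _ (Additive.toMul (φ.symm v)).2 x⟩ rfl
        rw [ofMul_toMul, φ.apply_symm_apply, ← φ.eq_symm_apply] at this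
        rw [sm, show (e.toMonoidHom.comp (QuotientGroup.mk' A)) x = e (QuotientGroup.mk x) from rfl]
        generalize Matrix.mulVec _ v = w at this ⊢
        exact congrArg (fun a => ((Additive.toMul a : A) : E)) this }
  obtain ⟨H, hH⟩ := sp E X
  have k2 : ∀ x, X.π x = 1 ↔ x ∈ A := fun x => (map_eq_one_iff _ e.injective).trans (QuotientGroup.eq_one_iff x)
  refine ⟨H, Subgroup.isComplement'_of_disjoint_and_mul_eq_univ
    (Subgroup.disjoint_def.2 fun a c => hH.inj _ c ((k2 _).2 a)) (Set.eq_univ_of_forall fun x => ?_)⟩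
  obtain ⟨y, hy, q⟩ := hH.ex (Subgroup.mem_top (X.π x))
  exact ⟨x * y⁻¹, (k2 _).1 (by rw [map_mul, map_inv, q, mul_inv_cancel]), y, hy, inv_mul_cancel_right _ _⟩

end Cfsg.Agent.S5590
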