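import Mathlib
import Cfsg.Agent.Spor.MB.FamOrb
import Cfsg.Statements.S5612
-- import your own Cfsg.Agent.* helpers here

set_option autoImplicit false
open scoped Pointwise
open Cfsg

namespace Cfsg.Agent.S5612

open Cfsg.Agent.Spor Cfsg.Agent.Spor.MB MulAction

theorem baseO :
    (∀ i, orbit ↥(M24 ⊓ stabilizer PG T0) (![unmask 8536111, unmask 11100169, unmask 13062145] i) = {y : Finset GolayPt | y ∈ octads ∧ setInv y T0 = ![281474976710658, 33554433, 16785408] i}) ∧
    (∀ i, (orbit ↥(M24 ⊓ stabilizer PG T0) (![unmask 8536111, unmask 11100169, unmask 13062145] i)).ncard = ![3, 84, 672] i) ∧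
    ∀ y ∈ octads, ∃ i, setInv y T0 = ![281474976710658, 33554433, 16785408] i := by
  refine orbit_partition (H := ↥(M24 ⊓ stabilizer PG T0)) (T := octads) (Set.toFinite _)
    (fun h y hy => (smul_mem_octads_iff h.2.1).2 hy) (f := fun y => setInv y T0)
    (fun h y _ => setInv_of_fix_right h.2.2 y)
    ![unmask 8536111, unmask 11100169, unmask 13062145] ?_ _
    (by decide +kernel) (by decide) _ ?_ (by rw [ncard_octads]; decide)
  · simp only [Fin.forall_fin_succ]
    refine ⟨?_, ?_, ?_, finZeroElim⟩
    · exact unmask_mem_octads (by decide +kernel) (by decide +kernel)
    · exact unmask_mem_octads (by decide +kernel) (by decide +kernel)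
    · exact unmask_mem_octads (by decide +kernel) (by decide +kernel)
  · simp only [Fin.forall_fin_succ]
    exact ⟨setM.le_ncard_orbit (inf_le_left) gens_gT0 (setM_R (by norm_num))
        3 3 0x201 (by decide +kernel),
      setM.le_ncard_orbit (inf_le_left) gens_gT0 (setM_R (by norm_num))
        84 129 0x111200011120000000000000000012111201200000000001200001201112000000011121111111211111112000111211111112111111121112111111121111111 (by decide +kernel),
      setM.le_ncard_orbit (inf_le_left) gens_gT0 (setM_R (by norm_num))
        672 1024 0x1111111200000000000000000000000000000000000000000000000000000000000000000000000000000000000000000000000000000000000000000000000000000000000000000000000000001112000000000000000000000000000000000000000000000000111111120000000001111111200000000000000000000111111120000000000000000000011111112000000000000000000000000111111121111111200001111111211111112000011111112111111120111111121111111211111112011111112000011111112011120011111112001112011111112000000111111120000111111120000000111111120001111111200000111111121111111200111111120111111121112111111121111111211111112011111112111111120000111111120011111112001111111211111112111111120001111111211111112011111112111111120001111111200000111201111111201111111211121111111211111112000111111120111111121111111211111112111111120011111112111111120111111120111111120111111121111111211111112111111121111111211111112111111121111111211111112111111121111111201111111211111112111111120111111120111111121111111211111112111111121112111111121111111211111112111111121111111211120111111121111111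 (by decide +kernel),
      finZeroElim⟩

theorem baseS :
    (∀ i, orbit ↥(M24 ⊓ stabilizer PG T0) (![fam [147496, 268544, 1082880, 2621632, 4268048, 8388615], fam [15, 5264, 622848, 3416064, 4196928, 8536096], fam [83, 272512, 1065220, 2162728, 4752384, 8524288], fam [23, 5256, 786976, 1065280, 2263040, 12656640]] i) = {y : Finset (Finset GolayPt) | y ∈ sextets ∧ famInv T0 y = ![100663308, 33587208, 49158, 541314] i}) ∧
    (∀ i, (orbit ↥(M24 ⊓ stabilizer PG T0) (![fam [147496, 268544, 1082880, 2621632, 4268048, 8388615], fam [15, 5264, 622848, 3416064, 4196928, 8536096], fam [83, 272512, 1065220, 2162728, 4752384, 8524288], fam [23, 5256, 786976, 1065280, 2263040, 12656640]] i)).ncard = ![7, 84, 336, 1344] i) ∧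
    ∀ y ∈ sextets, ∃ i, famInv T0 y = ![100663308, 33587208, 49158, 541314] i := by
  refine orbit_partition (H := ↥(M24 ⊓ stabilizer PG T0)) (T := sextets) (Set.toFinite _)
    (fun h y hy => smul_mem_sextets h.2.1 hy) (f := fun y => famInv T0 y)
    (fun h y _ => famInv_of_fix h.2.2 y)
    ![fam [147496, 268544, 1082880, 2621632, 4268048, 8388615], fam [15, 5264, 622848, 3416064, 4196928, 8536096], fam [83, 272512, 1065220, 2162728, 4752384, 8524288], fam [23, 5256, 786976, 1065280, 2263040, 12656640]] ?_ _
    (by decide +kernel) (by decide) _ ?_ (by rw [ncard_sextets]; decide)
  · simp only [Fin.forall_fin_succ]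
    refine ⟨?_, ?_, ?_, ?_, finZeroElim⟩
    · exact fam_mem_sextets (by decide +kernel)
    · exact fam_mem_sextets (by decide +kernel)
    · exact fam_mem_sextets (by decide +kernel)
    · exact fam_mem_sextets (by decide +kernel)
  · simp only [Fin.forall_fin_succ]
    exact ⟨sexM.le_ncard_orbit (inf_le_left) gens_gT0 (sexM_R (by decide +kernel))
        7 10 0x2000120111 (by decide +kernel),
      sexM.le_ncard_orbit (inf_le_left) gens_gT0 (sexM_R (by decide +kernel))
        84 134 0x12000000000012000000000011120000001112011120000000000000011121111111200000011120111211111112111200111111121112011111112111111121111111 (by decide +kernel),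
      sexM.le_ncard_orbit (inf_le_left) gens_gT0 (sexM_R (by decide +kernel))
        336 431 0x11111112000000000000000000000011120001112000000111111120000000000000000111200000011111112001112001111111211121111111211111112000000011111112000001111111200001111111201111111211111112111200011121111111201111111200111111120111111120001111111211111112000111211121111111211111112111111121111111201112111111120001111111211111112000111111120111111121111111201111111211111112111111121111111211121111111211111112111111121111111211111112111 (by decide +kernel),
      sexM.le_ncard_orbit (inf_le_left) gens_gT0 (sexM_R (by decide +kernel))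
        1344 1928 0x111111120000000000000000000000000000000000000000000000000000000000000000000000000000000000000000000000000000000000000000000000000000000000000000000000000000000000000000000000000000000000000000000000000000000000000000000000000011111112000000000000001111111200000000000000000000000000000000000000000000000000000000000000000000000000000000000001111111200000000000000111111120000011111112000000011111112000011111112000000000011111112000000000000001111111200011111112000000000001111111201111111211111112111111120000111111120000000000011111112000011111112000000000011111112001111111201111111200111111120001111111200011111112000000000000000011111112000000000000001111111200000000011111112001111111200000111111121111111200000111111120011111112011111112000111111120000001111111211111112000111111120000000000011111112011111112111111120011111112111111121111111201111111211111112111111120011111112001111111201111111201111111200001111111200000011111112000000011111112000001111111200001111111211111112001111111201111111200111111121111111200111111121111111200111111121111111211111112011111112111111121111111201111111201111111211111112111111121111111211111112111111120001111111200111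11112001111111201111111201111111201111111211111112111111121111111211111112011111112111111121111111201111111211111112111111121111111211111112111111121111111200011111112011111112001111111211111112111111121111111200111111121111111211111112111111121111111211111112111111120011111112011111112111111120111111121111111201111111211111112111111121111111201111111201111111211111112111111121111111211111112111111121111111211111112111111121111111211111112001111111211111112111111121111111211111112111111121111111201111111211111112111111121111111211111112111111121111111211111112111111121111111201111111211111112111111120111111121111111211111112111111121111111211111112011111112011111112111111121111111211111112111111121111111211111112111111121111111211111112111111121111111 (by decide +kernel),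
      finZeroElim⟩


/-- The stabiliser of a trio in the group of the length-24 code has exactly three orbits on the 759 octads, of sizes 3, 84 and 672, and exactly four orbits on the 1771 sextets, of sizes 7, 84, 336 and 1344. -/
theorem result (T : Finset (Finset Cfsg.GolayPt)) (hT : T ∈ Cfsg.trios) : (∃ X₁ ∈ Cfsg.octads, ∃ X₂ ∈ Cfsg.octads, ∃ X₃ ∈ Cfsg.octads, (MulAction.orbit ↥(MulAction.stabilizer Cfsg.M24 T) X₁).ncard = 3 ∧ (MulAction.orbit ↥(MulAction.stabilizer Cfsg.M24 T) X₂).ncard = 84 ∧ (MulAction.orbit ↥(MulAction.stabilizer Cfsg.M24 T) X₃).ncard = 672 ∧ Cfsg.octads = MulAction.orbit ↥(MulAction.stabilizer Cfsg.M24 T) X₁ ∪ MulAction.orbit ↥(MulAction.stabilizer Cfsg.M24 T) X₂ ∪ MulAction.orbit ↥(MulAction.stabilizer Cfsg.M24 T) X₃) ∧ (∃ Y₁ ∈ Cfsg.sextets, ∃ Y₂ ∈ Cfsg.sextets, ∃ Y₃ ∈ Cfsg.sextets, ∃ Y₄ ∈ Cfsg.sextets, (MulAction.orbit ↥(MulAction.stabilizer Cfsg.M24 T) Y₁).ncard = 7 ∧ (MulAction.orbit ↥(MulAction.stabilizer Cfsg.M24 T) Y₂).ncard = 84 ∧ (MulAction.orbit ↥(MulAction.stabilizer Cfsg.M24 T) Y₃).ncard = 336 ∧ (MulAction.orbit ↥(MulAction.stabilizer Cfsg.M24 T) Y₄).ncard = 1344 ∧ Cfsg.sextets = MulAction.orbit ↥(MulAction.stabilizer Cfsg.M24 T) Y₁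 ∪ MulAction.orbit ↥(MulAction.stabilizer Cfsg.M24 T) Y₂ ∪ MulAction.orbit ↥(MulAction.stabilizer Cfsg.M24 T) Y₃ ∪ MulAction.orbit ↥(MulAction.stabilizer Cfsg.M24 T) Y₄) := by
  obtain ⟨g, hg, rfl⟩ := exists_smul_T0 hT
  constructor
  · refine ⟨g • unmask 8536111, (smul_mem_octads_iff hg).2 (unmask_mem_octads (by decide +kernel) (by decide +kernel)), g • unmask 11100169, (smul_mem_octads_iff hg).2 (unmask_mem_octads (by decide +kernel) (by decide +kernel)), g • unmask 13062145, (smul_mem_octads_iff hg).2 (unmask_mem_octads (by decide +kernel) (by decide +kernel)), ?_, ?_, ?_, ?_⟩
    · rw [orbit_stab_smul hg, Set.ncard_smul_set, orbit_stabilizer_M24]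
      exact baseO.2.1 0
    · rw [orbit_stab_smul hg, Set.ncard_smul_set, orbit_stabilizer_M24]
      exact baseO.2.1 1
    · rw [orbit_stab_smul hg, Set.ncard_smul_set, orbit_stabilizer_M24]
      exact baseO.2.1 2
    · simp only [orbit_stab_smul hg, ← Set.smul_set_union, orbit_stabilizer_M24]
      rw [smul_octads hg]
      congr 1
      ext y
      rw [mem_iff_exists_orbit baseO.1 baseO.2.2]
      simp only [Fin.exists_fin_succ, Matrix.cons_val_zero, Matrix.cons_val_succ,
        Set.mem_union, or_assoc, IsEmpty.exists_iff, or_false]
  · refine ⟨g • fam [147496, 268544, 1082880, 2621632, 4268048, 8388615], smul_mem_sextets hg (fam_mem_sextets (by decide +kernel)), g • fam [15, 5264, 622848, 3416064, 4196928, 8536096], smul_mem_sextets hg (fam_mem_sextets (by decide +kernel)), g • fam [83, 272512, 1065220, 2162728, 4752384, 8524288], smul_mem_sextets hg (fam_mem_sextets (by decide +kernel)), g • fam [23, 5256, 786976, 1065280, 2263040, 12656640], smul_mem_sextets hg (fam_mem_sextets (by decide +kernel)), ?_, ?_, ?_, ?_, ?_⟩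
    · rw [orbit_stab_smul hg, Set.ncard_smul_set, orbit_stabilizer_M24]
      exact baseS.2.1 0
    · rw [orbit_stab_smul hg, Set.ncard_smul_set, orbit_stabilizer_M24]
      exact baseS.2.1 1
    · rw [orbit_stab_smul hg, Set.ncard_smul_set, orbit_stabilizer_M24]
      exact baseS.2.1 2
    · rw [orbit_stab_smul hg, Set.ncard_smul_set, orbit_stabilizer_M24]
      exact baseS.2.1 3
    · simp only [orbit_stab_smul hg, ← Set.smul_set_union, orbit_stabilizer_M24]
      rw [smul_sextets hg]
      congr 1
      ext y
      rw [mem_iff_exists_orbit baseS.1 baseS.2.2]
      simp only [Fin.exists_fin_succ, Matrix.cons_val_zero, Matrix.cons_val_succ,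
        Set.mem_union, or_assoc, IsEmpty.exists_iff, or_false]

end Cfsg.Agent.S5612
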