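import Mathlib
import Cfsg.Agent.Spor.MB.FamOrb
import Cfsg.Statements.S5616
-- import your own Cfsg.Agent.* helpers here

set_option autoImplicit false
open scoped Pointwise
open Cfsg

namespace Cfsg.Agent.S5616

open Cfsg.Agent.Spor Cfsg.Agent.Spor.MB MulAction

theorem inv_smul (g : PG) (Y : Finset GolayPt) (S : Finset (Finset GolayPt)) :
    ((g • S).filter fun t => (t ∩ g • Y).Nonempty).card =
      (S.filter fun t => (t ∩ Y).Nonempty).card := by
  rw [Finset.card_filter, Finset.card_filter, sum_smul_fam]
  simp only [smul_inter, Finset.smul_finset_nonempty]

theorem base :
    (∀ i, {y : Finset (Finset GolayPt) | y ∈ sextets ∧ (Finset.filter (fun t => (t ∩ unmask 8388611).Nonempty) y).card = ![1, 2, 3] i}.ncard = ![21, 630, 1120] i) ∧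
    (∀ y ∈ sextets, ∀ y' ∈ sextets, (Finset.filter (fun t => (t ∩ unmask 8388611).Nonempty) y).card = (Finset.filter (fun t => (t ∩ unmask 8388611).Nonempty) y').card →
      ∃ h : ↥(M24 ⊓ stabilizer PG (unmask 8388611)), h • y = y') ∧
    ∀ y ∈ sextets, ∃ i, (Finset.filter (fun t => (t ∩ unmask 8388611).Nonempty) y).card = ![1, 2, 3] i := by
  refine orbit_partition' (H := ↥(M24 ⊓ stabilizer PG (unmask 8388611))) (T := sextets) (Set.toFinite _)
    (fun h y hy => smul_mem_sextets h.2.1 hy) (f := fun y => (Finset.filter (fun t => (t ∩ unmask 8388611).Nonempty) y).card)
    (fun h y _ => by
      have e := inv_smul h (unmask 8388611) y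
      rwa [mem_stabilizer_iff.1 h.2.2] at e)
    ![fam [147496, 268544, 1082880, 2621632, 4268048, 8388615], fam [15, 5264, 622848, 3416064, 4196928, 8536096], fam [29, 5250, 346112, 663616, 5275680, 10486528]] ?_ _
    (by decide +kernel) (by decide) _ ?_ (by rw [ncard_sextets]; decide)
  · simp only [Fin.forall_fin_succ]
    refine ⟨?_, ?_, ?_, finZeroElim⟩
    · exact fam_mem_sextets (by decide +kernel)
    · exact fam_mem_sextets (by decide +kernel)
    · exact fam_mem_sextets (by decide +kernel)
  · simp only [Fin.forall_fin_succ]
    exact ⟨sexM.le_ncard_orbit (inf_le_left) gens_gTri (sexM_R (by decide +kernel))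
        21 35 0x11200000200000120000201211111211111 (by decide +kernel),
      sexM.le_ncard_orbit (inf_le_left) gens_gTri (sexM_R (by decide +kernel))
        630 1001 0x11111200000000000000000000000000000000000000000000000000000000000000000000000000000000000000000000000000000000000000000000011200000000001111120001111120000111112000000000000000000000000000000000000000000000112001111120000000001111120000000000000000011200000001120000011111201120000000000000111112000000000000000111112001111121111120000000000000112111112000011111201111120112112000000000000000111112001111121111120000011111200011111201111120011111211111200011111200112001111121111120000112000000011111200111112000011111211111200011111200111112000011111211111200000111112111112001111120001111121111120111112111112011111211111211111211111200000111112111112011111200111112011111211111211211111201111121121111121111120011211111201111120111112011111201111121111121111121111121111120111112111112111112111112111112011111211111211111200111112011111211111211201111121111121111121111120000111112111112111112111112111112011111211111211211111211111201121111121111121121111120111112011111211111211211111211111211111 (by decide +kernel),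
      sexM.le_ncard_orbit (inf_le_left) gens_gTri (sexM_R (by decide +kernel))
        1120 1757 0x11111200000000000000000000000000000000000000000000000000000000000000000000000000000000000000000000000000000000000000000000000000111112000000000000000000000000000000011111200000000000000000112112000000000000000000000000000000000000000000000000000000011200000000000000000000000000000000000000000001111120000000000111112000111112111112000000000000000000000011111200000001111120000000111112000000000000001111120001111120000000011111200000000000000000000111112000000011111200011111200000000000000000000001111120000000000000000011111200000001111120000000000011111200111112001111120111112000000011111200011111200111112000001111120000011111200000112000011200000000000001111120011111200000001111120000000000111112000001200000000000011111201111121111120011111211111201111120000111112000200111112111112000011111201111120111112111112001111120000000111112111112000011111211111201111120000000000111112011111200011111211111211111211111200111112001111121111120111112111112112011111211111200111112111112001111121111121111120011111200111112001111120011111201111120011111200111112011111211111211211111211111200111112111112011111200111112111112011211111211111211111211111201111121111121111121111121111120011111211111212111112111112001111120111112111112011111211111211111211111211111201111121111120111112001111120011111211111211111211111212011111211111201111120111112000111112111112111112011111201111121111121111121111121111120001111121111120111112011111211111211111200012111112112000111112111112111112111112111112011111211111220112111112111112000011111211111200011111211111211111211111211111201111121111121111121111121111120111112111112111112111112111112011111211111211111211111211111201111121111121111121111120111112111112111112111112111112011111211111211111211111211111211111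 (by decide +kernel),
      finZeroElim⟩


/-- Let Y be a set of 3 of the 24 points. The sextets of the length-24 code whose tetrads meeting Y number 1, 2 or 3 are respectively 21, 630 and 1120 in number, and two sextets with the same number of tetrads meeting Y are conjugate under the setwise stabiliser of Y in the code's group. -/
theorem result (Y : Finset Cfsg.GolayPt) (hY : Y.card = 3) : {S : Finset (Finset Cfsg.GolayPt) | S ∈ Cfsg.sextets ∧ (S.filter fun t => (t ∩ Y).Nonempty).card = 1}.ncard = 21 ∧ {S : Finset (Finset Cfsg.GolayPt) | S ∈ Cfsg.sextets ∧ (S.filter fun t => (t ∩ Y).Nonempty).card = 2}.ncard = 630 ∧ {S : Finset (Finset Cfsg.GolayPt) | S ∈ Cfsg.sextets ∧ (S.filter fun t => (t ∩ Y).Nonempty).card = 3}.ncard = 1120 ∧ ∀ S S' : Finset (Finset Cfsg.GolayPt), S ∈ Cfsg.sextets → S' ∈ Cfsg.sextets → (S.filter fun t => (t ∩ Y).Nonempty).card = (S'.filter fun t => (t ∩ Y).Nonempty).card → ∃ g ∈ Cfsg.M24, g • Y = Y ∧ g • S = S' := by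
  obtain ⟨g, hg, e⟩ := exists_smul_small (k := 3) (by norm_num) hY
  change g • unmask 8388611 = Y at e
  subst e
  have hc : ∀ n, {S | S ∈ sextets ∧ (S.filter fun t => (t ∩ g • unmask 8388611).Nonempty).card
      = n}.ncard = {S | S ∈ sextets ∧ (S.filter fun t => (t ∩ unmask 8388611).Nonempty).card
      = n}.ncard := fun n => ncard_smul_eq g (by
    intro y
    simp only [Set.mem_ofPred_eq, smul_mem_sextets_iff hg, inv_smul])
  refine ⟨?_, ?_, ?_, ?_⟩
  · rw [hc]; exact base.1 0
  · rw [hc]; exact base.1 1
  · rw [hc]; exact base.1 2
  · intro S S' h1 h2 h
    obtain ⟨S, rfl⟩ := exists_eq_smul g S
    obtain ⟨S', rfl⟩ := exists_eq_smul g S'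
    simp only [smul_mem_sextets_iff hg, inv_smul] at h1 h2 h
    obtain ⟨k, e⟩ := base.2.1 S h1 S' h2 h
    exact ⟨_, conj_mem_M24 hg k.2.1, conj_smul_smul g k.2.2, conj_smul_smul g e⟩

end Cfsg.Agent.S5616
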