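import Mathlib
import Cfsg.Agent.Spor.MB.FamOrb
import Cfsg.Statements.S5617
-- import your own Cfsg.Agent.* helpers here

set_option autoImplicit false
open scoped Pointwise
open Cfsg

namespace Cfsg.Agent.S5617

open Cfsg.Agent.Spor Cfsg.Agent.Spor.MB MulAction

theorem base :
    (∀ i, orbit ↥(M24 ⊓ stabilizer PG P0) (![fam [163, 17984, 1116164, 2494464, 4726792, 8421648], fam [15, 5264, 622848, 3416064, 4196928, 8536096], fam [39, 45120, 786960, 1116288, 6292736, 8536072]] i) = {y : Finset (Finset GolayPt) | y ∈ sextets ∧ famInv P0 y = ![49152, 33587202, 1573248] i}) ∧
    (∀ i, (orbit ↥(M24 ⊓ stabilizer PG P0) (![fam [163, 17984, 1116164, 2494464, 4726792, 8421648], fam [15, 5264, 622848, 3416064, 4196928, 8536096], fam [39, 45120, 786960, 1116288, 6292736, 8536072]] i)).ncard = ![396, 495, 880] i) ∧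
    ∀ y ∈ sextets, ∃ i, famInv P0 y = ![49152, 33587202, 1573248] i := by
  refine orbit_partition (H := ↥(M24 ⊓ stabilizer PG P0)) (T := sextets) (Set.toFinite _)
    (fun h y hy => smul_mem_sextets h.2.1 hy) (f := fun y => famInv P0 y)
    (fun h y _ => famInv_of_fix h.2.2 y)
    ![fam [163, 17984, 1116164, 2494464, 4726792, 8421648], fam [15, 5264, 622848, 3416064, 4196928, 8536096], fam [39, 45120, 786960, 1116288, 6292736, 8536072]] ?_ _
    (by decide +kernel) (by decide) _ ?_ (by rw [ncard_sextets]; decide)
  · simp only [Fin.forall_fin_succ]
    refine ⟨?_, ?_, ?_, finZeroElim⟩
    · exact fam_mem_sextets (by decide +kernel)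
    · exact fam_mem_sextets (by decide +kernel)
    · exact fam_mem_sextets (by decide +kernel)
  · simp only [Fin.forall_fin_succ]
    exact ⟨sexM.le_ncard_orbit (inf_le_left) gens_gP0 (sexM_R (by decide +kernel))
        396 477 0x111111111112000000000000000000000000000000000000000011111111111211111111111200000111111111112001111111111120000011111111111200000000011111111111200001111111111120011111200001111111111120011111111111211111111111200111111111112111111111112000111111111112111111111112111111111112111111111112111111111112011111201111111111121111111111120111111111112111111111112111111111112111111111112111111111112111111111112111111111112111111111112111111111112111111111112011111111111211111111111 (by decide +kernel),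
      sexM.le_ncard_orbit (inf_le_left) gens_gP0 (sexM_R (by decide +kernel))
        495 732 0x200000000000000000000112000000000000000000111112000000000000000000000000000000000000000111111111112000000000000000000000000000000000000000000000001112000000000000000000000000000011111111111211111111111200000000000000000000000000000000000000001111111111120000000001111111111120111111111112000011111111111200000000111111111112111111111112112111111111112000000011111201111111111120011111111111211111111111211120011111111111211111111111211111111111211111111111211111111111201111111111120001111111111121111111111121111111111120111111111112111112000011111111111201111111111121111111111121111111111121111111111121111111111120111111111112111111111112111112111111111112011111111111211111111111211111111111211111111111211111111111211111111111 (by decide +kernel),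
      sexM.le_ncard_orbit (inf_le_left) gens_gP0 (sexM_R (by decide +kernel))
        880 1573 0x2000000000000000000000000000000000000000000000000000000000000000000000000000000000000000000000000000000000000000000000000000000000000000000000000000000000000000000000000000000000000000000000000000000000000000000000000000000000000000000000000000000000000000000000000000000000000000012000000000000000000000000000000000000000000000000000000000000000000000000000000000000000000000000000000000111111111112000000000000000000000000000000000000000000001111120000000000000001111111111120000000000000000000000000000000000000000000000000000111200000000000000000000000000011111111111200000000000000000000000000000000000001111111111120000001111111111120000111111111112000000000001111111111120000011111111111201111111111120000000111112000000000001111120001111111111120000000000000011111111111201111111111120000111111111112000000000000001111111111121111111111120011111111111201111111111121111111111120011111200000000111111111112000001111111111121111111111121111111111120111111111112000001111111111121111111111120111111111112111111111112011111111111211111111111211111111111200111111111112011111211111111111201111111111120011111111111201111111111120111111111112011111111111201111111111120111111111112112111111111112111111111112111111111112000111111111112000111111111112000111111111112111111111112111111111112111111111112011111111111201111111111121111111111120011111111111200111111111112111111111112111111111112111111111112111111111112111111111112111111111112011111111111211111111111211111111111211111211111211111111111211111111111211111111111211111111111211111111111211111111111211111111111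 (by decide +kernel),
      finZeroElim⟩


/-- The setwise stabiliser, in the group of the length-24 code, of a complementary pair of dodecads has exactly three orbits on the 1771 sextets, of sizes 396, 495 and 880. -/
theorem result (d : Finset Cfsg.GolayPt) (hd : d ∈ Cfsg.dodecads) : ∃ X₁ ∈ Cfsg.sextets, ∃ X₂ ∈ Cfsg.sextets, ∃ X₃ ∈ Cfsg.sextets, (MulAction.orbit ↥(MulAction.stabilizer Cfsg.M24 ({d, Finset.univ \ d} : Finset (Finset Cfsg.GolayPt))) X₁).ncard = 396 ∧ (MulAction.orbit ↥(MulAction.stabilizer Cfsg.M24 ({d, Finset.univ \ d} : Finset (Finset Cfsg.GolayPt))) X₂).ncard = 495 ∧ (MulAction.orbit ↥(MulAction.stabilizer Cfsg.M24 ({d, Finset.univ \ d} : Finset (Finset Cfsg.GolayPt))) X₃).ncard = 880 ∧ Cfsg.sextets = MulAction.orbit ↥(MulAction.stabilizer Cfsg.M24 ({d, Finset.univ \ d} : Finset (Finset Cfsg.GolayPt))) X₁ ∪ MulAction.orbit ↥(MulAction.stabilizer Cfsg.M24 ({d, Finset.univ \ d} : Finset (Finset Cfsg.GolayPt))) X₂ ∪ MulAction.orbit ↥(MulAction.stabilizer Cfsg.M24 ({d, Finset.univ \ d} : Finset (Finset Cfsg.GolayPt))) X₃ := by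
  rw [← Finset.compl_eq_univ_sdiff]
  obtain ⟨g, hg, e⟩ := exists_smul_P0 ⟨d, hd, rfl⟩
  rw [← e]
  refine ⟨g • fam [163, 17984, 1116164, 2494464, 4726792, 8421648], smul_mem_sextets hg (fam_mem_sextets (by decide +kernel)), g • fam [15, 5264, 622848, 3416064, 4196928, 8536096], smul_mem_sextets hg (fam_mem_sextets (by decide +kernel)), g • fam [39, 45120, 786960, 1116288, 6292736, 8536072], smul_mem_sextets hg (fam_mem_sextets (by decide +kernel)), ?_, ?_, ?_, ?_⟩
  · rw [orbit_stab_smul hg, Set.ncard_smul_set, orbit_stabilizer_M24]
    exact base.2.1 0
  · rw [orbit_stab_smul hg, Set.ncard_smul_set, orbit_stabilizer_M24]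
    exact base.2.1 1
  · rw [orbit_stab_smul hg, Set.ncard_smul_set, orbit_stabilizer_M24]
    exact base.2.1 2
  · simp only [orbit_stab_smul hg, ← Set.smul_set_union, orbit_stabilizer_M24]
    rw [smul_sextets hg]
    congr 1
    ext y
    rw [mem_iff_exists_orbit base.1 base.2.2]
    simp only [Fin.exists_fin_succ, Matrix.cons_val_zero, Matrix.cons_val_succ,
      Set.mem_union, or_assoc, IsEmpty.exists_iff, or_false]


end Cfsg.Agent.S5617
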