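import Cfsg.Statements.S5720
import Cfsg.Agent.FG.Fix6Group
import Cfsg.Agent.FG.Fix6Def
import Cfsg.Agent.FG.Fix6Eleven

set_option autoImplicit false
open Cfsg

namespace Cfsg.Agent.S5720

open FG.Fix6 Module

theorem sl_bound {r : ℕ} [hr : Fact r.Prime] (h11 : 11 ≤ r) (h3 : r % 3 = 2) {K V : Type*} [Field K]
    [AddCommGroup V] [Module K V] [FiniteDimensional K V]
    (ρ : Representation K (Matrix.SpecialLinearGroup (Fin 2) (ZMod r)) V) {M : ℕ}
    (hM : ∀ h, h ≠ 1 → fx ρ h ≤ M) : finrank K V ≤ 6 * M := by
  obtain ⟨σ, hσ⟩ := exists_baseChange ρ (algebraMap K (AlgebraicClosure K))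
  have hM' : ∀ h, h ≠ 1 → fx σ h ≤ M := fun h hh => hσ h ▸ hM h hh
  rw [← finrank_fin_fun (AlgebraicClosure K) (n := finrank K V)]
  have hy := hM' _ (y3_ne_one (ZMod r))
  have hu := hM' (GT.slUp 1) (by rw [Ne, GT.slUp_eq_one_iff]; exact one_ne_zero)
  by_cases hK3 : ((3 : ℕ) : AlgebraicClosure K) = 0
  · have := Fact.mk Nat.prime_three
    have := (CharP.charP_iff_prime_eq_zero (R := AlgebraicClosure K) (p := 3) Nat.prime_three).2 hK3
    have := le_of_char σ (y3_pow (ZMod r))
    omega
  by_cases hK : (r : AlgebraicClosure K) = 0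
  · have := (CharP.charP_iff_prime_eq_zero (R := AlgebraicClosure K) (p := r) hr.1).2 hK
    rcases h11.eq_or_lt with rfl | h
    · have := E.eleven (hG := Fintype.ofFinite _) σ
      omega
    · have h14 : r ≠ 14 := by rintro rfl; exact absurd hr.1 (by decide)
      have := def_bound (by omega) h3 σ
      omega
  · exact cross_sl h11 h3 hK hK3 σ hM'

/-- Let H be a finite group whose soluble radical (largest soluble normal subgroup) has index greater than 120. Then for every field K and every finite-dimensional K-linear representation of H on a space V there is a non-identity element h of H whose fixed-point subspace on V has dimension at least (dim V)/6. -/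
theorem result {H : Type*} [Group H] [Finite H] (hR : 120 < (Cfsg.solvableRadical H).index)
    {K V : Type*} [Field K] [AddCommGroup V] [Module K V] [FiniteDimensional K V] (ρ : Representation K H V) :
    ∃ h : H, h ≠ 1 ∧ (Module.finrank K V : ℚ) / 6 ≤ Module.finrank K (LinearMap.ker (ρ h - 1)) := by
  by_contra hne
  push Not at hne
  have hlt : ∀ h : H, h ≠ 1 → 6 * fx ρ h < finrank K V := fun h hh => by
    have := hne h hh
    rw [lt_div_iff₀ (by norm_num), mul_comm] at this
    exact_mod_cast this
  set M := (finrank K V - 1) / 6 with hMdef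
  have hM : ∀ h : H, h ≠ 1 → fx ρ h ≤ M := fun h hh => by have := hlt h hh; omega
  have hpos : ∀ h : H, h ≠ 1 → 6 * M < finrank K V := fun h hh => by have := hlt h hh; omega
  have hgood : Good H := by
    refine ⟨fun s hs a b ha hb hab => ?_, fun z a hz hz2 hza => ?_, fun x a hx hc => ?_⟩
    · by_contra hba
      have hp : Fact s.Prime := ⟨by rcases hs with rfl | rfl | rfl <;> norm_num⟩
      have ha1 : a ≠ 1 := by
        rintro rfl
        exact hp.1.one_lt.ne (by simpa using ha)
      have h1 := hpos a ha1
      have h5 : s ≤ 5 := by omega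
      by_cases hK : (s : K) = 0
      · have := (CharP.charP_iff_prime_eq_zero (R := K) (p := s) hp.1).2 hK
        have h2 := le_of_char ρ (ha ▸ pow_orderOf_eq_one a : a ^ s = 1)
        have h3 := hM a ha1
        nlinarith
      · have h2 := le_of_elem ρ hp.1 hK ha hb hab hba hM
        nlinarith
    · by_contra ha
      have h1 := le_of_dih ρ hz2 hza
      have := hM z hz
      have := hM _ ha
      have := hpos z hz
      omega
    · by_contra hne'
      have hx1 : x ≠ 1 := by rintro rfl; simp at hne'
      have h1 := le_of_f3 ρ hx hc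
      have h2 := hM x hx1
      have h3 := hM ((x * a * x⁻¹)⁻¹ * a) fun e => hne' (inv_mul_eq_one.1 e)
      have h4 := hM ((x * (x * a * x⁻¹) * x⁻¹)⁻¹ * a) fun e => hne' (by
        have e1 := inv_mul_eq_one.1 e
        calc x * a * x⁻¹ = x * (x * (x * a * x⁻¹) * x⁻¹) * x⁻¹ := by rw [e1]
          _ = x ^ 3 * a * (x ^ 3)⁻¹ := by rw [pow_three]; simp only [mul_inv_rev, mul_assoc]
          _ = a := by rw [hx]; simp)
      have := hpos x hx1
      omega
  obtain ⟨r, _, h11, h3, f, hf⟩ := hgood.exists_sl hR
  have hf1 : ∀ h, h ≠ 1 → f h ≠ 1 := fun h hh e => hh (hf (by rw [e, map_one]))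
  have h1 := sl_bound h11 h3 (ρ.comp f) (M := M) fun h hh => hM _ (hf1 h hh)
  have := hpos _ (hf1 _ (y3_ne_one (ZMod r)))
  omega

end Cfsg.Agent.S5720
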