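import Mathlib
import Cfsg.Statements.S5728
-- import your own Cfsg.Agent.* helpers here

set_option autoImplicit false
open Cfsg

namespace Cfsg.Agent.S5728

theorem exists_of_pow {p : ℕ} [Fact p.Prime] {F : Type*} [Field F] [Algebra (ZMod p) F] {a : F}
    (h : a ^ p = a) : ∃ c : ZMod p, algebraMap (ZMod p) F c = a := by
  have : CharP F p := (Algebra.charP_iff (ZMod p) F p).mp inferInstance
  have h1 := (Subfield.mem_bot_iff_pow_eq_self F p).mpr h
  exact (bot_le : ⊥ ≤ (algebraMap (ZMod p) F).fieldRange) h1


/-- An elusive transitive action. Let p = 2^s − 1 be a prime and let F be the field with p² elements. Inside the group of affine maps x ↦ a·x + b of F (a ≠ 0), consider the subgroup of maps with both coefficients in the prime field. Then every element of prime order of the affine group is conjugate, within the affine group, to an element of that subgroup; equivalently, in the transitive action of the affine group on the cosets of that subgroup (of degree p(p + 1)) every element of prime order fixes a point. -/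
theorem result (p s : ℕ) [Fact p.Prime] (hs : p = 2 ^ s - 1)
    (g : Equiv.Perm (GaloisField p 2)) (hg : g ∈ Cfsg.affineGroup (GaloisField p 2)) (hord : (orderOf g).Prime) :
    ∃ x ∈ Cfsg.affineGroup (GaloisField p 2), ∃ a b : ZMod p, a ≠ 0 ∧
      ∀ y : GaloisField p 2, (x * g * x⁻¹) y = algebraMap (ZMod p) (GaloisField p 2) a * y + algebraMap (ZMod p) (GaloisField p 2) b := by
  have hp : p.Prime := Fact.out
  obtain ⟨a, b, hab⟩ := hg
  have hg1 : g ≠ 1 := fun h => by
    rw [h, orderOf_one] at hord
    exact Nat.not_prime_one hord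
  by_cases ha : (a : GaloisField p 2) = 1
  · have hb : b ≠ 0 := fun h => hg1 (Equiv.ext fun y => by simp [hab, ha, h])
    refine ⟨(Units.mk0 b hb).mulLeft⁻¹, Subgroup.inv_mem _ ⟨Units.mk0 b hb, 0, fun y => by simp⟩,
      1, 1, one_ne_zero, fun y => ?_⟩
    simp only [inv_inv, Equiv.Perm.coe_mul, Function.comp_apply, hab, ha, map_one]
    rw [Equiv.Perm.inv_eq_iff_eq]
    simp [mul_add]
  have ha' : (1 : GaloisField p 2) - a ≠ 0 := sub_ne_zero.mpr (Ne.symm ha)
  set c : GaloisField p 2 := b / (1 - a) with hc
  have hfix : ∀ y, g (y + c) = a * y + c := fun y => by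
    rw [hab, hc]; field_simp; ring
  have hpow : ∀ (k : ℕ) (y : GaloisField p 2), (g ^ k) (y + c) = a ^ k * y + c := by
    intro k
    induction k with
    | zero => simp
    | succ k ih => intro y; rw [pow_succ', Equiv.Perm.mul_apply, ih, hfix]; ring
  have h1 : (a : GaloisField p 2) ^ orderOf g = 1 := by
    have := hpow (orderOf g) 1
    rw [pow_orderOf_eq_one, Equiv.Perm.one_apply, mul_one, add_left_inj] at this
    exact this.symm
  have := Fact.mk hord
  have h2 : orderOf a = orderOf g :=
    orderOf_eq_prime (Units.ext (by simpa using h1)) fun h => ha (by simp [h])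
  have h3 : orderOf g ∣ (p - 1) * 2 ^ s := by
    rw [← h2]
    refine (orderOf_dvd_natCard a).trans (dvd_of_eq ?_)
    rw [Nat.card_units, GaloisField.card p 2 (by norm_num)]
    have h4 : 2 ^ s = p + 1 := by have := Nat.two_pow_pos s; omega
    rw [h4]
    obtain ⟨q, rfl⟩ : ∃ q, p = q + 1 := ⟨p - 1, by have := hp.pos; omega⟩
    rw [Nat.add_sub_cancel]
    apply Nat.sub_eq_of_eq_add
    ring
  obtain ⟨a', ha''⟩ : ∃ a' : ZMod p, algebraMap (ZMod p) (GaloisField p 2) a' = a := by
    rcases (Nat.Prime.dvd_mul hord).mp h3 with h | h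
    · apply exists_of_pow
      obtain ⟨k, hk⟩ := h
      have : p = orderOf g * k + 1 := by have := hp.pos; omega
      rw [congrArg ((a : GaloisField p 2) ^ ·) this, pow_succ, pow_mul, h1, one_pow, one_mul]
    · rw [(Nat.prime_dvd_prime_iff_eq hord Nat.prime_two).mp (hord.dvd_of_dvd_pow h)] at h1
      exact ⟨-1, by rw [map_neg, map_one, (sq_eq_one_iff.mp h1).resolve_left ha]⟩
  refine ⟨(Equiv.addRight c)⁻¹, Subgroup.inv_mem _ ⟨1, c, fun y => by simp⟩, a', 0, ?_, fun y => ?_⟩
  · rintro rfl
    exact a.ne_zero (by rw [← ha'', map_zero])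
  · simp only [inv_inv, Equiv.Perm.coe_mul, Function.comp_apply]
    rw [Equiv.Perm.inv_eq_iff_eq]
    simp [hfix, ha'']

end Cfsg.Agent.S5728
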