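import Cfsg.Statements.S5740
import Cfsg.Agent.Chev.E6Loc2
import Cfsg.Agent.S1066
import Cfsg.Agent.S1070

set_option autoImplicit false
open Cfsg

namespace Cfsg.Agent.S5740

open Cfsg.Agent.Chev Cfsg.Agent.Chev.E6F Cfsg.Lie Cfsg.Lie.ChevalleyDatum

/-- In the simple group ²E₆(2) (the twisted group of type E₆ over the field with 4 elements), for every prime p > 5 no p-local subgroup is maximal: the normaliser of a non-trivial p-subgroup is never a maximal subgroup. -/
theorem result {K : Type*} [Field K] [Fintype K] (hK : Fintype.card K = 4) (p : ℕ) (hp : p.Prime) (h5 : 5 < p)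
    (P : Subgroup (Cfsg.Lie.twistedE6 K 2)) (hP : IsPGroup p P) (hP1 : P ≠ ⊥) :
    ¬ IsCoatom (Subgroup.normalizer (P : Set (Cfsg.Lie.twistedE6 K 2))) := by
  have hq : IsPrimePow 2 := Nat.prime_two.isPrimePow
  have hK' : Fintype.card K = 2 ^ 2 := hK
  have hN := S1066.result hq hK'
  have hs := (S1070.result hq hK').1
  obtain ⟨f, hf⟩ := tw_exists_frob (K := K) hq (by decide) hK'
  revert P
  rw [← twE6_G1 hK' hf] at hN hs ⊢
  intro P hP hP1 hc
  obtain ⟨φ, hφ, hL, hS⟩ := grE6.exists_frob_data (stTor_injective_E6 _) (twE6 f) rfl hq hK' hf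
  have : CharP K 2 := charP_of_card_eq_prime_pow (p := 2) hK'
  have hj := (fieldHom_injective chevE6 (algebraMap K (AlgebraicClosure K))).comp
    (Subgroup.inclusion_injective (twE6 f).G1_le_group)
  obtain ⟨e⟩ : Nonempty (_ ≃* fixG (tau φ (wdp p))) := nonempty_equiv_fixG hL _ _ hj hS
  have : Finite (fixG (tau φ (wdp p))) := Finite.of_equiv _ e.toEquiv
  have : IsSimpleGroup (fixG (tau φ (wdp p))) := e.symm.isSimpleGroup
  have hF := locFin_algebraicClosure K 2
  have h1 : Nat.card (fixG (tau φ (wdp p))) = 2 ^ 36 * 3 ^ 9 * 5 ^ 2 * 7 ^ 2 * 11 * 13 * 17 * 19 := by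
    rw [← Nat.card_congr e.toEquiv]
    norm_num at hN ⊢
    omega
  replace hc := isCoatom_normalizer_map e hc
  replace hP := hP.map (e : _ →* fixG (tau φ (wdp p)))
  replace hP1 := fun h => hP1 ((Subgroup.map_eq_bot_iff_of_injective _ (f := (e : _ →* fixG (tau φ (wdp p))))
    e.injective).1 h)
  have : Fact p.Prime := ⟨hp⟩
  have h2 : p ∣ 2 ^ 36 * 3 ^ 9 * 5 ^ 2 * 7 ^ 2 * 11 * 13 * 17 * 19 := by
    obtain ⟨k, hk⟩ := hP.exists_card_eq
    rcases k with _ | k
    · exact absurd (Subgroup.card_eq_one.1 hk) hP1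
    · exact h1 ▸ (dvd_pow_self p k.succ_ne_zero).trans (hk ▸ Subgroup.card_subgroup_dvd_card _)
  have h3 : ∀ {r : ℕ}, r.Prime → ∀ k, p ∣ r ^ k → p = r := fun hr k h =>
    (Nat.prime_dvd_prime_iff_eq hp hr).1 (hp.dvd_of_dvd_pow h)
  simp only [hp.dvd_mul] at h2
  rcases h2 with ((((((h | h) | h) | h) | h) | h) | h) | h
  · have := h3 (by norm_num) _ h; omega
  · have := h3 (by norm_num) _ h; omega
  · have := h3 (by norm_num) _ h; omega
  · obtain rfl := h3 (by norm_num) _ h
    exact case7 hF hφ (by rw [h1]; norm_num) hP hP1 hc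
  · obtain rfl := (Nat.prime_dvd_prime_iff_eq hp (by norm_num)).1 h
    exact case11 hF hφ (by rw [h1]; norm_num) hP hP1 hc
  · obtain rfl := (Nat.prime_dvd_prime_iff_eq hp (by norm_num)).1 h
    exact case13 hF hφ (by rw [h1]; norm_num) hP hP1 hc
  · obtain rfl := (Nat.prime_dvd_prime_iff_eq hp (by norm_num)).1 h
    exact case17 hF hφ (by rw [h1]; norm_num) hP hP1 hc
  · obtain rfl := (Nat.prime_dvd_prime_iff_eq hp (by norm_num)).1 h
    exact case19 hF hφ (by rw [h1]; norm_num) hP hP1 hc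

end Cfsg.Agent.S5740
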