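import Cfsg.Statements.S5744
import Cfsg.Agent.Chev.FiE6b
import Cfsg.Agent.Chev.FiE6c
import Cfsg.Agent.S1686
import Cfsg.Agent.S2604
import Cfsg.Agent.Cl.AutOMat
import Cfsg.Agent.Spor.Out.Gen

set_option autoImplicit false
open Cfsg

namespace Cfsg.Agent.S5744

/-- The simple group ²E₆(2) (the twisted group of type E₆ over the field with 4 elements) contains at least three pairwise non-conjugate subgroups isomorphic to the orthogonal group Ω₇(3) (the commutator subgroup of the isometry group of x₀² + x₁y₁ + x₂y₂ + x₃y₃ over the field with 3 elements). -/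
theorem result {K : Type*} [Field K] [Fintype K] (hK : Fintype.card K = 4) :
    ∃ H : Fin 3 → Subgroup (Cfsg.Lie.twistedE6 K 2),
      (∀ i, Nonempty ((H i) ≃* Cfsg.Omega (ZMod 3) (Cfsg.quadFormOdd 3 (ZMod 3)))) ∧
      (∀ i j, i ≠ j → ∀ g : (Cfsg.Lie.twistedE6 K 2), (H i).map (MulAut.conj g).toMonoidHom ≠ H j) := by
  obtain ⟨φ, h1, h2⟩ := Chev.Fi.exists_fi22 hK
  obtain ⟨e⟩ := S1686.result
  have hc : Subgroup.center (Cfsg.Omega (ZMod 3) (Cfsg.quadFormOdd 3 (ZMod 3))) = ⊥ := eq_bot_iff.2 fun s hs => by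
    obtain ⟨c, hc⟩ := Cl.omGL_center_scalar (Cl.quad_odd_nondeg (m := 3) (F := ZMod 3) (by decide)) (by decide) s hs
    have h4 : Matrix.GeneralLinearGroup.det s.1.1 = 1 := MonoidHom.mem_ker.1 (Abelianization.commutator_subset_ker
      (Matrix.GeneralLinearGroup.det.comp (isometryGroup (ZMod 3) (quadFormOdd 3 (ZMod 3))).subtype) s.2)
    have h3 := congrArg Units.val h4
    rw [Matrix.GeneralLinearGroup.val_det_apply, Units.val_one] at h3
    change s.1.1.1 = _ at hc
    rw [hc, Matrix.det_smul, Matrix.det_one, mul_one, show Fintype.card (Unit ⊕ Fin 3 ⊕ Fin 3) = 7 from rfl] at h3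
    obtain rfl : c = 1 := by clear hc; revert c; decide
    exact Subtype.ext (Subtype.ext (Units.ext (hc.trans (one_smul _ _))))
  let e' := (e.trans (QuotientGroup.quotientMulEquivOfEq hc)).trans QuotientGroup.quotientBot
  obtain ⟨o⟩ := S2604.result (F := ZMod 3) (p := 3) (f := 1) (m := 3) le_rfl (by simp) (by norm_num) le_rfl
  have h3 : Nat.card (Out (Cfsg.Omega (ZMod 3) (Cfsg.quadFormOdd 3 (ZMod 3)))) = 2 := by
    rw [← Spor.card_out_congr e', Spor.card_out_congr e, Nat.card_congr o.toEquiv]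
    simp
  refine Chev.Fi.exists_three hK h3 (φ.comp ((Subgroup.subtype _).comp e'.symm.toMonoidHom))
    (h1.comp (Subtype.val_injective.comp e'.symm.injective)) fun y hy => h2 y fun x hx => ?_
  have := hy (e' ⟨PresentedGroup.of x, Subgroup.mem_map_of_mem _ (Subgroup.subset_closure (by
    cases x <;> simp at hx ⊢))⟩)
  simpa using this

end Cfsg.Agent.S5744
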