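import Cfsg.Statements.S5770
import Cfsg.Agent.E7V.Cnt
import Cfsg.Agent.E7V.Aut
import Cfsg.Agent.E7V.L34
import Cfsg.Agent.E7V.U34
import Cfsg.Agent.E7V.Sz8
import Cfsg.Agent.E7V.J2
import Cfsg.Agent.E7V.L316
-- import your own Cfsg.Agent.* helpers here

set_option autoImplicit false
open Cfsg

namespace Cfsg.Agent.S5770

/-- The Chevalley group of type E₇ over the field with two elements (generated by its root elements in the adjoint representation; the simple group E₇(2)) has no maximal subgroup H whose generalized Fitting subgroup F*(H) is isomorphic to any of PSL₃(4), PSU₃(4), the Suzuki group Sz(8), the Chevalley group G₂(4) or PSL₃(16). Here F₄, F₈, F₁₆ denote fields with 4, 8 and 16 elements. -/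
theorem result {F₄ F₈ F₁₆ : Type*} [Field F₄] [Fintype F₄] (h4 : Fintype.card F₄ = 4) [Field F₈] [Fintype F₈] (h8 : Fintype.card F₈ = 8)
    [Field F₁₆] [Fintype F₁₆] (h16 : Fintype.card F₁₆ = 16) (H : Subgroup ↥(Cfsg.Lie.chevE7.group (ZMod 2))) (hH : IsCoatom H) :
    IsEmpty (↥(Cfsg.generalizedFittingSubgroup ↥H) ≃* Matrix.ProjectiveSpecialLinearGroup (Fin 3) F₄) ∧ IsEmpty (↥(Cfsg.generalizedFittingSubgroup ↥H) ≃* Cfsg.PSU 3 F₁₆ 4) ∧
    IsEmpty (↥(Cfsg.generalizedFittingSubgroup ↥H) ≃* ↥(Cfsg.Lie.Sz F₈ 4)) ∧ IsEmpty (↥(Cfsg.generalizedFittingSubgroup ↥H) ≃* ↥(Cfsg.Lie.chevG2.group F₄)) ∧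
    IsEmpty (↥(Cfsg.generalizedFittingSubgroup ↥H) ≃* Matrix.ProjectiveSpecialLinearGroup (Fin 3) F₁₆) := by
  obtain ⟨a1, a2, a3⟩ := E7V.aut34 h4
  obtain ⟨b1, b2, b3⟩ := E7V.autSz h8
  exact ⟨E7V.red3 a1 (k := 2) (by rw [a2, a3]; norm_num) (by rw [a2]; norm_num) (E7V.l34 h4) H hH,
    E7V.red0 (E7V.u34 h16) H,
    E7V.red3 b1 (k := 0) (by rw [b2, b3]; norm_num) (by rw [b2]; norm_num) (E7V.sz8 h8) H hH,
    E7V.red0 (E7V.g24 h4) H, E7V.red0 (E7V.l316 h16) H⟩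

end Cfsg.Agent.S5770
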