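import Cfsg.Statements.S5825
import Cfsg.Agent.Cl.MaxOExtB
import Cfsg.Agent.Cl.MaxOND
import Cfsg.Agent.Cl.MaxOSubM

set_option autoImplicit false
open Cfsg

namespace Cfsg.Agent.S5825

/-- Maximal subgroups of Ω_8^-(q) of geometric type (any q). Let F be a finite field with q elements, Q a non-degenerate quadratic form on F^8 (non-degenerate polar form) of minus type (Witt index 3: no totally singular 4-space), and Ω = Ω_8^-(q) the commutator subgroup of the isometry group of Q, inside GL_8(F). Each of the following, intersected with Ω, is a maximal subgroup of Ω: (1) the stabiliser of any non-zero subspace on which Q vanishes identically (totally singular 1-, 2- and 3-spaces); (2) for q odd, the stabiliser of any proper subspace of odd dimension (1, 3, 5 or 7) on which the polar form of Q is non-degenerate; (3) the stabiliser of any non-degenerate 2-space of minus type (containing no non-zero singular vector); (4) for q ≥ 4, the stabiliser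 of any non-degenerate 2-space of plus type (containing a non-zero singular vector); (5) the stabiliser of any non-degenerate 4-space (its orthogonal complement is then a non-degenerate 4-space of the opposite type); (6) for q even, the stabiliser of the 1-space spanned by any non-singular vector v (Q(v) ≠ 0); (7) for q odd, the normaliser of any degree-2 subfield K of the matrix algebra whose elements are self-adjoint for the polar form of Q (Q is then the trace of a quadratic form over K); (8) every subfield group for a subfield F₀ of odd prime index r in F whose F₀-structure carries a non-zero scalar multiple of Q. -/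
theorem result {F : Type*} [Field F] [Fintype F] (Q : (Fin 8 → F) → F) (hQ : Cfsg.Geo.IsNondegenerateQuadraticForm Q) (hminus : ¬ Cfsg.Geo.IsPlusTypeOn Q ⊤) :
    (∀ W : Submodule F (Fin 8 → F), W ≠ ⊥ → Cfsg.Geo.IsTotallySingularQuad Q W → Cfsg.Geo.IsMaximalIn (Cfsg.Geo.omegaGL Q) (Cfsg.Geo.subspaceStabilizer W ⊓ Cfsg.Geo.omegaGL Q)) ∧
    (Odd (Fintype.card F) → ∀ W : Submodule F (Fin 8 → F), W ≠ ⊥ → W ≠ ⊤ → Odd (Module.finrank F W) → Cfsg.Geo.IsNondegenerateOn (QuadraticMap.polar Q) W → Cfsg.Geo.IsMaximalIn (Cfsg.Geo.omegaGL Q) (Cfsg.Geo.subspaceStabilizer W ⊓ Cfsg.Geo.omegaGL Q)) ∧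
    (∀ W : Submodule F (Fin 8 → F), Module.finrank F W = 2 → Cfsg.Geo.IsNondegenerateOn (QuadraticMap.polar Q) W → ¬ Cfsg.Geo.IsPlusTypeOn Q W → Cfsg.Geo.IsMaximalIn (Cfsg.Geo.omegaGL Q) (Cfsg.Geo.subspaceStabilizer W ⊓ Cfsg.Geo.omegaGL Q)) ∧
    (4 ≤ Fintype.card F → ∀ W : Submodule F (Fin 8 → F), Module.finrank F W = 2 → Cfsg.Geo.IsNondegenerateOn (QuadraticMap.polar Q) W → Cfsg.Geo.IsPlusTypeOn Q W → Cfsg.Geo.IsMaximalIn (Cfsg.Geo.omegaGL Q) (Cfsg.Geo.subspaceStabilizer W ⊓ Cfsg.Geo.omegaGL Q)) ∧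
    (∀ W : Submodule F (Fin 8 → F), Module.finrank F W = 4 → Cfsg.Geo.IsNondegenerateOn (QuadraticMap.polar Q) W → Cfsg.Geo.IsMaximalIn (Cfsg.Geo.omegaGL Q) (Cfsg.Geo.subspaceStabilizer W ⊓ Cfsg.Geo.omegaGL Q)) ∧
    (¬ Odd (Fintype.card F) → ∀ v : (Fin 8 → F), Q v ≠ 0 → Cfsg.Geo.IsMaximalIn (Cfsg.Geo.omegaGL Q) (Cfsg.Geo.subspaceStabilizer (Submodule.span F {v}) ⊓ Cfsg.Geo.omegaGL Q)) ∧
    (Odd (Fintype.card F) → ∀ K : Subalgebra F (Matrix (Fin 8) (Fin 8) F), Cfsg.Geo.IsFieldSubalgebra 2 K → Cfsg.Geo.IsSelfAdjointFor (QuadraticMap.polar Q) K → Cfsg.Geo.IsMaximalIn (Cfsg.Geo.omegaGL Q) (Cfsg.Geo.subalgebraNormalizer K ⊓ Cfsg.Geo.omegaGL Q)) ∧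
    (∀ (F₀ : Subfield F) (r : ℕ) (P : Matrix.GeneralLinearGroup (Fin 8) F) (ζ : F), r.Prime → Odd r → Fintype.card F = Nat.card F₀ ^ r → ζ ≠ 0 → Cfsg.Geo.IsQuadFormRationalStructure (fun v : Fin 8 → F => ζ * Q v) F₀ P → Cfsg.Geo.IsMaximalIn (Cfsg.Geo.omegaGL Q) (Cfsg.Geo.subfieldSubgroup F₀ P ⊓ Cfsg.Geo.omegaGL Q)) := by
  have hd : Module.finrank F (Fin 8 → F) = 8 := by simp
  have hP := Cl.Max.toQF_nondeg hQ
  have h3 := Cl.finrank_operp hP
  have key : ∀ W : Submodule F (Fin 8 → F), Geo.IsNondegenerateOn (QuadraticMap.polar Q) W →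
      Odd (Module.finrank F W) ∨ (Module.finrank F W = 2 ∧
        (4 ≤ Fintype.card F ∨ ¬ Geo.IsPlusTypeOn Q W)) → Geo.IsMaximalIn (Geo.omegaGL Q)
      (Geo.subspaceStabilizer W ⊓ Geo.omegaGL Q) := fun W hW H => by
    have := h3 W
    rw [Nat.odd_iff] at H
    refine Cl.MaxO.isMaximalIn_subspace (Cl.Max.toQF hQ) W (Cl.MaxO.omax_nondeg_ne hP (by omega)
      (Cl.MaxO.nd_of_isNondegenerateOn hW) (Cl.MaxO.ne_bot_of_finrank (by omega))
      (fun H' => by rw [H', finrank_top] at H; omega) (by omega) (fun H' => ?_) (by omega))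
    rw [Nat.card_eq_fintype_card] at H'
    rcases H with H | ⟨-, H | H⟩
    exacts [by omega, by omega, H H'.2.2]
  exact ⟨fun W hW0 hW => Cl.MaxO.isMaximalIn_subspace (Cl.Max.toQF hQ) W (Cl.MaxO.omax_singular
      hP (by omega) hW0 hW fun _ ⟨U, h1, h2⟩ => hminus ⟨U, le_top, h1, by rw [h2, finrank_top]⟩),
    fun _ W _ _ h hW => key W hW (.inl h), fun W h hW h' => key W hW (.inr ⟨h, .inr h'⟩),
    fun h' W h hW _ => key W hW (.inr ⟨h, .inl h'⟩),
    fun W h hW => Cl.MaxO.isMaximalIn_subspace (Cl.Max.toQF hQ) W (Cl.MaxO.omax_nondeg_half hP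
      (by omega) hminus (Cl.MaxO.nd_of_isNondegenerateOn hW) (by omega) (h ▸ by decide)),
    fun _ v hv => Cl.MaxO.isMaximalIn_subspace (Cl.Max.toQF hQ) _
      (Cl.MaxO.omax_point hP (by omega) hv),
    fun hodd K hK hsa => Cl.MaxO.isMaximalIn_ext (Cl.Max.toQF hQ) hP
      (Cl.o_two_ne_zero_of_odd_card hodd) Nat.prime_two (by simp) (by simp) hK hsa,
    fun F₀ r P ζ hr _ hc hζ hT => Cl.MaxO.isMaximalIn_subfield (Cl.Max.toQF hQ) hP (by simp) F₀ r hr
      hc P ζ hζ hT⟩

end Cfsg.Agent.S5825
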