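import Cfsg.Statements.S5834
import Cfsg.Agent.Cl.MaxOExtB
import Cfsg.Agent.Cl.MaxOFrB
import Cfsg.Agent.Cl.MaxOTwo
import Cfsg.Agent.Cl.MaxOSubM
import Cfsg.Agent.Cl.TnFinW

set_option autoImplicit false
open Cfsg

namespace Cfsg.Agent.S5834

/-- Maximal subgroups of Ω_9(q) of geometric type, q odd. Let F be a finite field of odd order q, Q the standard quadratic form x₀² + Σ x_i y_i on F^9 (coordinates Unit ⊕ (Fin 4 ⊕ Fin 4)), and Ω = Ω_9(q) the commutator subgroup of its isometry group, inside GL_9(F). Each of the following, intersected with Ω, is a maximal subgroup of Ω: (1) the stabiliser of any non-zero subspace on which Q vanishes identically (totally singular 1- to 4-spaces); (2) the stabiliser of any non-zero even-dimensional subspace W (dimension 2, 4, 6 or 8) on which the polar form of Q is non-degenerate (equivalently of its odd-dimensional orthogonal complement), except when q = 3 and W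 is a 2-space containing a non-zero singular vector (a plus-type plane); (3) for q = p prime, the stabiliser of any decomposition of F^9 into nine pairwise orthogonal, pairwise Q-isometric non-degenerate 1-spaces; (4) for q ≥ 5, the stabiliser of any decomposition of F^9 into three pairwise orthogonal, pairwise Q-isometric non-degenerate 3-spaces; (5) the normaliser of any degree-3 subfield K of the matrix algebra whose elements are self-adjoint for the polar form of Q (Q is then the trace of a quadratic form over K); (6) every subfield group for a subfield F₀ with |F| = |F₀|^r, r prime, whose F₀-structure carries Q; (7) for q ≥ 5, the stabiliser of any decomposition of the polar form of Q as the tensor square of a non-degenerate symmetric bilinear form on F^3 up to a scalar (tensor-wreath subgroup). -/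
theorem result {F : Type*} [Field F] [Fintype F] (hodd : Odd (Fintype.card F)) :
    (∀ W : Submodule F (Unit ⊕ (Fin 4 ⊕ Fin 4) → F), W ≠ ⊥ → Cfsg.Geo.IsTotallySingularQuad (Cfsg.quadFormOdd 4 F) W → Cfsg.Geo.IsMaximalIn (Cfsg.Geo.omegaGL (Cfsg.quadFormOdd 4 F)) (Cfsg.Geo.subspaceStabilizer W ⊓ Cfsg.Geo.omegaGL (Cfsg.quadFormOdd 4 F))) ∧
    (∀ W : Submodule F (Unit ⊕ (Fin 4 ⊕ Fin 4) → F), W ≠ ⊥ → Even (Module.finrank F W) → Cfsg.Geo.IsNondegenerateOn (QuadraticMap.polar (Cfsg.quadFormOdd 4 F)) W → ¬ (Fintype.card F = 3 ∧ Module.finrank F W = 2 ∧ Cfsg.Geo.IsPlusTypeOn (Cfsg.quadFormOdd 4 F) W) → Cfsg.Geo.IsMaximalIn (Cfsg.Geo.omegaGL (Cfsg.quadFormOdd 4 F)) (Cfsg.Geo.subspaceStabilizer W ⊓ Cfsg.Geo.omegaGL (Cfsg.quadFormOdd 4 F))) ∧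
    ((Fintype.card F).Prime → ∀ D : Fin 9 → Submodule F (Unit ⊕ (Fin 4 ⊕ Fin 4) → F), Cfsg.Geo.IsOrthogonalMDecomposition (Cfsg.quadFormOdd 4 F) 1 D → Cfsg.Geo.IsMaximalIn (Cfsg.Geo.omegaGL (Cfsg.quadFormOdd 4 F)) (Cfsg.Geo.decompositionStabilizer D ⊓ Cfsg.Geo.omegaGL (Cfsg.quadFormOdd 4 F))) ∧
    (5 ≤ Fintype.card F → ∀ D : Fin 3 → Submodule F (Unit ⊕ (Fin 4 ⊕ Fin 4) → F), Cfsg.Geo.IsOrthogonalMDecomposition (Cfsg.quadFormOdd 4 F) 3 D → Cfsg.Geo.IsMaximalIn (Cfsg.Geo.omegaGL (Cfsg.quadFormOdd 4 F)) (Cfsg.Geo.decompositionStabilizer D ⊓ Cfsg.Geo.omegaGL (Cfsg.quadFormOdd 4 F))) ∧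
    (∀ K : Subalgebra F (Matrix (Unit ⊕ (Fin 4 ⊕ Fin 4)) (Unit ⊕ (Fin 4 ⊕ Fin 4)) F), Cfsg.Geo.IsFieldSubalgebra 3 K → Cfsg.Geo.IsSelfAdjointFor (QuadraticMap.polar (Cfsg.quadFormOdd 4 F)) K → Cfsg.Geo.IsMaximalIn (Cfsg.Geo.omegaGL (Cfsg.quadFormOdd 4 F)) (Cfsg.Geo.subalgebraNormalizer K ⊓ Cfsg.Geo.omegaGL (Cfsg.quadFormOdd 4 F))) ∧
    (∀ (F₀ : Subfield F) (r : ℕ) (P : Matrix.GeneralLinearGroup (Unit ⊕ (Fin 4 ⊕ Fin 4)) F), r.Prime → Fintype.card F = Nat.card F₀ ^ r → Cfsg.Geo.IsQuadFormRationalStructure (Cfsg.quadFormOdd 4 F) F₀ P → Cfsg.Geo.IsMaximalIn (Cfsg.Geo.omegaGL (Cfsg.quadFormOdd 4 F)) (Cfsg.Geo.subfieldSubgroup F₀ P ⊓ Cfsg.Geo.omegaGL (Cfsg.quadFormOdd 4 F))) ∧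
    (5 ≤ Fintype.card F → ∀ (e : (Unit ⊕ (Fin 4 ⊕ Fin 4)) ≃ (Fin 2 → Fin 3)) (P : Matrix.GeneralLinearGroup (Unit ⊕ (Fin 4 ⊕ Fin 4)) F) (f₁ : (Fin 3 → F) → (Fin 3 → F) → F), Cfsg.Geo.IsSymmetricForm f₁ → Cfsg.Geo.IsTensorPowerFormStructure id (QuadraticMap.polar (Cfsg.quadFormOdd 4 F)) f₁ e P → Cfsg.Geo.IsMaximalIn (Cfsg.Geo.omegaGL (Cfsg.quadFormOdd 4 F)) (Cfsg.Geo.tensorWreathSubgroup 3 2 e P ⊓ Cfsg.Geo.omegaGL (Cfsg.quadFormOdd 4 F))) := by
  have hd := Cl.o_finrank_odd (m := 4) (F := F)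
  have h2 := Cl.o_two_ne_zero_of_odd_card hodd
  have hQ := Cl.quad_odd_nondeg (m := 4) h2
  have hc := Nat.card_eq_fintype_card (α := F)
  refine ⟨fun W hW0 hW => Cl.MaxO.isMaximalIn_subspace (Cl.quad_odd 4 F) W
    (Cl.MaxO.omax_singular hQ (by omega) hW0 hW (by omega)), fun W hW0 hev hW hex => ?_,
    fun hp D hD => Cl.MaxO.isMaximalIn_dec (Cl.quad_odd 4 F) D (Cl.MaxO.omax_frame hQ h2
      (by rwa [hc]) (Cl.MaxO.odec_of_geo hD.decomp) hD.isometric
      hD.decomp.decomp.finrank_eq (by simp) (by simp)),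
    fun h D hD => Cl.MaxO.isMaximalIn_dec (Cl.quad_odd 4 F) D (Cl.MaxO.omax_dec_three hQ
      (Cl.MaxO.odec_of_geo hD.decomp) hD.isometric (fun i => .inr (.inr (.inl
        ⟨hD.decomp.decomp.finrank_eq i, by omega⟩))) hD.decomp.decomp.finrank_eq le_rfl (by simp)
        (by simp)),
    fun K hK hsa => Cl.MaxO.isMaximalIn_ext (Cl.quad_odd 4 F) hQ h2 Nat.prime_three (by simp)
      (by simp) hK hsa,
    fun F₀ r P hr hcard hP => Cl.MaxO.isMaximalIn_subfield (Cl.quad_odd 4 F) hQ (by simp) F₀ r hr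
      hcard P 1 one_ne_zero (fun u hu => F₀.mul_mem F₀.one_mem (hP u hu)),
    fun h e P f₁ h₁ hT => Cl.Max.isMax_wreathO (Q := Cl.quad_odd 4 F) hodd hQ le_rfl h₁
      (.inl ⟨rfl, by omega⟩) hT⟩
  have h3 := Cl.finrank_operp hQ W
  obtain ⟨k, hk⟩ := hev
  refine Cl.MaxO.isMaximalIn_subspace (Cl.quad_odd 4 F) W (Cl.MaxO.omax_nondeg_ne hQ (by omega)
    (Cl.MaxO.nd_of_isNondegenerateOn hW) hW0 (fun H => ?_) (by omega) (fun H => hex ⟨?_, H.2⟩)
    (by omega))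
  · rw [H, finrank_top] at hk; omega
  · have h4 := H.1
    have h5 := Cl.MaxO.two_le_card (F := F)
    obtain ⟨j, hj⟩ := hodd
    omega

end Cfsg.Agent.S5834
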