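import Cfsg.Statements.S5849
import Cfsg.Agent.Cl.MaxOExtB
import Cfsg.Agent.Cl.MaxOFrB
import Cfsg.Agent.Cl.MaxOTwo
import Cfsg.Agent.Cl.MaxOSubM

set_option autoImplicit false
open Cfsg

namespace Cfsg.Agent.S5849

/-- Maximal subgroups of Ω_10^-(q) of geometric type (any q). Let F be a finite field with q elements (characteristic p), Q a non-degenerate quadratic form on F^10 (non-degenerate polar form) of minus type (Witt index 4: no totally singular 5-space), and Ω = Ω_10^-(q) the commutator subgroup of the isometry group of Q, inside GL_10(F). Each of the following, intersected with Ω, is a maximal subgroup of Ω: (1) the stabiliser of any non-zero subspace on which Q vanishes identically (totally singular subspaces, dimensions 1 to 4); (2) for q odd, the stabiliser of any proper subspace of odd dimension other than 5 on which the polar form of Q is non-degenerate; (3) the stabiliser of any non-degenerate 2-space of minus type (containing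 no non-zero singular vector); (4) for q ≥ 4, the stabiliser of any non-degenerate 2-space of plus type (containing a non-zero singular vector); (5) the stabiliser of any non-degenerate 4-space (either type); (6) for q even, the stabiliser of the 1-space spanned by any non-singular vector v (Q(v) ≠ 0); (7) for q = p prime with p ≡ 3 mod 4, the stabiliser of any decomposition of F^10 into 10 pairwise orthogonal, pairwise Q-isometric non-degenerate 1-spaces; (8) for q ≠ 3, the stabiliser of any decomposition of F^10 into 5 pairwise orthogonal, pairwise Q-isometric non-degenerate 2-spaces; (9) for q ≡ 3 mod 4, the stabiliser of any decomposition of F^10 into 2 pairwise orthogonal, pairwise Q-isometric non-degenerate 5-spaces; (10) for q ≡ 1 mod 4, the stabiliser of any decomposition of F^10 into two orthogonal non-degenerate 5-spaces that are not Q-isometric; (11) for q odd, the normaliser of any degree-2 subfield K of the matrix algebra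 whose elements are self-adjoint for the polar form of Q (Q is then the trace of a quadratic form over K); (12) the normaliser of any degree-2 subfield K of the matrix algebra, closed under adjoints for the polar form but not self-adjoint, whose elements act as similarities of Q (so F^10 becomes a 5-dimensional space over K with a hermitian form, and the subgroup is of the type of the unitary group GU_5(q)); (13) every subfield group for a subfield F₀ with |F| = |F₀|^r, r an odd prime, whose F₀-structure carries a non-zero scalar multiple of Q. -/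
theorem result {F : Type*} [Field F] [Fintype F] (Q : (Fin 10 → F) → F) (hQ : Cfsg.Geo.IsNondegenerateQuadraticForm Q) (hminus : ¬ Cfsg.Geo.IsPlusTypeOn Q ⊤) :
    (∀ W : Submodule F (Fin 10 → F), W ≠ ⊥ → Cfsg.Geo.IsTotallySingularQuad Q W → Cfsg.Geo.IsMaximalIn (Cfsg.Geo.omegaGL Q) (Cfsg.Geo.subspaceStabilizer W ⊓ Cfsg.Geo.omegaGL Q)) ∧
    (Odd (Fintype.card F) → ∀ W : Submodule F (Fin 10 → F), W ≠ ⊥ → W ≠ ⊤ → Odd (Module.finrank F W) → 2 * Module.finrank F W ≠ 10 → Cfsg.Geo.IsNondegenerateOn (QuadraticMap.polar Q) W → Cfsg.Geo.IsMaximalIn (Cfsg.Geo.omegaGL Q) (Cfsg.Geo.subspaceStabilizer W ⊓ Cfsg.Geo.omegaGL Q)) ∧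
    (∀ W : Submodule F (Fin 10 → F), Module.finrank F W = 2 → Cfsg.Geo.IsNondegenerateOn (QuadraticMap.polar Q) W → ¬ Cfsg.Geo.IsPlusTypeOn Q W → Cfsg.Geo.IsMaximalIn (Cfsg.Geo.omegaGL Q) (Cfsg.Geo.subspaceStabilizer W ⊓ Cfsg.Geo.omegaGL Q)) ∧
    (4 ≤ Fintype.card F → ∀ W : Submodule F (Fin 10 → F), Module.finrank F W = 2 → Cfsg.Geo.IsNondegenerateOn (QuadraticMap.polar Q) W → Cfsg.Geo.IsPlusTypeOn Q W → Cfsg.Geo.IsMaximalIn (Cfsg.Geo.omegaGL Q) (Cfsg.Geo.subspaceStabilizer W ⊓ Cfsg.Geo.omegaGL Q)) ∧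
    (∀ W : Submodule F (Fin 10 → F), Module.finrank F W = 4 → Cfsg.Geo.IsNondegenerateOn (QuadraticMap.polar Q) W → Cfsg.Geo.IsMaximalIn (Cfsg.Geo.omegaGL Q) (Cfsg.Geo.subspaceStabilizer W ⊓ Cfsg.Geo.omegaGL Q)) ∧
    (¬ Odd (Fintype.card F) → ∀ v : (Fin 10 → F), Q v ≠ 0 → Cfsg.Geo.IsMaximalIn (Cfsg.Geo.omegaGL Q) (Cfsg.Geo.subspaceStabilizer (Submodule.span F {v}) ⊓ Cfsg.Geo.omegaGL Q)) ∧
    ((∃ p : ℕ, p.Prime ∧ Fintype.card F = p ∧ (p % 4 = 3)) → ∀ D : Fin 10 → Submodule F (Fin 10 → F), Cfsg.Geo.IsOrthogonalMDecomposition Q 1 D → Cfsg.Geo.IsMaximalIn (Cfsg.Geo.omegaGL Q) (Cfsg.Geo.decompositionStabilizer D ⊓ Cfsg.Geo.omegaGL Q)) ∧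
    (Fintype.card F ≠ 3 → ∀ D : Fin 5 → Submodule F (Fin 10 → F), Cfsg.Geo.IsOrthogonalMDecomposition Q 2 D → Cfsg.Geo.IsMaximalIn (Cfsg.Geo.omegaGL Q) (Cfsg.Geo.decompositionStabilizer D ⊓ Cfsg.Geo.omegaGL Q)) ∧
    (Fintype.card F % 4 = 3 → ∀ D : Fin 2 → Submodule F (Fin 10 → F), Cfsg.Geo.IsOrthogonalMDecomposition Q 5 D → Cfsg.Geo.IsMaximalIn (Cfsg.Geo.omegaGL Q) (Cfsg.Geo.decompositionStabilizer D ⊓ Cfsg.Geo.omegaGL Q)) ∧
    (Fintype.card F % 4 = 1 → ∀ D : Fin 2 → Submodule F (Fin 10 → F), Cfsg.Geo.IsNondegenerateMDecomposition (QuadraticMap.polar Q) 5 D → ¬ Cfsg.Geo.AreIsometricFor Q (D 0) (D 1) → Cfsg.Geo.IsMaximalIn (Cfsg.Geo.omegaGL Q) (Cfsg.Geo.decompositionStabilizer D ⊓ Cfsg.Geo.omegaGL Q)) ∧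
    (Odd (Fintype.card F) → ∀ K : Subalgebra F (Matrix (Fin 10) (Fin 10) F), Cfsg.Geo.IsFieldSubalgebra 2 K → Cfsg.Geo.IsSelfAdjointFor (QuadraticMap.polar Q) K → Cfsg.Geo.IsMaximalIn (Cfsg.Geo.omegaGL Q) (Cfsg.Geo.subalgebraNormalizer K ⊓ Cfsg.Geo.omegaGL Q)) ∧
    (∀ K : Subalgebra F (Matrix (Fin 10) (Fin 10) F), Cfsg.Geo.IsFieldSubalgebra 2 K → Cfsg.Geo.IsAdjointClosedFor (QuadraticMap.polar Q) K → ¬ Cfsg.Geo.IsSelfAdjointFor (QuadraticMap.polar Q) K → (∀ k ∈ K, ∃ c : F, ∀ v : (Fin 10 → F), Q (Matrix.mulVec k v) = c * Q v) → Cfsg.Geo.IsMaximalIn (Cfsg.Geo.omegaGL Q) (Cfsg.Geo.subalgebraNormalizer K ⊓ Cfsg.Geo.omegaGL Q)) ∧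
    (∀ (F₀ : Subfield F) (r : ℕ) (P : Matrix.GeneralLinearGroup (Fin 10) F) (ζ : F), r.Prime → Odd r → Fintype.card F = Nat.card F₀ ^ r → ζ ≠ 0 → Cfsg.Geo.IsQuadFormRationalStructure (fun v : Fin 10 → F => ζ * Q v) F₀ P → Cfsg.Geo.IsMaximalIn (Cfsg.Geo.omegaGL Q) (Cfsg.Geo.subfieldSubgroup F₀ P ⊓ Cfsg.Geo.omegaGL Q)) := by
  have hd : Module.finrank F (Fin 10 → F) = 10 := by simp
  have hP := Cl.Max.toQF_nondeg hQ
  have h3 := Cl.finrank_operp hP
  have hc := Nat.card_eq_fintype_card (α := F)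
  have key : ∀ W : Submodule F (Fin 10 → F), Geo.IsNondegenerateOn (QuadraticMap.polar Q) W →
      (Odd (Module.finrank F W) ∧ 2 * Module.finrank F W ≠ 10) ∨ Module.finrank F W = 4 ∨
        (Module.finrank F W = 2 ∧ (4 ≤ Fintype.card F ∨ ¬ Geo.IsPlusTypeOn Q W)) →
      Geo.IsMaximalIn (Geo.omegaGL Q) (Geo.subspaceStabilizer W ⊓ Geo.omegaGL Q) := fun W hW H => by
    have := h3 W
    rw [Nat.odd_iff] at H
    refine Cl.MaxO.isMaximalIn_subspace (Cl.Max.toQF hQ) W (Cl.MaxO.omax_nondeg_ne hP (by omega)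
      (Cl.MaxO.nd_of_isNondegenerateOn hW) (Cl.MaxO.ne_bot_of_finrank (by omega))
      (fun H' => by rw [H', finrank_top] at H; omega) (by omega) (fun H' => ?_) (by omega))
    rcases H with H | H | ⟨-, H | H⟩
    exacts [by omega, by omega, by omega, H H'.2.2]
  have odd : Fintype.card F % 2 = 1 → (2 : F) ≠ 0 := fun h =>
    Cl.o_two_ne_zero_of_odd_card (Nat.odd_iff.2 h)
  refine ⟨fun W hW0 hW => Cl.MaxO.isMaximalIn_subspace (Cl.Max.toQF hQ) W (Cl.MaxO.omax_singular
      hP (by omega) hW0 hW fun _ ⟨U, h1, h2⟩ => hminus ⟨U, le_top, h1, by rw [h2, finrank_top]⟩),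
    fun _ W _ _ h h' hW => key W hW (.inl ⟨h, h'⟩),
    fun W h hW h' => key W hW (.inr (.inr ⟨h, .inr h'⟩)),
    fun h' W h hW _ => key W hW (.inr (.inr ⟨h, .inl h'⟩)), fun W h hW => key W hW (.inr (.inl h)),
    fun _ v hv => Cl.MaxO.isMaximalIn_subspace (Cl.Max.toQF hQ) _
      (Cl.MaxO.omax_point hP (by omega) hv),
    fun ⟨p, hp, h1, h2⟩ D hD => Cl.MaxO.isMaximalIn_dec (Cl.Max.toQF hQ) D (Cl.MaxO.omax_frame hP
      (odd (by omega)) (by rwa [hc, h1]) (Cl.MaxO.odec_of_geo hD.decomp) hD.isometric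
      hD.decomp.decomp.finrank_eq (by simp) (by simp)),
    fun h D hD => Cl.MaxO.isMaximalIn_dec (Cl.Max.toQF hQ) D (Cl.MaxO.omax_dec hP
      (Cl.MaxO.odec_of_geo hD.decomp) hD.isometric hD.decomp.decomp.finrank_eq le_rfl (by simp)
      (by simp) (by
        rintro (⟨-, H | H⟩ | H | H)
        exacts [h (hc ▸ H), hminus (Cl.MaxO.ODec.isPlus (Cl.MaxO.odec_of_geo hD.decomp) H.1),
          by omega, by omega])),
    fun _ D hD => Cl.MaxO.isMaximalIn_dec (Cl.Max.toQF hQ) D (Cl.MaxO.omax_dec hP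
      (Cl.MaxO.odec_of_geo hD.decomp) hD.isometric hD.decomp.decomp.finrank_eq (by simp) (by simp)
      (by simp) (by omega)),
    fun _ D hD hni => ?_,
    fun hodd K hK hsa => Cl.MaxO.isMaximalIn_ext (Cl.Max.toQF hQ) hP
      (Cl.o_two_ne_zero_of_odd_card hodd) Nat.prime_two (by simp) (by simp) hK hsa,
    fun K hK hac hns hsc => Cl.MaxO.isMaximalIn_gu (Cl.Max.toQF hQ) hP (by simp) hK hac hns hsc,
    fun F₀ r P ζ hr _ hc hζ hT => Cl.MaxO.isMaximalIn_subfield (Cl.Max.toQF hQ) hP (by simp) F₀ r hr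
      hc P ζ hζ hT⟩
  have h0 := hD.decomp.finrank_eq 0
  have h1 := hD.decomp.finrank_eq 1
  exact Cl.MaxO.isMaximalIn_dec (Cl.Max.toQF hQ) D (Cl.MaxO.omax_two hP
    (by omega) (Cl.MaxO.odec_of_geo hD) (i := 0) (j := 1) (by simp) Cl.MaxO.fin_two_cases
    (.inl (by omega)) (by omega) (by omega) (Cl.MaxO.ne_bot_of_finrank (by omega))
    (fun g H => hni (Cl.MaxO.exists_isom_of_maps (by omega) g H)) (by omega))

end Cfsg.Agent.S5849
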