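import Cfsg.Statements.S5874
import Cfsg.Agent.Cl.MxO5

set_option autoImplicit false
open Cfsg

namespace Cfsg.Agent.S5874

/-- Every maximal subgroup of Ω_12^-(q) is of one of the listed geometric types or lies in the residual class. Let F be a finite field with q elements (characteristic p), Q a non-degenerate quadratic form on F^12 of minus type (Witt index 5: no totally singular 6-space), Ω the commutator subgroup of its isometry group, and H a maximal subgroup of Ω (inside GL_12(F)). Then H is the intersection with Ω of one of: the stabiliser of a non-zero totally singular subspace; for q odd, the stabiliser of a non-degenerate subspace of odd dimension; the stabiliser of a non-degenerate 2-space of minus type; for q ≥ 4, the stabiliser of a non-degenerate 2-space of plus type; the stabiliser of a non-degenerate 4-space; the stabiliser of a non-degenerate 6-space; for q even, the stabiliser of the span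 of a non-singular vector; the stabiliser of a decomposition into 3 pairwise orthogonal, pairwise isometric non-degenerate 4-spaces of minus type; the normaliser of a degree-2 subfield of the matrix algebra; the normaliser of a degree-3 subfield of the matrix algebra; for q odd with q ≥ 5, the stabiliser of a tensor decomposition of the polar form into symmetric forms on F^3 and F^4 (minus type); a subfield group (|F| = |F₀|^r, r odd prime) whose F₀-structure carries a non-zero multiple of Q — or else H lies in the residual class of the orthogonal case (modulo scalars H is almost simple, with absolutely irreducible perfect socle preimage realisable over no proper subfield and fixing no non-degenerate unitary form). -/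
theorem result {F : Type*} [Field F] [Fintype F] (Q : (Fin 12 → F) → F) (hQ : Cfsg.Geo.IsNondegenerateQuadraticForm Q) (hminus : ¬ Cfsg.Geo.IsPlusTypeOn Q ⊤) (H : Subgroup (Matrix.GeneralLinearGroup (Fin 12) F)) (hH : Cfsg.Geo.IsMaximalIn (Cfsg.Geo.omegaGL Q) H) :
    (∃ W : Submodule F (Fin 12 → F), W ≠ ⊥ ∧ Cfsg.Geo.IsTotallySingularQuad Q W ∧ H = Cfsg.Geo.subspaceStabilizer W ⊓ Cfsg.Geo.omegaGL Q) ∨
    (Odd (Fintype.card F) ∧ ∃ W : Submodule F (Fin 12 → F), W ≠ ⊥ ∧ W ≠ ⊤ ∧ Odd (Module.finrank F W) ∧ 2 * Module.finrank F W ≠ 12 ∧ Cfsg.Geo.IsNondegenerateOn (QuadraticMap.polar Q) W ∧ H = Cfsg.Geo.subspaceStabilizer W ⊓ Cfsg.Geo.omegaGL Q) ∨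
    (∃ W : Submodule F (Fin 12 → F), Module.finrank F W = 2 ∧ Cfsg.Geo.IsNondegenerateOn (QuadraticMap.polar Q) W ∧ ¬ Cfsg.Geo.IsPlusTypeOn Q W ∧ H = Cfsg.Geo.subspaceStabilizer W ⊓ Cfsg.Geo.omegaGL Q) ∨
    (4 ≤ Fintype.card F ∧ ∃ W : Submodule F (Fin 12 → F), Module.finrank F W = 2 ∧ Cfsg.Geo.IsNondegenerateOn (QuadraticMap.polar Q) W ∧ Cfsg.Geo.IsPlusTypeOn Q W ∧ H = Cfsg.Geo.subspaceStabilizer W ⊓ Cfsg.Geo.omegaGL Q) ∨
    (∃ W : Submodule F (Fin 12 → F), Module.finrank F W = 4 ∧ Cfsg.Geo.IsNondegenerateOn (QuadraticMap.polar Q) W ∧ H = Cfsg.Geo.subspaceStabilizer W ⊓ Cfsg.Geo.omegaGL Q) ∨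
    (∃ W : Submodule F (Fin 12 → F), Module.finrank F W = 6 ∧ Cfsg.Geo.IsNondegenerateOn (QuadraticMap.polar Q) W ∧ H = Cfsg.Geo.subspaceStabilizer W ⊓ Cfsg.Geo.omegaGL Q) ∨
    (¬ Odd (Fintype.card F) ∧ ∃ v : (Fin 12 → F), Q v ≠ 0 ∧ H = Cfsg.Geo.subspaceStabilizer (Submodule.span F {v}) ⊓ Cfsg.Geo.omegaGL Q) ∨
    (∃ D : Fin 3 → Submodule F (Fin 12 → F), Cfsg.Geo.IsOrthogonalMDecomposition Q 4 D ∧ (∀ i, ¬ Cfsg.Geo.IsPlusTypeOn Q (D i)) ∧ H = Cfsg.Geo.decompositionStabilizer D ⊓ Cfsg.Geo.omegaGL Q) ∨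
    (∃ K : Subalgebra F (Matrix (Fin 12) (Fin 12) F), Cfsg.Geo.IsFieldSubalgebra 2 K ∧ H = Cfsg.Geo.subalgebraNormalizer K ⊓ Cfsg.Geo.omegaGL Q) ∨
    (∃ K : Subalgebra F (Matrix (Fin 12) (Fin 12) F), Cfsg.Geo.IsFieldSubalgebra 3 K ∧ H = Cfsg.Geo.subalgebraNormalizer K ⊓ Cfsg.Geo.omegaGL Q) ∨
    (Odd (Fintype.card F) ∧ 5 ≤ Fintype.card F ∧ ∃ (e : Fin 12 ≃ Fin 3 × Fin 4) (P : Matrix.GeneralLinearGroup (Fin 12) F) (f₁ : (Fin 3 → F) → (Fin 3 → F) → F) (f₂ : (Fin 4 → F) → (Fin 4 → F) → F), Cfsg.Geo.IsSymmetricForm f₁ ∧ Cfsg.Geo.IsSymmetricForm f₂ ∧ ¬ Cfsg.Geo.IsPlusTypeOn (fun v : Fin 4 → F => f₂ v v) ⊤ ∧ Cfsg.Geo.IsTensorFormStructure id (QuadraticMap.polar Q) f₁ f₂ e P ∧ H = Cfsg.Geo.tensorProductSubgroup 3 4 e P ⊓ Cfsg.Geo.omegaGL Q) ∨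
    (∃ (F₀ : Subfield F) (r : ℕ) (P : Matrix.GeneralLinearGroup (Fin 12) F) (ζ : F), r.Prime ∧ Odd r ∧ Fintype.card F = Nat.card F₀ ^ r ∧ ζ ≠ 0 ∧ Cfsg.Geo.IsQuadFormRationalStructure (fun v : Fin 12 → F => ζ * Q v) F₀ P ∧ H = Cfsg.Geo.subfieldSubgroup F₀ P ⊓ Cfsg.Geo.omegaGL Q) ∨
    Cfsg.Geo.InOrthogonalResidualClass H := by
  rcases Cl.Mx.o_cases (Q := Cl.Max.toQF hQ) (m := 6) (Cl.Max.toQF_nondeg hQ) (by simp)
    (by norm_num) hH with
    ⟨W, h0, h1, h2, he⟩ | ⟨ho, W, h0, h1, h2, h3, h4, he⟩ | ⟨W, h0, h1, h2, h3, h4, h5, he⟩ | h |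
    ⟨t, k, D, hD, h1, hc, ht, h2, h3, h4, h5, h6, h7, h8, he⟩ | ⟨h1, ho, h2, h⟩ | ⟨h1, h2, h⟩ |
    ⟨r, K, hr, h1, h2, h3, hK, h4, he⟩ | ⟨h1, K, hK, h2, h3, h4, he⟩ |
    ⟨a, b, e, P, f₁, f₂, hc, ⟨a₁, ha⟩, ⟨b₁, hb⟩, hab, h1, h⟩ |
    ⟨ho, a, b, e, P, f₁, f₂, hc, ha, hab, h1, h2, hf₁, hf₂, hT, he⟩ |
    ⟨F₀, r, P, ζ, hr, h1, h⟩ | ⟨k, t, ht, hc, h1⟩ | h
  all_goals try simp only [Cl.Max.coe_toQF] at *
  · exact Or.inl ⟨W, h0, h1, he⟩
  · iterate 1 right
    exact Or.inl ⟨ho, W, h0, h1, h2, h3, h4, he⟩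
  · obtain ⟨c, hc⟩ := h0
    obtain h6 | h6 | h6 : Module.finrank F W = 2 ∨ Module.finrank F W = 4 ∨ Module.finrank F W = 6 := by omega
    · by_cases hp : Cfsg.Geo.IsPlusTypeOn Q W
      · iterate 3 right
        exact Or.inl ⟨h4 h6 hp, W, h6, h3, hp, he⟩
      · iterate 2 right
        exact Or.inl ⟨W, h6, h3, hp, he⟩
    · iterate 4 right
      exact Or.inl ⟨W, h6, h3, he⟩
    · iterate 5 right
      exact Or.inl ⟨W, h6, h3, he⟩
  · iterate 6 right
    exact Or.inl h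
  · have hm : k ≤ 6 := by nlinarith
    obtain ⟨rfl, rfl⟩ | ⟨rfl, rfl⟩ | ⟨rfl, rfl⟩ | ⟨rfl, rfl⟩ | ⟨rfl, rfl⟩ :
        (k = 1 ∧ t = 12) ∨ (k = 2 ∧ t = 6) ∨ (k = 3 ∧ t = 4) ∨ (k = 4 ∧ t = 3) ∨ (k = 6 ∧ t = 2) := by
      interval_cases k <;> omega
    · obtain ⟨ho, h9⟩ := h2 (by decide)
      exact absurd (h9.2 (Or.inl (by decide))) hminus
    · exact absurd ((h3 (by decide) 0).2 (Or.inr (by decide))) hminus
    · obtain ⟨ho, h9⟩ := h2 (by decide)
      exact absurd (h9.2 (Or.inl (by decide))) hminus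
    · iterate 7 right
      exact Or.inl ⟨D, hD, fun i h => hminus ((h3 (by decide) i).2 (Or.inl h)), he⟩
    · exact absurd ((h3 (by decide) 0).2 (Or.inr (by decide))) hminus
  · exact absurd h1 (by decide)
  · exact absurd h1 hminus
  · have h5 : r ≤ 4 := by omega
    obtain rfl | rfl : r = 2 ∨ r = 3 := by
      interval_cases r <;> first | decide | exact absurd h2 (by decide) | exact absurd hr (by decide)
    · iterate 8 right
      exact Or.inl ⟨K, hK, he⟩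
    · iterate 9 right
      exact Or.inl ⟨K, hK, he⟩
  · iterate 8 right
    exact Or.inl ⟨K, hK, he⟩
  · have h2 : a ≤ 3 := by nlinarith
    obtain ⟨rfl, rfl⟩ : a = 2 ∧ b = 6 := by interval_cases a <;> omega
    exact absurd (h1 rfl).1 hminus
  · obtain rfl : a = 3 := by nlinarith
    obtain rfl : b = 4 := by omega
    iterate 10 right
    exact Or.inl ⟨ho, h1 rfl, e, P, f₁, f₂, hf₁, hf₂, (h2 rfl rfl).2, hT, he⟩
  · iterate 11 right
    exact Or.inl ⟨F₀, r, P, ζ, hr, hr.odd_of_ne_two fun h2 => hminus (h1 h2), h⟩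
  · exact (Cl.Mx.pow_ne_of_two_le ht hc (by norm_num)).elim
  · iterate 12 right
    exact h

end Cfsg.Agent.S5874
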