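import Mathlib
import Cfsg.Statements.S5918
import Cfsg.Agent.E83.L32
import Cfsg.Agent.E83.Sp
import Cfsg.Agent.E83.U4
import Cfsg.Agent.Cl.Transport

set_option autoImplicit false
open Cfsg

namespace Cfsg.Agent.S5918

open Cfsg.Lie Cfsg.Lie.ChevalleyDatum Cfsg.Agent.Chev Cfsg.Agent.E83 Cfsg.Agent.Cl Matrix

theorem exists_inj {Q : Type*} [Group Q] {H : Subgroup (chevE8.group (ZMod 3))} (e : H ≃* Q) :
    ∃ φ : Q →* St, Function.Injective φ := by
  let e' := MulEquiv.ofBijective (chevE8.stProj (ZMod 3))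
    ⟨(MonoidHom.ker_eq_bot_iff _).1 (by rw [ker_stProj, center_stE8]), chevE8.stProj_surjective _⟩
  exact ⟨e'.symm.toMonoidHom.comp (H.subtype.comp e.symm.toMonoidHom),
    e'.symm.injective.comp (H.subtype_injective.comp e.symm.injective)⟩

theorem no41 (φ : ProjectiveSpecialLinearGroup (Fin 2) (ZMod 41) →* St) (hφ : Function.Injective φ) : False := by
  let T : ZMod 41 → SpecialLinearGroup (Fin 2) (ZMod 41) := fun a => ⟨!![1, a; 0, 1], by simp⟩
  let D : SpecialLinearGroup (Fin 2) (ZMod 41) := ⟨!![17, 0; 0, 29], by rw [det_fin_two_of]; decide⟩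
  let ψ := φ.comp (QuotientGroup.mk' _)
  have h1 : ∀ n : ℕ, T 1 ^ n = T n := fun n => by
    induction n with
    | zero => rw [pow_zero]; exact Subtype.ext (by decide)
    | succ n ih => rw [pow_succ, ih]; exact Subtype.ext (show !![1, _; 0, 1] * !![1, 1; 0, 1] = !![1, _; 0, 1] by simp [add_comm])
  refine not_conj41 (x := ψ (T 1)) (@orderOf_eq_prime _ _ _ _ ⟨by norm_num⟩ ?_ fun h => ?_) ?_
  · rw [← map_pow, h1, show T ((41 : ℕ) : ZMod 41) = 1 from Subtype.ext (by decide), map_one]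
  · have h2 := Subgroup.mem_center_iff.1 ((QuotientGroup.eq_one_iff _).1 ((map_eq_one_iff φ hφ).1 h)) D
    exact absurd (congrArg Subtype.val h2) (by decide)
  · rw [← map_pow, h1]
    exact ψ.map_isConj (isConj_iff.2 ⟨D, mul_inv_eq_iff_eq_mul.2 (Subtype.ext (by decide))⟩)

/-- Let G be the Chevalley group of type E₈ over the field with three elements (generated by its root elements in the 248-dimensional adjoint representation; it is the simple group E₈(3)). Then G has no subgroup isomorphic to any of PSL₂(41), PSL₂(32), PSU₄(3) or PSp₆(3). Here F₄₁, F₃₂, F₉ denote fields with 41, 32 and 9 elements (PSU₄(3) is realised over F₉), and PSp₆(3) is the quotient of the symplectic group of 6 × 6 matrices over the field with three elements by its centre. -/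
theorem result
    {F₄₁ F₃₂ F₉ : Type*} [Field F₄₁] [Fintype F₄₁] (h41 : Fintype.card F₄₁ = 41) [Field F₃₂] [Fintype F₃₂] (h32 : Fintype.card F₃₂ = 32)
    [Field F₉] [Fintype F₉] (h9 : Fintype.card F₉ = 9) (H : Subgroup ↥(Cfsg.Lie.chevE8.group (ZMod 3))) :
    IsEmpty (↥H ≃* Matrix.ProjectiveSpecialLinearGroup (Fin 2) F₄₁) ∧ IsEmpty (↥H ≃* Matrix.ProjectiveSpecialLinearGroup (Fin 2) F₃₂) ∧
    IsEmpty (↥H ≃* Cfsg.PSU 4 F₉ 3) ∧ IsEmpty (↥H ≃* Cfsg.PSp 3 (ZMod 3)) := by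
  obtain ⟨σ₁⟩ := @nonempty_ringEquiv_zmod F₄₁ _ _ 41 ⟨by norm_num⟩ h41
  obtain ⟨σ₂⟩ := TF.nonempty_ringEquiv (D := gf32) F₃₂ h32
  obtain ⟨σ₃⟩ := TF.nonempty_ringEquiv (D := gf9) F₉ h9
  obtain ⟨σ₄⟩ := TF.nonempty_ringEquiv (D := gf3) (ZMod 3) rfl
  refine ⟨⟨fun e => ?_⟩, ⟨fun e => ?_⟩, ⟨fun e => ?_⟩, ⟨fun e => ?_⟩⟩
  · have : Fact (Nat.Prime 41) := ⟨by norm_num⟩
    obtain ⟨φ, h⟩ := exists_inj (e.trans (pslMapEquiv _ σ₁))
    exact no41 φ h
  · obtain ⟨φ, h⟩ := exists_inj (e.trans (pslMapEquiv _ σ₂))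
    exact (mdlL φ h).elim L32.false_of
  · obtain ⟨φ, h⟩ := exists_inj (e.trans (psuMapEquiv 4 3 σ₃))
    exact (mdlU φ h).elim U4.false_of
  · obtain ⟨φ, h⟩ := exists_inj (e.trans (pspMapEquiv 3 σ₄))
    exact (mdlS φ h).elim Sp.false_of

end Cfsg.Agent.S5918
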