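import Mathlib
import Cfsg.Statements.S5919
import Cfsg.Agent.E84.Core
import Cfsg.Agent.E84.Aut
import Cfsg.Agent.E84.Sz
import Cfsg.Agent.E84.LT
import Cfsg.Agent.E84.Two
import Cfsg.Agent.Cl.Transport

set_option autoImplicit false
open Cfsg

namespace Cfsg.Agent.S5919

/-- Let G be the Chevalley group of type E₈ over the field with three elements (generated by its root elements in the 248-dimensional adjoint representation; it is the simple group E₈(3)), and let H be a subgroup of G whose generalized Fitting subgroup F*(H) is isomorphic to one of: the Suzuki group Sz(8), the orthogonal group Ω⁺₈(2) (commutator subgroup of the isometry group of the hyperbolic quadratic form in dimension 8 over the field with two elements), PSL₂(13), or the symplectic group Sp₆(2). Then H is not a maximal subgroup of G. Here F₈ and F₁₃ denote fields with 8 and 13 elements. -/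
theorem result
    {F₈ F₁₃ : Type*} [Field F₈] [Fintype F₈] (h8 : Fintype.card F₈ = 8) [Field F₁₃] [Fintype F₁₃] (h13 : Fintype.card F₁₃ = 13)
    (H : Subgroup ↥(Cfsg.Lie.chevE8.group (ZMod 3)))
    (hH : Nonempty (↥(Cfsg.generalizedFittingSubgroup ↥H) ≃* ↥(Cfsg.Lie.Sz F₈ 4)) ∨ Nonempty (↥(Cfsg.generalizedFittingSubgroup ↥H) ≃* Cfsg.Omega (ZMod 2) (Cfsg.quadFormPlus 4 (ZMod 2))) ∨
      Nonempty (↥(Cfsg.generalizedFittingSubgroup ↥H) ≃* Matrix.ProjectiveSpecialLinearGroup (Fin 2) F₁₃) ∨ Nonempty (↥(Cfsg.generalizedFittingSubgroup ↥H) ≃* Matrix.symplecticGroup (Fin 3) (ZMod 2))) :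
    ¬ IsCoatom H := by
  obtain ⟨σ⟩ := @Cl.nonempty_ringEquiv_zmod F₁₃ _ _ 13 ⟨by norm_num⟩ h13
  rcases hH with ⟨⟨e⟩⟩ | ⟨⟨e⟩⟩ | ⟨⟨e⟩⟩ | ⟨⟨e⟩⟩
  · exact E84.core (E84.out6_sz h8) (E84.hasFix_sz h8) (E84.smallAb_sz h8) H e
  · exact E84.core E84.out6_o8 E84.hasFix_o8 E84.smallAb_o8 H e
  · have : Fact (Nat.Prime 13) := ⟨by norm_num⟩
    exact E84.core E84.out6_l13 E84.hasFix_l13 E84.smallAb_l13 H (e.trans (Cl.pslMapEquiv _ σ))
  · exact E84.core E84.out6_sp E84.hasFix_sp E84.smallAb_sp H e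

end Cfsg.Agent.S5919
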