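import Mathlib
import Cfsg.Statements.S5920
import Cfsg.Agent.FV.Hecke
import Cfsg.Agent.FV.Seitz
import Cfsg.Agent.Cl.Transport
import Cfsg.Agent.Cl.PSL2Solv
import Cfsg.Agent.GT.FStar
import Cfsg.Agent.S0813

set_option autoImplicit false
set_option maxRecDepth 100000
open Cfsg

namespace Cfsg.Agent.S5920

open Cfsg.Lie Cfsg.Lie.ChevalleyDatum Cfsg.Agent.Chev Cfsg.Agent.E83 Cfsg.Agent.Cl Cfsg.Agent.FV Matrix

theorem card7 : Nat.card (ProjGenLinGroup (Fin 2) GF7) = 336 ∧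
    Nat.card (ProjectiveSpecialLinearGroup (Fin 2) GF7) = 168 := by
  have h1 := L2.card_PGL (F := GF7)
  have h2 := L2.card_PSL_mul (F := GF7)
  rw [natCard_GF7] at h1 h2
  rw [show Nat.gcd 2 (7 - 1) = 2 from rfl] at h2
  omega

theorem fix_psl (φ : ProjectiveSpecialLinearGroup (Fin 2) GF7 →* St) (hφ : Function.Injective φ) :
    ∃ v : LL, v ≠ 0 ∧ ∀ x ∈ φ.range, rho x v = v := by
  obtain ⟨M₀⟩ := mdl7
  obtain ⟨v, h0, h1, h2⟩ := fix_mdl (mapM M₀ φ hφ)
  let Y : Subgroup (ProjectiveSpecialLinearGroup (Fin 2) GF7) :=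
    { carrier := {g | rho (φ g) v = v}
      one_mem' := by simp
      mul_mem' := fun {a b} ha hb => by
        rw [Set.mem_ofPred_eq, map_mul, map_mul, Module.End.mul_apply, hb, ha]
      inv_mem' := fun {a} ha => by
        rw [Set.mem_ofPred_eq, ← ha, ← Module.End.mul_apply, ← map_mul, ← map_mul, inv_mul_cancel, map_one, map_one,
          ha, Module.End.one_apply] }
  have key : ∀ {n r s : ℕ}, ordOK _ ok7 0x2000002 n r s = true → M₀.Ok r ∧ M₀.gx r ^ n = 1 ∧ M₀.gx r ≠ 1 :=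
    fun h => ((mapM M₀ φ hφ).ord_of h).imp_right fun h =>
      ⟨hφ (by rw [map_pow, map_one]; exact h.1), fun e => h.2 ((congrArg φ e).trans φ.map_one)⟩
  obtain ⟨a1, a2, a3⟩ := key (n := 7) (r := 0x2000202) (s := 0x20c00) (by decide +kernel)
  obtain ⟨b1, -⟩ := key (n := 2) (r := 0x20c00) (s := 0x2000202) (by decide +kernel)
  obtain ⟨c1, c2, c3⟩ := key (n := 3) (r := pmu gf7 2 [6] 0x2000202 0x20c00) (s := 0x20c00) (by decide +kernel)
  have d0 := M₀.ok_mu a1 (M₀.ok_mu a1 c1)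
  obtain ⟨-, d2, d3⟩ := key (n := 2) (r := pmu gf7 2 [6] (pmu gf7 2 [6] 0x2000202 (pmu gf7 2 [6] 0x2000202
    (pmu gf7 2 [6] 0x2000202 0x20c00))) (pmu gf7 2 [6] 0x2000202 (pmu gf7 2 [6] 0x2000202
    (pmu gf7 2 [6] 0x2000202 0x20c00)))) (s := 0x20c00) (by decide +kernel)
  rw [M₀.gx_mu d0 d0, M₀.gx_mu a1 (M₀.ok_mu a1 c1), M₀.gx_mu a1 c1, M₀.gx_mu a1 b1, ← sq] at d2 d3
  rw [M₀.gx_mu a1 b1] at c2 c3
  have y1 : M₀.gx 0x2000202 ∈ Y := h1
  have y2 := mul_mem y1 (show M₀.gx 0x20c00 ∈ Y from h2)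
  have e1 := @orderOf_eq_prime _ _ _ _ ⟨by norm_num⟩ a2 a3 ▸ Y.orderOf_dvd_natCard y1
  have e2 := @orderOf_eq_prime _ _ _ _ ⟨by norm_num⟩ c2 c3 ▸ Y.orderOf_dvd_natCard y2
  have e3 := orderOf_eq_prime_pow (p := 2) (n := 1) d3 (by rwa [← pow_mul] at d2) ▸
    Y.orderOf_dvd_natCard (mul_mem y1 (mul_mem y1 y2))
  have e4 := Y.card_mul_index
  rw [card7.2] at e4
  have := L2.isSimpleGroup_PSL (F := GF7) (by rw [natCard_GF7]; norm_num)
  have e5 : Y = ⊤ := by
    obtain ⟨k, hk⟩ : 84 ∣ Nat.card Y := by omega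
    rcases (Nat.dvd_prime Nat.prime_two).1 (show Y.index ∣ 2 from ⟨k, by rw [hk] at e4; linarith⟩) with h | h
    · exact Subgroup.index_eq_one.1 h
    · exact (Y.normal_of_index_eq_two h).eq_bot_or_eq_top.resolve_left fun e => a3 (Subgroup.mem_bot.1 (e ▸ y1))
  exact ⟨v, h0, by rintro _ ⟨g, rfl⟩; exact (e5 ▸ Subgroup.mem_top g : g ∈ Y)⟩

theorem exists_line {H R V : Type*} [Group H] [Finite H] [CommRing R] [AddCommGroup V] [Module R V]
    (ρ : H →* Module.End R V) {X : Subgroup H} (h : X.index ≤ 2) {v : V} (hv : v ≠ 0) (hX : ∀ x ∈ X, ρ x v = v) :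
    ∃ w : V, w ≠ 0 ∧ ∀ g, ∃ c : R, ρ g w = c • w := by
  by_cases h1 : X.index = 2
  · obtain ⟨a, ha⟩ : ∃ a, a ∉ X := by
      by_contra! h2
      rw [(Subgroup.eq_top_iff' X).2 h2, Subgroup.index_top] at h1
      omega
    have h2 : ∀ g : H, g ∉ X → ρ g v = ρ a v := fun g hg => by
      rw [← mul_inv_cancel_left a g, map_mul, Module.End.mul_apply,
        hX _ ((Subgroup.mul_mem_iff_of_index_two h1).2 (by simp [ha, hg]))]
    by_cases h3 : v + ρ a v = 0
    · refine ⟨v, hv, fun g => ?_⟩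
      by_cases h4 : g ∈ X
      · exact ⟨1, by rw [one_smul, hX _ h4]⟩
      · exact ⟨-1, by rw [neg_one_smul, neg_eq_of_add_eq_zero_right h3, h2 _ h4]⟩
    · refine ⟨_, h3, fun g => ⟨1, ?_⟩⟩
      rw [one_smul, map_add, ← Module.End.mul_apply, ← map_mul]
      by_cases h4 : g ∈ X
      · rw [h2 (g * a) (by simp [Subgroup.mul_mem_iff_of_index_two h1, ha, h4]), hX _ h4]
      · rw [hX (g * a) (by simp [Subgroup.mul_mem_iff_of_index_two h1, ha, h4]), h2 _ h4, add_comm]
  · have := X.index_ne_zero_of_finite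
    obtain rfl : X = ⊤ := Subgroup.index_eq_one.1 (by omega)
    exact ⟨v, hv, fun g => ⟨1, by rw [one_smul, hX g trivial]⟩⟩

theorem grp {H : Type*} [Group H] [Finite H]
    (e : generalizedFittingSubgroup H ≃* ProjectiveSpecialLinearGroup (Fin 2) GF7) :
    Nat.card H ≤ 336 ∧ (generalizedFittingSubgroup H).index ≤ 2 ∧ ¬ IsMulCommutative H := by
  have h0 := GT.centralizer_genFitting_le (G := H)
  generalize hX : generalizedFittingSubgroup H = X at e h0
  have : X.Normal := hX ▸ inferInstance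
  have := L2.isSimpleGroup_PSL (F := GF7) (by rw [natCard_GF7]; norm_num)
  have h3 : Nat.card X = 168 := (Nat.card_congr e.toEquiv).trans card7.2
  have h4 : Subgroup.centralizer (X : Set H) = ⊥ := by
    have := e.isSimpleGroup
    refine eq_bot_iff.2 fun x hx => ?_
    rcases (inferInstance : (Subgroup.center X).Normal).eq_bot_or_eq_top with h | h
    · exact congrArg Subtype.val (Subgroup.mem_bot.1 (h ▸ Subgroup.mem_center_iff.2 fun g =>
        Subtype.ext (hx g g.2) : (⟨x, h0 hx⟩ : X) ∈ ⊥))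
    · exact absurd (h3 ▸ @IsSimpleGroup.prime_card X (Group.commGroupOfCenterEqTop h) this) (by norm_num)
  have h5 : Nat.card H ≤ 336 := by
    have := Fact.mk (show Nat.Prime 7 by norm_num)
    have h6 := S0813.result (F := GF7) 7 1 le_rfl (by simp [card_GF7]) 2 le_rfl (by norm_num)
    rw [card7.1, ← Nat.card_congr (MulAut.congr e).toEquiv] at h6
    refine (Nat.card_le_card_of_injective _ ((injective_iff_map_eq_one (MulAut.conjNormal (H := X))).2
      fun g hg => Subgroup.mem_bot.1 (h4 ▸ fun x hx => ?_))).trans (by simp [h6])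
    exact (mul_inv_eq_iff_eq_mul.1 (congrArg (fun f : MulAut X => (f ⟨x, hx⟩).val) hg)).symm
  have h6 := X.card_mul_index
  refine ⟨h5, by rw [h3] at h6; omega, fun h9 => ?_⟩
  rw [(Subgroup.eq_bot_iff_forall X).2 fun x _ => Subgroup.mem_bot.1 (h4 ▸ fun g _ => h9.is_comm.comm g x),
    Subgroup.card_bot] at h3
  omega

/-- Let G be the Chevalley group of type E₈ over the field with three elements (generated by its root elements in the 248-dimensional adjoint representation; it is the simple group E₈(3)), and let H be a subgroup of G whose generalized Fitting subgroup F*(H) is isomorphic to PSL₂(7). Then H is not a maximal subgroup of G. Here F denotes a field with 7 elements. -/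
theorem result
    {F : Type*} [Field F] [Fintype F] (hF : Fintype.card F = 7) (H : Subgroup ↥(Cfsg.Lie.chevE8.group (ZMod 3)))
    (hH : Nonempty (↥(Cfsg.generalizedFittingSubgroup ↥H) ≃* Matrix.ProjectiveSpecialLinearGroup (Fin 2) F)) :
    ¬ IsCoatom H := by
  intro hc
  obtain ⟨σ⟩ := nonempty_ringEquiv_GF7 F hF
  obtain ⟨e⟩ := hH
  replace e := e.trans (pslMapEquiv _ σ)
  obtain ⟨h5, h6, h4⟩ := grp e
  generalize generalizedFittingSubgroup H = X at e h6
  let e' := MulEquiv.ofBijective (chevE8.stProj (ZMod 3))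
    ⟨(MonoidHom.ker_eq_bot_iff _).1 (by rw [ker_stProj, center_stE8]), chevE8.stProj_surjective _⟩
  obtain ⟨v, hv, h1⟩ := fix_psl (e'.symm.toMonoidHom.comp (H.subtype.comp (X.subtype.comp e.symm.toMonoidHom)))
    (e'.symm.injective.comp (H.subtype_injective.comp (X.subtype_injective.comp e.symm.injective)))
  obtain ⟨w, hw, h2⟩ := descend (fun _ => 1) hv fun x hx => by rw [map_one, one_smul]; exact h1 x hx
  obtain ⟨u, hu, h7⟩ := exists_line (toLinAlgEquiv'.toMonoidHom.comp ((Units.coeHom _).comp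
    ((chevE8.group (ZMod 3)).subtype.comp H.subtype))) h6 hw fun x hx => by
      have := h2 (e'.symm x) ⟨e ⟨x, hx⟩, congrArg (fun y : X => e'.symm y.val.val) (e.symm_apply_apply _)⟩
      rwa [one_smul, show chevE8.stProj (ZMod 3) (e'.symm x) = x.val from e'.apply_symm_apply _] at this
  obtain ⟨A, h8, h9, -, h10⟩ := seitz hc hu fun g hg => h7 ⟨g, hg⟩
  obtain ⟨k, hk⟩ := Subgroup.card_dvd_of_le h8
  obtain rfl : A = H := Subgroup.eq_of_le_of_card_ge h8 (by
    have := Nat.card_pos (α := H)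
    rcases k with _ | _ | k <;> nlinarith)
  exact h4 h9

end Cfsg.Agent.S5920
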