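import Cfsg.Statements.S5935
import Cfsg.Agent.E7V.Cnt
import Cfsg.Agent.E7V.Aut
import Cfsg.Agent.E7V.L219
import Cfsg.Agent.E7V.L227
import Cfsg.Agent.E7V.L43
import Cfsg.Agent.E7V.U43
import Cfsg.Agent.E7V.O73
import Cfsg.Agent.E7V.G23
import Cfsg.Agent.E7V.A13
import Cfsg.Agent.E7V.J2
import Cfsg.Agent.E7V.G28
-- import your own Cfsg.Agent.* helpers here

set_option autoImplicit false
open Cfsg

namespace Cfsg.Agent.S5935

/-- The Chevalley group of type E₇ over the field with two elements (generated by its root elements in the adjoint representation; the simple group E₇(2)) has no maximal subgroup H whose generalized Fitting subgroup F*(H) is isomorphic to any of: PSL₂(19), PSL₂(27), PSL₄(3), PSU₄(3), Ω₇(3) (commutator subgroup of the isometry group of a non-degenerate quadratic form in dimension 7 over the field with three elements), the Chevalley group G₂(3), the alternating group of degree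 13, the Hall–Janko sporadic group J₂, or the Chevalley group G₂(8). Here F₁₉, F₂₇, F₉, F₈ denote fields with 19, 27, 9 and 8 elements (PSU₄(3) is realised over F₉). -/
theorem result
    {F₁₉ F₂₇ F₉ F₈ : Type*} [Field F₁₉] [Fintype F₁₉] (h19 : Fintype.card F₁₉ = 19) [Field F₂₇] [Fintype F₂₇] (h27 : Fintype.card F₂₇ = 27)
    [Field F₉] [Fintype F₉] (h9 : Fintype.card F₉ = 9) [Field F₈] [Fintype F₈] (h8 : Fintype.card F₈ = 8) (H : Subgroup ↥(Cfsg.Lie.chevE7.group (ZMod 2))) (hH : IsCoatom H) :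
    IsEmpty (↥(Cfsg.generalizedFittingSubgroup ↥H) ≃* Matrix.ProjectiveSpecialLinearGroup (Fin 2) F₁₉) ∧ IsEmpty (↥(Cfsg.generalizedFittingSubgroup ↥H) ≃* Matrix.ProjectiveSpecialLinearGroup (Fin 2) F₂₇) ∧
    IsEmpty (↥(Cfsg.generalizedFittingSubgroup ↥H) ≃* Matrix.ProjectiveSpecialLinearGroup (Fin 4) (ZMod 3)) ∧ IsEmpty (↥(Cfsg.generalizedFittingSubgroup ↥H) ≃* Cfsg.PSU 4 F₉ 3) ∧
    IsEmpty (↥(Cfsg.generalizedFittingSubgroup ↥H) ≃* ↥(Cfsg.Omega (ZMod 3) (Cfsg.quadFormOdd 3 (ZMod 3)))) ∧ IsEmpty (↥(Cfsg.generalizedFittingSubgroup ↥H) ≃* ↥(Cfsg.Lie.chevG2.group (ZMod 3))) ∧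
    IsEmpty (↥(Cfsg.generalizedFittingSubgroup ↥H) ≃* ↥(alternatingGroup (Fin 13))) ∧ ¬ Cfsg.Spor.IsoJ2 ↥(Cfsg.generalizedFittingSubgroup ↥H) ∧ IsEmpty (↥(Cfsg.generalizedFittingSubgroup ↥H) ≃* ↥(Cfsg.Lie.chevG2.group F₈)) := by
  obtain ⟨a1, a2, a3⟩ := E7V.aut219 h19
  obtain ⟨b1, b2, b3⟩ := E7V.aut227 h27
  obtain ⟨c1, c2, c3⟩ := E7V.aut43
  obtain ⟨d1, d2, d3⟩ := E7V.aut13
  exact ⟨E7V.red2 a1 (k := 1) (by rw [a2, a3]; norm_num) (by rw [a2]; norm_num) (E7V.l219 h19) H hH,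
    E7V.red3 b1 (k := 1) (by rw [b2, b3]; norm_num) (by rw [b2]; norm_num) (E7V.l227 h27) H hH,
    E7V.red2 c1 (k := 2) (by rw [c2, c3]; norm_num) (by rw [c2]; norm_num) E7V.l43 H hH,
    E7V.red0 (E7V.u43 h9) H, E7V.red0 E7V.o73 H, E7V.red0 E7V.g23 H,
    E7V.red2 d1 (k := 1) (by rw [d2, d3]; norm_num) (by rw [d2]; norm_num) E7V.a13 H hH,
    fun ⟨e⟩ => (E7V.red0 E7V.j2 H).false e, E7V.red0 (E7V.g28 h8) H⟩

end Cfsg.Agent.S5935
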